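import Cfsg.Prelude.Def_LieExceptional

/-!
# Parabolic systems with tori are BN-pairs: the abstract core

`B ≤ P i`, `n i ∈ P i`, words in the letters `i`, galleries.  A word `f` is *good* if `U` is transitive on the galleries
of type `f` which start in `B`.  The key fact (`Data.good_or`) is: if `f` is good and `i` is a letter, then either `f i` is
good or `f` is braid equivalent to a word ending with `i`.
-/

set_option autoImplicit false

namespace Cfsg.Agent.ParSys

open Subgroup

variable {G : Type*} [Group G] {I : Type*}

/-- the alternating word `a b a ...` of length `k` -/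
def alt (a b : I) : ℕ → List I
  | 0 => []
  | k + 1 => a :: alt b a k

/-- the letter which follows `alt a b k` in the alternating word -/
def nxt (a b : I) : ℕ → I
  | 0 => a
  | k + 1 => nxt b a k

@[simp] theorem alt_zero (a b : I) : alt a b 0 = [] := rfl

theorem alt_cons (a b : I) (k : ℕ) : alt a b (k + 1) = a :: alt b a k := rfl

theorem alt_snoc (a b : I) (k : ℕ) : alt a b (k + 1) = alt a b k ++ [nxt a b k] := by
  induction k generalizing a b with
  | zero => rfl
  | succ k ih =>
    rw [alt_cons, ih b a, alt_cons a b k]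
    rfl

theorem nxt_eq_or (a b : I) (k : ℕ) : nxt a b k = a ∨ nxt a b k = b := by
  induction k generalizing a b with
  | zero => exact Or.inl rfl
  | succ k ih => exact (ih b a).symm

theorem alt_prefix (a b : I) {k l : ℕ} (h : k ≤ l) : ∃ v, alt a b l = alt a b k ++ v := by
  induction l with
  | zero =>
    obtain rfl : k = 0 := by omega
    exact ⟨[], by simp⟩
  | succ l ih =>
    rcases Nat.lt_or_ge l k with h1 | h1
    · obtain rfl : k = l + 1 := by omega
      exact ⟨[], by simp⟩
    · obtain ⟨v, hv⟩ := ih h1
      exact ⟨v ++ [nxt a b l], by rw [alt_snoc, hv, List.append_assoc]⟩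

/-- the product of the `n i` over a word -/
def nw (n : I → G) (f : List I) : G := (f.map n).prod

@[simp] theorem nw_nil (n : I → G) : nw n [] = 1 := rfl

@[simp] theorem nw_cons (n : I → G) (i : I) (f : List I) : nw n (i :: f) = n i * nw n f := by
  simp [nw]

@[simp] theorem nw_append (n : I → G) (f g : List I) : nw n (f ++ g) = nw n f * nw n g := by
  simp [nw]

/-- `x⁻¹ T x` -/
def cnj (x : G) (T : Subgroup G) : Subgroup G := T.comap (MulAut.conj x).toMonoidHom

@[simp] theorem mem_cnj {x y : G} {T : Subgroup G} : y ∈ cnj x T ↔ x * y * x⁻¹ ∈ T := Iff.rfl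

/-- the stabiliser of the chamber `x B` in `T ≤ B`, moved back by `x` -/
def stp (B : Subgroup G) (x : G) (T : Subgroup G) : Subgroup G := cnj x T ⊓ B

theorem mem_stp {B : Subgroup G} {x y : G} {T : Subgroup G} : y ∈ stp B x T ↔ x * y * x⁻¹ ∈ T ∧ y ∈ B := Iff.rfl

/-- the stabiliser in `T` of the standard gallery of type `f`, moved back by `nw n f` -/
def St (B : Subgroup G) (n : I → G) : Subgroup G → List I → Subgroup G
  | T, [] => T
  | T, i :: f => St B n (stp B (n i) T) f

/-- `T` is transitive on the chambers of the panel `P i / B` other than `B` -/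
def Pan (B : Subgroup G) (P : I → Subgroup G) (n : I → G) (T : Subgroup G) (i : I) : Prop :=
  ∀ x ∈ P i, x ∉ B → ∃ t ∈ T, (t * n i)⁻¹ * x ∈ B

/-- `T` is transitive on the galleries of type `f` starting in `B` -/
def Tr (B : Subgroup G) (P : I → Subgroup G) (n : I → G) : Subgroup G → List I → Prop
  | _, [] => True
  | T, i :: f => Pan B P n T i ∧ Tr B P n (stp B (n i) T) f

/-- a gallery of type `f` starting in `B`, given by the successive quotients -/
def GalE (B : Subgroup G) (P : I → Subgroup G) : List I → List G → Prop
  | [], [] => True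
  | [], _ :: _ => False
  | _ :: _, [] => False
  | i :: f, x :: l => (x ∈ P i ∧ x ∉ B) ∧ GalE B P f l

/-- the standard gallery of type `f`, moved by `t`, is the gallery `l` (moved by `s`) -/
def Ag (B : Subgroup G) (n : I → G) : G → G → List I → List G → Prop
  | t, s, [], _ => t⁻¹ * s ∈ B
  | _, _, _ :: _, [] => False
  | t, s, i :: f, x :: l => t⁻¹ * s ∈ B ∧ Ag B n (t * n i) (s * x) f l

section basic

variable {B : Subgroup G} {P : I → Subgroup G} {n : I → G}

theorem St_append (T : Subgroup G) (u v : List I) : St B n T (u ++ v) = St B n (St B n T u) v := by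
  induction u generalizing T with
  | nil => rfl
  | cons i u ih => exact ih _

theorem Tr_append (T : Subgroup G) (u v : List I) :
    Tr B P n T (u ++ v) ↔ Tr B P n T u ∧ Tr B P n (St B n T u) v := by
  induction u generalizing T with
  | nil => simp [Tr, St]
  | cons i u ih =>
    show Pan B P n T i ∧ Tr B P n (stp B (n i) T) (u ++ v) ↔ _
    rw [ih]
    exact ⟨fun h => ⟨⟨h.1, h.2.1⟩, h.2.2⟩, fun h => ⟨h.1.1, h.1.2, h.2⟩⟩

theorem Ag_left {t t' s : G} {f : List I} {l : List G} {z : G} (h : Ag B n t s f l) (ht : t' = z * t) :
    Ag B n t' (z * s) f l := by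
  subst ht
  induction f generalizing t s l with
  | nil =>
    have h : t⁻¹ * s ∈ B := h
    show (z * t)⁻¹ * (z * s) ∈ B
    have e : (z * t)⁻¹ * (z * s) = t⁻¹ * s := by group
    rw [e]; exact h
  | cons i f ih =>
    cases l with
    | nil => exact h.elim
    | cons x l =>
      obtain ⟨h1, h2⟩ := h
      refine ⟨?_, ?_⟩
      · have e : (z * t)⁻¹ * (z * s) = t⁻¹ * s := by group
        rw [e]; exact h1
      · have := ih h2
        rwa [← mul_assoc, ← mul_assoc] at this

theorem Ag_end {t s : G} {f : List I} {l : List G} (hl : GalE B P f l) (h : Ag B n t s f l) :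
    (t * nw n f)⁻¹ * (s * l.prod) ∈ B := by
  induction f generalizing t s l with
  | nil =>
    cases l with
    | nil =>
      have h' : t⁻¹ * s ∈ B := h
      simpa using h'
    | cons x l => exact hl.elim
  | cons i f ih =>
    cases l with
    | nil => exact hl.elim
    | cons x l =>
      have := ih hl.2 h.2
      simpa [mul_assoc] using this

/-- the standard gallery -/
theorem galE_std (hP : ∀ i, n i ∈ P i) (hB : ∀ i, n i ∉ B) (f : List I) : GalE B P f (f.map n) := by
  induction f with
  | nil => trivial
  | cons i f ih => exact ⟨⟨hP i, hB i⟩, ih⟩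

theorem prod_map (f : List I) : (f.map n).prod = nw n f := rfl

theorem galE_append {u v : List I} {l k : List G} (h1 : GalE B P u l) (h2 : GalE B P v k) :
    GalE B P (u ++ v) (l ++ k) := by
  induction u generalizing l with
  | nil =>
    cases l with
    | nil => exact h2
    | cons x l => exact h1.elim
  | cons i u ih =>
    cases l with
    | nil => exact h1.elim
    | cons x l => exact ⟨h1.1, ih h1.2⟩

/-- multiplying the first quotient of a gallery by an element of `B` -/
theorem galE_mul (hBP : ∀ i, B ≤ P i) {i : I} {f : List I} {x : G} {l : List G} {b : G} (hb : b ∈ B)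
    (h : GalE B P (i :: f) (x :: l)) : GalE B P (i :: f) (b * x :: l) := by
  refine ⟨⟨mul_mem (hBP i hb) h.1.1, fun h1 => h.1.2 ?_⟩, h.2⟩
  have : x = b⁻¹ * (b * x) := by group
  rw [this]
  exact mul_mem (inv_mem hb) h1

theorem tr_iff (hBP : ∀ i, B ≤ P i) (hP : ∀ i, n i ∈ P i) (hB : ∀ i, n i ∉ B) (T : Subgroup G) (hT : T ≤ B)
    (f : List I) :
    Tr B P n T f ↔ ∀ l, GalE B P f l → ∃ t ∈ T, Ag B n t 1 f l := by
  induction f generalizing T with
  | nil =>
    refine ⟨fun _ l _ => ⟨1, one_mem _, ?_⟩, fun _ => trivial⟩
    show (1 : G)⁻¹ * 1 ∈ B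
    simp [one_mem]
  | cons i f ih =>
    have hT' : stp B (n i) T ≤ B := inf_le_right
    constructor
    · rintro ⟨h1, h2⟩ l hl
      cases l with
      | nil => exact hl.elim
      | cons x l =>
        obtain ⟨t, ht, htx⟩ := h1 x hl.1.1 hl.1.2
        rw [ih _ hT'] at h2
        cases f with
        | nil =>
          refine ⟨t, ht, ?_, ?_⟩
          · have : t⁻¹ * 1 ∈ B := by simpa using inv_mem (hT ht)
            exact this
          · show (t * n i)⁻¹ * (1 * x) ∈ B
            rw [one_mul]; exact htx
        | cons j f =>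
          cases l with
          | nil => exact hl.2.elim
          | cons y l =>
            obtain ⟨t', ht', hA⟩ := h2 (((t * n i)⁻¹ * x) * y :: l) (galE_mul hBP htx hl.2)
            refine ⟨t * (n i * t' * (n i)⁻¹), mul_mem ht ht'.1, ?_, ?_⟩
            · have : (t * (n i * t' * (n i)⁻¹))⁻¹ * 1 ∈ B := by
                simpa using inv_mem (mul_mem (hT ht) (hT ht'.1))
              exact this
            · have e1 : t * (n i * t' * (n i)⁻¹) * n i = (t * n i) * t' := by group
              rw [e1]
              have h3 := Ag_left hA (z := t * n i) rfl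
              obtain ⟨h4, h5⟩ := hA
              refine ⟨?_, ?_⟩
              · have : (t * n i * t')⁻¹ * (1 * x) = t'⁻¹ * ((t * n i)⁻¹ * x) := by group
                rw [this]
                exact mul_mem (inv_mem (hT' ht')) htx
              · have h6 := h3.2
                have e2 : t * n i * 1 * ((t * n i)⁻¹ * x * y) = 1 * x * y := by group
                rw [e2] at h6
                exact h6
    · intro h
      refine ⟨?_, ?_⟩
      · intro x hx hxB
        obtain ⟨t, ht, hA⟩ := h (x :: f.map n) ⟨⟨hx, hxB⟩, galE_std hP hB f⟩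
        refine ⟨t, ht, ?_⟩
        have h2 : Ag B n (t * n i) (1 * x) f (f.map n) := hA.2
        cases f with
        | nil =>
          have : (t * n i)⁻¹ * (1 * x) ∈ B := h2
          rwa [one_mul] at this
        | cons j f =>
          have : (t * n i)⁻¹ * (1 * x) ∈ B := h2.1
          rwa [one_mul] at this
      · rw [ih _ hT']
        intro l hl
        obtain ⟨t, ht, hA⟩ := h (n i :: l) ⟨⟨hP i, hB i⟩, hl⟩
        have h2 : Ag B n (t * n i) (1 * n i) f l := hA.2
        have h3 : (t * n i)⁻¹ * (1 * n i) ∈ B := by
          cases f with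
          | nil => exact h2
          | cons j f =>
            cases l with
            | nil => exact h2.elim
            | cons y l => exact h2.1
        have h4 : (n i)⁻¹ * t * n i ∈ B := by
          have := inv_mem h3
          have e : ((t * n i)⁻¹ * (1 * n i))⁻¹ = (n i)⁻¹ * t * n i := by group
          rwa [e] at this
        refine ⟨(n i)⁻¹ * t * n i, ⟨?_, h4⟩, ?_⟩
        · show n i * ((n i)⁻¹ * t * n i) * (n i)⁻¹ ∈ T
          have e : n i * ((n i)⁻¹ * t * n i) * (n i)⁻¹ = t := by group
          rwa [e]
        · have h5 := Ag_left (z := (n i)⁻¹) (t' := (n i)⁻¹ * t * n i) h2 (by group)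
          have e : (n i)⁻¹ * (1 * n i) = 1 := by group
          rwa [e] at h5

end basic

end Cfsg.Agent.ParSys
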