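import Mathlib
import Cfsg.Agent.Solvable.Glauberman
import Cfsg.Agent.ParSys.Core

/-!
# THEOREM PAR, front end (a): the Hall part

`B` a finite group, `U = O_p(B)`, `H` a `p'`-subgroup of `B` with `U H` normal in `B` and of
`p`-power index.  Then

* `HallData.le_sup`: every `p'`-subgroup of `B` lies in `U H`;
* `HallData.conj`: the subgroups of `B` of order `|H|` are conjugate to `H` under `U`;
* `HallData.H0`: every `p`-subgroup of `B` normalised by `H` lies in `U`;
* `HallData.exists_fixed`, `HallData.fixed_unique`: orbits of `U` and fixed points of `H`;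
* `HallData.exists_n`: if `U` is transitive on `P / B - {B}` then some `n ∈ P - B` normalises `H`.
-/

set_option autoImplicit false
set_option linter.style.haveILetI false
set_option linter.unusedSectionVars false

namespace Cfsg.Agent.ParSys.Hall

open Pointwise

variable {G : Type*} [Group G]

/-- `x ^ a ∈ K` and `x ^ b ∈ K` with `a`, `b` coprime give `x ∈ K`. -/
theorem mem_of_pow_mem_of_coprime {K : Subgroup G} {x : G} {a b : ℕ} (ha : x ^ a ∈ K)
    (hb : x ^ b ∈ K) (hab : a.Coprime b) : x ∈ K := by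
  have h := Nat.gcd_eq_gcd_ab a b
  rw [hab] at h
  have h1 : x = (x ^ a) ^ (Nat.gcdA a b) * (x ^ b) ^ (Nat.gcdB a b) := by
    rw [← zpow_natCast, ← zpow_natCast, ← zpow_mul, ← zpow_mul, ← zpow_add, ← h]
    simp
  rw [h1]
  exact K.mul_mem (K.zpow_mem ha _) (K.zpow_mem hb _)

theorem pow_card_of_mem {K : Subgroup G} {x : G} (hx : x ∈ K) : x ^ (Nat.card K) = 1 := by
  have h : ((⟨x, hx⟩ : K) ^ (Nat.card K) : K) = 1 := pow_card_eq_one'
  have h2 := congrArg Subtype.val h
  rwa [Subgroup.coe_pow, Subgroup.coe_one] at h2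

/-- If `x ∈ B`, `N ≤ B` is normalised by `B`, then `x ^ [B : N] ∈ N`. -/
theorem pow_relIndex_mem {B N : Subgroup G} (hNB : B ≤ Subgroup.normalizer (N : Set G)) {x : G}
    (hx : x ∈ B) : x ^ (N.relIndex B) ∈ N := by
  haveI : (N.subgroupOf B).Normal := by
    constructor
    intro n hn g
    rw [Subgroup.mem_subgroupOf] at hn ⊢
    have := (Subgroup.mem_normalizer_iff.mp (hNB g.2) (n : G)).mp hn
    simpa using this
  have h := Subgroup.pow_index_mem (N.subgroupOf B) (⟨x, hx⟩ : B)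
  rw [Subgroup.mem_subgroupOf] at h
  simpa [Subgroup.relIndex] using h

/-- The Hall situation in a Borel-like subgroup. -/
structure HallData (p : ℕ) (B U H : Subgroup G) : Prop where
  U_le : U ≤ B
  H_le : H ≤ B
  U_norm : B ≤ Subgroup.normalizer (U : Set G)
  U_pgroup : IsPGroup p U
  H_cop : p.Coprime (Nat.card H)
  UH_norm : B ≤ Subgroup.normalizer ((U ⊔ H : Subgroup G) : Set G)
  index : ∃ k : ℕ, (U ⊔ H).relIndex B = p ^ k
  core : ∀ T : Subgroup G, T ≤ B → IsPGroup p T → B ≤ Subgroup.normalizer (T : Set G) → T ≤ U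

namespace HallData

variable {p : ℕ} {B U H : Subgroup G}

theorem le_sup (D : HallData p B U H) {K : Subgroup G} (hK : K ≤ B)
    (hp : p.Coprime (Nat.card K)) : K ≤ U ⊔ H := by
  intro x hx
  obtain ⟨k, hk⟩ := D.index
  have h1 : x ^ (p ^ k) ∈ U ⊔ H := by
    rw [← hk]; exact pow_relIndex_mem D.UH_norm (hK hx)
  have h2 : x ^ (Nat.card K) ∈ U ⊔ H := by
    rw [pow_card_of_mem hx]; exact Subgroup.one_mem _
  exact mem_of_pow_mem_of_coprime h1 h2 (hp.pow_left k)

variable [Finite G] [hp : Fact p.Prime]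

theorem card_cop (D : HallData p B U H) : (Nat.card H).Coprime (Nat.card U) := by
  obtain ⟨k, hk⟩ := (IsPGroup.iff_card (p := p)).mp D.U_pgroup
  rw [hk]
  exact (D.H_cop.pow_left k).symm

theorem U_solvable (D : HallData p B U H) : Group.IsSolvable U := by
  haveI := D.U_pgroup.isNilpotent
  infer_instance

theorem H_norm_U (D : HallData p B U H) : H ≤ Subgroup.normalizer (U : Set G) :=
  D.H_le.trans D.U_norm

/-- Subgroups of order `|H|` of `B` are conjugate to `H` under `U`. -/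
theorem conj (D : HallData p B U H) {K : Subgroup G} (hK : K ≤ B)
    (hc : Nat.card K = Nat.card H) : ∃ u ∈ U, MulAut.conj u • H = K := by
  refine Solvable.Glauberman.exists_conj_of_le_sup H U D.H_norm_U D.card_cop
    (Or.inr D.U_solvable) K ?_ hc
  rw [sup_comm]
  exact D.le_sup hK (by rw [hc]; exact D.H_cop)

/-- A `U`-orbit which is `H`-stable contains an `H`-fixed point. -/
theorem exists_fixed (D : HallData p B U H) {X : Type*} [MulAction G X] (x : X)
    (hx : ∀ a ∈ H, ∃ k ∈ U, a • x = k • x) : ∃ k ∈ U, ∀ a ∈ H, a • k • x = k • x :=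
  Solvable.Glauberman.exists_smul_fixed H U D.H_norm_U D.card_cop (Or.inr D.U_solvable) x hx

/-- `C_U(H)` is transitive on the `H`-fixed points of a `U`-orbit. -/
theorem fixed_trans (D : HallData p B U H) {X : Type*} [MulAction G X] (x y : X)
    (hx : ∀ a ∈ H, a • x = x) (hy : ∀ a ∈ H, a • y = y) {k : G} (hk : k ∈ U) (hkx : k • x = y) :
    ∃ c ∈ U, c ∈ Subgroup.centralizer (H : Set G) ∧ c • x = y :=
  Solvable.Glauberman.exists_centralizer_smul H U D.H_norm_U D.card_cop (Or.inr D.U_solvable)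
    x y hx hy hk hkx

/-- If `C_U(H) = 1`, an orbit of `U` has at most one `H`-fixed point. -/
theorem fixed_unique (D : HallData p B U H) (hC : U ⊓ Subgroup.centralizer (H : Set G) = ⊥)
    {X : Type*} [MulAction G X] (x y : X)
    (hx : ∀ a ∈ H, a • x = x) (hy : ∀ a ∈ H, a • y = y) {k : G} (hk : k ∈ U) (hkx : k • x = y) :
    y = x := by
  obtain ⟨c, hcU, hcC, hc⟩ := D.fixed_trans x y hx hy hk hkx
  have h1 : c ∈ U ⊓ Subgroup.centralizer (H : Set G) := ⟨hcU, hcC⟩
  rw [hC, Subgroup.mem_bot] at h1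
  rw [← hc, h1, one_smul]

theorem pow_card_mem (D : HallData p B U H) {x : G} (hx : x ∈ U ⊔ H) :
    x ^ (Nat.card H) ∈ U := by
    rw [sup_comm] at hx
    obtain ⟨u, hu, a, ha, rfl⟩ := Solvable.Glauberman.exists_mul_of_mem_sup H U D.H_norm_U hx
    -- `(u a) ^ m ∈ U a ^ m`
    have key : ∀ m : ℕ, ∃ v ∈ U, (u * a) ^ m = v * a ^ m := by
      intro m
      induction m with
      | zero => exact ⟨1, U.one_mem, by simp⟩
      | succ m ih =>
        obtain ⟨v, hv, hvm⟩ := ih
        refine ⟨v * (a ^ m * u * (a ^ m)⁻¹), U.mul_mem hv ?_, ?_⟩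
        · exact (Subgroup.mem_normalizer_iff.mp (D.H_norm_U (H.pow_mem ha m)) u).mp hu
        · rw [pow_succ, hvm, pow_succ]; group
    obtain ⟨v, hv, hvm⟩ := key (Nat.card H)
    rw [hvm, pow_card_of_mem ha, mul_one]
    exact hv

/-- A `p`-subgroup of `U H` lies in `U`. -/
theorem pgroup_le_of_le_sup (D : HallData p B U H) {x : G} (hx : x ∈ U ⊔ H) {k : ℕ}
    (hk : x ^ (p ^ k) = 1) : x ∈ U := by
  have h1 : x ^ (Nat.card H) ∈ U := D.pow_card_mem hx
  have h2 : x ^ (p ^ k) ∈ U := by rw [hk]; exact U.one_mem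
  exact mem_of_pow_mem_of_coprime h2 h1 (D.H_cop.pow_left k)

/-- **(H0)**: every `p`-subgroup of `B` normalised by `H` lies in `U = O_p(B)`. -/
theorem H0 (D : HallData p B U H) {T : Subgroup G} (hTB : T ≤ B) (hT : IsPGroup p T)
    (hH : H ≤ Subgroup.normalizer (T : Set G)) : T ≤ U := by
  classical
  -- commutators of `T` and `H` lie in `U`
  have hcomm : ∀ t ∈ T, ∀ a ∈ H, t * a * t⁻¹ * a⁻¹ ∈ U := by
    intro t ht a ha
    have h1 : t * a * t⁻¹ * a⁻¹ ∈ T := by
      have : t * a * t⁻¹ * a⁻¹ = t * (a * t⁻¹ * a⁻¹) := by group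
      rw [this]
      exact T.mul_mem ht ((Subgroup.mem_normalizer_iff.mp (hH ha) t⁻¹).mp (T.inv_mem ht))
    have h2 : t * a * t⁻¹ * a⁻¹ ∈ U ⊔ H := by
      refine Subgroup.mul_mem _ ?_ (Subgroup.inv_mem _ (Subgroup.mem_sup_right ha))
      exact (Subgroup.mem_normalizer_iff.mp (D.UH_norm (hTB ht)) a).mp (Subgroup.mem_sup_right ha)
    obtain ⟨k, hk⟩ := hT ⟨_, h1⟩
    refine D.pgroup_le_of_le_sup h2 (k := k) ?_
    simpa using congrArg Subtype.val hk
  haveI hU' : (U.subgroupOf B).Normal := by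
    constructor
    intro n hn g
    rw [Subgroup.mem_subgroupOf] at hn ⊢
    have := (Subgroup.mem_normalizer_iff.mp (D.U_norm g.2) (n : G)).mp hn
    simpa using this
  haveI hUH' : ((U ⊔ H).subgroupOf B).Normal := by
    constructor
    intro n hn g
    rw [Subgroup.mem_subgroupOf] at hn ⊢
    have := (Subgroup.mem_normalizer_iff.mp (D.UH_norm g.2) (n : G)).mp hn
    simpa using this
  set π : B →* B ⧸ (U.subgroupOf B) := QuotientGroup.mk' (U.subgroupOf B) with hπ
  have hsurj : Function.Surjective π := QuotientGroup.mk'_surjective _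
  have hker : ∀ b : B, π b = 1 ↔ (b : G) ∈ U := by
    intro b
    rw [hπ, QuotientGroup.mk'_apply, QuotientGroup.eq_one_iff, Subgroup.mem_subgroupOf]
  set Hq : Subgroup (B ⧸ (U.subgroupOf B)) := ((U ⊔ H).subgroupOf B).map π with hHq
  haveI hHqn : Hq.Normal := Subgroup.Normal.map hUH' π hsurj
  have hHqpow : ∀ y ∈ Hq, y ^ (Nat.card H) = 1 := by
    intro y hy
    obtain ⟨b, hb, rfl⟩ := Subgroup.mem_map.mp hy
    rw [← map_pow, hker]
    rw [Subgroup.mem_subgroupOf] at hb
    simpa using D.pow_card_mem hb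
  set Cq : Subgroup (B ⧸ (U.subgroupOf B)) := Subgroup.centralizer (Hq : Set _) with hCq
  haveI hCqn : Cq.Normal := inferInstance
  obtain ⟨k, hk⟩ := D.index
  have hpow : ∀ y : B ⧸ (U.subgroupOf B), y ^ (p ^ k) ∈ Hq := by
    intro y
    obtain ⟨b, rfl⟩ := hsurj y
    rw [← map_pow]
    refine Subgroup.mem_map_of_mem _ ?_
    rw [Subgroup.mem_subgroupOf]
    have := pow_relIndex_mem D.UH_norm b.2
    rw [hk] at this
    simpa using this
  -- `Cq` is nilpotent
  have hZ : (Hq.subgroupOf Cq) ≤ Subgroup.center Cq := by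
    intro z hz
    rw [Subgroup.mem_subgroupOf] at hz
    rw [Subgroup.mem_center_iff]
    intro c
    apply Subtype.ext
    have := Subgroup.mem_centralizer_iff.mp c.2 (z : B ⧸ (U.subgroupOf B)) hz
    simpa using this.symm
  haveI hnil : Group.IsNilpotent Cq := by
    haveI hN : (Hq.subgroupOf Cq).Normal := inferInstance
    have hpg : IsPGroup p (Cq ⧸ (Hq.subgroupOf Cq)) := by
      intro y
      obtain ⟨c, rfl⟩ := QuotientGroup.mk'_surjective (Hq.subgroupOf Cq) y
      refine ⟨k, ?_⟩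
      rw [← map_pow, QuotientGroup.mk'_apply, QuotientGroup.eq_one_iff, Subgroup.mem_subgroupOf]
      simpa using hpow (c : B ⧸ (U.subgroupOf B))
    have h2 : Group.IsNilpotent (Cq ⧸ (Hq.subgroupOf Cq)) := hpg.isNilpotent
    refine Subgroup.isNilpotent_of_ker_le_center (QuotientGroup.mk' (Hq.subgroupOf Cq)) ?_
    rw [QuotientGroup.ker_mk']
    exact hZ
  -- a normal Sylow subgroup
  obtain ⟨P⟩ : Nonempty (Sylow p Cq) := inferInstance
  haveI hPn : (P : Subgroup Cq).Normal := inferInstance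
  haveI hPc : (P : Subgroup Cq).Characteristic := P.characteristic_of_normal hPn
  haveI hPm : ((P : Subgroup Cq).map Cq.subtype).Normal := inferInstance
  have hPp : ∀ y ∈ (P : Subgroup Cq).map Cq.subtype, ∃ j : ℕ, y ^ (p ^ j) = 1 := by
    intro y hy
    obtain ⟨c, hc, rfl⟩ := Subgroup.mem_map.mp hy
    obtain ⟨j, hj⟩ := P.isPGroup' ⟨c, hc⟩
    refine ⟨j, ?_⟩
    have h1 : c ^ (p ^ j) = 1 := by simpa using congrArg Subtype.val hj
    rw [← map_pow, h1, map_one]
  have hPbot : ((P : Subgroup Cq).map Cq.subtype) = ⊥ := by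
    set W : Subgroup G := (((P : Subgroup Cq).map Cq.subtype).comap π).map B.subtype with hW
    have hWU : W ≤ U := by
      refine D.core W ?_ ?_ ?_
      · rintro _ ⟨b, -, rfl⟩
        exact b.2
      · rintro ⟨w, hw⟩
        obtain ⟨b, hb, hbw⟩ := hw
        obtain ⟨j, hj⟩ := hPp _ hb
        rw [← map_pow, hker] at hj
        obtain ⟨i, hi⟩ := D.U_pgroup ⟨_, hj⟩
        refine ⟨j + i, ?_⟩
        apply Subtype.ext
        have h1 : (((b ^ p ^ j : B) : G)) ^ p ^ i = 1 := by simpa using congrArg Subtype.val hi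
        have h2 : (b : G) ^ (p ^ (j + i)) = 1 := by
          rw [pow_add, pow_mul]
          simpa using h1
        simpa [← hbw] using h2
      · intro b hb
        rw [Subgroup.mem_normalizer_iff]
        have key : ∀ c ∈ B, ∀ x ∈ W, c * x * c⁻¹ ∈ W := by
          rintro c hc _ ⟨x, hx, rfl⟩
          refine ⟨(⟨c, hc⟩ : B) * x * (⟨c, hc⟩ : B)⁻¹, ?_, by simp⟩
          rw [SetLike.mem_coe, Subgroup.mem_comap]
          rw [map_mul, map_mul, map_inv]
          exact hPm.conj_mem (π x) hx (π ⟨c, hc⟩)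
        intro x
        constructor
        · exact key b hb x
        · intro hx
          have := key b⁻¹ (B.inv_mem hb) _ hx
          simpa [mul_assoc] using this
    rw [eq_bot_iff]
    intro y hy
    obtain ⟨b, rfl⟩ := hsurj y
    rw [Subgroup.mem_bot, hker]
    exact hWU ⟨b, hy, rfl⟩
  have hcardC : ¬ p ∣ Nat.card Cq := by
    intro hd
    have h1 : (P : Subgroup Cq) = ⊥ :=
      (Subgroup.map_eq_bot_iff_of_injective _ Cq.subtype_injective).mp hPbot
    have h2 := P.dvd_card_of_dvd_card hd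
    rw [h1, Subgroup.card_bot] at h2
    exact hp.out.one_lt.ne' (Nat.dvd_one.mp h2)
  intro t ht
  have htB : t ∈ B := hTB ht
  rw [show t = ((⟨t, htB⟩ : B) : G) from rfl, ← hker]
  have htC : π ⟨t, htB⟩ ∈ Cq := by
    rw [hCq, Subgroup.mem_centralizer_iff]
    rintro _ ⟨b, hb, rfl⟩
    rw [SetLike.mem_coe, Subgroup.mem_subgroupOf] at hb
    rw [sup_comm] at hb
    obtain ⟨u, hu, a, ha, hua⟩ := Solvable.Glauberman.exists_mul_of_mem_sup H U D.H_norm_U hb
    have h1 : π b = π ⟨a, D.H_le ha⟩ := by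
      have h2 : π ⟨u, D.U_le hu⟩ = 1 := (hker _).mpr hu
      have h3 : b = (⟨u, D.U_le hu⟩ : B) * ⟨a, D.H_le ha⟩ := Subtype.ext (by simpa using hua)
      rw [h3, map_mul, h2, one_mul]
    rw [h1, ← mul_inv_eq_one, ← map_mul, ← map_mul, ← map_inv, ← map_mul, hker]
    have h4 := hcomm t ht a ha
    have h5 := U.inv_mem h4
    have h6 : (((⟨a, D.H_le ha⟩ : B) * ⟨t, htB⟩ * ((⟨t, htB⟩ : B) * ⟨a, D.H_le ha⟩)⁻¹ : B) : G)
        = (t * a * t⁻¹ * a⁻¹)⁻¹ := by
      push_cast
      group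
    rw [h6]
    exact h5
  obtain ⟨j, hj⟩ := hT ⟨t, ht⟩
  have h1 : (⟨π ⟨t, htB⟩, htC⟩ : Cq) ^ (p ^ j) = 1 := by
    apply Subtype.ext
    have h2 : t ^ (p ^ j) = 1 := by simpa using congrArg Subtype.val hj
    have h3 : (⟨t, htB⟩ : B) ^ (p ^ j) = 1 := Subtype.ext (by simpa using h2)
    change (π ⟨t, htB⟩) ^ (p ^ j) = 1
    rw [← map_pow, h3, map_one]
  have h2 : (⟨π ⟨t, htB⟩, htC⟩ : Cq) ^ (Nat.card Cq) = 1 := pow_card_eq_one'
  have hcop : (p ^ j).Coprime (Nat.card Cq) :=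
    Nat.Coprime.pow_left j ((Nat.Prime.coprime_iff_not_dvd hp.out).mpr hcardC)
  have h3 : (⟨π ⟨t, htB⟩, htC⟩ : Cq) = 1 := by
    have := mem_of_pow_mem_of_coprime (K := (⊥ : Subgroup Cq)) (x := ⟨π ⟨t, htB⟩, htC⟩)
      (a := p ^ j) (b := Nat.card Cq) (by rw [h1]; exact Subgroup.one_mem _)
      (by rw [h2]; exact Subgroup.one_mem _) hcop
    exact Subgroup.mem_bot.mp this
  exact congrArg Subtype.val h3

/-- If `U` is transitive on `P / B - {B}` then some `n ∈ P - B` normalises `H`. -/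
theorem exists_n (D : HallData p B U H) {P : Subgroup G} (hBP : B ≤ P) (hne : ∃ g ∈ P, g ∉ B)
    (htr : ∀ g ∈ P, g ∉ B → ∀ g' ∈ P, g' ∉ B → ∃ u ∈ U, ∃ b ∈ B, g' = u * g * b) :
    ∃ n ∈ P, n ∉ B ∧ n ∈ Subgroup.normalizer (H : Set G) := by
  obtain ⟨g, hgP, hgB⟩ := hne
  obtain ⟨u, hu, hfix⟩ := D.exists_fixed (X := G ⧸ B) ((g : G) : G ⧸ B) (by
    intro a ha
    have haB := D.H_le ha
    obtain ⟨v, hv, b, hb, hvb⟩ := htr g hgP hgB (a * g) (P.mul_mem (hBP haB) hgP)
      (fun h => hgB (by simpa using B.mul_mem (B.inv_mem haB) h))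
    refine ⟨v, hv, ?_⟩
    change ((a * g : G) : G ⧸ B) = ((v * g : G) : G ⧸ B)
    rw [hvb]
    exact QuotientGroup.mk_mul_of_mem _ hb)
  have huB := D.U_le hu
  have hugP : u * g ∈ P := P.mul_mem (hBP huB) hgP
  have hugB : u * g ∉ B := fun h => hgB (by simpa using B.mul_mem (B.inv_mem huB) h)
  have hHB : MulAut.conj (u * g)⁻¹ • H ≤ B := by
    intro x hx
    rw [Subgroup.mem_smul_pointwise_iff_exists] at hx
    obtain ⟨a, ha, rfl⟩ := hx
    have h1 : ((a * (u * g) : G) : G ⧸ B) = ((u * g : G) : G ⧸ B) := hfix a ha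
    have h2 := QuotientGroup.eq.mp h1.symm
    have h3 : (MulAut.conj (u * g)⁻¹) • a = (u * g)⁻¹ * (a * (u * g)) := by
      rw [MulAut.smul_def, MulAut.conj_apply]; group
    rw [h3]
    exact h2
  obtain ⟨v, hv, hvH⟩ := D.conj hHB (Nat.card_congr
    (Subgroup.equivSMul (MulAut.conj (u * g)⁻¹) H).symm.toEquiv)
  have hvB := D.U_le hv
  refine ⟨u * g * v, P.mul_mem hugP (hBP hvB), fun h => hugB ?_, ?_⟩
  · have := B.mul_mem h (B.inv_mem hvB)
    simpa [mul_assoc] using this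
  · have h1 : MulAut.conj (u * g * v) • H = H := by
      rw [map_mul, mul_smul, hvH, ← mul_smul, ← map_mul, mul_inv_cancel, map_one, one_smul]
    rw [Subgroup.mem_normalizer_iff]
    intro h
    constructor
    · intro hh
      have := Subgroup.smul_mem_pointwise_smul h (MulAut.conj (u * g * v)) H hh
      rw [h1] at this
      exact this
    · intro hh
      have h2 : h ∈ MulAut.conj (u * g * v)⁻¹ • H := by
        rw [Subgroup.mem_smul_pointwise_iff_exists]
        refine ⟨_, hh, ?_⟩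
        rw [MulAut.smul_def, MulAut.conj_apply]; group
      have h3 : MulAut.conj (u * g * v)⁻¹ • H = H := by
        conv_lhs => rw [← h1]
        rw [← mul_smul, ← map_mul, inv_mul_cancel, map_one, one_smul]
      rwa [h3] at h2

/-- The transitivity of `U` on the chambers `≠ B` of the panel `P / B`. -/
def PTr (B U P : Subgroup G) : Prop :=
  ∀ g ∈ P, g ∉ B → ∀ g' ∈ P, g' ∉ B → ∃ u ∈ U, ∃ b ∈ B, g' = u * g * b

/-- If `C_U(H) = 1`, then `H` fixes only one chamber `≠ B` of a panel on which `U` is transitive. -/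
theorem panel_unique (D : HallData p B U H) (hC : U ⊓ Subgroup.centralizer (H : Set G) = ⊥)
    {P : Subgroup G} (htr : PTr B U P) {g g' : G} (hg : g ∈ P) (hgB : g ∉ B) (hg' : g' ∈ P)
    (hgB' : g' ∉ B) (hfix : ∀ a ∈ H, g⁻¹ * a * g ∈ B) (hfix' : ∀ a ∈ H, g'⁻¹ * a * g' ∈ B) :
    g⁻¹ * g' ∈ B := by
  obtain ⟨u, hu, b, hb, he⟩ := htr g hg hgB g' hg' hgB'
  have h1 := D.fixed_unique hC (X := G ⧸ B) ((g : G) : G ⧸ B) ((g' : G) : G ⧸ B) (by
      intro a ha
      change ((a * g : G) : G ⧸ B) = _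
      refine (QuotientGroup.eq.mpr ?_).symm
      rw [← mul_assoc]
      exact hfix a ha) (by
      intro a ha
      change ((a * g' : G) : G ⧸ B) = _
      refine (QuotientGroup.eq.mpr ?_).symm
      rw [← mul_assoc]
      exact hfix' a ha) hu (by
      change ((u * g : G) : G ⧸ B) = _
      rw [he]
      exact (QuotientGroup.mk_mul_of_mem _ hb).symm)
  exact QuotientGroup.eq.mp h1.symm

theorem norm_conj_mem {n a : G} (hn : n ∈ Subgroup.normalizer (H : Set G)) (ha : a ∈ H) :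
    n⁻¹ * a * n ∈ H := by
  have := (Subgroup.mem_normalizer_iff.mp ((Subgroup.normalizer (H : Set G)).inv_mem hn) a).mp ha
  simpa using this

/-- `n` conjugates `N_B(H)` into `B`. -/
theorem conj_mem (D : HallData p B U H) (hC : U ⊓ Subgroup.centralizer (H : Set G) = ⊥)
    {P : Subgroup G} (hBP : B ≤ P) (htr : PTr B U P) {n : G} (hn : n ∈ P) (hnB : n ∉ B)
    (hnH : n ∈ Subgroup.normalizer (H : Set G)) {y : G} (hy : y ∈ B)
    (hyH : y ∈ Subgroup.normalizer (H : Set G)) : n⁻¹ * y * n ∈ B := by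
  have h1 : ∀ a ∈ H, n⁻¹ * a * n ∈ B := fun a ha => D.H_le (norm_conj_mem hnH ha)
  have h2 : ∀ a ∈ H, (y * n)⁻¹ * a * (y * n) ∈ B := by
    intro a ha
    have : (y * n)⁻¹ * a * (y * n) = n⁻¹ * (y⁻¹ * a * y) * n := by group
    rw [this]
    exact h1 _ (norm_conj_mem hyH ha)
  have h3 : y * n ∉ B := fun h => hnB (by simpa using B.mul_mem (B.inv_mem hy) h)
  have := D.panel_unique hC htr hn hnB (P.mul_mem (hBP hy) hn) h3 h1 h2
  rwa [← mul_assoc] at this

theorem conj_mem' (D : HallData p B U H) (hC : U ⊓ Subgroup.centralizer (H : Set G) = ⊥)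
    {P : Subgroup G} (hBP : B ≤ P) (htr : PTr B U P) {n : G} (hn : n ∈ P) (hnB : n ∉ B)
    (hnH : n ∈ Subgroup.normalizer (H : Set G)) {y : G} (hy : y ∈ B)
    (hyH : y ∈ Subgroup.normalizer (H : Set G)) : n * y * n⁻¹ ∈ B := by
  have := D.conj_mem hC hBP htr (P.inv_mem hn) (fun h => hnB (by simpa using B.inv_mem h))
    (Subgroup.inv_mem _ hnH) hy hyH
  simpa using this

theorem sq_mem (D : HallData p B U H) (hC : U ⊓ Subgroup.centralizer (H : Set G) = ⊥)
    {P : Subgroup G} (htr : PTr B U P) {n : G} (hn : n ∈ P) (hnB : n ∉ B)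
    (hnH : n ∈ Subgroup.normalizer (H : Set G)) : n * n ∈ B := by
  by_contra hnn
  have h1 : ∀ a ∈ H, n⁻¹ * a * n ∈ B := fun a ha => D.H_le (norm_conj_mem hnH ha)
  have h2 : ∀ a ∈ H, (n * n)⁻¹ * a * (n * n) ∈ B := by
    intro a ha
    have : (n * n)⁻¹ * a * (n * n) = n⁻¹ * (n⁻¹ * a * n) * n := by group
    rw [this]
    exact h1 _ (norm_conj_mem hnH ha)
  have := D.panel_unique hC htr hn hnB (P.mul_mem hn hn) hnn h1 h2
  exact hnB (by simpa using this)

/-- The admissible subgroups: `T ≤ U`, normalised by `H`. -/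
def Adm (U H T : Subgroup G) : Prop := T ≤ U ∧ H ≤ Subgroup.normalizer (T : Set G)

/-- `stp` preserves admissibility. -/
theorem adm_stp (D : HallData p B U H) {T : Subgroup G} (hT : Adm U H T) {n : G}
    (hnH : n ∈ Subgroup.normalizer (H : Set G)) : Adm U H (stp B n T) := by
  have hnorm : H ≤ Subgroup.normalizer ((stp B n T : Subgroup G) : Set G) := by
    have key : ∀ a ∈ H, ∀ y ∈ stp B n T, a * y * a⁻¹ ∈ stp B n T := by
      intro a ha y hy
      rw [mem_stp] at hy ⊢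
      refine ⟨?_, B.mul_mem (B.mul_mem (D.H_le ha) hy.2) (B.inv_mem (D.H_le ha))⟩
      have h1 : n * a * n⁻¹ ∈ H := (Subgroup.mem_normalizer_iff.mp hnH a).mp ha
      have h2 := (Subgroup.mem_normalizer_iff.mp (hT.2 h1) _).mp hy.1
      have h3 : n * (a * y * a⁻¹) * n⁻¹ = (n * a * n⁻¹) * (n * y * n⁻¹) * (n * a * n⁻¹)⁻¹ := by group
      rw [h3]
      exact h2
    intro a ha
    rw [Subgroup.mem_normalizer_iff]
    intro y
    constructor
    · exact key a ha y
    · intro hy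
      have := key a⁻¹ (H.inv_mem ha) _ hy
      simpa [mul_assoc] using this
  refine ⟨D.H0 (fun y hy => (mem_stp.mp hy).2) ?_ hnorm, hnorm⟩
  rintro ⟨y, hy⟩
  have h1 : n * y * n⁻¹ ∈ U := hT.1 (mem_stp.mp hy).1
  obtain ⟨k, hk⟩ := D.U_pgroup ⟨_, h1⟩
  refine ⟨k, Subtype.ext ?_⟩
  have h2 : (n * y * n⁻¹) ^ p ^ k = 1 := by simpa using congrArg Subtype.val hk
  rw [conj_pow] at h2
  have h3 : y ^ p ^ k = 1 := by
    have := congrArg (fun z => n⁻¹ * z * n) h2
    simpa [mul_assoc] using this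
  simpa using h3

end HallData

end Cfsg.Agent.ParSys.Hall
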