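import Cfsg.Agent.ParSys.Core

/-!
# Good words
-/

set_option autoImplicit false

namespace Cfsg.Agent.ParSys

open Subgroup

variable {G : Type*} [Group G] {I : Type*}

/-- The abstract data of a parabolic system in which every rank two residue is a building with a torus. -/
structure Data (B : Subgroup G) (P : I → Subgroup G) (n : I → G) (H : Subgroup G) (U : Subgroup G)
    (m : I → I → ℕ) (Adm : Subgroup G → Prop) : Prop where
  le : ∀ i, B ≤ P i
  gen : ⨆ i, P i = ⊤
  n_mem : ∀ i, n i ∈ P i
  n_not : ∀ i, n i ∉ B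
  H_le : H ≤ B
  conj : ∀ i, ∀ h ∈ H, n i * h * (n i)⁻¹ ∈ H
  conj' : ∀ i, ∀ h ∈ H, (n i)⁻¹ * h * n i ∈ H
  sq : ∀ i, n i * n i ∈ H
  /-- every panel has at least three chambers -/
  three : ∀ i, ∃ x ∈ P i, x ∉ B ∧ (n i)⁻¹ * x ∉ B
  m_two : ∀ i j, i ≠ j → 2 ≤ m i j
  m_symm : ∀ i j, m i j = m j i
  braid : ∀ i j, i ≠ j → (nw n (alt i j (m i j)))⁻¹ * nw n (alt j i (m i j)) ∈ H
  /-- an element of `B` which fixes the end of the standard gallery of type `alt i j (m i j)` fixes the gallery -/
  unq : ∀ i j, i ≠ j → ∀ y ∈ B, (nw n (alt i j (m i j)))⁻¹ * y * nw n (alt i j (m i j)) ∈ B →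
    ∀ k ≤ m i j, (nw n (alt i j k))⁻¹ * y * nw n (alt i j k) ∈ B
  U_le : U ≤ B
  adm_U : Adm U
  adm_le : ∀ T, Adm T → T ≤ U
  adm_stp : ∀ T i, Adm T → Adm (stp B (n i) T)
  pan : ∀ i, Pan B P n U i
  /-- condition (G1) -/
  g1 : ∀ i j, i ≠ j → ∀ T, Adm T → Pan B P n T i → Pan B P n T j → Tr B P n T (alt i j (m i j))

namespace Data

variable {B : Subgroup G} {P : I → Subgroup G} {n : I → G} {H U : Subgroup G} {m : I → I → ℕ}
  {Adm : Subgroup G → Prop} (D : Data B P n H U m Adm)

include D

theorem adm_B {T : Subgroup G} (h : Adm T) : T ≤ B := (D.adm_le T h).trans D.U_le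

theorem adm_St {T : Subgroup G} (h : Adm T) (f : List I) : Adm (St B n T f) := by
  induction f generalizing T with
  | nil => exact h
  | cons i f ih => exact ih (D.adm_stp T i h)

theorem conj_nw (f : List I) : ∀ h ∈ H, nw n f * h * (nw n f)⁻¹ ∈ H := by
  induction f with
  | nil => intro h hh; simpa using hh
  | cons i f ih =>
    intro h hh
    have := D.conj i _ (ih h hh)
    have e : nw n (i :: f) * h * (nw n (i :: f))⁻¹ = n i * (nw n f * h * (nw n f)⁻¹) * (n i)⁻¹ := by
      rw [nw_cons]; group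
    rw [e]; exact this

theorem conj_nw' (f : List I) : ∀ h ∈ H, (nw n f)⁻¹ * h * nw n f ∈ H := by
  induction f with
  | nil => intro h hh; simpa using hh
  | cons i f ih =>
    intro h hh
    have := ih _ (D.conj' i h hh)
    have e : (nw n (i :: f))⁻¹ * h * nw n (i :: f) = (nw n f)⁻¹ * ((n i)⁻¹ * h * n i) * nw n f := by
      rw [nw_cons]; group
    rw [e]; exact this

/-- conjugation of `T` by an element of `H` -/
theorem stp_cnj {T : Subgroup G} {h : G} (hh : h ∈ H) (i : I) :
    ∃ h' ∈ H, stp B (n i) (cnj h T) = cnj h' (stp B (n i) T) := by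
  refine ⟨(n i)⁻¹ * h * n i, D.conj' i h hh, ?_⟩
  have hB : (n i)⁻¹ * h * n i ∈ B := D.H_le (D.conj' i h hh)
  ext x
  simp only [mem_stp, mem_cnj]
  have e1 : h * (n i * x * (n i)⁻¹) * h⁻¹ =
      n i * ((n i)⁻¹ * h * n i * x * ((n i)⁻¹ * h * n i)⁻¹) * (n i)⁻¹ := by group
  rw [e1]
  refine ⟨fun hx => ⟨hx.1, mul_mem (mul_mem hB hx.2) (inv_mem hB)⟩, fun hx => ⟨hx.1, ?_⟩⟩
  have := mul_mem (mul_mem (inv_mem hB) hx.2) hB
  have e2 : ((n i)⁻¹ * h * n i)⁻¹ * ((n i)⁻¹ * h * n i * x * ((n i)⁻¹ * h * n i)⁻¹) * ((n i)⁻¹ * h * n i) = x := by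
    group
  rwa [e2] at this

theorem pan_cnj {T : Subgroup G} {h : G} (hh : h ∈ H) {i : I} (hp : Pan B P n T i) :
    Pan B P n (cnj h T) i := by
  intro x hx hxB
  have hB : h ∈ B := D.H_le hh
  obtain ⟨t, ht, htx⟩ := hp (h * x) (mul_mem (D.le i hB) hx) (fun h1 => hxB (by
    have := mul_mem (inv_mem hB) h1
    rwa [← mul_assoc, inv_mul_cancel, one_mul] at this))
  refine ⟨h⁻¹ * t * h, ?_, ?_⟩
  · rw [mem_cnj]
    have e : h * (h⁻¹ * t * h) * h⁻¹ = t := by group
    rwa [e]
  · have e : (h⁻¹ * t * h * n i)⁻¹ * x = ((n i)⁻¹ * h * n i)⁻¹ * ((t * n i)⁻¹ * (h * x)) := by group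
    rw [e]
    exact mul_mem (inv_mem (D.H_le (D.conj' i h hh))) htx

theorem tr_cnj {T : Subgroup G} {h : G} (hh : h ∈ H) {f : List I} (hf : Tr B P n T f) :
    Tr B P n (cnj h T) f := by
  induction f generalizing T h with
  | nil => trivial
  | cons i f ih =>
    obtain ⟨h', hh', e⟩ := D.stp_cnj (T := T) hh i
    refine ⟨D.pan_cnj hh hf.1, ?_⟩
    rw [e]
    exact ih hh' hf.2

theorem st_cnj {T : Subgroup G} {h : G} (hh : h ∈ H) (f : List I) :
    ∃ h' ∈ H, St B n (cnj h T) f = cnj h' (St B n T f) := by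
  induction f generalizing T h with
  | nil => exact ⟨h, hh, rfl⟩
  | cons i f ih =>
    obtain ⟨h', hh', e⟩ := D.stp_cnj (T := T) hh i
    obtain ⟨h'', hh'', e'⟩ := ih (T := stp B (n i) T) hh'
    refine ⟨h'', hh'', ?_⟩
    show St B n (stp B (n i) (cnj h T)) f = _
    rw [e, e']
    rfl

omit D in
/-- membership in the stabiliser of the standard gallery of type `alt a b k` -/
theorem mem_St_alt {T : Subgroup G} (k : ℕ) (a b : I) {x : G} :
    x ∈ St B n T (alt a b k) → nw n (alt a b k) * x * (nw n (alt a b k))⁻¹ ∈ T := by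
  induction k generalizing a b T x with
  | zero => intro h; simpa [St] using h
  | succ k ih =>
    intro h
    have h1 : x ∈ St B n (stp B (n a) T) (alt b a k) := h
    have h2 := (ih b a h1).1
    have e : nw n (alt a b (k + 1)) * x * (nw n (alt a b (k + 1)))⁻¹ =
        n a * (nw n (alt b a k) * x * (nw n (alt b a k))⁻¹) * (n a)⁻¹ := by
      rw [alt_cons, nw_cons]; group
    rw [e]; exact h2

omit D in
theorem mem_St_of {T : Subgroup G} (k : ℕ) (a b : I) {x : G}
    (h : nw n (alt a b k) * x * (nw n (alt a b k))⁻¹ ∈ T)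
    (h' : ∀ l, 1 ≤ l → l ≤ k → (nw n (alt a b l))⁻¹ * (nw n (alt a b k) * x * (nw n (alt a b k))⁻¹) *
      nw n (alt a b l) ∈ B) : x ∈ St B n T (alt a b k) := by
  induction k generalizing a b T x with
  | zero => simpa [St] using h
  | succ k ih =>
    show x ∈ St B n (stp B (n a) T) (alt b a k)
    have e : ∀ l, (nw n (alt a b (l + 1)))⁻¹ * (nw n (alt a b (k + 1)) * x * (nw n (alt a b (k + 1)))⁻¹) *
        nw n (alt a b (l + 1)) = (nw n (alt b a l))⁻¹ * (nw n (alt b a k) * x * (nw n (alt b a k))⁻¹) *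
        nw n (alt b a l) := by
      intro l
      rw [alt_cons, alt_cons, nw_cons, nw_cons]; group
    apply ih
    · refine ⟨?_, ?_⟩
      · show n a * (nw n (alt b a k) * x * (nw n (alt b a k))⁻¹) * (n a)⁻¹ ∈ T
        have e2 : n a * (nw n (alt b a k) * x * (nw n (alt b a k))⁻¹) * (n a)⁻¹ =
            nw n (alt a b (k + 1)) * x * (nw n (alt a b (k + 1)))⁻¹ := by
          rw [alt_cons, nw_cons]; group
        rw [e2]; exact h
      · have := h' 1 le_rfl (by omega)
        rw [e 0] at this
        simpa using this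
    · intro l hl hlk
      have := h' (l + 1) (by omega) (by omega)
      rwa [e l] at this

/-- the braid move for the stabilisers -/
theorem st_braid {T : Subgroup G} (hT : Adm T) {i j : I} (hij : i ≠ j) :
    ∃ h ∈ H, St B n T (alt j i (m i j)) = cnj h (St B n T (alt i j (m i j))) := by
  have key : ∀ a b : I, a ≠ b → ∀ x, x ∈ St B n T (alt a b (m a b)) ↔
      x ∈ stp B (nw n (alt a b (m a b))) T := by
    intro a b hab x
    constructor
    · intro hx
      exact ⟨mem_St_alt _ a b hx, D.adm_B (D.adm_St hT _) hx⟩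
    · rintro ⟨h1, h2⟩
      have h1' : nw n (alt a b (m a b)) * x * (nw n (alt a b (m a b)))⁻¹ ∈ T := h1
      apply mem_St_of _ a b h1'
      intro l _ hl
      apply D.unq a b hab _ (D.adm_B hT h1') _ l hl
      have e : (nw n (alt a b (m a b)))⁻¹ * (nw n (alt a b (m a b)) * x * (nw n (alt a b (m a b)))⁻¹) *
        nw n (alt a b (m a b)) = x := by group
      rw [e]; exact h2
  refine ⟨(nw n (alt i j (m i j)))⁻¹ * nw n (alt j i (m i j)), D.braid i j hij, ?_⟩
  have hh := D.H_le (D.braid i j hij)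
  ext x
  rw [mem_cnj, key i j hij, D.m_symm i j, key j i hij.symm, D.m_symm j i]
  simp only [mem_stp]
  set g := nw n (alt i j (m i j))
  set g' := nw n (alt j i (m i j))
  have e1 : g * (g⁻¹ * g' * x * (g⁻¹ * g')⁻¹) * g⁻¹ = g' * x * g'⁻¹ := by group
  rw [e1]
  refine ⟨fun h => ⟨h.1, mul_mem (mul_mem hh h.2) (inv_mem hh)⟩, fun h => ⟨h.1, ?_⟩⟩
  have := mul_mem (mul_mem (inv_mem hh) h.2) hh
  have e2 : (g⁻¹ * g')⁻¹ * (g⁻¹ * g' * x * (g⁻¹ * g')⁻¹) * (g⁻¹ * g') = x := by group
  rwa [e2] at this

/-- the braid move for transitivity -/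
theorem tr_braid {T : Subgroup G} (hT : Adm T) {i j : I} (hij : i ≠ j)
    (h : Tr B P n T (alt i j (m i j))) : Tr B P n T (alt j i (m i j)) := by
  have hTB := D.adm_B hT
  have hU : Tr B P n U (alt j i (m i j)) := by
    have := D.g1 j i hij.symm U D.adm_U (D.pan j) (D.pan i)
    rwa [D.m_symm j i] at this
  rw [tr_iff D.le D.n_mem D.n_not U D.U_le] at hU
  rw [tr_iff D.le D.n_mem D.n_not T hTB] at h ⊢
  intro l hl
  obtain ⟨u, hu, hA⟩ := hU l hl
  -- the standard gallery of type `alt i j`, moved by `u`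
  have hm : 2 ≤ m i j := D.m_two i j hij
  obtain ⟨k, hk⟩ : ∃ k, m i j = k + 1 := ⟨m i j - 1, by omega⟩
  have hg : GalE B P (alt i j (m i j)) (u * n i :: (alt j i k).map n) := by
    rw [hk]
    exact galE_mul D.le (D.U_le hu) (galE_std D.n_mem D.n_not (alt i j (k + 1)))
  obtain ⟨t, ht, hA2⟩ := h _ hg
  have h3 := Ag_end hg hA2
  have e3 : (1 : G) * (u * n i :: (alt j i k).map n).prod = u * nw n (alt i j (m i j)) := by
    rw [one_mul, List.prod_cons, prod_map, hk, alt_cons, nw_cons, mul_assoc]
  rw [e3] at h3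
  have hy : t⁻¹ * u ∈ B := mul_mem (inv_mem (hTB ht)) (D.U_le hu)
  have hh := D.H_le (D.braid i j hij)
  have h4 : (nw n (alt j i (m j i)))⁻¹ * (t⁻¹ * u) * nw n (alt j i (m j i)) ∈ B := by
    rw [D.m_symm j i]
    have := mul_mem (mul_mem (inv_mem hh) h3) hh
    have e : ((nw n (alt i j (m i j)))⁻¹ * nw n (alt j i (m i j)))⁻¹ *
        ((t * nw n (alt i j (m i j)))⁻¹ * (u * nw n (alt i j (m i j)))) *
        ((nw n (alt i j (m i j)))⁻¹ * nw n (alt j i (m i j))) =
        (nw n (alt j i (m i j)))⁻¹ * (t⁻¹ * u) * nw n (alt j i (m i j)) := by group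
    rwa [e] at this
  have h5 := D.unq j i hij.symm _ hy h4
  refine ⟨t, ht, ?_⟩
  -- transfer the agreement from `u` to `t`
  have gen : ∀ (k : ℕ) (a b : I) (l : List G) (u t s : G), Ag B n u s (alt a b k) l →
      (∀ q ≤ k, (nw n (alt a b q))⁻¹ * (t⁻¹ * u) * nw n (alt a b q) ∈ B) → Ag B n t s (alt a b k) l := by
    intro k
    induction k with
    | zero =>
      intro a b l u t s h1 h2
      have h3 : u⁻¹ * s ∈ B := h1
      have h4 := h2 0 le_rfl
      show t⁻¹ * s ∈ B
      have e : t⁻¹ * s = ((nw n (alt a b 0))⁻¹ * (t⁻¹ * u) * nw n (alt a b 0)) * (u⁻¹ * s) := by simp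
      rw [e]; exact mul_mem h4 h3
    | succ k ih =>
      intro a b l u t s h1 h2
      cases l with
      | nil => exact h1.elim
      | cons x l =>
        obtain ⟨h3, h4⟩ := h1
        refine ⟨?_, ?_⟩
        · have h4 := h2 0 (by omega)
          have e : t⁻¹ * s = ((nw n (alt a b 0))⁻¹ * (t⁻¹ * u) * nw n (alt a b 0)) * (u⁻¹ * s) := by simp
          rw [e]; exact mul_mem h4 h3
        · apply ih b a l (u * n a) (t * n a) (s * x) h4
          intro q hq
          have := h2 (q + 1) (by omega)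
          rw [alt_cons, nw_cons] at this
          have e : (nw n (alt b a q))⁻¹ * ((t * n a)⁻¹ * (u * n a)) * nw n (alt b a q) =
              (n a * nw n (alt b a q))⁻¹ * (t⁻¹ * u) * (n a * nw n (alt b a q)) := by group
          rw [e]; exact this
  apply gen _ _ _ _ _ _ _ hA
  intro q hq
  exact h5 q (by rwa [D.m_symm j i])

end Data

/-- braid equivalence of words -/
inductive Br (m : I → I → ℕ) : List I → List I → Prop
  | refl (f : List I) : Br m f f
  | move (u v : List I) (i j : I) (g : List I) : i ≠ j → Br m g (u ++ alt i j (m i j) ++ v) →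
      Br m g (u ++ alt j i (m i j) ++ v)

namespace Br

variable {m : I → I → ℕ}

theorem length {f g : List I} (h : Br m f g) : g.length = f.length := by
  induction h with
  | refl f => rfl
  | move u v i j g hij _ ih =>
    rw [← ih]
    have : ∀ (k : ℕ) (a b : I), (alt a b k).length = k := by
      intro k
      induction k with
      | zero => intro a b; rfl
      | succ k ih => intro a b; rw [alt_cons, List.length_cons, ih]
    simp only [List.length_append, this]

theorem trans {f g k : List I} (h1 : Br m f g) (h2 : Br m g k) : Br m f k := by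
  induction h2 with
  | refl f => exact h1
  | move u v i j g hij _ ih => exact Br.move u v i j _ hij (ih h1)

theorem append_right {f g : List I} (h : Br m f g) (w : List I) : Br m (f ++ w) (g ++ w) := by
  induction h with
  | refl f => exact Br.refl _
  | move u v i j g hij _ ih =>
    have := Br.move u (v ++ w) i j (g ++ w) hij (by simpa [List.append_assoc] using ih)
    simpa [List.append_assoc] using this

theorem symm (hm : ∀ i j, m i j = m j i) {f g : List I} (h : Br m f g) : Br m g f := by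
  induction h with
  | refl f => exact Br.refl _
  | move u v i j g hij _ ih =>
    have h1 : Br m (u ++ alt j i (m i j) ++ v) (u ++ alt i j (m i j) ++ v) := by
      have := Br.move (m := m) u v j i (u ++ alt j i (m i j) ++ v) hij.symm
        (by rw [hm j i]; exact Br.refl _)
      rwa [hm j i] at this
    exact h1.trans ih

end Br

namespace Data

variable {B : Subgroup G} {P : I → Subgroup G} {n : I → G} {H U : Subgroup G} {m : I → I → ℕ}
  {Adm : Subgroup G → Prop} (D : Data B P n H U m Adm)

include D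

theorem tr_br {T : Subgroup G} (hT : Adm T) {f g : List I} (h : Br m f g) (hf : Tr B P n T f) :
    Tr B P n T g := by
  induction h with
  | refl f => exact hf
  | move u v i j g hij _ ih =>
    have h1 := ih hf
    rw [Tr_append, Tr_append] at h1 ⊢
    obtain ⟨⟨h1, h2⟩, h3⟩ := h1
    refine ⟨⟨h1, D.tr_braid (D.adm_St hT u) hij h2⟩, ?_⟩
    rw [St_append] at h3 ⊢
    obtain ⟨h, hh, e⟩ := D.st_braid (D.adm_St hT u) hij
    rw [e]
    exact D.tr_cnj hh h3

theorem nw_br {f g : List I} (h : Br m f g) : (nw n f)⁻¹ * nw n g ∈ H := by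
  induction h with
  | refl f => simp [one_mem]
  | move u v i j g hij _ ih =>
    have h1 := D.braid i j hij
    have h2 := D.conj_nw' v _ h1
    have e : (nw n g)⁻¹ * nw n (u ++ alt j i (m i j) ++ v) =
        ((nw n g)⁻¹ * nw n (u ++ alt i j (m i j) ++ v)) *
          ((nw n v)⁻¹ * ((nw n (alt i j (m i j)))⁻¹ * nw n (alt j i (m i j))) * nw n v) := by
      simp only [nw_append]; group
    rw [e]
    exact mul_mem ih h2

/-- a word is good if `U` is transitive on the galleries of this type which start in `B` -/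
theorem good_or (f : List I) : Tr B P n U f → ∀ i, Tr B P n U (f ++ [i]) ∨ ∃ g, Br m f (g ++ [i]) := by
  classical
  induction hN : f.length using Nat.strong_induction_on generalizing f with
  | _ N IH =>
  subst hN
  intro hf i
  rcases List.eq_nil_or_concat f with rfl | ⟨f0, j, rfl⟩
  · left
    exact ⟨D.pan i, trivial⟩
  rw [List.concat_eq_append] at *
  rcases eq_or_ne j i with rfl | hji
  · exact Or.inr ⟨f0, Br.refl _⟩
  -- the inner induction
  have inner : ∀ d k : ℕ, ∀ a b : I, ∀ f' : List I, k + d = m i j → 1 ≤ k →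
      ((a = i ∧ b = j) ∨ (a = j ∧ b = i)) → nxt a b k = i → Br m (f0 ++ [j]) (f' ++ alt a b k) →
      Tr B P n U (f0 ++ [j] ++ [i]) ∨ ∃ g, Br m (f0 ++ [j]) (g ++ [i]) := by
    intro d
    induction d with
    | zero =>
      intro k a b f' hk hk1 hab hnx hbr
      right
      obtain ⟨k', rfl⟩ : ∃ k', k = k' + 1 := ⟨k - 1, by omega⟩
      have hab' : a ≠ b := by
        rcases hab with ⟨rfl, rfl⟩ | ⟨rfl, rfl⟩
        · exact hji.symm
        · exact hji
      have hm : m a b = k' + 1 := by
        rcases hab with ⟨rfl, rfl⟩ | ⟨rfl, rfl⟩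
        · omega
        · rw [D.m_symm]; omega
      have h1 := Br.move (m := m) f' [] a b (f0 ++ [j]) hab' (by rw [hm, List.append_nil]; exact hbr)
      rw [hm, List.append_nil, alt_snoc] at h1
      have h2 : nxt b a k' = i := hnx
      rw [h2, ← List.append_assoc] at h1
      exact ⟨_, h1⟩
    | succ d ihd =>
      intro k a b f' hk hk1 hab hnx hbr
      have hab' : a ≠ b := by
        rcases hab with ⟨rfl, rfl⟩ | ⟨rfl, rfl⟩
        · exact hji.symm
        · exact hji
      have hm : m a b = m i j := by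
        rcases hab with ⟨rfl, rfl⟩ | ⟨rfl, rfl⟩
        · rfl
        · rw [D.m_symm]
      have hgood := D.tr_br D.adm_U hbr hf
      have hlen := hbr.length
      -- `f'` is shorter
      have hlt : f'.length < (f0 ++ [j]).length := by
        have : (alt a b k).length = k := by
          have : ∀ (k : ℕ) (a b : I), (alt a b k).length = k := by
            intro k
            induction k with
            | zero => intro a b; rfl
            | succ k ih => intro a b; rw [alt_cons, List.length_cons, ih]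
          exact this k a b
        rw [List.length_append, this] at hlen
        omega
      rw [Tr_append] at hgood
      have hpa : Pan B P n (St B n U f') a := by
        obtain ⟨k', rfl⟩ : ∃ k', k = k' + 1 := ⟨k - 1, by omega⟩
        exact hgood.2.1
      rcases IH f'.length hlt f' rfl hgood.1 b with hb | ⟨g, hg⟩
      · left
        rw [Tr_append] at hb
        have hpb : Pan B P n (St B n U f') b := hb.2.1
        have h1 := D.g1 a b hab' _ (D.adm_St D.adm_U f') hpa hpb
        obtain ⟨v, hv⟩ := alt_prefix a b (k := k + 1) (l := m a b) (by rw [hm]; omega)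
        rw [hv, Tr_append] at h1
        have h2 : Tr B P n U (f' ++ alt a b (k + 1)) := (Tr_append _ _ _).2 ⟨hgood.1, h1.1⟩
        rw [alt_snoc, hnx, ← List.append_assoc] at h2
        exact D.tr_br D.adm_U ((hbr.symm D.m_symm).append_right [i]) h2
      · have hbr' : Br m (f0 ++ [j]) (g ++ alt b a (k + 1)) := by
          refine hbr.trans ?_
          have := hg.append_right (alt a b k)
          rw [List.append_assoc] at this
          exact this
        apply ihd (k + 1) b a g (by omega) (by omega) ?_ ?_ hbr'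
        · rcases hab with ⟨rfl, rfl⟩ | ⟨rfl, rfl⟩
          · exact Or.inr ⟨rfl, rfl⟩
          · exact Or.inl ⟨rfl, rfl⟩
        · exact hnx
  have hm2 := D.m_two i j hji.symm
  exact inner (m i j - 1) 1 j i f0 (by omega) le_rfl (Or.inr ⟨rfl, rfl⟩) rfl (Br.refl _)

end Data

end Cfsg.Agent.ParSys
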