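import Mathlib
import Cfsg.Agent.ParSys.Good
import Cfsg.Agent.LieExceptional.CoxeterExchange
import Cfsg.Agent.Tits.Generic
import Cfsg.Agent.Tits.OppRes

/-!
# Matsumoto's theorem as a statement on braid moves

Two reduced words of a finite Coxeter group with the same product are braid equivalent (`ParSys.Br`).
-/

set_option autoImplicit false

namespace Cfsg.Agent.ParSys

variable {I : Type*} {m : I → I → ℕ}

namespace Br

theorem append_left {f g : List I} (h : Br m f g) (w : List I) : Br m (w ++ f) (w ++ g) := by
  induction h with
  | refl f => exact Br.refl _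
  | move u v i j g hij _ ih =>
    have := Br.move (m := m) (w ++ u) v i j (w ++ g) hij (by simpa [List.append_assoc] using ih)
    simpa [List.append_assoc] using this

theorem append {f f' g g' : List I} (h : Br m f f') (h' : Br m g g') : Br m (f ++ g) (f' ++ g') :=
  (h.append_right g).trans (h'.append_left f')

end Br

namespace Free

/-- the braid relations -/
inductive BrRel (m : I → I → ℕ) : FreeMonoid I → FreeMonoid I → Prop
  | mk (i j : I) (h : i ≠ j) :
      BrRel m (FreeMonoid.ofList (alt i j (m i j))) (FreeMonoid.ofList (alt j i (m i j)))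

theorem br_of_conGen (hm : ∀ i j, m i j = m j i) {f g : FreeMonoid I} (h : ConGen.Rel (BrRel m) f g) :
    Br m f.toList g.toList := by
  induction h with
  | of x y h =>
    obtain ⟨i, j, hij⟩ := h
    have := Br.move (m := m) [] [] i j (alt i j (m i j)) hij (by simpa using Br.refl _)
    simpa using this
  | refl x => exact Br.refl _
  | symm _ ih => exact ih.symm hm
  | trans _ _ ih1 ih2 => exact ih1.trans ih2
  | mul _ _ ih1 ih2 =>
    rw [FreeMonoid.toList_mul, FreeMonoid.toList_mul]
    exact ih1.append ih2

theorem alt_eq (i j : I) (k : ℕ) : LieExceptional.CoxeterExchange.alt i j k = alt i j k := by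
  induction k generalizing i j with
  | zero => rfl
  | succ k ih => rw [LieExceptional.CoxeterExchange.alt_succ, ih, alt_cons]

variable {M : CoxeterMatrix I} {W : Type*} [Group W] (cs : CoxeterSystem M W)

theorem isRed_iff (ω : List I) : LieExceptional.CoxeterExchange.IsRed cs.simple ω ↔ cs.IsReduced ω := by
  constructor
  · intro h
    obtain ⟨ω', hω', he⟩ := cs.exists_isReduced (cs.wordProd ω)
    have h1 := h ω' he.symm
    have h2 : cs.length (cs.wordProd ω) = ω'.length := by rw [he]; exact hω'
    have h3 := cs.length_wordProd_le ω
    show cs.length (cs.wordProd ω) = ω.length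
    omega
  · intro h ω' hω'
    have h1 : cs.wordProd ω' = cs.wordProd ω := hω'
    have h2 := cs.length_wordProd_le ω'
    rw [h1, h.eq] at h2
    exact h2

theorem exchange : LieExceptional.CoxeterExchange.Exchange cs.simple := by
  intro b ω h1 h2
  rw [isRed_iff] at h1 h2
  have h3 : cs.length (cs.simple b * cs.wordProd ω) < cs.length (cs.wordProd ω) := by
    rcases cs.length_simple_mul (cs.wordProd ω) b with h | h
    · exfalso
      apply h2
      show cs.length (cs.wordProd (b :: ω)) = (b :: ω).length
      rw [cs.wordProd_cons, h, h1.eq, List.length_cons]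
    · omega
  obtain ⟨j, hj, he⟩ := Tits.Exchange.exchange_left cs h3
  refine ⟨ω.take j, ω[j], ω.drop (j + 1), ?_, ?_⟩
  · rw [← List.drop_eq_getElem_cons hj, List.take_append_drop]
  · have e1 : cs.wordProd ω = cs.wordProd (ω.take j) * (cs.simple ω[j] * cs.wordProd (ω.drop (j + 1))) := by
      rw [← cs.wordProd_cons, ← List.drop_eq_getElem_cons hj, ← cs.wordProd_append, List.take_append_drop]
    have e2 : cs.wordProd (ω.eraseIdx j) = cs.wordProd (ω.take j) * cs.wordProd (ω.drop (j + 1)) := by
      rw [List.eraseIdx_eq_take_drop_succ, cs.wordProd_append]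
    rw [e1, e2] at he
    show cs.simple b * cs.wordProd (ω.take j) = cs.wordProd (ω.take j) * cs.simple ω[j]
    have h4 : cs.simple b * cs.wordProd (ω.take j) * cs.simple ω[j] = cs.wordProd (ω.take j) := by
      apply mul_right_cancel (b := cs.wordProd (ω.drop (j + 1)))
      rw [← he]; group
    calc cs.simple b * cs.wordProd (ω.take j)
        = cs.simple b * cs.wordProd (ω.take j) * (cs.simple ω[j] * cs.simple ω[j]) := by
          rw [cs.simple_mul_simple_self, mul_one]
      _ = cs.wordProd (ω.take j) * cs.simple ω[j] := by rw [← mul_assoc, h4]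

/-- **Matsumoto's theorem**: reduced words with the same product are braid equivalent. -/
theorem br_of_reduced [Finite I] [Finite W] {f g : List I} (hf : cs.IsReduced f) (hg : cs.IsReduced g)
    (h : cs.wordProd f = cs.wordProd g) : Br (fun i j => M i j) f g := by
  have hlen : f.length = g.length := by rw [← hf.eq, h, hg.eq]
  have hm : ∀ i j, M i j = M j i := fun i j => M.symmetric i j
  let c : Con (FreeMonoid I) := conGen (BrRel fun i j => M i j)
  have key := LieExceptional.CoxeterExchange.matsumoto (σ := cs.simple) cs.simple_mul_simple_self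
    (Tits.OppRes.Cox.inj (cs := cs)) (exchange cs) (H := c.Quotient)
    (fun i => ((FreeMonoid.of i : FreeMonoid I) : c.Quotient)) ?_ f.length f g rfl hlen.symm
    ((isRed_iff cs f).2 hf) h
  · have e : ∀ l : List I, (l.map fun i => ((FreeMonoid.of i : FreeMonoid I) : c.Quotient)).prod =
        ((FreeMonoid.ofList l : FreeMonoid I) : c.Quotient) := by
      intro l
      induction l with
      | nil => rfl
      | cons i l ih => rw [List.map_cons, List.prod_cons, ih]; rfl
    rw [e, e, Con.eq] at key
    exact br_of_conGen hm key
  · intro x y hxy _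
    have e : ∀ l : List I, (l.map fun i => ((FreeMonoid.of i : FreeMonoid I) : c.Quotient)).prod =
        ((FreeMonoid.ofList l : FreeMonoid I) : c.Quotient) := by
      intro l
      induction l with
      | nil => rfl
      | cons i l ih => rw [List.map_cons, List.prod_cons, ih]; rfl
    rw [e, e, Con.eq, alt_eq, alt_eq, Tits.Generic.orderOf_eq cs x y]
    exact ConGen.Rel.of _ _ (BrRel.mk (m := fun i j => M i j) x y hxy)

end Free

end Cfsg.Agent.ParSys
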