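import Cfsg.Agent.ParSys.AptBN

/-!
# Bruhat decomposition for free (helper703, bb 10931 (0)), and the (B,N)-pair

Input: a Coxeter system, for each `w` ONE double coset `D w` of `B`, such that `D w (P i \ B) ⊆ D (w s_i)` if
`l(w s_i) > l(w)`; the `P i` generate; every panel has at least three chambers.
Output: the `D w` are a Bruhat decomposition, `G ⧸ B` is a building; if `W` is finite: a (B,N)-pair, of type `M`.
-/

set_option autoImplicit false

namespace Cfsg.Agent.ParSys.Bruhat

open Cfsg.Agent.Tits.Core Cfsg.Agent.Tits.Core.Bldg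

variable {I : Type*} {M : CoxeterMatrix I} {W : Type*} [Group W] {G : Type*} [Group G]

/-- For each `w` one double coset `D w`, increasing with the length. -/
structure Cosets (cs : CoxeterSystem M W) (B : Subgroup G) (P : I → Subgroup G) (D : W → Set G) : Prop where
  single : ∀ w, ∃ x, D w = DoubleCoset.doubleCoset x (B : Set G) B
  one : 1 ∈ D 1
  le : ∀ i, B ≤ P i
  up : ∀ w i, cs.length w < cs.length (w * cs.simple i) → ∀ x ∈ D w, ∀ p ∈ P i, p ∉ B →
    x * p ∈ D (w * cs.simple i)
  gen : ⨆ i, P i = ⊤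
  three : ∀ i, ∃ x ∈ P i, ∃ y ∈ P i, x ∉ B ∧ y ∉ B ∧ x⁻¹ * y ∉ B

namespace Cosets

variable {cs : CoxeterSystem M W} {B : Subgroup G} {P : I → Subgroup G} {D : W → Set G}
  (h : Cosets cs B P D)

include h

theorem nonempty (w : W) : (D w).Nonempty := by
  obtain ⟨x, hx⟩ := h.single w
  exact ⟨x, by rw [hx, DoubleCoset.mem_doubleCoset]; exact ⟨1, one_mem _, 1, one_mem _, by simp⟩⟩

theorem exists_of_mem {w : W} {x y : G} (hx : x ∈ D w) (hy : y ∈ D w) :
    ∃ a ∈ B, ∃ b ∈ B, y = a * x * b := by
  obtain ⟨z, hz⟩ := h.single w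
  rw [hz, DoubleCoset.mem_doubleCoset] at hx hy
  obtain ⟨a, ha, b, hb, rfl⟩ := hx
  obtain ⟨a', ha', b', hb', rfl⟩ := hy
  exact ⟨a' * a⁻¹, mul_mem ha' (inv_mem ha), b⁻¹ * b', mul_mem (inv_mem hb) hb', by group⟩

theorem mul_mem' {w : W} {x a b : G} (hx : x ∈ D w) (ha : a ∈ B) (hb : b ∈ B) : a * x * b ∈ D w := by
  obtain ⟨z, hz⟩ := h.single w
  rw [hz, DoubleCoset.mem_doubleCoset] at hx ⊢
  obtain ⟨a', ha', b', hb', rfl⟩ := hx
  exact ⟨a * a', mul_mem ha ha', b' * b, mul_mem hb' hb, by group⟩

theorem mul_right {w : W} {x b : G} (hx : x ∈ D w) (hb : b ∈ B) : x * b ∈ D w := by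
  have := h.mul_mem' hx (one_mem B) hb
  rwa [one_mul] at this

theorem mul_left {w : W} {x b : G} (hx : x ∈ D w) (hb : b ∈ B) : b * x ∈ D w := by
  have := h.mul_mem' hx hb (one_mem B)
  rwa [mul_one] at this

theorem eq_of_mem {v w : W} {x : G} (h1 : x ∈ D v) (h2 : x ∈ D w) : D v = D w := by
  ext y
  constructor
  · intro hy
    obtain ⟨a, ha, b, hb, rfl⟩ := h.exists_of_mem h1 hy
    exact h.mul_mem' h2 ha hb
  · intro hy
    obtain ⟨a, ha, b, hb, rfl⟩ := h.exists_of_mem h2 hy
    exact h.mul_mem' h1 ha hb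

theorem D_one : D 1 = (B : Set G) := by
  ext y
  constructor
  · intro hy
    obtain ⟨a, ha, b, hb, rfl⟩ := h.exists_of_mem h.one hy
    exact mul_mem (mul_mem ha (one_mem B)) hb
  · intro hy
    have := h.mul_right h.one hy
    rwa [one_mul] at this

theorem not_mem_simple {i : I} {p : G} (hp : p ∈ D (cs.simple i)) : p ∈ P i ∧ p ∉ B := by
  obtain ⟨x, hx, -, -, hxB, -⟩ := h.three i
  have h1 := h.up 1 i (by rw [one_mul, cs.length_one, cs.length_simple]; omega) 1 h.one x hx hxB
  rw [one_mul, one_mul] at h1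
  obtain ⟨a, ha, b, hb, rfl⟩ := h.exists_of_mem h1 hp
  refine ⟨mul_mem (mul_mem (h.le i ha) hx) (h.le i hb), fun h2 => hxB ?_⟩
  have e : x = a⁻¹ * (a * x * b) * b⁻¹ := by group
  rw [e]; exact mul_mem (mul_mem (inv_mem ha) h2) (inv_mem hb)

theorem mem_simple_iff {i : I} {p : G} : p ∈ D (cs.simple i) ↔ p ∈ P i ∧ p ∉ B := by
  refine ⟨h.not_mem_simple, fun ⟨h1, h2⟩ => ?_⟩
  have := h.up 1 i (by rw [one_mul, cs.length_one, cs.length_simple]; omega) 1 h.one p h1 h2
  rwa [one_mul, one_mul] at this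

/-- splitting off the last step -/
theorem split {w : W} {i : I} (hl : cs.length w < cs.length (w * cs.simple i)) {x : G}
    (hx : x ∈ D (w * cs.simple i)) : ∃ y ∈ D w, ∃ p ∈ P i, p ∉ B ∧ x = y * p := by
  obtain ⟨y, hy⟩ := h.nonempty w
  obtain ⟨p, hp, -, -, hpB, -⟩ := h.three i
  obtain ⟨a, ha, b, hb, rfl⟩ := h.exists_of_mem (h.up w i hl y hy p hp hpB) hx
  refine ⟨a * y, h.mul_left hy ha, p * b, mul_mem hp (h.le i hb), fun h1 => hpB ?_, by group⟩
  have e : p = p * b * b⁻¹ := by group
  rw [e]; exact mul_mem h1 (inv_mem hb)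

theorem up_left {i : I} (n : ℕ) : ∀ w, cs.length w = n → cs.length w < cs.length (cs.simple i * w) →
    ∀ x ∈ D w, ∀ p ∈ P i, p ∉ B → p * x ∈ D (cs.simple i * w) := by
  induction n with
  | zero =>
    intro w hw _ x hx p hp hpB
    rw [cs.length_eq_zero_iff] at hw
    subst hw
    rw [mul_one, h.mem_simple_iff]
    have hx' : x ∈ B := by
      have : x ∈ (B : Set G) := by rw [← h.D_one]; exact hx
      exact this
    refine ⟨mul_mem hp (h.le i hx'), fun h1 => hpB ?_⟩
    have e : p = p * x * x⁻¹ := by group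
    rw [e]; exact mul_mem h1 (inv_mem hx')
  | succ n ih =>
    intro w hw hl x hx p hp hpB
    have hne : w ≠ 1 := fun h1 => by rw [h1, cs.length_one] at hw; omega
    obtain ⟨j, hj⟩ := cs.exists_rightDescent_of_ne_one hne
    rw [cs.isRightDescent_iff] at hj
    set v := w * cs.simple j with hv
    have e : v * cs.simple j = w := by rw [hv, cs.simple_mul_simple_cancel_right]
    have hx' : x ∈ D (v * cs.simple j) := by rw [e]; exact hx
    obtain ⟨y, hy, q, hq, hqB, rfl⟩ := h.split (by rw [e]; omega) hx'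
    have l1 : cs.length (cs.simple i * w) = n + 2 := by
      rcases cs.length_simple_mul w i with h1 | h1 <;> omega
    have l2 : cs.length (cs.simple i * v) = n + 1 := by
      have := cs.length_simple_mul v i
      have h3 := cs.length_mul_simple (cs.simple i * v) j
      rw [mul_assoc, e] at h3
      omega
    have h1 := ih v (by omega) (by omega) y hy p hp hpB
    have h2 := h.up (cs.simple i * v) j (by rw [mul_assoc, e]; omega) _ h1 q hq hqB
    rw [mul_assoc (cs.simple i), e, mul_assoc p] at h2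
    exact h2

theorem inv_mem' (n : ℕ) : ∀ w, cs.length w = n → ∀ x ∈ D w, x⁻¹ ∈ D w⁻¹ := by
  induction n with
  | zero =>
    intro w hw x hx
    rw [cs.length_eq_zero_iff] at hw
    subst hw
    rw [inv_one, h.D_one]
    have hx' : x ∈ B := by
      have : x ∈ (B : Set G) := by rw [← h.D_one]; exact hx
      exact this
    exact inv_mem hx'
  | succ n ih =>
    intro w hw x hx
    have hne : w ≠ 1 := fun h1 => by rw [h1, cs.length_one] at hw; omega
    obtain ⟨j, hj⟩ := cs.exists_rightDescent_of_ne_one hne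
    rw [cs.isRightDescent_iff] at hj
    set v := w * cs.simple j with hv
    have e : v * cs.simple j = w := by rw [hv, cs.simple_mul_simple_cancel_right]
    have e' : cs.simple j * v⁻¹ = w⁻¹ := by
      have := congrArg (·⁻¹) e
      simpa [mul_inv_rev] using this
    have hx' : x ∈ D (v * cs.simple j) := by rw [e]; exact hx
    obtain ⟨y, hy, q, hq, hqB, rfl⟩ := h.split (by rw [e]; omega) hx'
    rw [mul_inv_rev, ← e']
    exact h.up_left _ _ rfl (by rw [e', cs.length_inv, cs.length_inv]; omega) _ (ih v (by omega) y hy) _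
      (inv_mem hq) (fun h1 => hqB (by simpa using inv_mem h1))

theorem inv_mem_iff {w : W} {x : G} (hx : x ∈ D w) : x⁻¹ ∈ D w⁻¹ := h.inv_mem' _ w rfl x hx

/-- multiplication by an element of `P i` -/
theorem mul_P {w : W} {i : I} {x p : G} (hx : x ∈ D w) (hp : p ∈ P i) :
    x * p ∈ D (w * cs.simple i) ∨ x * p ∈ D w := by
  by_cases hpB : p ∈ B
  · exact Or.inr (h.mul_right hx hpB)
  rcases lt_or_gt_of_ne (cs.length_mul_simple_ne w i) with hl | hl
  · have e : w * cs.simple i * cs.simple i = w := cs.simple_mul_simple_cancel_right i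
    have hx' : x ∈ D (w * cs.simple i * cs.simple i) := by rw [e]; exact hx
    obtain ⟨y, hy, q, hq, hqB, rfl⟩ := h.split (by rw [e]; exact hl) hx'
    by_cases hqp : q * p ∈ B
    · left
      rw [mul_assoc]; exact h.mul_right hy hqp
    · right
      have := h.up _ i (by rw [e]; exact hl) y hy (q * p) (mul_mem hq hp) hqp
      rwa [e, ← mul_assoc] at this
  · exact Or.inl (h.up w i hl x hx p hp hpB)

theorem inj_aux (n : ℕ) : ∀ w w', cs.length w = n → cs.length w ≤ cs.length w' → D w = D w' → w = w' := by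
  induction n using Nat.strong_induction_on with
  | _ n ih =>
    intro w w' hw hl heq
    rcases eq_or_ne w 1 with rfl | hne
    · by_contra hne'
      obtain ⟨i, hi⟩ := cs.exists_leftDescent_of_ne_one (Ne.symm hne')
      rw [cs.isLeftDescent_iff] at hi
      obtain ⟨y, hy⟩ := h.nonempty (cs.simple i * w')
      obtain ⟨a, ha, b, hb, haB, hbB, hab⟩ := h.three i
      have e : cs.simple i * (cs.simple i * w') = w' := cs.simple_mul_simple_cancel_left i
      have key : ∀ p ∈ P i, p ∉ B → p * y ∈ B := by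
        intro p hp hpB
        have h1 := h.up_left (i := i) _ (cs.simple i * w') rfl (by rw [e]; omega) y hy p hp hpB
        rw [e, ← heq, h.D_one] at h1
        exact h1
      have h1 := key a⁻¹ (inv_mem ha) (fun h2 => haB (by simpa using inv_mem h2))
      have h2 := key b⁻¹ (inv_mem hb) (fun h2 => hbB (by simpa using inv_mem h2))
      apply hab
      have e2 : a⁻¹ * b = (a⁻¹ * y) * (b⁻¹ * y)⁻¹ := by group
      rw [e2]; exact mul_mem h1 (inv_mem h2)
    · obtain ⟨i, hi⟩ := cs.exists_rightDescent_of_ne_one hne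
      rw [cs.isRightDescent_iff] at hi
      have e : w * cs.simple i * cs.simple i = w := cs.simple_mul_simple_cancel_right i
      obtain ⟨y, hy⟩ := h.nonempty (w * cs.simple i)
      obtain ⟨a, ha, -, -, haB, -⟩ := h.three i
      have h1 := h.up (w * cs.simple i) i (by rw [e]; omega) y hy a ha haB
      rw [e, heq] at h1
      have l1 := cs.length_mul_simple w' i
      rcases h.mul_P h1 (inv_mem ha) with h2 | h2
      · rw [mul_inv_cancel_right] at h2
        have h3 := ih (cs.length (w * cs.simple i)) (by omega) _ _ rfl (by omega) (h.eq_of_mem hy h2)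
        exact mul_right_cancel h3
      · rw [mul_inv_cancel_right] at h2
        have h3 := ih (cs.length (w * cs.simple i)) (by omega) _ _ rfl (by omega) (h.eq_of_mem hy h2)
        rw [← h3] at hl
        omega

/-- the double cosets are pairwise different -/
theorem inj {v w : W} (e : D v = D w) : v = w := by
  rcases le_total (cs.length v) (cs.length w) with hl | hl
  · exact h.inj_aux _ v w rfl hl e
  · exact (h.inj_aux _ w v rfl hl e.symm).symm

theorem eq_of_mem_mem {v w : W} {x : G} (h1 : x ∈ D v) (h2 : x ∈ D w) : v = w := h.inj (h.eq_of_mem h1 h2)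

theorem exists_mem (g : G) : ∃ w, g ∈ D w := by
  have hg : g ∈ Subgroup.closure (⋃ i, (P i : Set G)) := by
    rw [← Subgroup.iSup_eq_closure, h.gen]; exact Subgroup.mem_top g
  induction hg using Subgroup.closure_induction_right with
  | one => exact ⟨1, h.one⟩
  | mul_right x hx y hy ih =>
    obtain ⟨w, hw⟩ := ih
    obtain ⟨i, hi⟩ := Set.mem_iUnion.1 hy
    rcases h.mul_P hw (show y ∈ P i from hi) with h1 | h1 <;> exact ⟨_, h1⟩
  | mul_inv_cancel x hx y hy ih =>
    obtain ⟨w, hw⟩ := ih
    obtain ⟨i, hi⟩ := Set.mem_iUnion.1 hy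
    rcases h.mul_P hw (inv_mem (show y ∈ P i from hi)) with h1 | h1 <;> exact ⟨_, h1⟩

omit h in
open Classical in
/-- the type of an element -/
noncomputable def wt (D : W → Set G) (g : G) : W := if hg : ∃ w, g ∈ D w then hg.choose else 1

theorem mem_wt (g : G) : g ∈ D (wt D g) := by
  unfold wt
  rw [dif_pos (h.exists_mem g)]
  exact (h.exists_mem g).choose_spec

theorem wt_eq_iff {g : G} {w : W} : wt D g = w ↔ g ∈ D w :=
  ⟨fun e => e ▸ h.mem_wt g, fun hg => h.eq_of_mem_mem (h.mem_wt g) hg⟩

theorem wt_mul {g a b : G} (ha : a ∈ B) (hb : b ∈ B) : wt D (a * g * b) = wt D g :=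
  h.wt_eq_iff.2 (h.mul_mem' (h.mem_wt g) ha hb)

omit h in
/-- the Weyl distance -/
noncomputable def dist (B : Subgroup G) (D : W → Set G) (x y : G ⧸ B) : W := wt D (x.out⁻¹ * y.out)

theorem dist_mk (a b : G) : dist B D (QuotientGroup.mk a) (QuotientGroup.mk b) = wt D (a⁻¹ * b) := by
  obtain ⟨u, hu⟩ := QuotientGroup.mk_out_eq_mul B a
  obtain ⟨v, hv⟩ := QuotientGroup.mk_out_eq_mul B b
  unfold dist
  rw [hu, hv, mul_inv_rev]
  have h1 : (u : G)⁻¹ * a⁻¹ * (b * v) = (u : G)⁻¹ * (a⁻¹ * b) * v := by group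
  rw [h1, h.wt_mul (inv_mem u.2) v.2]

theorem dist_mk_eq_iff {a b : G} {w : W} :
    dist B D (QuotientGroup.mk a) (QuotientGroup.mk b) = w ↔ a⁻¹ * b ∈ D w := by
  rw [h.dist_mk, h.wt_eq_iff]

/-- the building -/
noncomputable def bldg : Bldg cs (G ⧸ B) where
  δ := dist B D
  eq_one := by
    intro x y
    induction x using QuotientGroup.induction_on with | _ a =>
    induction y using QuotientGroup.induction_on with | _ b =>
    rw [h.dist_mk_eq_iff, h.D_one, QuotientGroup.eq]
    rfl
  symm := by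
    intro x y
    induction x using QuotientGroup.induction_on with | _ a =>
    induction y using QuotientGroup.induction_on with | _ b =>
    rw [h.dist_mk_eq_iff, h.dist_mk]
    have := h.inv_mem_iff (h.mem_wt (a⁻¹ * b))
    rwa [mul_inv_rev, inv_inv] at this
  step := by
    intro x y z i hyz
    induction x using QuotientGroup.induction_on with | _ a =>
    induction y using QuotientGroup.induction_on with | _ b =>
    induction z using QuotientGroup.induction_on with | _ c =>
    rw [h.dist_mk_eq_iff] at hyz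
    rw [h.dist_mk_eq_iff, h.dist_mk_eq_iff, h.dist_mk]
    have := h.mul_P (h.mem_wt (a⁻¹ * b)) (h.mem_simple_iff.1 hyz).1
    have e : a⁻¹ * b * (b⁻¹ * c) = a⁻¹ * c := by group
    rwa [e] at this
  step_lt := by
    intro x y z i hyz hl
    induction x using QuotientGroup.induction_on with | _ a =>
    induction y using QuotientGroup.induction_on with | _ b =>
    induction z using QuotientGroup.induction_on with | _ c =>
    rw [h.dist_mk_eq_iff, h.mem_simple_iff] at hyz
    rw [h.dist_mk] at hl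
    rw [h.dist_mk_eq_iff, h.dist_mk]
    have := h.up _ i hl _ (h.mem_wt (a⁻¹ * b)) _ hyz.1 hyz.2
    have e : a⁻¹ * b * (b⁻¹ * c) = a⁻¹ * c := by group
    rwa [e] at this
  exists_step := by
    intro x y i
    induction x using QuotientGroup.induction_on with | _ a =>
    induction y using QuotientGroup.induction_on with | _ b =>
    rw [h.dist_mk]
    set w := wt D (a⁻¹ * b) with hw
    have hm := h.mem_wt (a⁻¹ * b)
    rw [← hw] at hm
    rcases lt_or_gt_of_ne (cs.length_mul_simple_ne w i) with hl | hl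
    · have e : w * cs.simple i * cs.simple i = w := cs.simple_mul_simple_cancel_right i
      have hx' : a⁻¹ * b ∈ D (w * cs.simple i * cs.simple i) := by rw [e]; exact hm
      obtain ⟨y, hy, q, hq, hqB, e2⟩ := h.split (by rw [e]; exact hl) hx'
      refine ⟨QuotientGroup.mk (a * y), ?_, ?_⟩
      · rw [h.dist_mk_eq_iff, h.mem_simple_iff]
        have e3 : b⁻¹ * (a * y) = q⁻¹ := by
          have : b = a * (y * q) := by rw [← e2]; group
          rw [this]; group
        rw [e3]
        exact ⟨inv_mem hq, fun h1 => hqB (by simpa using inv_mem h1)⟩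
      · rw [h.dist_mk_eq_iff, inv_mul_cancel_left]; exact hy
    · obtain ⟨p, hp, -, -, hpB, -⟩ := h.three i
      refine ⟨QuotientGroup.mk (b * p), ?_, ?_⟩
      · rw [h.dist_mk_eq_iff, inv_mul_cancel_left, h.mem_simple_iff]
        exact ⟨hp, hpB⟩
      · rw [h.dist_mk_eq_iff, ← mul_assoc]
        exact h.up w i hl _ hm p hp hpB

theorem bldg_δ (a b : G) (w : W) :
    h.bldg.δ (QuotientGroup.mk a) (QuotientGroup.mk b) = w ↔ a⁻¹ * b ∈ D w := h.dist_mk_eq_iff

theorem act : AptBN.Act h.bldg G where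
  iso := by
    intro g x y
    induction x using QuotientGroup.induction_on with | _ a =>
    induction y using QuotientGroup.induction_on with | _ b =>
    show dist B D (QuotientGroup.mk (g * a)) (QuotientGroup.mk (g * b)) = dist B D _ _
    rw [h.dist_mk, h.dist_mk]
    congr 1; group
  trans := by
    intro x y x' y' e
    induction x using QuotientGroup.induction_on with | _ a =>
    induction y using QuotientGroup.induction_on with | _ b =>
    induction x' using QuotientGroup.induction_on with | _ a' =>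
    induction y' using QuotientGroup.induction_on with | _ b' =>
    have e' : dist B D (QuotientGroup.mk a) (QuotientGroup.mk b) =
      dist B D (QuotientGroup.mk a') (QuotientGroup.mk b') := e
    rw [h.dist_mk_eq_iff, h.dist_mk] at e'
    obtain ⟨u, hu, v, hv, e2⟩ := h.exists_of_mem e' (h.mem_wt (a'⁻¹ * b'))
    refine ⟨a' * u * a⁻¹, ?_, ?_⟩
    · show (QuotientGroup.mk (a' * u * a⁻¹ * a) : G ⧸ B) = QuotientGroup.mk a'
      rw [QuotientGroup.eq]
      have : (a' * u * a⁻¹ * a)⁻¹ * a' = u⁻¹ := by group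
      rw [this]; exact inv_mem hu
    · show (QuotientGroup.mk (a' * u * a⁻¹ * b) : G ⧸ B) = QuotientGroup.mk b'
      rw [QuotientGroup.eq]
      have h1 : b' = a' * (u * (a⁻¹ * b) * v) := by rw [← e2]; group
      have : (a' * u * a⁻¹ * b)⁻¹ * b' = v := by rw [h1]; group
      rw [this]; exact hv

theorem thick : h.bldg.Thick := by
  intro x i
  induction x using QuotientGroup.induction_on with | _ a =>
  obtain ⟨p, hp, q, hq, hpB, hqB, hpq⟩ := h.three i
  refine ⟨QuotientGroup.mk (a * p), QuotientGroup.mk (a * q), fun e => hpq ?_, ?_, ?_⟩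
  · rw [QuotientGroup.eq] at e
    have e2 : (a * p)⁻¹ * (a * q) = p⁻¹ * q := by group
    rwa [e2] at e
  · rw [h.bldg_δ, inv_mul_cancel_left, h.mem_simple_iff]; exact ⟨hp, hpB⟩
  · rw [h.bldg_δ, inv_mul_cancel_left, h.mem_simple_iff]; exact ⟨hq, hqB⟩

/-- THE (B,N)-PAIR: no torus needed. -/
theorem exists_bnPair [Finite W] [Finite I] :
    ∃ Q : Cfsg.BNPair G, Q.B = B ∧ Q.rank = Nat.card I ∧
      (∃ e : I ≃ Q.S, ∀ i, (e i : G) ∈ P i) ∧
      ((∀ J : Set I, J.Nonempty → Jᶜ.Nonempty → ∃ i ∈ J, ∃ j ∈ Jᶜ, M i j ≠ 2) → Q.Irreducible) := by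
  obtain ⟨d, hd⟩ := h.bldg.exists_δ (QuotientGroup.mk 1 : G ⧸ B) (w0 cs)
  have hcd : h.bldg.Opp (QuotientGroup.mk 1 : G ⧸ B) d := hd
  refine ⟨AptBN.bnPair h.act hcd h.thick, ?_, AptBN.rank_bnPair h.act hcd h.thick,
    ⟨Equiv.ofInjective _ (AptBN.rep_simple_injective h.act hcd), fun i => ?_⟩,
    AptBN.bnPair_irreducible h.act hcd h.thick⟩
  · rw [AptBN.bnPair_B]
    exact MulAction.stabilizer_quotient B
  · have h1 := (AptBN.ind_rep h.act hcd (cs.simple i)).δ_c hcd
    have h2 : h.bldg.δ (QuotientGroup.mk 1 : G ⧸ B)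
      (QuotientGroup.mk (AptBN.rep h.act hcd (cs.simple i) * 1)) = cs.simple i := h1
    rw [h.bldg_δ, inv_one, one_mul, mul_one] at h2
    exact (h.mem_simple_iff.1 h2).1

end Cosets

end Cfsg.Agent.ParSys.Bruhat
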