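import Mathlib
import Cfsg.Agent.ParSys.Core

/-!
# Galleries in chamber systems (THEOREM FREE, bb #11242)

`A i c d` : the chambers `c` and `d` are distinct and `i`-adjacent.  A gallery of type `f` from `c` is given by the list of
its chambers after the first one.  `ed c l = l.getLastD c` is its end.
-/

set_option autoImplicit false

namespace Cfsg.Agent.ParSys.Free

open Cfsg.Agent.ParSys

variable {C I : Type*}

/-- `l` is the list of the chambers after the first of a gallery of type `f` which starts with `c` -/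
def IsGal (A : I → C → C → Prop) : List I → C → List C → Prop
  | [], _, [] => True
  | [], _, _ :: _ => False
  | _ :: _, _, [] => False
  | i :: f, c, d :: l => A i c d ∧ IsGal A f d l

variable {A : I → C → C → Prop}

@[simp] theorem isGal_nil_iff {c : C} {l : List C} : IsGal A [] c l ↔ l = [] := by
  cases l <;> simp [IsGal]

theorem isGal_cons_iff {i : I} {f : List I} {c : C} {l : List C} :
    IsGal A (i :: f) c l ↔ ∃ d l', l = d :: l' ∧ A i c d ∧ IsGal A f d l' := by
  cases l with
  | nil => simp [IsGal]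
  | cons d l => simp [IsGal]

@[simp] theorem isGal_cons_cons {i : I} {f : List I} {c d : C} {l : List C} :
    IsGal A (i :: f) c (d :: l) ↔ A i c d ∧ IsGal A f d l := Iff.rfl

theorem IsGal.length {f : List I} {c : C} {l : List C} (h : IsGal A f c l) : l.length = f.length := by
  induction f generalizing c l with
  | nil => rw [isGal_nil_iff.1 h]; rfl
  | cons i f ih =>
    obtain ⟨d, l', rfl, -, h'⟩ := isGal_cons_iff.1 h
    simp [ih h']

theorem getLastD_append (c : C) (l₁ l₂ : List C) : (l₁ ++ l₂).getLastD c = l₂.getLastD (l₁.getLastD c) := by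
  induction l₁ generalizing c with
  | nil => rfl
  | cons d l ih => rw [List.cons_append, List.getLastD_cons, List.getLastD_cons, ih]

theorem getLastD_map (g : C → C) (c : C) (l : List C) : (l.map g).getLastD (g c) = g (l.getLastD c) := by
  induction l generalizing c with
  | nil => rfl
  | cons d l ih => rw [List.map_cons, List.getLastD_cons, List.getLastD_cons, ih]

theorem isGal_append {u v : List I} {c : C} {l : List C} :
    IsGal A (u ++ v) c l ↔ ∃ l₁ l₂, l = l₁ ++ l₂ ∧ IsGal A u c l₁ ∧ IsGal A v (l₁.getLastD c) l₂ := by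
  induction u generalizing c l with
  | nil =>
    constructor
    · intro h; exact ⟨[], l, rfl, by simp, h⟩
    · rintro ⟨l₁, l₂, rfl, h1, h2⟩
      rw [isGal_nil_iff] at h1
      subst h1
      exact h2
  | cons i u ih =>
    constructor
    · intro h
      obtain ⟨d, l', rfl, h1, h2⟩ := isGal_cons_iff.1 h
      obtain ⟨l₁, l₂, rfl, h3, h4⟩ := ih.1 h2
      exact ⟨d :: l₁, l₂, rfl, ⟨h1, h3⟩, by rwa [List.getLastD_cons]⟩
    · rintro ⟨l₁, l₂, rfl, h1, h2⟩
      obtain ⟨d, l', rfl, h3, h4⟩ := isGal_cons_iff.1 h1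
      rw [List.getLastD_cons] at h2
      exact ⟨h3, ih.2 ⟨l', l₂, rfl, h4, h2⟩⟩

theorem IsGal.append {u v : List I} {c : C} {l₁ l₂ : List C} (h1 : IsGal A u c l₁)
    (h2 : IsGal A v (l₁.getLastD c) l₂) : IsGal A (u ++ v) c (l₁ ++ l₂) :=
  isGal_append.2 ⟨l₁, l₂, rfl, h1, h2⟩

/-- galleries are mapped to galleries by the maps which preserve adjacency -/
theorem IsGal.map {g : C → C} (hg : ∀ i c d, A i c d → A i (g c) (g d)) {f : List I} {c : C} {l : List C}
    (h : IsGal A f c l) : IsGal A f (g c) (l.map g) := by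
  induction f generalizing c l with
  | nil => rw [isGal_nil_iff.1 h]; simp
  | cons i f ih =>
    obtain ⟨d, l', rfl, h1, h2⟩ := isGal_cons_iff.1 h
    exact ⟨hg _ _ _ h1, ih h2⟩

/-- there are galleries of all types from every chamber if all panels are nontrivial -/
theorem exists_isGal (hA : ∀ i c, ∃ d, A i c d) (f : List I) (c : C) : ∃ l, IsGal A f c l := by
  induction f generalizing c with
  | nil => exact ⟨[], by simp⟩
  | cons i f ih =>
    obtain ⟨d, hd⟩ := hA i c
    obtain ⟨l, hl⟩ := ih d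
    exact ⟨d :: l, hd, hl⟩

/-- the axioms of a chamber system whose rank two residues are generalised polygons -/
structure Cham (A : I → C → C → Prop) (m : I → I → ℕ) : Prop where
  ne : ∀ {i c d}, A i c d → c ≠ d
  symm : ∀ {i c d}, A i c d → A i d c
  trans : ∀ {i c d e}, A i c d → A i c e → d ≠ e → A i d e
  ex : ∀ i c, ∃ d, A i c d
  /-- the chamber at the end of a gallery of type `alt i j (m i j)` is the end of exactly one gallery of type
  `alt j i (m i j)` -/
  gp : ∀ i j, i ≠ j → ∀ c l, IsGal A (alt i j (m i j)) c l →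
    ∃! l', IsGal A (alt j i (m i j)) c l' ∧ l'.getLastD c = l.getLastD c

/-! ### The chamber system of `B ≤ P i` -/

section group

variable {G : Type*} [Group G]

/-- the chambers `c`, `d` are distinct and in the same `i`-panel -/
def adj (B : Subgroup G) (P : I → Subgroup G) (i : I) (c d : G ⧸ B) : Prop :=
  c ≠ d ∧ ∃ x p : G, p ∈ P i ∧ c = (x : G ⧸ B) ∧ d = ((x * p : G) : G ⧸ B)

/-- the rank two residues are generalised `m i j`-gons, in the form of galleries -/
def GP (B : Subgroup G) (P : I → Subgroup G) (m : I → I → ℕ) : Prop :=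
  ∀ i j, i ≠ j → ∀ c l, IsGal (adj B P) (alt i j (m i j)) c l →
    ∃! l', IsGal (adj B P) (alt j i (m i j)) c l' ∧ l'.getLastD c = l.getLastD c

variable {B : Subgroup G} {P : I → Subgroup G}

theorem mk_ne_iff {x y : G} : (x : G ⧸ B) ≠ (y : G ⧸ B) ↔ x⁻¹ * y ∉ B := by
  rw [Ne, QuotientGroup.eq]

theorem adj_mk (hBP : ∀ i, B ≤ P i) {i : I} {x y : G} :
    adj B P i (x : G ⧸ B) (y : G ⧸ B) ↔ x⁻¹ * y ∈ P i ∧ x⁻¹ * y ∉ B := by
  constructor
  · rintro ⟨h1, z, p, hp, h2, h3⟩
    refine ⟨?_, mk_ne_iff.1 h1⟩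
    rw [QuotientGroup.eq] at h2 h3
    have e : x⁻¹ * y = (x⁻¹ * z) * p * (y⁻¹ * (z * p))⁻¹ := by group
    rw [e]
    exact mul_mem (mul_mem (hBP i h2) hp) (inv_mem (hBP i h3))
  · rintro ⟨h1, h2⟩
    exact ⟨mk_ne_iff.2 h2, x, x⁻¹ * y, h1, rfl, by rw [mul_inv_cancel_left]⟩

theorem adj_smul {i : I} {c d : G ⧸ B} (g : G) (h : adj B P i c d) : adj B P i (g • c) (g • d) := by
  obtain ⟨h1, x, p, hp, rfl, rfl⟩ := h
  refine ⟨fun h => h1 (smul_left_cancel g h), g * x, p, hp, rfl, ?_⟩
  rw [mul_assoc]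
  rfl

theorem adj_symm (hBP : ∀ i, B ≤ P i) {i : I} {c d : G ⧸ B} (h : adj B P i c d) : adj B P i d c := by
  induction c using QuotientGroup.induction_on with
  | _ x =>
  induction d using QuotientGroup.induction_on with
  | _ y =>
  rw [adj_mk hBP] at h ⊢
  have e : y⁻¹ * x = (x⁻¹ * y)⁻¹ := by group
  rw [e]
  exact ⟨inv_mem h.1, fun h' => h.2 (by simpa using inv_mem h')⟩

theorem adj_trans (hBP : ∀ i, B ≤ P i) {i : I} {c d e : G ⧸ B} (h : adj B P i c d) (h' : adj B P i c e)
    (hne : d ≠ e) : adj B P i d e := by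
  induction c using QuotientGroup.induction_on with
  | _ x =>
  induction d using QuotientGroup.induction_on with
  | _ y =>
  induction e using QuotientGroup.induction_on with
  | _ z =>
  rw [adj_mk hBP] at h h' ⊢
  refine ⟨?_, mk_ne_iff.1 hne⟩
  have e : y⁻¹ * z = (x⁻¹ * y)⁻¹ * (x⁻¹ * z) := by group
  rw [e]
  exact mul_mem (inv_mem h.1) h'.1

theorem exists_adj (hBP : ∀ i, B ≤ P i) (hne : ∀ i, ∃ x ∈ P i, x ∉ B) (i : I) (c : G ⧸ B) :
    ∃ d, adj B P i c d := by
  induction c using QuotientGroup.induction_on with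
  | _ x =>
  obtain ⟨p, hp, hpB⟩ := hne i
  refine ⟨((x * p : G) : G ⧸ B), ?_⟩
  rw [adj_mk hBP, inv_mul_cancel_left]
  exact ⟨hp, hpB⟩

theorem cham (hBP : ∀ i, B ≤ P i) (hne : ∀ i, ∃ x ∈ P i, x ∉ B) {m : I → I → ℕ} (hgp : GP B P m) :
    Cham (adj B P) m where
  ne h := h.1
  symm h := adj_symm hBP h
  trans h h' hne := adj_trans hBP h h' hne
  ex i c := exists_adj hBP hne i c
  gp := hgp

end group

end Cfsg.Agent.ParSys.Free
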