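import Mathlib
import Cfsg.Agent.ParSys.Gal
import Cfsg.Agent.ParSys.BraidWord
import Cfsg.Agent.ParSys.Bruhat

/-!
# THEOREM FREE (bb #11242)

(1) an automorphism `g` of a chamber system with generalised polygons as residues of rank two which fixes a gallery of
type `w0` and which fixes a panel pointwise as soon as it fixes two of its chambers is the identity.
(2) hence, if `|U| = q_{w0}`, `U` is transitive on the galleries of reduced type from `B`, and there is a
(B,N)-pair.
-/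

set_option autoImplicit false

namespace Cfsg.Agent.ParSys.Free

open Cfsg.Agent.ParSys

variable {C I : Type*} {A : I → C → C → Prop} {m : I → I → ℕ}

/-! ### Fixed galleries -/

/-- `g` fixes all chambers of a gallery of type `f` from `c` to `d` -/
def FG (A : I → C → C → Prop) (g : C → C) (f : List I) (c d : C) : Prop :=
  g c = c ∧ ∃ l, IsGal A f c l ∧ (∀ x ∈ l, g x = x) ∧ l.getLastD c = d

variable {g : C → C}

theorem fix_getLastD {c : C} {l : List C} (hc : g c = c) (hl : ∀ x ∈ l, g x = x) : g (l.getLastD c) = l.getLastD c := by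
  induction l generalizing c with
  | nil => exact hc
  | cons d l ih =>
    rw [List.getLastD_cons]
    exact ih (hl d (by simp)) fun x hx => hl x (by simp [hx])

theorem FG.left {f : List I} {c d : C} (h : FG A g f c d) : g c = c := h.1

theorem FG.right {f : List I} {c d : C} (h : FG A g f c d) : g d = d := by
  obtain ⟨hc, l, -, hl, rfl⟩ := h
  exact fix_getLastD hc hl

theorem fg_append {u v : List I} {c d : C} : FG A g (u ++ v) c d ↔ ∃ e, FG A g u c e ∧ FG A g v e d := by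
  constructor
  · rintro ⟨hc, l, hl, hfix, rfl⟩
    obtain ⟨l₁, l₂, rfl, h1, h2⟩ := isGal_append.1 hl
    have hf1 : ∀ x ∈ l₁, g x = x := fun x hx => hfix x (by simp [hx])
    exact ⟨_, ⟨hc, l₁, h1, hf1, rfl⟩, fix_getLastD hc hf1, l₂, h2, fun x hx => hfix x (by simp [hx]),
      (getLastD_append _ _ _).symm⟩
  · rintro ⟨_, ⟨hc, l₁, h1, hf1, rfl⟩, -, l₂, h2, hf2, rfl⟩
    refine ⟨hc, l₁ ++ l₂, h1.append h2, ?_, getLastD_append _ _ _⟩
    intro x hx
    rcases List.mem_append.1 hx with hx | hx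
    · exact hf1 x hx
    · exact hf2 x hx

theorem fg_cons {i : I} {f : List I} {c d : C} :
    FG A g (i :: f) c d ↔ ∃ e, (g c = c ∧ A i c e) ∧ FG A g f e d := by
  constructor
  · rintro ⟨hc, l, hl, hfix, rfl⟩
    obtain ⟨e, l', rfl, h1, h2⟩ := isGal_cons_iff.1 hl
    exact ⟨e, ⟨hc, h1⟩, hfix e (by simp), l', h2, fun x hx => hfix x (by simp [hx]), List.getLastD_cons.symm⟩
  · rintro ⟨e, ⟨hc, h1⟩, he, l, hl, hfix, rfl⟩
    refine ⟨hc, e :: l, ⟨h1, hl⟩, ?_, List.getLastD_cons⟩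
    intro x hx
    rcases List.mem_cons.1 hx with rfl | hx
    · exact he
    · exact hfix x hx

theorem fg_nil {c d : C} : FG A g [] c d ↔ g c = c ∧ c = d := by
  constructor
  · rintro ⟨hc, l, hl, -, rfl⟩
    rw [isGal_nil_iff] at hl
    subst hl
    exact ⟨hc, rfl⟩
  · rintro ⟨hc, rfl⟩
    exact ⟨hc, [], by simp, by simp, rfl⟩

theorem fg_snoc {i : I} {f : List I} {c d : C} :
    FG A g (f ++ [i]) c d ↔ ∃ e, FG A g f c e ∧ A i e d ∧ g d = d := by
  rw [fg_append]
  constructor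
  · rintro ⟨e, h1, h2⟩
    obtain ⟨e', ⟨-, h3⟩, h4⟩ := fg_cons.1 h2
    obtain ⟨h5, rfl⟩ := fg_nil.1 h4
    exact ⟨e, h1, h3, h5⟩
  · rintro ⟨e, h1, h2, h3⟩
    exact ⟨e, h1, fg_cons.2 ⟨d, ⟨h1.right, h2⟩, fg_nil.2 ⟨h3, rfl⟩⟩⟩

variable (hC : Cham A m) (hg : ∀ i c d, A i c d → A i (g c) (g d))
include hC hg

/-- the braid move: the unique gallery of the other type with the same ends is fixed too -/
theorem FG.braid {i j : I} (hij : i ≠ j) {c d : C} (h : FG A g (alt i j (m i j)) c d) :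
    FG A g (alt j i (m i j)) c d := by
  obtain ⟨hc, l, hl, hfix, rfl⟩ := h
  obtain ⟨l', ⟨h1, h2⟩, huniq⟩ := hC.gp i j hij c l hl
  have h3 : l'.map g = l' := by
    apply huniq
    have h4 := h1.map hg
    rw [hc] at h4
    refine ⟨h4, ?_⟩
    have h5 := getLastD_map g c l'
    rw [hc] at h5
    rw [h5, h2, fix_getLastD hc hfix]
  refine ⟨hc, l', h1, ?_, h2⟩
  intro x hx
  obtain ⟨n, hn, rfl⟩ := List.getElem_of_mem hx
  have h6 : (l'.map g)[n]'(by simpa using hn) = l'[n] := by simp only [h3]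
  rwa [List.getElem_map] at h6

theorem FG.br {f f' : List I} (h : Br m f f') {c d : C} (hf : FG A g f c d) : FG A g f' c d := by
  induction h with
  | refl f => exact hf
  | move u v i j g' hij _ ih =>
    have h1 := ih hf
    rw [fg_append, ] at h1 ⊢
    obtain ⟨e, h2, h3⟩ := h1
    rw [fg_append] at h2
    obtain ⟨e', h4, h5⟩ := h2
    exact ⟨e, fg_append.2 ⟨e', h4, FG.braid hC hg hij h5⟩, h3⟩

/-- the property 'fixes a gallery of type `F` from `c`' spreads to the neighbours -/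
theorem spread (hm : ∀ i j, m i j = m j i)
    (hpan : ∀ i c d e, g c = c → g d = d → A i c d → A i c e → g e = e) {F : List I}
    (hF : ∀ i, ∃ f i', Br m F (i :: f) ∧ Br m F (f ++ [i'])) {c d : C} (h : FG A g F c d) {i : I} {x : C}
    (hx : A i c x) : ∃ d', FG A g F x d' := by
  obtain ⟨f, i', hf1, hf2⟩ := hF i
  have h1 := FG.br hC hg hf1 h
  obtain ⟨c1, ⟨hc, h2⟩, h3⟩ := fg_cons.1 h1
  have hgx : g x = x := hpan i c c1 x hc h3.left h2 hx
  by_cases hxc : x = c1
  · subst hxc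
    have h4 := FG.br hC hg hf2 h
    obtain ⟨e, h5, h6, h7⟩ := fg_snoc.1 h4
    refine ⟨e, FG.br hC hg (hf2.symm hm) (fg_snoc.2 ⟨d, h3, hC.symm h6, h5.right⟩)⟩
  · refine ⟨d, FG.br hC hg (hf1.symm hm) (fg_cons.2 ⟨c1, ⟨hgx, hC.trans hx h2 hxc⟩, h3⟩)⟩

/-- **THEOREM FREE (1)** -/
theorem fix_all (hm : ∀ i j, m i j = m j i)
    (hpan : ∀ i c d e, g c = c → g d = d → A i c d → A i c e → g e = e) {F : List I}
    (hF : ∀ i, ∃ f i', Br m F (i :: f) ∧ Br m F (f ++ [i'])) {c d : C} (h : FG A g F c d) {x : C}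
    (hconn : Relation.ReflTransGen (fun y z => ∃ i, A i y z) c x) : g x = x := by
  have key : ∃ d', FG A g F x d' := by
    induction hconn with
    | refl => exact ⟨d, h⟩
    | tail _ hbc ih =>
      obtain ⟨d', hd'⟩ := ih
      obtain ⟨i, hi⟩ := hbc
      exact spread hC hg hm hpan hF hd' hi
  exact key.choose_spec.left

end Cfsg.Agent.ParSys.Free
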