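import Mathlib
import Cfsg.Agent.ParSys.Free

/-!
# THEOREM FREE, part (2): counting galleries
-/

set_option autoImplicit false

namespace Cfsg.Agent.ParSys.Free

open Cfsg.Agent.ParSys

section count

variable {C I : Type*} {A : I → C → C → Prop}

/-- galleries of type `i f` -/
def galEquiv (i : I) (f : List I) (c : C) :
    {l // IsGal A (i :: f) c l} ≃ (Σ d : {d // A i c d}, {l // IsGal A f (d : C) l}) where
  toFun l := match l with
    | ⟨d :: l, h⟩ => ⟨⟨d, h.1⟩, ⟨l, h.2⟩⟩
    | ⟨[], h⟩ => (h : False).elim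
  invFun x := ⟨x.1.1 :: x.2.1, x.1.2, x.2.2⟩
  left_inv l := match l with
    | ⟨_ :: _, _⟩ => rfl
    | ⟨[], h⟩ => (h : False).elim
  right_inv _ := rfl

theorem finite_gal [Finite C] (f : List I) (c : C) : Finite {l // IsGal A f c l} := by
  induction f generalizing c with
  | nil =>
    have : Subsingleton {l // IsGal A [] c l} := ⟨fun a b => Subtype.ext (by
      rw [isGal_nil_iff.1 a.2, isGal_nil_iff.1 b.2])⟩
    infer_instance
  | cons i f ih =>
    have := fun d : {d // A i c d} => ih (d : C)
    exact Finite.of_equiv _ (galEquiv i f c).symm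

theorem card_gal [Finite C] {q : I → ℕ} (hq : ∀ i c, Nat.card {d // A i c d} = q i) (f : List I) (c : C) :
    Nat.card {l // IsGal A f c l} = (f.map q).prod := by
  induction f generalizing c with
  | nil =>
    rw [List.map_nil, List.prod_nil, Nat.card_eq_one_iff_unique]
    exact ⟨⟨fun a b => Subtype.ext (by rw [isGal_nil_iff.1 a.2, isGal_nil_iff.1 b.2])⟩, ⟨⟨[], by simp⟩⟩⟩
  | cons i f ih =>
    have := fun d : {d // A i c d} => finite_gal (A := A) f (d : C)
    have := Fintype.ofFinite {d // A i c d}
    rw [Nat.card_congr (galEquiv i f c), Nat.card_sigma]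
    simp only [ih]
    rw [Finset.sum_const, Finset.card_univ, ← Nat.card_eq_fintype_card, hq, List.map_cons, List.prod_cons,
      smul_eq_mul]

variable {U : Type*} [Group U] [MulAction U C]

/-- the map `u ↦ u l` is injective if `U` acts freely -/
theorem map_injective {F : List I} {c : C}
    (hfree : ∀ u : U, ∀ l, IsGal A F c l → (∀ x ∈ l, u • x = x) → u = 1) {l : List C} (hl : IsGal A F c l) :
    Function.Injective fun u : U => l.map (u • ·) := by
  intro u v h
  have h1 : ∀ x ∈ l, (u⁻¹ * v) • x = x := by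
    intro x hx
    obtain ⟨n, hn, rfl⟩ := List.getElem_of_mem hx
    have h2 : (l.map (u • ·))[n]'(by simpa using hn) = (l.map (v • ·))[n]'(by simpa using hn) := by
      simp only [h]
    rw [List.getElem_map, List.getElem_map] at h2
    rw [mul_smul, ← h2, inv_smul_smul]
  have h3 := hfree _ l hl h1
  exact (inv_mul_eq_one.1 h3)

/-- **THEOREM FREE (2a)** -/
theorem card_le [Finite C] (hA : ∀ (u : U) i c d, A i c d → A i (u • c) (u • d)) {q : I → ℕ}
    (hq : ∀ i c, Nat.card {d // A i c d} = q i) {c : C} (hc : ∀ u : U, u • c = c) {F : List I}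
    (hfree : ∀ u : U, ∀ l, IsGal A F c l → (∀ x ∈ l, u • x = x) → u = 1) {l : List C} (hl : IsGal A F c l) :
    Nat.card U ≤ (F.map q).prod := by
  have := finite_gal (A := A) F c
  rw [← card_gal hq F c]
  refine Nat.card_le_card_of_injective (fun u : U => (⟨l.map (u • ·), ?_⟩ : {l // IsGal A F c l})) ?_
  · have := hl.map (hA u)
    rwa [hc] at this
  · intro u v h
    exact map_injective hfree hl (congrArg Subtype.val h)

/-- **THEOREM FREE (2b)**: transitivity -/
theorem trans_of_card [Finite C] (hA : ∀ (u : U) i c d, A i c d → A i (u • c) (u • d)) {q : I → ℕ}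
    (hq : ∀ i c, Nat.card {d // A i c d} = q i) {c : C} (hc : ∀ u : U, u • c = c) {F : List I}
    (hfree : ∀ u : U, ∀ l, IsGal A F c l → (∀ x ∈ l, u • x = x) → u = 1)
    (hcard : Nat.card U = (F.map q).prod) {l l' : List C} (hl : IsGal A F c l) (hl' : IsGal A F c l') :
    ∃ u : U, l' = l.map (u • ·) := by
  have hfin := finite_gal (A := A) F c
  have hcard' : Nat.card U = Nat.card {l // IsGal A F c l} := by rw [hcard, card_gal hq F c]
  have hpos : 0 < Nat.card {l // IsGal A F c l} := by
    have : Nonempty {l // IsGal A F c l} := ⟨⟨l, hl⟩⟩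
    exact Nat.card_pos
  have hU : Finite U := Nat.finite_of_card_ne_zero (by omega)
  have hmem : ∀ u : U, IsGal A F c (l.map (u • ·)) := fun u => by
    have := hl.map (hA u)
    rwa [hc] at this
  let φ : U → {l // IsGal A F c l} := fun u => ⟨l.map (u • ·), hmem u⟩
  have hφ : Function.Injective φ := fun u v h => map_injective hfree hl (congrArg Subtype.val h)
  have hb : Function.Bijective φ := (Nat.bijective_iff_injective_and_card φ).2 ⟨hφ, hcard'⟩
  obtain ⟨u, hu⟩ := hb.2 ⟨l', hl'⟩
  exact ⟨u, (congrArg Subtype.val hu).symm⟩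

/-- transitivity on the galleries of a type which is a prefix -/
theorem trans_prefix (hA : ∀ i c, ∃ d, A i c d) {c : C} {f v : List I}
    (htr : ∀ l l', IsGal A (f ++ v) c l → IsGal A (f ++ v) c l' → ∃ u : U, l' = l.map (u • ·)) {l l' : List C}
    (hl : IsGal A f c l) (hl' : IsGal A f c l') : ∃ u : U, l' = l.map (u • ·) := by
  obtain ⟨k, hk⟩ := exists_isGal hA v (l.getLastD c)
  obtain ⟨k', hk'⟩ := exists_isGal hA v (l'.getLastD c)
  obtain ⟨u, hu⟩ := htr _ _ (hl.append hk) (hl'.append hk')
  refine ⟨u, ?_⟩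
  rw [List.map_append] at hu
  exact (List.append_inj hu (by rw [List.length_map, hl.length, hl'.length])).1

end count

end Cfsg.Agent.ParSys.Free
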