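import Mathlib
import Cfsg.Agent.ParSys.FreeTrans

/-!
# THEOREM FREE (bb #11242): a parabolic system of spherical type with `|U| = q_{w0}` is a BN-pair

Input (`Sys`): `B ≤ P i`, the residues of rank two are generalised polygons (`GP`), an element of `U` which fixes two
chambers of a panel fixes the panel (`pan`), `U` is closed (`clo`: conjugates of elements of `U` which lie in `B` lie in
`U`) and has no element `≠ 1` in the core of `B`.

Output: `Sys.card_le` : `|U| ≤ q_{w0}`; if `|U| = q_{w0}`: `Sys.cosets` (Bruhat decomposition, hence a BN-pair).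
-/

set_option autoImplicit false

namespace Cfsg.Agent.ParSys.Free

open Cfsg.Agent.ParSys Cfsg.Agent.Tits.Core

variable {G : Type*} [Group G] {I : Type*}

/-! ### Panels of `G ⧸ B` -/

section panels

variable {B : Subgroup G} {P : I → Subgroup G}

theorem card_adj [Finite G] (hBP : ∀ i, B ≤ P i) (i : I) (c : G ⧸ B) :
    Nat.card {d // adj B P i c d} + 1 = B.relIndex (P i) := by
  classical
  induction c using QuotientGroup.induction_on with
  | _ x =>
  let φ : (P i ⧸ B.subgroupOf (P i)) → G ⧸ B := fun a => ((x * (a.out : P i) : G) : G ⧸ B)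
  have hφ : Function.Injective φ := by
    intro a b h
    have h1 : (x * (a.out : G))⁻¹ * (x * (b.out : G)) ∈ B := QuotientGroup.eq.1 h
    have h2 : ((a.out : P i) : G)⁻¹ * (b.out : G) ∈ B := by
      have e : (x * (a.out : G))⁻¹ * (x * (b.out : G)) = ((a.out : P i) : G)⁻¹ * (b.out : G) := by group
      rwa [e] at h1
    rw [← QuotientGroup.out_eq' a, ← QuotientGroup.out_eq' b, QuotientGroup.eq, Subgroup.mem_subgroupOf]
    exact h2
  have hr : Set.range φ = insert (x : G ⧸ B) {d | adj B P i (x : G ⧸ B) d} := by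
    ext d
    constructor
    · rintro ⟨a, rfl⟩
      by_cases h : φ a = (x : G ⧸ B)
      · exact Or.inl h
      · refine Or.inr ⟨fun h' => h h'.symm, x, (a.out : P i), (a.out : P i).2, rfl, rfl⟩
    · intro h
      have key : ∀ p : G, (hp : p ∈ P i) → ((x * p : G) : G ⧸ B) ∈ Set.range φ := by
        intro p hp
        obtain ⟨⟨b, hb⟩, hbe⟩ := QuotientGroup.mk_out_eq_mul (B.subgroupOf (P i)) (⟨p, hp⟩ : P i)
        refine ⟨((⟨p, hp⟩ : P i) : P i ⧸ B.subgroupOf (P i)), ?_⟩
        show ((x * ((((⟨p, hp⟩ : P i) : P i ⧸ B.subgroupOf (P i)).out : P i) : G) : G) : G ⧸ B) = _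
        rw [hbe, QuotientGroup.eq]
        rw [Subgroup.mem_subgroupOf] at hb
        have e : (x * (((⟨p, hp⟩ : P i) * b : P i) : G))⁻¹ * (x * p) = ((b : P i) : G)⁻¹ := by
          simp only [Subgroup.coe_mul]; group
        rw [e]
        exact inv_mem hb
      rcases h with rfl | h
      · have := key 1 (one_mem _)
        rwa [mul_one] at this
      · induction d using QuotientGroup.induction_on with
        | _ y =>
        have h1 := ((adj_mk hBP).1 h).1
        have := key _ h1
        rwa [mul_inv_cancel_left] at this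
  have hnot : (x : G ⧸ B) ∉ {d | adj B P i (x : G ⧸ B) d} := fun h => h.1 rfl
  have h1 := Set.ncard_insert_of_notMem hnot
  rw [← hr, Set.ncard_range_of_injective hφ] at h1
  exact h1.symm

theorem conn (hBP : ∀ i, B ≤ P i) (hgen : ⨆ i, P i = ⊤) (c d : G ⧸ B) :
    Relation.ReflTransGen (fun y z => ∃ i, adj B P i y z) c d := by
  induction c using QuotientGroup.induction_on with
  | _ x =>
  induction d using QuotientGroup.induction_on with
  | _ y =>
  have key : ∀ g : G, Relation.ReflTransGen (fun y z => ∃ i, adj B P i y z) (x : G ⧸ B) ((x * g : G) : G ⧸ B) := by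
    intro g
    have hg : g ∈ ⨆ i, P i := by rw [hgen]; trivial
    rw [Subgroup.iSup_eq_closure] at hg
    have step : ∀ (z p : G) (i : I), p ∈ P i → Relation.ReflTransGen (fun y z => ∃ i, adj B P i y z)
        ((x : G) : G ⧸ B) ((x * z : G) : G ⧸ B) → Relation.ReflTransGen (fun y z => ∃ i, adj B P i y z)
        ((x : G) : G ⧸ B) ((x * (z * p) : G) : G ⧸ B) := by
      intro z p i hp h
      by_cases hpB : p ∈ B
      · have e : ((x * (z * p) : G) : G ⧸ B) = ((x * z : G) : G ⧸ B) := by
          rw [QuotientGroup.eq]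
          have e' : (x * (z * p))⁻¹ * (x * z) = p⁻¹ := by group
          rw [e']; exact inv_mem hpB
        rw [e]; exact h
      · refine h.tail ⟨i, ?_⟩
        rw [adj_mk hBP]
        have e' : (x * z)⁻¹ * (x * (z * p)) = p := by group
        rw [e']; exact ⟨hp, hpB⟩
    induction hg using Subgroup.closure_induction_right with
    | one => rw [mul_one]
    | mul_right z hz p hp ih =>
      obtain ⟨i, hi⟩ := Set.mem_iUnion.1 hp
      exact step z p i hi ih
    | mul_inv_cancel z hz p hp ih =>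
      obtain ⟨i, hi⟩ := Set.mem_iUnion.1 hp
      exact step z p⁻¹ i (inv_mem hi) ih
  have := key (x⁻¹ * y)
  rwa [mul_inv_cancel_left] at this

end panels

/-! ### The number of galleries is invariant under braid moves -/

section prod

variable {C : Type*} {A : I → C → C → Prop} {m : I → I → ℕ}

theorem card_gal_alt_le [Finite C] (hC : Cham A m) (hm : ∀ i j, m i j = m j i) {i j : I} (hij : i ≠ j) (c : C) :
    Nat.card {l // IsGal A (alt i j (m i j)) c l} ≤ Nat.card {l // IsGal A (alt j i (m i j)) c l} := by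
  have := finite_gal (A := A) (alt j i (m i j)) c
  let φ : {l // IsGal A (alt i j (m i j)) c l} → {l // IsGal A (alt j i (m i j)) c l} := fun l =>
    ⟨(hC.gp i j hij c l.1 l.2).choose, (hC.gp i j hij c l.1 l.2).choose_spec.1.1⟩
  refine Nat.card_le_card_of_injective φ ?_
  intro l k h
  have h1 := (hC.gp i j hij c l.1 l.2).choose_spec.1.2
  have h2 := (hC.gp i j hij c k.1 k.2).choose_spec.1.2
  have h3 : (hC.gp i j hij c l.1 l.2).choose = (hC.gp i j hij c k.1 k.2).choose := congrArg Subtype.val h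
  rw [h3, h2] at h1
  -- both are galleries with the same end
  have h4 : IsGal A (alt j i (m j i)) c (φ l).1 := by rw [hm j i]; exact (φ l).2
  obtain ⟨r, -, hr⟩ := hC.gp j i hij.symm c _ h4
  rw [hm j i] at hr
  have h5 := (hC.gp i j hij c l.1 l.2).choose_spec.1.2
  have h6 : ((φ l).1).getLastD c = l.1.getLastD c := h5
  have e1 := hr l.1 ⟨l.2, h6.symm⟩
  have e2 := hr k.1 ⟨k.2, by rw [h1]; exact h6.symm⟩
  exact Subtype.ext (e1.trans e2.symm)

theorem prod_br [Finite C] [Nonempty C] (hC : Cham A m) (hm : ∀ i j, m i j = m j i) {q : I → ℕ}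
    (hq : ∀ i c, Nat.card {d // A i c d} = q i) {f g : List I} (h : Br m f g) :
    (f.map q).prod = (g.map q).prod := by
  induction h with
  | refl f => rfl
  | move u v i j g hij _ ih =>
    rw [ih]
    obtain ⟨c⟩ := ‹Nonempty C›
    have h1 := card_gal_alt_le hC hm hij c
    have h2 := card_gal_alt_le hC hm hij.symm c
    rw [hm j i] at h2
    have h3 := le_antisymm h1 h2
    rw [card_gal hq, card_gal hq] at h3
    simp only [List.map_append, List.prod_append, h3]

end prod

/-! ### The system -/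

variable {M : CoxeterMatrix I} {W : Type*} [Group W]

/-- The data of THEOREM FREE. -/
structure Sys (cs : CoxeterSystem M W) (B : Subgroup G) (P : I → Subgroup G) (U : Subgroup G) (q : I → ℕ) :
    Prop where
  le : ∀ i, B ≤ P i
  gen : ⨆ i, P i = ⊤
  gp : GP B P (fun i j => M i j)
  /-- every panel has `q i + 1` chambers -/
  card : ∀ i, B.relIndex (P i) = q i + 1
  two : ∀ i, 2 ≤ q i
  U_le : U ≤ B
  /-- an element of `U` which fixes one more chamber of the panel `P i / B` fixes the panel -/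
  pan : ∀ i, ∀ g ∈ U, ∀ x ∈ P i, x ∉ B → x⁻¹ * g * x ∈ B → ∀ y ∈ P i, y⁻¹ * g * y ∈ B
  clo : ∀ g ∈ U, ∀ x, x⁻¹ * g * x ∈ B → x⁻¹ * g * x ∈ U
  core : ∀ g ∈ U, (∀ x, x⁻¹ * g * x ∈ B) → g = 1

namespace Sys

variable {cs : CoxeterSystem M W} {B : Subgroup G} {P : I → Subgroup G} {U : Subgroup G} {q : I → ℕ}
  (h : Sys cs B P U q)

include h

theorem ex (i : I) : ∃ x ∈ P i, x ∉ B := by
  by_contra hcon
  push Not at hcon
  have h1 : P i ≤ B := hcon
  have h2 := h.card i
  have h3 := h.two i
  rw [Subgroup.relIndex_eq_one.2 h1] at h2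
  omega

theorem cham : Cham (adj B P) (fun i j => M i j) := Free.cham h.le h.ex h.gp

theorem card_adj' [Finite G] (i : I) (c : G ⧸ B) : Nat.card {d // adj B P i c d} = q i := by
  have h1 := card_adj h.le i c
  rw [h.card] at h1
  omega

omit h in
theorem smul_mk_eq {u x : G} : u • (x : G ⧸ B) = (x : G ⧸ B) ↔ x⁻¹ * u * x ∈ B := by
  have e : u • (x : G ⧸ B) = ((u * x : G) : G ⧸ B) := rfl
  rw [e, eq_comm, QuotientGroup.eq, mul_assoc]

/-- an element of `U` which fixes two chambers of a panel fixes the panel -/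
theorem pan' {u : G} (hu : u ∈ U) (i : I) (c d e : G ⧸ B) (hc : u • c = c) (hd : u • d = d)
    (hcd : adj B P i c d) (hce : adj B P i c e) : u • e = e := by
  induction c using QuotientGroup.induction_on with
  | _ x =>
  induction d using QuotientGroup.induction_on with
  | _ y =>
  induction e using QuotientGroup.induction_on with
  | _ z =>
  rw [smul_mk_eq] at hc hd ⊢
  rw [adj_mk h.le] at hcd hce
  have h1 := h.clo u hu x hc
  have h2 := h.pan i _ h1 (x⁻¹ * y) hcd.1 hcd.2 (by
    have e : (x⁻¹ * y)⁻¹ * (x⁻¹ * u * x) * (x⁻¹ * y) = y⁻¹ * u * y := by group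
    rw [e]; exact hd) (x⁻¹ * z) hce.1
  have e : (x⁻¹ * z)⁻¹ * (x⁻¹ * u * x) * (x⁻¹ * z) = z⁻¹ * u * z := by group
  rwa [e] at h2

theorem msymm (i j : I) : (fun i j => M i j) i j = (fun i j => M i j) j i := by
  have := h
  exact M.symmetric i j

/-- the words which are used: reduced words of `w0` -/
theorem word [Finite I] [Finite W] {F : List I} (hF : cs.IsReduced F) (hw : cs.wordProd F = w0 cs) (i : I) :
    ∃ f i', Br (fun i j => M i j) F (i :: f) ∧ Br (fun i j => M i j) F (f ++ [i']) := by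
  have := h
  obtain ⟨f, hf, he⟩ := cs.exists_isReduced (cs.simple i * w0 cs)
  have hlen : f.length + 1 = cs.length (w0 cs) := by
    have h1 := Tits.Exchange.length_mul_w0 cs (cs.simple i)
    rw [cs.length_simple] at h1
    have h2 : cs.length (cs.simple i * w0 cs) = f.length := by rw [he]; exact hf
    omega
  have p1 : cs.wordProd (i :: f) = w0 cs := by
    rw [cs.wordProd_cons, ← he, ← mul_assoc, cs.simple_mul_simple_self, one_mul]
  have p2 : cs.wordProd (f ++ [op cs i]) = w0 cs := by
    rw [cs.wordProd_append, cs.wordProd_singleton, ← he, Tits.Exchange.simple_op]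
    calc cs.simple i * w0 cs * (w0 cs * cs.simple i * w0 cs)
        = cs.simple i * (w0 cs * w0 cs) * cs.simple i * w0 cs := by group
      _ = w0 cs := by rw [Tits.Exchange.w0_mul_self, mul_one, cs.simple_mul_simple_self, one_mul]
  refine ⟨f, op cs i, br_of_reduced cs hF ?_ (hw.trans p1.symm), br_of_reduced cs hF ?_ (hw.trans p2.symm)⟩
  · show cs.length (cs.wordProd (i :: f)) = (i :: f).length
    rw [p1, List.length_cons, hlen]
  · show cs.length (cs.wordProd (f ++ [op cs i])) = (f ++ [op cs i]).length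
    rw [p2, List.length_append, List.length_singleton, hlen]

/-- **THEOREM FREE (1)**: `U` acts freely on the galleries of type `w0` from `B` -/
theorem free [Finite I] [Finite W] {F : List I} (hF : cs.IsReduced F) (hw : cs.wordProd F = w0 cs) {u : G}
    (hu : u ∈ U) {l : List (G ⧸ B)} (hl : IsGal (adj B P) F ((1 : G) : G ⧸ B) l) (hfix : ∀ x ∈ l, u • x = x) :
    u = 1 := by
  have h1 : u • ((1 : G) : G ⧸ B) = ((1 : G) : G ⧸ B) := by
    rw [smul_mk_eq]
    simpa using h.U_le hu
  have hfg : FG (adj B P) (u • ·) F ((1 : G) : G ⧸ B) (l.getLastD ((1 : G) : G ⧸ B)) := ⟨h1, l, hl, hfix, rfl⟩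
  apply h.core u hu
  intro x
  rw [← smul_mk_eq]
  exact fix_all h.cham (fun i c d hcd => adj_smul u hcd) h.msymm (fun i c d e => h.pan' hu i c d e)
    (fun i => h.word hF hw i) hfg (conn h.le h.gen _ _)

/-- **THEOREM FREE (2a)** -/
theorem card_le [Finite G] [Finite I] [Finite W] {F : List I} (hF : cs.IsReduced F)
    (hw : cs.wordProd F = w0 cs) : Nat.card U ≤ (F.map q).prod := by
  obtain ⟨l, hl⟩ := exists_isGal h.cham.ex F ((1 : G) : G ⧸ B)
  refine Free.card_le (U := U) (A := adj B P) (fun u i c d hcd => adj_smul (u : G) hcd) h.card_adj' ?_ ?_ hl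
  · intro u
    have := (smul_mk_eq (B := B) (u := u) (x := 1)).2 (by simpa using h.U_le u.2)
    exact this
  · intro u l hl hfix
    exact Subtype.ext (h.free hF hw u.2 hl hfix)

/-- transitivity on the galleries of type `w0` -/
theorem trans_w0 [Finite G] [Finite I] [Finite W] {F : List I} (hF : cs.IsReduced F)
    (hw : cs.wordProd F = w0 cs) (hcard : Nat.card U = (F.map q).prod) {l l' : List (G ⧸ B)}
    (hl : IsGal (adj B P) F ((1 : G) : G ⧸ B) l) (hl' : IsGal (adj B P) F ((1 : G) : G ⧸ B) l') :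
    ∃ u : U, l' = l.map (u • ·) := by
  refine Free.trans_of_card (U := U) (A := adj B P) (fun u i c d hcd => adj_smul (u : G) hcd) h.card_adj' ?_ ?_
    hcard hl hl'
  · intro u
    have := (smul_mk_eq (B := B) (u := u) (x := 1)).2 (by simpa using h.U_le u.2)
    exact this
  · intro u l hl hfix
    exact Subtype.ext (h.free hF hw u.2 hl hfix)

/-- transitivity on the galleries of reduced type -/
theorem trans [Finite G] [Finite I] [Finite W] {F : List I} (hF : cs.IsReduced F)
    (hw : cs.wordProd F = w0 cs) (hcard : Nat.card U = (F.map q).prod) {f : List I} (hf : cs.IsReduced f)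
    {l l' : List (G ⧸ B)}
    (hl : IsGal (adj B P) f ((1 : G) : G ⧸ B) l) (hl' : IsGal (adj B P) f ((1 : G) : G ⧸ B) l') :
    ∃ u : U, l' = l.map (u • ·) := by
  obtain ⟨v, hv, he⟩ := cs.exists_isReduced ((cs.wordProd f)⁻¹ * w0 cs)
  have p1 : cs.wordProd (f ++ v) = w0 cs := by
    rw [cs.wordProd_append, ← he, mul_inv_cancel_left]
  have hlen : f.length + v.length = cs.length (w0 cs) := by
    have h1 := Tits.Exchange.length_mul_w0 cs (cs.wordProd f)⁻¹
    rw [cs.length_inv, hf.eq] at h1
    have h2 : cs.length ((cs.wordProd f)⁻¹ * w0 cs) = v.length := by rw [he]; exact hv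
    omega
  have hred : cs.IsReduced (f ++ v) := by
    show cs.length (cs.wordProd (f ++ v)) = (f ++ v).length
    rw [p1, List.length_append, hlen]
  have hbr := br_of_reduced cs hF hred (hw.trans p1.symm)
  have hprod := prod_br h.cham h.msymm h.card_adj' hbr
  exact trans_prefix h.cham.ex (fun l l' hl hl' => h.trans_w0 hred p1 (hcard.trans hprod) hl hl') hl hl'

omit h in
/-- the ends of the galleries of type `w` which start in `B` -/
def D (cs : CoxeterSystem M W) (B : Subgroup G) (P : I → Subgroup G) (w : W) : Set G :=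
  {x | ∃ f, cs.IsReduced f ∧ cs.wordProd f = w ∧
    ∃ l, IsGal (adj B P) f ((1 : G) : G ⧸ B) l ∧ l.getLastD ((1 : G) : G ⧸ B) = (x : G ⧸ B)}

theorem mem_D_iff [Finite I] [Finite W] {f : List I} (hf : cs.IsReduced f) {x : G} :
    x ∈ D cs B P (cs.wordProd f) ↔
      ∃ l, IsGal (adj B P) f ((1 : G) : G ⧸ B) l ∧ l.getLastD ((1 : G) : G ⧸ B) = (x : G ⧸ B) := by
  constructor
  · rintro ⟨f', hf', he, l, hl, hx⟩
    have hfg : FG (adj B P) id f' ((1 : G) : G ⧸ B) (x : G ⧸ B) := ⟨rfl, l, hl, fun _ _ => rfl, hx⟩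
    obtain ⟨-, l', hl', -, hx'⟩ := FG.br h.cham (fun i c d h => h) (br_of_reduced cs hf' hf he) hfg
    exact ⟨l', hl', hx'⟩
  · rintro ⟨l, hl, hx⟩
    exact ⟨f, hf, rfl, l, hl, hx⟩

theorem three [Finite G] (i : I) : ∃ x ∈ P i, ∃ y ∈ P i, x ∉ B ∧ y ∉ B ∧ x⁻¹ * y ∉ B := by
  have h1 := h.card_adj' i ((1 : G) : G ⧸ B)
  have h2 := h.two i
  have h3 : 1 < Nat.card {d // adj B P i ((1 : G) : G ⧸ B) d} := by omega
  have h4 : Nontrivial {d // adj B P i ((1 : G) : G ⧸ B) d} := Finite.one_lt_card_iff_nontrivial.1 h3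
  obtain ⟨⟨c, hc⟩, ⟨d, hd⟩, hne⟩ := exists_pair_ne {d // adj B P i ((1 : G) : G ⧸ B) d}
  induction c using QuotientGroup.induction_on with
  | _ x =>
  induction d using QuotientGroup.induction_on with
  | _ y =>
  rw [adj_mk h.le] at hc hd
  simp only [inv_one, one_mul] at hc hd
  refine ⟨x, hc.1, y, hd.1, hc.2, hd.2, fun hB => hne (Subtype.ext ?_)⟩
  exact QuotientGroup.eq.2 hB

/-- **THEOREM FREE (2b)**: the Bruhat decomposition -/
theorem cosets [Finite G] [Finite I] [Finite W] {F : List I} (hF : cs.IsReduced F)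
    (hw : cs.wordProd F = w0 cs) (hcard : Nat.card U = (F.map q).prod) :
    Bruhat.Cosets cs B P (D cs B P) where
  single w := by
    obtain ⟨f, hf, rfl⟩ := cs.exists_isReduced w
    obtain ⟨l, hl⟩ := exists_isGal h.cham.ex f ((1 : G) : G ⧸ B)
    obtain ⟨x, hx⟩ := QuotientGroup.mk_surjective (l.getLastD ((1 : G) : G ⧸ B))
    refine ⟨x, ?_⟩
    ext y
    rw [h.mem_D_iff hf, DoubleCoset.mem_doubleCoset]
    constructor
    · rintro ⟨l', hl', hy⟩
      obtain ⟨u, rfl⟩ := h.trans hF hw hcard hf hl hl'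
      have h1 : (u : G) • ((1 : G) : G ⧸ B) = ((1 : G) : G ⧸ B) := by
        rw [smul_mk_eq]; simpa using h.U_le u.2
      have h2 := getLastD_map (fun c : G ⧸ B => (u : G) • c) ((1 : G) : G ⧸ B) l
      have h3 : (l.map (u • ·)).getLastD ((1 : G) : G ⧸ B) = (u : G) • (x : G ⧸ B) := by
        rw [hx, ← h2, h1]; rfl
      rw [h3] at hy
      have h4 : ((u * x : G) : G ⧸ B) = (y : G ⧸ B) := hy
      rw [QuotientGroup.eq] at h4
      exact ⟨u, h.U_le u.2, _, h4, by group⟩
    · rintro ⟨a, ha, b, hb, rfl⟩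
      have h1 : (a : G) • ((1 : G) : G ⧸ B) = ((1 : G) : G ⧸ B) := by
        rw [smul_mk_eq]; simpa using ha
      have h2 := hl.map (g := fun c : G ⧸ B => a • c) (fun i c d hcd => adj_smul a hcd)
      have h3 := getLastD_map (fun c : G ⧸ B => a • c) ((1 : G) : G ⧸ B) l
      simp only [h1] at h2 h3
      refine ⟨_, h2, ?_⟩
      rw [h3, ← hx]
      have e : a • (x : G ⧸ B) = ((a * x : G) : G ⧸ B) := rfl
      rw [e, QuotientGroup.eq]
      have e' : (a * x)⁻¹ * (a * x * b) = b := by group
      rw [e']; exact hb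
  one := ⟨[], by simp [CoxeterSystem.IsReduced], rfl, [], by simp, rfl⟩
  le := h.le
  up w i hlt x hx p hp hpB := by
    obtain ⟨f, hf, rfl⟩ := cs.exists_isReduced w
    obtain ⟨l, hl, hx⟩ := (h.mem_D_iff hf).1 hx
    have hred : cs.IsReduced (f ++ [i]) := by
      show cs.length (cs.wordProd (f ++ [i])) = (f ++ [i]).length
      rw [cs.wordProd_append, cs.wordProd_singleton, List.length_append, List.length_singleton, ← hf.eq]
      rcases cs.length_mul_simple (cs.wordProd f) i with h1 | h1 <;> omega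
    have e : cs.wordProd f * cs.simple i = cs.wordProd (f ++ [i]) := by
      rw [cs.wordProd_append, cs.wordProd_singleton]
    rw [e, h.mem_D_iff hred]
    refine ⟨l ++ [((x * p : G) : G ⧸ B)], hl.append ?_, ?_⟩
    · rw [hx]
      refine ⟨?_, trivial⟩
      rw [adj_mk h.le, inv_mul_cancel_left]
      exact ⟨hp, hpB⟩
    · rw [getLastD_append]; rfl
  gen := h.gen
  three := h.three

/-- **THEOREM FREE (2b)**: the BN-pair -/
theorem exists_bnPair [Finite G] [Finite I] [Finite W] {F : List I} (hF : cs.IsReduced F)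
    (hw : cs.wordProd F = w0 cs) (hcard : Nat.card U = (F.map q).prod) :
    ∃ Q : Cfsg.BNPair G, Q.B = B ∧ Q.rank = Nat.card I ∧ (∃ e : I ≃ Q.S, ∀ i, (e i : G) ∈ P i) ∧
      ((∀ J : Set I, J.Nonempty → Jᶜ.Nonempty → ∃ i ∈ J, ∃ j ∈ Jᶜ, M i j ≠ 2) → Q.Irreducible) :=
  (h.cosets hF hw hcard).exists_bnPair

end Sys

end Cfsg.Agent.ParSys.Free
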