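import Cfsg.Agent.ParSys.Polygon
import Cfsg.Agent.ParSys.Hall

/-!
# THEOREM PAR

`Sys p B U H P m`: a parabolic system in a finite group `G` with tori: rank one and rank two conditions only.  Then `G`
has a (B,N)-pair with Borel subgroup `B`, minimal parabolic subgroups `P i` (`Sys.exists_bnPair`).
-/

set_option autoImplicit false

namespace Cfsg.Agent.ParSys

open Subgroup

variable {G : Type*} [Group G] {I : Type*}

/-- The kernel of the action of `M` on `M / B`. -/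
def Qk (B M : Subgroup G) : Subgroup G where
  carrier := {x | ∀ g ∈ M, g⁻¹ * x * g ∈ B}
  mul_mem' := by
    intro x y hx hy g hg
    have := mul_mem (hx g hg) (hy g hg)
    have e : g⁻¹ * x * g * (g⁻¹ * y * g) = g⁻¹ * (x * y) * g := by group
    rwa [e] at this
  one_mem' := by
    intro g _
    have e : g⁻¹ * 1 * g = 1 := by group
    rw [e]; exact one_mem _
  inv_mem' := by
    intro x hx g hg
    have := inv_mem (hx g hg)
    have e : (g⁻¹ * x * g)⁻¹ = g⁻¹ * x⁻¹ * g := by group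
    rwa [e] at this

theorem mem_Qk {B M : Subgroup G} {x : G} : x ∈ Qk B M ↔ ∀ g ∈ M, g⁻¹ * x * g ∈ B := Iff.rfl

theorem Qk_le (B M : Subgroup G) : Qk B M ≤ B := fun x hx => by
  have := hx 1 (one_mem _)
  simpa using this

theorem Qk_mono {B M M' : Subgroup G} (h : M ≤ M') : Qk B M' ≤ Qk B M := fun _ hx g hg => hx g (h hg)

theorem Qk_conj {B M : Subgroup G} {x g : G} (hx : x ∈ Qk B M) (hg : g ∈ M) : g⁻¹ * x * g ∈ Qk B M := by
  intro y hy
  have := hx (g * y) (mul_mem hg hy)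
  have e : (g * y)⁻¹ * x * (g * y) = y⁻¹ * (g⁻¹ * x * g) * y := by group
  rwa [e] at this

theorem Qk_conj' {B M : Subgroup G} {x g : G} (hx : x ∈ Qk B M) (hg : g ∈ M) : g * x * g⁻¹ ∈ Qk B M := by
  have := Qk_conj hx (inv_mem hg)
  rwa [inv_inv] at this

/-- an element of `H` which centralises `U / Q i` and acts fixed-point-freely on `U / Q j` -/
def Sep (B U H : Subgroup G) (Pi Pj : Subgroup G) : Prop :=
  ∃ h ∈ H, (∀ u ∈ U, h * u * h⁻¹ * u⁻¹ ∈ Qk B Pi) ∧ ∀ u ∈ U, h * u * h⁻¹ * u⁻¹ ∈ Qk B Pj → u ∈ Qk B Pj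

/-- The form of `Sep` which is needed: if `T` covers `U / Q j`, then `T ⊓ Q i` covers `U / Q j`. -/
def SepT (B U H Pi Pj : Subgroup G) : Prop :=
  ∀ T ≤ U, H ≤ normalizer (T : Set G) → (∀ u ∈ U, ∃ t ∈ T, t⁻¹ * u ∈ Qk B Pj) →
    ∀ u ∈ U, ∃ t ∈ T, t ∈ Qk B Pi ∧ t⁻¹ * u ∈ Qk B Pj

/-- **A parabolic system with tori.** -/
structure Sys (p : ℕ) (B U H : Subgroup G) (P : I → Subgroup G) (m : I → I → ℕ) : Prop where
  /-- `U` normal `p`-subgroup of `B`, `H` a Hall `p'`-subgroup of `U H`, `U H` normal in `B`, `B / U H` a `p`-group -/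
  hall : Hall.HallData p B U H
  gen : ⨆ i, P i = ⊤
  le : ∀ i, B ≤ P i
  /-- every panel has at least three chambers -/
  three : ∀ i, ∃ x ∈ P i, ∃ y ∈ P i, x ∉ B ∧ y ∉ B ∧ x⁻¹ * y ∉ B
  /-- `U` is transitive on the panels -/
  ptr : ∀ i, Hall.HallData.PTr B U (P i)
  /-- `U` modulo the kernel is semiregular on the panels -/
  reg : ∀ i, ∀ u ∈ U, ∀ g ∈ P i, g ∉ B → g⁻¹ * u * g ∈ B → u ∈ Qk B (P i)
  /-- `C_U(H)` acts trivially on the panels -/
  fix : ∀ i, ∀ c ∈ U, c ∈ centralizer (H : Set G) → c ∈ Qk B (P i)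
  m_two : ∀ i j, i ≠ j → 2 ≤ m i j
  m_symm : ∀ i j, m i j = m j i
  /-- the residues of rank two are generalised polygons -/
  poly : ∀ i j, i ≠ j → Polygon B P i j (m i j)
  /-- `H` distinguishes the two types -/
  torus : ∀ i j, i ≠ j → SepT B U H (P i) (P j) ∨ SepT B U H (P j) (P i)
  /-- `Q i ∩ Q j` consists of non-generators of `U` modulo the kernel of the residue -/
  frat : ∀ i j, i ≠ j → ∀ T ≤ U, H ≤ normalizer (T : Set G) →
    (∀ u ∈ U, ∃ t ∈ T, t⁻¹ * u ∈ Qk B (P i) ∧ t⁻¹ * u ∈ Qk B (P j)) →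
    ∀ u ∈ U, ∃ t ∈ T, t⁻¹ * u ∈ Qk B (P i ⊔ P j)

/-- If `T` covers `U / Q` and `h` acts fixed-point-freely on `U / Q` then the commutators `[h, t]`, `t ∈ T`,
cover `U / Q`. -/
theorem cover_comm [Finite G] {U T Q : Subgroup G} {h : G} (hT : T ≤ U) (hhU : ∀ u ∈ U, h * u * h⁻¹ ∈ U)
    (hhQ : ∀ q ∈ Q, q ∈ U → h * q * h⁻¹ ∈ Q) (hQn : ∀ u ∈ U, ∀ q ∈ Q, u * q * u⁻¹ ∈ Q)
    (hfpf : ∀ u ∈ U, h * u * h⁻¹ * u⁻¹ ∈ Q → u ∈ Q) (hcov : ∀ u ∈ U, ∃ t ∈ T, t⁻¹ * u ∈ Q) :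
    ∀ u ∈ U, ∃ t ∈ T, (h * t * h⁻¹ * t⁻¹)⁻¹ * u ∈ Q := by
  classical
  -- the map induced on `U / (Q ∩ U)`
  let β : U → U := fun v => ⟨h * v * h⁻¹ * (v : G)⁻¹, mul_mem (hhU v v.2) (inv_mem v.2)⟩
  let R : Subgroup U := Q.subgroupOf U
  have hR : ∀ x : U, x ∈ R ↔ (x : G) ∈ Q := fun x => Subgroup.mem_subgroupOf
  have hwd : ∀ v w : U, v⁻¹ * w ∈ R → (β v)⁻¹ * β w ∈ R := by
    intro v w hvw
    rw [hR] at hvw ⊢
    have hvw : (v : G)⁻¹ * w ∈ Q := hvw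
    show (h * v * h⁻¹ * (v : G)⁻¹)⁻¹ * (h * w * h⁻¹ * (w : G)⁻¹) ∈ Q
    have h1 : (v : G)⁻¹ * w ∈ U := mul_mem (inv_mem v.2) w.2
    have h2 := hhQ _ hvw h1
    have h3 := mul_mem h2 (inv_mem hvw)
    have h4 := hQn v v.2 _ h3
    have e : (v : G) * (h * ((v : G)⁻¹ * w) * h⁻¹ * ((v : G)⁻¹ * w)⁻¹) * (v : G)⁻¹ =
        (h * v * h⁻¹ * (v : G)⁻¹)⁻¹ * (h * w * h⁻¹ * (w : G)⁻¹) := by group
    rwa [e] at h4
  have hinj : ∀ v w : U, (β v)⁻¹ * β w ∈ R → v⁻¹ * w ∈ R := by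
    intro v w hvw
    rw [hR] at hvw ⊢
    have hvw : (h * v * h⁻¹ * (v : G)⁻¹)⁻¹ * (h * w * h⁻¹ * (w : G)⁻¹) ∈ Q := hvw
    show (v : G)⁻¹ * w ∈ Q
    have h1 : (v : G)⁻¹ * w ∈ U := mul_mem (inv_mem v.2) w.2
    apply hfpf _ h1
    have h4 := hQn (v : G)⁻¹ (inv_mem v.2) _ hvw
    have e : (v : G)⁻¹ * ((h * v * h⁻¹ * (v : G)⁻¹)⁻¹ * (h * w * h⁻¹ * (w : G)⁻¹)) * ((v : G)⁻¹)⁻¹ =
        h * ((v : G)⁻¹ * w) * h⁻¹ * ((v : G)⁻¹ * w)⁻¹ := by group
    rwa [e] at h4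
  let γ : U ⧸ R → U ⧸ R := Quotient.map' β (fun v w hvw => by
    rw [QuotientGroup.leftRel_apply] at hvw ⊢
    exact hwd v w hvw)
  have hγ : Function.Injective γ := by
    intro x y
    induction x using QuotientGroup.induction_on with
    | H v =>
      induction y using QuotientGroup.induction_on with
      | H w =>
        intro hxy
        have h1 : ((β v : U) : U ⧸ R) = ((β w : U) : U ⧸ R) := hxy
        rw [QuotientGroup.eq] at h1
        exact QuotientGroup.eq.2 (hinj v w h1)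
  have hsur : Function.Surjective γ := Finite.surjective_of_injective hγ
  intro u hu
  obtain ⟨x, hx⟩ := hsur ((⟨u, hu⟩ : U) : U ⧸ R)
  induction x using QuotientGroup.induction_on with
  | H v =>
    obtain ⟨t, ht, htv⟩ := hcov v v.2
    have h1 : ((β v : U) : U ⧸ R) = ((⟨u, hu⟩ : U) : U ⧸ R) := hx
    rw [QuotientGroup.eq] at h1
    have h2 := hwd ⟨t, hT ht⟩ v (by rw [hR]; exact htv)
    have h3 := mul_mem h2 h1
    rw [mul_assoc, mul_inv_cancel_left, hR] at h3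
    exact ⟨t, ht, h3⟩

/-- a torus element separating the two panels -/
theorem Sep.sepT [Finite G] {p : ℕ} {B U H Pi Pj : Subgroup G} (hall : Hall.HallData p B U H) (hj : B ≤ Pj)
    (h : Sep B U H Pi Pj) : SepT B U H Pi Pj := by
  intro T hTU hTH hj'
  obtain ⟨h, hh, h1, h2⟩ := h
  have hhB := hall.H_le hh
  have hhU : ∀ u ∈ U, h * u * h⁻¹ ∈ U := fun u hu =>
    (Subgroup.mem_normalizer_iff.mp (hall.U_norm hhB) u).mp hu
  have hhT : ∀ t ∈ T, h * t * h⁻¹ ∈ T := fun t ht =>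
    (Subgroup.mem_normalizer_iff.mp (hTH hh) t).mp ht
  have key := cover_comm (Q := Qk B Pj) hTU hhU (fun q hq _ => Qk_conj' hq (hj hhB))
    (fun u hu q hq => Qk_conj' hq (hj (hall.U_le hu))) h2 hj'
  intro u hu
  obtain ⟨t, ht, h3⟩ := key u hu
  exact ⟨h * t * h⁻¹ * t⁻¹, mul_mem (hhT t ht) (inv_mem ht), h1 t (hTU ht), h3⟩

theorem ag_mul_Qk {B M : Subgroup G} {n : I → G} {t s k : G} {f : List I} {l : List G} (hk : k ∈ Qk B M)
    (hn : ∀ i ∈ f, n i ∈ M) (hA : Ag B n (t * k) s f l) : Ag B n t s f l := by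
  have key : ∀ {x y z : G}, x ∈ Qk B M → (y * x)⁻¹ * z ∈ B → y⁻¹ * z ∈ B := fun {x y z} hx h1 => by
    have := mul_mem (Qk_le B M hx) h1
    have e : x * ((y * x)⁻¹ * z) = y⁻¹ * z := by group
    rwa [e] at this
  induction f generalizing t s l k with
  | nil => exact key hk hA
  | cons i f ih =>
    cases l with
    | nil => exact hA.elim
    | cons x l =>
      refine ⟨key hk hA.1, ?_⟩
      have h2 : Ag B n (t * k * n i) (s * x) f l := hA.2
      have e : t * k * n i = t * n i * ((n i)⁻¹ * k * n i) := by group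
      rw [e] at h2
      exact ih (Qk_conj hk (hn i (by simp))) (fun j hj => hn j (by simp [hj])) h2

theorem mem_alt {a b i : I} {k : ℕ} (h : i ∈ alt a b k) : i = a ∨ i = b := by
  induction k generalizing a b with
  | zero => simp at h
  | succ k ih =>
    rw [alt_cons, List.mem_cons] at h
    rcases h with h | h
    · exact Or.inl h
    · exact (ih h).symm

namespace Sys

variable {p : ℕ} {B U H : Subgroup G} {P : I → Subgroup G} {m : I → I → ℕ} (S : Sys p B U H P m)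

include S

theorem Qk_normU (i : I) {u q : G} (hu : u ∈ U) (hq : q ∈ Qk B (P i)) : u * q * u⁻¹ ∈ Qk B (P i) :=
  Qk_conj' hq (S.le i (S.hall.U_le hu))

variable [Finite G] [Fact p.Prime]

/-- `B = U N_B(H)` -/
theorem exists_mul {b : G} (hb : b ∈ B) : ∃ u ∈ U, ∃ h ∈ B ⊓ normalizer (H : Set G), b = u * h := by
  open Pointwise in
  obtain ⟨u, hu, h⟩ := S.hall.conj (K := MulAut.conj b • H) (by
    intro x hx
    rw [Subgroup.mem_smul_pointwise_iff_exists] at hx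
    obtain ⟨a, ha, rfl⟩ := hx
    rw [MulAut.smul_def, MulAut.conj_apply]
    exact mul_mem (mul_mem hb (S.hall.H_le ha)) (inv_mem hb))
    (Nat.card_congr (Subgroup.equivSMul (MulAut.conj b) H).symm.toEquiv)
  refine ⟨u, hu, u⁻¹ * b, mem_inf.2 ⟨mul_mem (inv_mem (S.hall.U_le hu)) hb, ?_⟩, by group⟩
  open Pointwise in
  have h2 : MulAut.conj (u⁻¹ * b) • H = H := by
    rw [map_mul, mul_smul, ← h, ← mul_smul, ← map_mul, inv_mul_cancel, map_one, one_smul]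
  have h3 : ∀ x : G, MulAut.conj (u⁻¹ * b) • H = H → ∀ y ∈ H, (u⁻¹ * b) * y * (u⁻¹ * b)⁻¹ ∈ H := by
    intro _ h4 y hy
    have := Subgroup.smul_mem_pointwise_smul y (MulAut.conj (u⁻¹ * b)) H hy
    rw [h4] at this
    exact this
  rw [Subgroup.mem_normalizer_iff]
  intro y
  refine ⟨h3 1 h2 y, fun hy => ?_⟩
  rw [← h2, Subgroup.mem_smul_pointwise_iff_exists] at hy
  obtain ⟨z, hz, hzy⟩ := hy
  rw [MulAut.smul_def, MulAut.conj_apply] at hzy
  have : z = y := by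
    have h5 := congrArg (fun w => (u⁻¹ * b)⁻¹ * w * (u⁻¹ * b)) hzy
    have e1 : (u⁻¹ * b)⁻¹ * ((u⁻¹ * b) * z * (u⁻¹ * b)⁻¹) * (u⁻¹ * b) = z := by group
    have e2 : (u⁻¹ * b)⁻¹ * ((u⁻¹ * b) * y * (u⁻¹ * b)⁻¹) * (u⁻¹ * b) = y := by group
    rw [← e1, ← e2]; exact h5
  rwa [← this]

/-- two `H`-fixed chambers `≠ B` of a panel coincide -/
theorem panel_unique (i : I) {g g' : G} (hg : g ∈ P i) (hgB : g ∉ B) (hg' : g' ∈ P i) (hgB' : g' ∉ B)
    (hfix : ∀ a ∈ H, g⁻¹ * a * g ∈ B) (hfix' : ∀ a ∈ H, g'⁻¹ * a * g' ∈ B) : g⁻¹ * g' ∈ B := by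
  obtain ⟨u, hu, b, hb, he⟩ := S.ptr i g hg hgB g' hg' hgB'
  obtain ⟨c, hcU, hcC, hc⟩ := S.hall.fixed_trans (X := G ⧸ B) ((g : G) : G ⧸ B) ((g' : G) : G ⧸ B) (by
      intro a ha
      change ((a * g : G) : G ⧸ B) = _
      refine (QuotientGroup.eq.mpr ?_).symm
      rw [← mul_assoc]
      exact hfix a ha) (by
      intro a ha
      change ((a * g' : G) : G ⧸ B) = _
      refine (QuotientGroup.eq.mpr ?_).symm
      rw [← mul_assoc]
      exact hfix' a ha) hu (by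
      change ((u * g : G) : G ⧸ B) = _
      rw [he]
      exact (QuotientGroup.mk_mul_of_mem _ hb).symm)
  have h1 : ((c * g : G) : G ⧸ B) = ((g' : G) : G ⧸ B) := hc
  have h2 := QuotientGroup.eq.1 h1
  have h3 := S.fix i c hcU hcC g hg
  have h4 := mul_mem h3 h2
  have e : g⁻¹ * c * g * ((c * g)⁻¹ * g') = g⁻¹ * g' := by group
  rwa [e] at h4

omit S [Finite G] [Fact p.Prime] in
theorem norm_conj_mem {n a : G} (hn : n ∈ normalizer (H : Set G)) (ha : a ∈ H) : n⁻¹ * a * n ∈ H := by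
  have := (Subgroup.mem_normalizer_iff.mp (inv_mem hn) a).mp ha
  simpa using this

theorem conj_mem (i : I) {n : G} (hn : n ∈ P i) (hnB : n ∉ B) (hnH : n ∈ normalizer (H : Set G)) {y : G}
    (hy : y ∈ B) (hyH : y ∈ normalizer (H : Set G)) : n⁻¹ * y * n ∈ B := by
  have h1 : ∀ a ∈ H, n⁻¹ * a * n ∈ B := fun a ha => S.hall.H_le (norm_conj_mem hnH ha)
  have h2 : ∀ a ∈ H, (y * n)⁻¹ * a * (y * n) ∈ B := by
    intro a ha
    have : (y * n)⁻¹ * a * (y * n) = n⁻¹ * (y⁻¹ * a * y) * n := by group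
    rw [this]
    exact h1 _ (norm_conj_mem hyH ha)
  have h3 : y * n ∉ B := fun h => hnB (by simpa using B.mul_mem (B.inv_mem hy) h)
  have := S.panel_unique i hn hnB ((P i).mul_mem (S.le i hy) hn) h3 h1 h2
  rwa [← mul_assoc] at this

theorem conj_mem' (i : I) {n : G} (hn : n ∈ P i) (hnB : n ∉ B) (hnH : n ∈ normalizer (H : Set G)) {y : G}
    (hy : y ∈ B) (hyH : y ∈ normalizer (H : Set G)) : n * y * n⁻¹ ∈ B := by
  have := S.conj_mem i ((P i).inv_mem hn) (fun h => hnB (by simpa using B.inv_mem h))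
    (Subgroup.inv_mem _ hnH) hy hyH
  simpa using this

theorem sq_mem (i : I) {n : G} (hn : n ∈ P i) (hnB : n ∉ B) (hnH : n ∈ normalizer (H : Set G)) :
    n * n ∈ B := by
  by_contra hnn
  have h1 : ∀ a ∈ H, n⁻¹ * a * n ∈ B := fun a ha => S.hall.H_le (norm_conj_mem hnH ha)
  have h2 : ∀ a ∈ H, (n * n)⁻¹ * a * (n * n) ∈ B := by
    intro a ha
    have : (n * n)⁻¹ * a * (n * n) = n⁻¹ * (n⁻¹ * a * n) * n := by group
    rw [this]
    exact h1 _ (norm_conj_mem hnH ha)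
  have := S.panel_unique i hn hnB ((P i).mul_mem hn hn) hnn h1 h2
  exact hnB (by simpa using this)

theorem exists_n (i : I) : ∃ n ∈ P i, n ∉ B ∧ n ∈ normalizer (H : Set G) := by
  obtain ⟨x, hx, _, _, hxB, _⟩ := S.three i
  exact S.hall.exists_n (S.le i) ⟨x, hx, hxB⟩ (S.ptr i)

omit [Finite G] [Fact p.Prime] in
/-- the covering step of (G1) -/
theorem cover_of_pan {n : I → G} (hn : ∀ i, n i ∈ P i) (hnB : ∀ i, n i ∉ B) {T : Subgroup G} (hTU : T ≤ U)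
    {i : I} (hT : Pan B P n T i) : ∀ u ∈ U, ∃ t ∈ T, t⁻¹ * u ∈ Qk B (P i) := by
  intro u hu
  have hx : u * n i ∈ P i := mul_mem (S.le i (S.hall.U_le hu)) (hn i)
  have hxB : u * n i ∉ B := fun h => hnB i (by
    have := mul_mem (inv_mem (S.hall.U_le hu)) h
    rwa [inv_mul_cancel_left] at this)
  obtain ⟨t, ht, h1⟩ := hT _ hx hxB
  refine ⟨t, ht, S.reg i _ (mul_mem (inv_mem (hTU ht)) hu) (n i) (hn i) (hnB i) ?_⟩
  have e : (n i)⁻¹ * (t⁻¹ * u) * n i = (t * n i)⁻¹ * (u * n i) := by group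
  rwa [e]

omit [Finite G] [Fact p.Prime] in
theorem cover_inf {i j : I} (hij : SepT B U H (P i) (P j)) {T : Subgroup G} (hTU : T ≤ U)
    (hTH : H ≤ normalizer (T : Set G)) (hi : ∀ u ∈ U, ∃ t ∈ T, t⁻¹ * u ∈ Qk B (P i))
    (hj : ∀ u ∈ U, ∃ t ∈ T, t⁻¹ * u ∈ Qk B (P j)) :
    ∀ u ∈ U, ∃ t ∈ T, t⁻¹ * u ∈ Qk B (P i) ∧ t⁻¹ * u ∈ Qk B (P j) := by
  intro u hu
  obtain ⟨t, ht, htu⟩ := hi u hu
  obtain ⟨t', ht', h1, h3⟩ := hij T hTU hTH hj (t⁻¹ * u) (mul_mem (inv_mem (hTU ht)) hu)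
  refine ⟨t * t', mul_mem ht ht', ?_, ?_⟩
  · have e : (t * t')⁻¹ * u = t'⁻¹ * (t⁻¹ * u) := by group
    rw [e]
    exact mul_mem (inv_mem h1) htu
  · have e : (t * t')⁻¹ * u = t'⁻¹ * (t⁻¹ * u) := by group
    rw [e]; exact h3

/-- **(G1)** -/
theorem g1 {n : I → G} (hn : ∀ i, n i ∈ P i) (hnB : ∀ i, n i ∉ B)
    (hnH : ∀ i, n i ∈ normalizer (H : Set G)) {i j : I} (hij : i ≠ j) {T : Subgroup G}
    (hT : Hall.HallData.Adm U H T) (hi : Pan B P n T i) (hj : Pan B P n T j) :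
    Tr B P n T (alt i j (m i j)) := by
  have hTU := hT.1
  have hTB : T ≤ B := hTU.trans S.hall.U_le
  have hU := (S.poly i j hij).tr (n := n) S.le hn hnB S.hall.U_le (inf_le_left : B ⊓ normalizer (H : Set G) ≤ B)
    (fun i h hh => mem_inf.2 ⟨S.conj_mem i (hn i) (hnB i) (hnH i) (mem_inf.1 hh).1 (mem_inf.1 hh).2,
      by
        have h1 := mul_mem (mul_mem (inv_mem (hnH i)) (mem_inf.1 hh).2) (hnH i)
        exact h1⟩)
    (fun y hy => S.exists_mul hy)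
  have hci := S.cover_of_pan hn hnB hTU hi
  have hcj := S.cover_of_pan hn hnB hTU hj
  have hc : ∀ u ∈ U, ∃ t ∈ T, t⁻¹ * u ∈ Qk B (P i) ∧ t⁻¹ * u ∈ Qk B (P j) := by
    rcases S.torus i j hij with h | h
    · exact S.cover_inf h hTU hT.2 hci hcj
    · intro u hu
      obtain ⟨t, ht, h1, h2⟩ := S.cover_inf h hTU hT.2 hcj hci u hu
      exact ⟨t, ht, h2, h1⟩
  have hk := S.frat i j hij T hTU hT.2 hc
  rw [tr_iff S.le hn hnB U S.hall.U_le] at hU
  rw [tr_iff S.le hn hnB T hTB]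
  intro l hl
  obtain ⟨u, hu, hA⟩ := hU l hl
  obtain ⟨t, ht, h1⟩ := hk u hu
  refine ⟨t, ht, ag_mul_Qk h1 ?_ (by rw [mul_inv_cancel_left]; exact hA)⟩
  intro k hk
  rcases mem_alt hk with rfl | rfl
  · exact (le_sup_left : P _ ≤ _) (hn _)
  · exact (le_sup_right : P _ ≤ _) (hn _)

omit S [Finite G] [Fact p.Prime] in
theorem norm_nw {n : I → G} (hnH : ∀ i, n i ∈ normalizer (H : Set G)) (f : List I) :
    nw n f ∈ normalizer (H : Set G) := by
  induction f with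
  | nil => exact one_mem _
  | cons i f ih => rw [nw_cons]; exact mul_mem (hnH i) ih

theorem conj_nw {n : I → G} (hn : ∀ i, n i ∈ P i) (hnB : ∀ i, n i ∉ B)
    (hnH : ∀ i, n i ∈ normalizer (H : Set G)) (f : List I) {y : G} (hy : y ∈ B ⊓ normalizer (H : Set G)) :
    (nw n f)⁻¹ * y * nw n f ∈ B ⊓ normalizer (H : Set G) := by
  induction f generalizing y with
  | nil => simpa using hy
  | cons i f ih =>
    have h1 : (n i)⁻¹ * y * n i ∈ B ⊓ normalizer (H : Set G) :=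
      mem_inf.2 ⟨S.conj_mem i (hn i) (hnB i) (hnH i) (mem_inf.1 hy).1 (mem_inf.1 hy).2,
        mul_mem (mul_mem (inv_mem (hnH i)) (mem_inf.1 hy).2) (hnH i)⟩
    have h2 := ih h1
    have e : (nw n (i :: f))⁻¹ * y * nw n (i :: f) = (nw n f)⁻¹ * ((n i)⁻¹ * y * n i) * nw n f := by
      rw [nw_cons]; group
    rw [e]; exact h2

theorem braid {n : I → G} (hn : ∀ i, n i ∈ P i) (hnB : ∀ i, n i ∉ B)
    (hnH : ∀ i, n i ∈ normalizer (H : Set G)) {i j : I} (hij : i ≠ j) :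
    (nw n (alt i j (m i j)))⁻¹ * nw n (alt j i (m i j)) ∈ B ⊓ normalizer (H : Set G) := by
  set g := nw n (alt i j (m i j)) with hg
  set g' := nw n (alt j i (m i j)) with hg'
  have hgH : g ∈ normalizer (H : Set G) := norm_nw hnH _
  have hgH' : g' ∈ normalizer (H : Set G) := norm_nw hnH _
  obtain ⟨y, hy, h1⟩ := (S.poly i j hij).swap_std (n := n) hn hnB
  rw [← hg, ← hg'] at h1
  obtain ⟨u, hu, h, hh, rfl⟩ := S.exists_mul hy
  have h2 : (u * g)⁻¹ * g' ∈ B := by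
    have h3 := S.conj_nw hn hnB hnH (alt i j (m i j)) hh
    rw [← hg] at h3
    have h4 := mul_mem (mem_inf.1 h3).1 h1
    have e : g⁻¹ * h * g * ((u * h * g)⁻¹ * g') = (u * g)⁻¹ * g' := by group
    rwa [e] at h4
  obtain ⟨c, hcU, hcC, hc⟩ := S.hall.fixed_trans (X := G ⧸ B) ((g : G) : G ⧸ B) ((g' : G) : G ⧸ B) (by
      intro a ha
      change ((a * g : G) : G ⧸ B) = _
      refine (QuotientGroup.eq.mpr ?_).symm
      rw [← mul_assoc]
      exact S.hall.H_le (norm_conj_mem hgH ha)) (by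
      intro a ha
      change ((a * g' : G) : G ⧸ B) = _
      refine (QuotientGroup.eq.mpr ?_).symm
      rw [← mul_assoc]
      exact S.hall.H_le (norm_conj_mem hgH' ha)) hu (by
      change ((u * g : G) : G ⧸ B) = _
      exact QuotientGroup.eq.2 h2)
  have h5 : ((c * g : G) : G ⧸ B) = ((g' : G) : G ⧸ B) := hc
  have h6 := QuotientGroup.eq.1 h5
  have hcN : c ∈ normalizer (H : Set G) := by
    rw [Subgroup.mem_normalizer_iff]
    intro y
    rw [Subgroup.mem_centralizer_iff] at hcC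
    constructor
    · intro hy
      have := hcC y hy
      rwa [← this, mul_inv_cancel_right]
    · intro hy
      have := hcC _ hy
      have e : y = c⁻¹ * (c * y * c⁻¹ * c) := by group
      rw [e, this]
      have e2 : c⁻¹ * (c * (c * y * c⁻¹)) = c * y * c⁻¹ := by group
      rw [e2]
      exact hy
  have h7 : c ∈ B ⊓ normalizer (H : Set G) := mem_inf.2 ⟨S.hall.U_le hcU, hcN⟩
  have h8 := S.conj_nw hn hnB hnH (alt i j (m i j)) h7
  rw [← hg] at h8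
  have h9 : (c * g)⁻¹ * g' ∈ B ⊓ normalizer (H : Set G) :=
    mem_inf.2 ⟨h6, mul_mem (inv_mem (mul_mem hcN hgH)) hgH'⟩
  have h10 := mul_mem h8 h9
  have e : g⁻¹ * c * g * ((c * g)⁻¹ * g') = g⁻¹ * g' := by group
  rwa [e] at h10

/-- **THEOREM PAR**: the data of the abstract core. -/
theorem data : ∃ n : I → G, (∀ i, n i ∈ normalizer (H : Set G)) ∧
    Data B P n (B ⊓ normalizer (H : Set G)) U m (Hall.HallData.Adm U H) := by
  choose n hn hnB hnH using S.exists_n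
  refine ⟨n, hnH, ?_⟩
  have hB' : ∀ {g : G}, g ∉ B → g⁻¹ ∉ B := fun {g} h h' => h (by simpa using inv_mem h')
  exact {
    le := S.le
    gen := S.gen
    n_mem := hn
    n_not := hnB
    H_le := inf_le_left
    conj := fun i h hh => mem_inf.2 ⟨S.conj_mem' i (hn i) (hnB i) (hnH i) (mem_inf.1 hh).1 (mem_inf.1 hh).2,
      mul_mem (mul_mem (hnH i) (mem_inf.1 hh).2) (inv_mem (hnH i))⟩
    conj' := fun i h hh => mem_inf.2 ⟨S.conj_mem i (hn i) (hnB i) (hnH i) (mem_inf.1 hh).1 (mem_inf.1 hh).2,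
      mul_mem (mul_mem (inv_mem (hnH i)) (mem_inf.1 hh).2) (hnH i)⟩
    sq := fun i => mem_inf.2 ⟨S.sq_mem i (hn i) (hnB i) (hnH i), mul_mem (hnH i) (hnH i)⟩
    three := by
      intro i
      obtain ⟨x, hx, y, hy, hxB, hyB, hxy⟩ := S.three i
      by_cases h : (n i)⁻¹ * x ∈ B
      · refine ⟨y, hy, hyB, fun h' => hxy ?_⟩
        have := mul_mem (inv_mem h) h'
        have e : ((n i)⁻¹ * x)⁻¹ * ((n i)⁻¹ * y) = x⁻¹ * y := by group
        rwa [e] at this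
      · exact ⟨x, hx, hxB, h⟩
    m_two := S.m_two
    m_symm := S.m_symm
    braid := fun i j hij => S.braid hn hnB hnH hij
    unq := fun i j hij => (S.poly i j hij).unq S.le hn hnB
    U_le := S.hall.U_le
    adm_U := ⟨le_rfl, S.hall.H_norm_U⟩
    adm_le := fun T hT => hT.1
    adm_stp := fun T i hT => S.hall.adm_stp hT (hnH i)
    pan := by
      intro i x hx hxB
      obtain ⟨u, hu, b, hb, h⟩ := S.ptr i (n i) (hn i) (hnB i) x hx hxB
      refine ⟨u, hu, ?_⟩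
      rw [h]
      have e : (u * n i)⁻¹ * (u * n i * b) = b := by group
      rw [e]; exact hb
    g1 := fun i j hij T hT hi hj => S.g1 hn hnB hnH hij hT hi hj }

/-- **THEOREM PAR**: `G` has a (B,N)-pair with Borel subgroup `B`, of rank `|I|`. -/
theorem exists_bnPair : ∃ Q : Cfsg.BNPair G, Q.B = B ∧ Q.rank = Nat.card I ∧
    ((∀ J : Set I, J.Nonempty → Jᶜ.Nonempty → ∃ i ∈ J, ∃ j ∈ Jᶜ, 3 ≤ m i j) → Q.Irreducible) := by
  obtain ⟨n, -, D⟩ := S.data
  exact ⟨D.bnPair, rfl, D.rank_bnPair, D.irreducible⟩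

end Sys

end Cfsg.Agent.ParSys
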