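import Mathlib
import Cfsg.Agent.ParSys.FreeMain

/-!
# THEOREM FREE: adapters for `pan`, `clo`, `core`
-/

set_option autoImplicit false

namespace Cfsg.Agent.ParSys.Free

open Cfsg.Agent.ParSys Cfsg.Agent.Tits.Core

variable {G : Type*} [Group G]

/-- `clo`: `U` is the normal Sylow `p`-subgroup of `B` -/
theorem clo_of_sylow {p : ℕ} [Fact p.Prime] [Finite G] {B U : Subgroup G}
    (hn : ∀ b ∈ B, ∀ u ∈ U, b * u * b⁻¹ ∈ U) (hi : ¬ p ∣ U.relIndex B) {g : G} (hg : g ∈ B) {k : ℕ}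
    (hk : g ^ p ^ k = 1) : g ∈ U := by
  have hnor : (U.subgroupOf B).Normal := by
    constructor
    intro u hu b
    rw [Subgroup.mem_subgroupOf] at hu ⊢
    exact hn b b.2 u hu
  have h1 : ((⟨g, hg⟩ : B) : B ⧸ U.subgroupOf B) = 1 := by
    have h2 : ((⟨g, hg⟩ : B) : B ⧸ U.subgroupOf B) ^ p ^ k = 1 := by
      rw [← QuotientGroup.mk_pow]
      have : (⟨g, hg⟩ : B) ^ p ^ k = 1 := Subtype.ext (by simpa using hk)
      rw [this]; rfl
    have h3 : ((⟨g, hg⟩ : B) : B ⧸ U.subgroupOf B) ^ Nat.card (B ⧸ U.subgroupOf B) = 1 := pow_card_eq_one'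
    have h4 : Nat.Coprime (p ^ k) (Nat.card (B ⧸ U.subgroupOf B)) :=
      Nat.Coprime.pow_left k (((Fact.out : p.Prime).coprime_iff_not_dvd).2 hi)
    have h5 := orderOf_dvd_of_pow_eq_one h2
    have h6 := orderOf_dvd_of_pow_eq_one h3
    have h7 := Nat.dvd_gcd h5 h6
    rw [Nat.Coprime.gcd_eq_one h4] at h7
    exact orderOf_eq_one_iff.1 (Nat.dvd_one.1 h7)
  have h2 := (QuotientGroup.eq_one_iff _).1 h1
  exact Subgroup.mem_subgroupOf.1 h2

/-- `clo` from: every element of `p`-power order of `B` lies in `U` -/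
theorem clo_of_mem {p : ℕ} {B U : Subgroup G} (hp : IsPGroup p U)
    (hU : ∀ g ∈ B, ∀ k : ℕ, g ^ p ^ k = 1 → g ∈ U) (g : G) (hg : g ∈ U) (x : G) (hx : x⁻¹ * g * x ∈ B) :
    x⁻¹ * g * x ∈ U := by
  obtain ⟨k, hk⟩ := hp ⟨g, hg⟩
  refine hU _ hx k ?_
  have h1 : g ^ p ^ k = 1 := by simpa using congrArg Subtype.val hk
  have e : (x⁻¹ * g * x) ^ p ^ k = x⁻¹ * g ^ p ^ k * x := by
    have := conj_pow (i := p ^ k) (a := x⁻¹) (b := g)
    rwa [inv_inv] at this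
  rw [e, h1]; group

/-- `core` for a simple group -/
theorem core_of_simple [IsSimpleGroup G] {B : Subgroup G} (hB : B ≠ ⊤) (g : G) (hg : ∀ x, x⁻¹ * g * x ∈ B) :
    g = 1 := by
  have h1 : B.normalCore = ⊥ := by
    rcases (Subgroup.normalCore_normal B).eq_bot_or_eq_top with h | h
    · exact h
    · exact absurd (eq_top_iff.2 (h ▸ Subgroup.normalCore_le B)) hB
  have h2 : g ∈ B.normalCore := by
    intro b
    have := hg b⁻¹
    rwa [inv_inv] at this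
  rw [h1] at h2
  exact Subgroup.mem_bot.1 h2

/-- `core` from `O_p(G) = 1` -/
theorem core_of_pcore {p : ℕ} {B U : Subgroup G} (hp : IsPGroup p U)
    (hU : ∀ g ∈ B, ∀ k : ℕ, g ^ p ^ k = 1 → g ∈ U)
    (hO : ∀ N : Subgroup G, N.Normal → IsPGroup p N → N ≤ U → N = ⊥) (g : G) (hgU : g ∈ U)
    (hg : ∀ x, x⁻¹ * g * x ∈ B) : g = 1 := by
  let N : Subgroup G := Subgroup.normalClosure {g}
  have h1 : N ≤ U := by
    rw [show N = Subgroup.closure (Group.conjugatesOfSet {g}) from rfl, Subgroup.closure_le]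
    intro y hy
    obtain ⟨z, hz, hzy⟩ := Group.mem_conjugatesOfSet_iff.1 hy
    rw [Set.mem_singleton_iff] at hz
    subst hz
    obtain ⟨c, rfl⟩ := isConj_iff.1 hzy
    have h2 := hg c⁻¹
    have h3 := clo_of_mem hp hU z hgU c⁻¹ h2
    rwa [inv_inv] at h3
  have h2 := hO N inferInstance (hp.to_le h1) h1
  have h3 : g ∈ N := Subgroup.subset_normalClosure rfl
  rw [h2] at h3
  exact Subgroup.mem_bot.1 h3

/-- `pan` for a panel with three chambers -/
theorem pan_of_three [Finite G] {B P : Subgroup G} (hBP : B ≤ P) (h3 : B.relIndex P = 3) (g : G) (hg : g ∈ B)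
    (x : G) (hx : x ∈ P) (hxB : x ∉ B) (hgx : x⁻¹ * g * x ∈ B) (y : G) (hy : y ∈ P) : y⁻¹ * g * y ∈ B := by
  by_cases hyB : y ∈ B
  · exact mul_mem (mul_mem (inv_mem hyB) hg) hyB
  by_cases hxy : x⁻¹ * y ∈ B
  · have e : y⁻¹ * g * y = (x⁻¹ * y)⁻¹ * (x⁻¹ * g * x) * (x⁻¹ * y) := by group
    rw [e]
    exact mul_mem (mul_mem (inv_mem hxy) hgx) hxy
  -- the four chambers `1, x, y, g y`
  let Q := P ⧸ B.subgroupOf P
  have hcard : Nat.card Q = 3 := h3
  have hgP : g ∈ P := hBP hg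
  have hne : ∀ {a b : G} (ha : a ∈ P) (hb : b ∈ P), a⁻¹ * b ∉ B →
      ((⟨a, ha⟩ : P) : Q) ≠ ((⟨b, hb⟩ : P) : Q) := by
    intro a b ha hb h h'
    exact h (Subgroup.mem_subgroupOf.1 (QuotientGroup.eq.1 h'))
  by_contra hcon
  have hgy : g * y ∈ P := mul_mem hgP hy
  have n1 := hne (one_mem P) hx (by simpa using hxB)
  have n2 := hne (one_mem P) hy (by simpa using hyB)
  have n3 := hne hx hy hxy
  have n4 := hne (one_mem P) hgy (by
    simp only [inv_one, one_mul]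
    intro h
    exact hyB (by have := mul_mem (inv_mem hg) h; rwa [inv_mul_cancel_left] at this))
  have n5 := hne hx hgy (by
    intro h
    apply hxy
    have := mul_mem (inv_mem hgx) h
    have e : (x⁻¹ * g * x)⁻¹ * (x⁻¹ * (g * y)) = x⁻¹ * y := by group
    rwa [e] at this)
  have n6 := hne hy hgy (by
    have e : y⁻¹ * (g * y) = y⁻¹ * g * y := by group
    rw [e]; exact hcon)
  have : Fintype Q := Fintype.ofFinite Q
  rw [Nat.card_eq_fintype_card] at hcard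
  have h4 : ({((1 : P) : Q), ((⟨x, hx⟩ : P) : Q), ((⟨y, hy⟩ : P) : Q), ((⟨g * y, hgy⟩ : P) : Q)} :
      Set Q).ncard ≤ 3 := by
    rw [← hcard, ← Nat.card_eq_fintype_card, ← Set.ncard_univ]
    exact Set.ncard_le_ncard (Set.subset_univ _) (Set.toFinite _)
  have e1 : ((1 : P) : Q) = ((⟨1, one_mem P⟩ : P) : Q) := rfl
  rw [e1] at h4
  rw [Set.ncard_insert_of_notMem (by simp [n1, n2, n4]), Set.ncard_insert_of_notMem (by simp [n3, n5]),
    Set.ncard_pair n6] at h4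
  omega

/-- `pan` if `U` is TI modulo a normal subgroup `N ≤ B` of `P` -/
theorem pan_of_ti {B P U N : Subgroup G} (hN : N ≤ B) (hnor : ∀ x ∈ P, ∀ g ∈ N, x⁻¹ * g * x ∈ N)
    (hclo : ∀ g ∈ U, ∀ x, x⁻¹ * g * x ∈ B → x⁻¹ * g * x ∈ U)
    (hti : ∀ x ∈ P, x ∉ B → ∀ g ∈ U, x⁻¹ * g * x ∈ U → g ∈ N) (g : G) (hg : g ∈ U) (x : G) (hx : x ∈ P)
    (hxB : x ∉ B) (hgx : x⁻¹ * g * x ∈ B) (y : G) (hy : y ∈ P) : y⁻¹ * g * y ∈ B :=
  hN (hnor y hy g (hti x hx hxB g hg (hclo g hg x hgx)))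

variable {I : Type*} {M : CoxeterMatrix I} {W : Type*} [Group W]

/-- **THEOREM FREE for `q = 2`** (all panels have three chambers; `U = B`) -/
theorem sys_two [Finite G] [IsSimpleGroup G] (cs : CoxeterSystem M W) {B : Subgroup G} {P : I → Subgroup G}
    (htop : B ≠ ⊤) (hBP : ∀ i, B ≤ P i) (hgen : ⨆ i, P i = ⊤)
    (hgp : GP B P (fun i j => M i j)) (h3 : ∀ i, B.relIndex (P i) = 3) : Sys cs B P B (fun _ => 2) where
  le := hBP
  gen := hgen
  gp := hgp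
  card i := h3 i
  two _ := le_rfl
  U_le := le_rfl
  pan i g hg x hx hxB hgx y hy := pan_of_three (hBP i) (h3 i) g hg x hx hxB hgx y hy
  clo _ _ _ h := h
  core g _ h := core_of_simple htop g h

theorem prod_two (F : List I) : (F.map fun _ => 2).prod = 2 ^ F.length := by
  induction F with
  | nil => rfl
  | cons i F ih => rw [List.map_cons, List.prod_cons, ih, List.length_cons, pow_succ, mul_comm]

/-- `q = 2`: the bound `|S| ≤ 2 ^ l(w0)` -/
theorem card_le_two [Finite G] [IsSimpleGroup G] [Finite I] [Finite W] (cs : CoxeterSystem M W) {B : Subgroup G}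
    {P : I → Subgroup G} (htop : B ≠ ⊤) (hBP : ∀ i, B ≤ P i) (hgen : ⨆ i, P i = ⊤)
    (hgp : GP B P (fun i j => M i j)) (h3 : ∀ i, B.relIndex (P i) = 3) :
    Nat.card B ≤ 2 ^ cs.length (w0 cs) := by
  obtain ⟨F, hF, he⟩ := cs.exists_isReduced (w0 cs)
  have := (sys_two cs htop hBP hgen hgp h3).card_le hF he.symm
  rw [prod_two] at this
  rw [he, hF.eq]
  exact this

/-- **`q = 2`, `|S| = 2 ^ l(w0)`** : BN-pair -/
theorem exists_bnPair_two [Finite G] [IsSimpleGroup G] [Finite I] [Finite W] (cs : CoxeterSystem M W)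
    {B : Subgroup G} {P : I → Subgroup G} (htop : B ≠ ⊤) (hBP : ∀ i, B ≤ P i)
    (hgen : ⨆ i, P i = ⊤) (hgp : GP B P (fun i j => M i j)) (h3 : ∀ i, B.relIndex (P i) = 3)
    (hcard : Nat.card B = 2 ^ cs.length (w0 cs)) :
    ∃ Q : Cfsg.BNPair G, Q.B = B ∧ Q.rank = Nat.card I ∧ (∃ e : I ≃ Q.S, ∀ i, (e i : G) ∈ P i) ∧
      ((∀ J : Set I, J.Nonempty → Jᶜ.Nonempty → ∃ i ∈ J, ∃ j ∈ Jᶜ, M i j ≠ 2) → Q.Irreducible) := by
  obtain ⟨F, hF, he⟩ := cs.exists_isReduced (w0 cs)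
  refine (sys_two cs htop hBP hgen hgp h3).exists_bnPair hF he.symm ?_
  rw [prod_two, hcard, he, hF.eq]

end Cfsg.Agent.ParSys.Free
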