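import Cfsg.Agent.ParSys.Main
import Cfsg.Agent.LieRecognition.FeitHigmanGroup
import Cfsg.Agent.Schreier.BNSch

/-!
# Generalised polygons: the residues of rank two

`Polygon B P a b m`: the galleries of type `alt a b m` and `alt b a m` which start in `B` behave as in a generalised
`m`-gon on whose opposite pairs `B` is transitive.  `Polygon` gives the fields `unq`, `braid` (up to the torus) and the
transitivity of `U` for the structure `Data`; it is proved for groups with a (B,N)-pair of rank two and transferred along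
chamber preserving maps (`Link`).
-/

set_option autoImplicit false

namespace Cfsg.Agent.ParSys

open Subgroup

variable {G : Type*} [Group G] {I : Type*}

/-- the galleries `l` (starting in `t B`) and `l'` (starting in `s B`) have the same chambers -/
def Same (B : Subgroup G) : G → G → List G → List G → Prop
  | t, s, [], [] => t⁻¹ * s ∈ B
  | _, _, [], _ :: _ => False
  | _, _, _ :: _, [] => False
  | t, s, x :: l, y :: l' => t⁻¹ * s ∈ B ∧ Same B (t * x) (s * y) l l'

section same

variable {B : Subgroup G}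

theorem same_first {t s : G} {l l' : List G} (h : Same B t s l l') : t⁻¹ * s ∈ B := by
  cases l with
  | nil =>
    cases l' with
    | nil => exact h
    | cons y l' => exact h.elim
  | cons x l =>
    cases l' with
    | nil => exact h.elim
    | cons y l' => exact h.1

theorem same_end {t s : G} {l l' : List G} (h : Same B t s l l') : (t * l.prod)⁻¹ * (s * l'.prod) ∈ B := by
  induction l generalizing t s l' with
  | nil =>
    cases l' with
    | nil =>
      have h' : t⁻¹ * s ∈ B := h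
      simpa using h'
    | cons y l' => exact h.elim
  | cons x l ih =>
    cases l' with
    | nil => exact h.elim
    | cons y l' =>
      have := ih h.2
      simpa [mul_assoc] using this

theorem same_left {t s z : G} {l l' : List G} (h : Same B t s l l') : Same B (z * t) (z * s) l l' := by
  induction l generalizing t s l' with
  | nil =>
    cases l' with
    | nil =>
      have h' : t⁻¹ * s ∈ B := h
      show (z * t)⁻¹ * (z * s) ∈ B
      have e : (z * t)⁻¹ * (z * s) = t⁻¹ * s := by group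
      rw [e]; exact h'
    | cons y l' => exact h.elim
  | cons x l ih =>
    cases l' with
    | nil => exact h.elim
    | cons y l' =>
      refine ⟨?_, ?_⟩
      · have e : (z * t)⁻¹ * (z * s) = t⁻¹ * s := by group
        rw [e]; exact h.1
      · have := ih h.2
        rwa [← mul_assoc, ← mul_assoc] at this

theorem same_symm {t s : G} {l l' : List G} (h : Same B t s l l') : Same B s t l' l := by
  have key : ∀ {x y : G}, x⁻¹ * y ∈ B → y⁻¹ * x ∈ B := fun {x y} h => by
    have := inv_mem h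
    rwa [mul_inv_rev, inv_inv] at this
  induction l generalizing t s l' with
  | nil =>
    cases l' with
    | nil => exact key h
    | cons y l' => exact h.elim
  | cons x l ih =>
    cases l' with
    | nil => exact h.elim
    | cons y l' => exact ⟨key h.1, ih h.2⟩

theorem same_trans {t s r : G} {l l' l'' : List G} (h : Same B t s l l') (h' : Same B s r l' l'') :
    Same B t r l l'' := by
  have key : ∀ {x y z : G}, x⁻¹ * y ∈ B → y⁻¹ * z ∈ B → x⁻¹ * z ∈ B := fun {x y z} h h' => by
    have := mul_mem h h'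
    rwa [mul_assoc, mul_inv_cancel_left] at this
  induction l generalizing t s r l' l'' with
  | nil =>
    cases l' with
    | nil =>
      cases l'' with
      | nil => exact key h h'
      | cons z l'' => exact h'.elim
    | cons y l' => exact h.elim
  | cons x l ih =>
    cases l' with
    | nil => exact h.elim
    | cons y l' =>
      cases l'' with
      | nil => exact h'.elim
      | cons z l'' => exact ⟨key h.1 h'.1, ih h.2 h'.2⟩

variable {P : I → Subgroup G} {n : I → G}

theorem ag_of_same {t s : G} {f : List I} {l : List G} (h : Same B t s (f.map n) l) : Ag B n t s f l := by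
  induction f generalizing t s l with
  | nil =>
    cases l with
    | nil => exact h
    | cons x l => exact h.elim
  | cons i f ih =>
    cases l with
    | nil => exact h.elim
    | cons x l => exact ⟨h.1, ih h.2⟩

theorem same_of_ag {t s : G} {f : List I} {l : List G} (hl : GalE B P f l) (h : Ag B n t s f l) :
    Same B t s (f.map n) l := by
  induction f generalizing t s l with
  | nil =>
    cases l with
    | nil => exact h
    | cons x l => exact hl.elim
  | cons i f ih =>
    cases l with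
    | nil => exact hl.elim
    | cons x l => exact ⟨h.1, ih hl.2 h.2⟩

/-- moving by an element of the torus -/
theorem ag_mul_right {H : Subgroup G} (hHB : H ≤ B) (hc : ∀ i, ∀ h ∈ H, (n i)⁻¹ * h * n i ∈ H) {t s h : G}
    (hh : h ∈ H) {f : List I} {l : List G} (hA : Ag B n (t * h) s f l) : Ag B n t s f l := by
  have key : (t * h)⁻¹ * s ∈ B → t⁻¹ * s ∈ B := fun h1 => by
    have := mul_mem (hHB hh) h1
    have e : h * ((t * h)⁻¹ * s) = t⁻¹ * s := by group
    rwa [e] at this
  induction f generalizing t s l h with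
  | nil =>
    have h1 : (t * h)⁻¹ * s ∈ B := hA
    exact key h1
  | cons i f ih =>
    cases l with
    | nil => exact hA.elim
    | cons x l =>
      refine ⟨key hA.1, ?_⟩
      have h2 : Ag B n (t * h * n i) (s * x) f l := hA.2
      have e : t * h * n i = t * n i * ((n i)⁻¹ * h * n i) := by group
      rw [e] at h2
      have hh' := hc i h hh
      exact ih hh' h2 (fun h1 => by
        have := mul_mem (hHB hh') h1
        have e : ((n i)⁻¹ * h * n i) * ((t * n i * ((n i)⁻¹ * h * n i))⁻¹ * (s * x)) =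
          (t * n i)⁻¹ * (s * x) := by group
        rwa [e] at this)

theorem same_std {t s : G} (u v : List I) (h : Same B t s ((u ++ v).map n) ((u ++ v).map n)) :
    (t * nw n u)⁻¹ * (s * nw n u) ∈ B := by
  induction u generalizing t s with
  | nil => simpa using same_first h
  | cons i u ih =>
    have := ih h.2
    rw [nw_cons]
    have e : (t * (n i * nw n u))⁻¹ * (s * (n i * nw n u)) = (t * n i * nw n u)⁻¹ * (s * n i * nw n u) := by
      group
    rw [e]; exact this

theorem galE_length {f : List I} {l : List G} (h : GalE B P f l) : l.length = f.length := by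
  induction f generalizing l with
  | nil =>
    cases l with
    | nil => rfl
    | cons x l => exact h.elim
  | cons i f ih =>
    cases l with
    | nil => exact h.elim
    | cons x l => simp [ih h.2]

end same

/-- The galleries of type `alt a b m` and `alt b a m` from `B` behave as in a generalised `m`-gon. -/
structure Polygon (B : Subgroup G) (P : I → Subgroup G) (a b : I) (m : ℕ) : Prop where
  uniq : ∀ l l', GalE B P (alt a b m) l → GalE B P (alt a b m) l' → l.prod⁻¹ * l'.prod ∈ B → Same B 1 1 l l'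
  uniq' : ∀ l l', GalE B P (alt b a m) l → GalE B P (alt b a m) l' → l.prod⁻¹ * l'.prod ∈ B → Same B 1 1 l l'
  swap : ∃ l l', GalE B P (alt a b m) l ∧ GalE B P (alt b a m) l' ∧ l.prod⁻¹ * l'.prod ∈ B
  trans : ∀ l l', GalE B P (alt a b m) l → GalE B P (alt a b m) l' → ∃ y ∈ B, Same B y 1 l l'
  trans' : ∀ l l', GalE B P (alt b a m) l → GalE B P (alt b a m) l' → ∃ y ∈ B, Same B y 1 l l'

namespace Polygon

variable {B : Subgroup G} {P : I → Subgroup G} {a b : I} {m : ℕ}

theorem symm (h : Polygon B P a b m) : Polygon B P b a m where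
  uniq := h.uniq'
  uniq' := h.uniq
  swap := by
    obtain ⟨l, l', h1, h2, h3⟩ := h.swap
    refine ⟨l', l, h2, h1, ?_⟩
    have := inv_mem h3
    rwa [mul_inv_rev, inv_inv] at this
  trans := h.trans'
  trans' := h.trans

variable {n : I → G}

/-- the field `unq` of `Data` -/
theorem unq (h : Polygon B P a b m) (hle : ∀ i, B ≤ P i) (hn : ∀ i, n i ∈ P i) (hnB : ∀ i, n i ∉ B) :
    ∀ y ∈ B, (nw n (alt a b m))⁻¹ * y * nw n (alt a b m) ∈ B →
      ∀ k ≤ m, (nw n (alt a b k))⁻¹ * y * nw n (alt a b k) ∈ B := by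
  intro y hy hym k hk
  cases m with
  | zero =>
    obtain rfl : k = 0 := by omega
    simpa using hy
  | succ m =>
    have h1 : GalE B P (alt a b (m + 1)) ((alt a b (m + 1)).map n) := galE_std hn hnB _
    have h2 : GalE B P (alt a b (m + 1)) (y * n a :: (alt b a m).map n) := galE_mul hle hy h1
    have e : ((alt a b (m + 1)).map n).prod⁻¹ * (y * n a :: (alt b a m).map n).prod =
        (nw n (alt a b (m + 1)))⁻¹ * y * nw n (alt a b (m + 1)) := by
      rw [prod_map, List.prod_cons, prod_map, alt_cons, nw_cons]; group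
    have h3 := h.uniq _ _ h1 h2 (by rw [e]; exact hym)
    have h4 : Same B 1 y ((alt a b (m + 1)).map n) ((alt a b (m + 1)).map n) := by
      refine ⟨by simpa using hy, ?_⟩
      have h5 := h3.2
      have e1 : (1 : G) * (y * n a) = y * n a := one_mul _
      rw [e1] at h5
      exact h5
    obtain ⟨v, hv⟩ := alt_prefix a b hk
    rw [hv] at h4
    have := same_std (n := n) _ _ h4
    rw [one_mul] at this
    rwa [mul_assoc]

/-- transitivity of `U` -/
theorem tr (h : Polygon B P a b m) (hle : ∀ i, B ≤ P i) (hn : ∀ i, n i ∈ P i) (hnB : ∀ i, n i ∉ B)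
    {U H : Subgroup G} (hU : U ≤ B) (hH : H ≤ B) (hc : ∀ i, ∀ h ∈ H, (n i)⁻¹ * h * n i ∈ H)
    (hBUH : ∀ y ∈ B, ∃ u ∈ U, ∃ h ∈ H, y = u * h) : Tr B P n U (alt a b m) := by
  rw [tr_iff hle hn hnB U hU]
  intro l hl
  obtain ⟨y, hy, h1⟩ := h.trans _ _ (galE_std hn hnB _) hl
  obtain ⟨u, hu, t, ht, rfl⟩ := hBUH y hy
  exact ⟨u, hu, ag_mul_right hH hc ht (ag_of_same h1)⟩

/-- both forms of the standard word lie in the same `B`-orbit -/
theorem swap_std (h : Polygon B P a b m) (hn : ∀ i, n i ∈ P i) (hnB : ∀ i, n i ∉ B) :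
    ∃ y ∈ B, (y * nw n (alt a b m))⁻¹ * nw n (alt b a m) ∈ B := by
  obtain ⟨l, l', h1, h2, h3⟩ := h.swap
  obtain ⟨y, hy, h4⟩ := h.trans _ _ (galE_std hn hnB _) h1
  obtain ⟨z, hz, h5⟩ := h.trans' _ _ (galE_std hn hnB _) h2
  refine ⟨z⁻¹ * y, mul_mem (inv_mem hz) hy, ?_⟩
  have h6 := same_end h4
  have h7 := same_end h5
  rw [prod_map, one_mul] at h6 h7
  have h8 := mul_mem (mul_mem h6 h3) (inv_mem h7)
  have e : (y * nw n (alt a b m))⁻¹ * l.prod * (l.prod⁻¹ * l'.prod) *
      ((z * nw n (alt b a m))⁻¹ * l'.prod)⁻¹ = (z⁻¹ * y * nw n (alt a b m))⁻¹ * nw n (alt b a m) := by group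
  rwa [e] at h8

end Polygon

/-! ### (B,N)-pairs of rank two -/

section bn

open Cfsg.Agent.LieExceptional.BNPairCore

variable {X : Type*} [Group X] {Q : Cfsg.BNPair X} {P : I → Subgroup X} {a b : I} {s t : X}

theorem mem_C_of_parabolic (hs : s ∈ Q.S) {x : X} (hx : x ∈ Q.parabolic {s}) (hxB : x ∉ Q.B) : x ∈ C Q s := by
  rcases Cfsg.Agent.Schreier.BNSch.mem_parabolic_singleton Q hs hx with h | ⟨c, hc, d, hd, h⟩
  · exact absurd h hxB
  · exact mem_C.2 ⟨c, hc, d, hd, h⟩

/-- all alternating words up to length `m` are reduced -/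
theorem gal_mem_C (hs : s ∈ Q.S) (ht : t ∈ Q.S) (hPa : P a = Q.parabolic {s}) (hPb : P b = Q.parabolic {t})
    {k : ℕ} (hk : LieRecognition.FeitHigmanGroup.Red Q s t k) {l : List X} (hl : GalE Q.B P (alt a b k) l) :
    l.prod ∈ C Q (LieRecognition.FeitHigmanGroup.alt k s t) := by
  induction k generalizing a b s t l with
  | zero =>
    cases l with
    | nil => exact self_mem_C _
    | cons x l => exact hl.elim
  | succ k ih =>
    cases l with
    | nil => exact hl.elim
    | cons x l =>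
      obtain ⟨⟨hx, hxB⟩, hl⟩ := hl
      have hk' := hk.pred hs ht
      have h1 := ih ht hs hPb hPa ⟨hk'.2, hk'.1⟩ hl
      rw [hPa] at hx
      obtain ⟨c, hc, d, hd, rfl⟩ := mem_C.1 (mem_C_of_parabolic hs hx hxB)
      obtain ⟨c', hc', d', hd', h2⟩ := mem_C.1 h1
      rw [List.prod_cons, h2, LieRecognition.FeitHigmanGroup.alt_succ]
      have h3 : s * (d * c') * LieRecognition.FeitHigmanGroup.alt k t s ∈
          C Q (s * LieRecognition.FeitHigmanGroup.alt k t s) := by
        apply mul_mem_C_of_le hs (LieRecognition.FeitHigmanGroup.alt_mem_N ht hs k) (mul_mem hd hc')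
        rw [← LieRecognition.FeitHigmanGroup.alt_succ, hk.1, hk'.2]
        exact Nat.le_succ k
      have e : c * s * d * (c' * LieRecognition.FeitHigmanGroup.alt k t s * d') =
          c * (s * (d * c') * LieRecognition.FeitHigmanGroup.alt k t s) * d' := by group
      rw [e]
      exact mul_mem_C_right hd' (mul_mem_C_left hc h3)

theorem gal_uniq (hs : s ∈ Q.S) (ht : t ∈ Q.S) (hPa : P a = Q.parabolic {s}) (hPb : P b = Q.parabolic {t})
    {k : ℕ} (hk : LieRecognition.FeitHigmanGroup.Red Q s t k) {l l' : List X} (hl : GalE Q.B P (alt a b k) l)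
    (hl' : GalE Q.B P (alt a b k) l') {z w : X} (hzw : z⁻¹ * w ∈ Q.B)
    (hend : (z * l.prod)⁻¹ * (w * l'.prod) ∈ Q.B) : Same Q.B z w l l' := by
  induction k generalizing a b s t l l' z w with
  | zero =>
    cases l with
    | nil =>
      cases l' with
      | nil => exact hzw
      | cons x l => exact hl'.elim
    | cons x l => exact hl.elim
  | succ k ih =>
    cases l with
    | nil => exact hl.elim
    | cons x l =>
      cases l' with
      | nil => exact hl'.elim
      | cons x' l' =>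
        have hk' := hk.pred hs ht
        have hBa : Q.B ≤ P a := by rw [hPa]; exact le_sup_left
        refine ⟨hzw, ih ht hs hPb hPa ⟨hk'.2, hk'.1⟩ hl.2 hl'.2 ?_ ?_⟩
        · by_contra hy
          have hyP : (z * x)⁻¹ * (w * x') ∈ P a := by
            have e : (z * x)⁻¹ * (w * x') = x⁻¹ * (z⁻¹ * w) * x' := by group
            rw [e]
            exact mul_mem (mul_mem (inv_mem hl.1.1) (hBa hzw)) hl'.1.1
          have h1 := gal_mem_C hs ht hPa hPb hk
            (show GalE Q.B P (alt a b (k + 1)) ((z * x)⁻¹ * (w * x') :: l') from ⟨⟨hyP, hy⟩, hl'.2⟩)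
          have h2 := gal_mem_C ht hs hPb hPa ⟨hk'.2, hk'.1⟩ hl.2
          have h3 : ((z * x)⁻¹ * (w * x') :: l').prod ∈ C Q (LieRecognition.FeitHigmanGroup.alt k t s) := by
            have h4 := mul_mem_C_right hend h2
            have e : l.prod * ((z * (x :: l).prod)⁻¹ * (w * (x' :: l').prod)) =
                ((z * x)⁻¹ * (w * x') :: l').prod := by
              simp only [List.prod_cons]; group
            rwa [e] at h4
          exact not_C_mul_left_eq hs (LieRecognition.FeitHigmanGroup.alt_mem_N ht hs k)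
            (C_eq_of_mem_mem h1 h3)
        · have e : (z * x * l.prod)⁻¹ * (w * x' * l'.prod) =
              (z * (x :: l).prod)⁻¹ * (w * (x' :: l').prod) := by
            simp only [List.prod_cons, mul_assoc]
          rw [e]; exact hend

theorem gal_trans (hs : s ∈ Q.S) (ht : t ∈ Q.S) (hPa : P a = Q.parabolic {s}) (hPb : P b = Q.parabolic {t})
    {k : ℕ} (hk : LieRecognition.FeitHigmanGroup.Red Q s t k) {l l' : List X} (hl : GalE Q.B P (alt a b k) l)
    (hl' : GalE Q.B P (alt a b k) l') : ∃ y ∈ Q.B, Same Q.B y 1 l l' := by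
  obtain ⟨c, hc, d, hd, h1⟩ := mem_C.1 (gal_mem_C hs ht hPa hPb hk hl)
  obtain ⟨c', hc', d', hd', h2⟩ := mem_C.1 (gal_mem_C hs ht hPa hPb hk hl')
  refine ⟨c' * c⁻¹, mul_mem hc' (inv_mem hc), gal_uniq hs ht hPa hPb hk hl hl' ?_ ?_⟩
  · simpa using inv_mem (mul_mem hc' (inv_mem hc))
  · have e : (c' * c⁻¹ * l.prod)⁻¹ * (1 * l'.prod) = d⁻¹ * d' := by rw [h1, h2]; group
    rw [e]; exact mul_mem (inv_mem hd) hd'

theorem galE_alt_std (hs : s ∈ Q.S) (ht : t ∈ Q.S) (hPa : P a = Q.parabolic {s}) (hPb : P b = Q.parabolic {t})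
    (k : ℕ) : GalE Q.B P (alt a b k) (LieRecognition.FeitHigmanGroup.altWord k s t) := by
  induction k generalizing a b s t with
  | zero => trivial
  | succ k ih =>
    refine ⟨⟨?_, not_mem_B hs⟩, ih ht hs hPb hPa⟩
    rw [hPa]
    exact (le_sup_right : closure {s} ≤ _) (subset_closure rfl)

/-- **(B,N)-pairs of rank two are polygons.** -/
theorem polygon_of_red (hs : s ∈ Q.S) (ht : t ∈ Q.S) (hPa : P a = Q.parabolic {s}) (hPb : P b = Q.parabolic {t})
    {m : ℕ} (hm : LieRecognition.FeitHigmanGroup.Red Q s t m)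
    (hbr : (LieRecognition.FeitHigmanGroup.alt m s t)⁻¹ * LieRecognition.FeitHigmanGroup.alt m t s ∈ Q.B) :
    Polygon Q.B P a b m where
  uniq := fun l l' hl hl' he => gal_uniq hs ht hPa hPb hm hl hl' (by simp [one_mem]) (by simpa using he)
  uniq' := fun l l' hl hl' he => gal_uniq ht hs hPb hPa ⟨hm.2, hm.1⟩ hl hl' (by simp [one_mem]) (by simpa using he)
  swap := ⟨_, _, galE_alt_std hs ht hPa hPb m, galE_alt_std ht hs hPb hPa m, by
    rw [LieRecognition.FeitHigmanGroup.altWord_prod, LieRecognition.FeitHigmanGroup.altWord_prod]; exact hbr⟩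
  trans := fun _ _ hl hl' => gal_trans hs ht hPa hPb hm hl hl'
  trans' := fun _ _ hl hl' => gal_trans ht hs hPb hPa ⟨hm.2, hm.1⟩ hl hl'

end bn

/-! ### Transfer -/

/-- A bijection between the chambers of the `{a, b}`-residue of `(G, B, P)` and those of `(X, B', P')`, given by a
relation `θ` between group elements, such that the action of `X` lifts. -/
structure Link (B : Subgroup G) (P : I → Subgroup G) (a b : I) {X : Type*} [Group X] (B' : Subgroup X)
    (P' : I → Subgroup X) (θ : G → X → Prop) : Prop where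
  one : θ 1 1
  memB : ∀ g e g' e', θ g e → θ g' e' → (g⁻¹ * g' ∈ B ↔ e⁻¹ * e' ∈ B')
  memP : ∀ i, i = a ∨ i = b → ∀ g e g' e', θ g e → θ g' e' → (g⁻¹ * g' ∈ P i ↔ e⁻¹ * e' ∈ P' i)
  ex : ∀ i, i = a ∨ i = b → ∀ g e, θ g e → ∀ x ∈ P i, ∃ e', θ (g * x) e'
  sur : ∀ e, ∃ g, θ g e
  act : ∀ z, ∃ x, ∀ g e, θ g e → θ (x * g) (z * e)

/-- two galleries correspond to each other -/
def RelG {X : Type*} [Group X] (θ : G → X → Prop) : G → X → List G → List X → Prop
  | g, e, [], [] => θ g e
  | _, _, [], _ :: _ => False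
  | _, _, _ :: _, [] => False
  | g, e, x :: l, y :: l' => θ g e ∧ RelG θ (g * x) (e * y) l l'

namespace Link

variable {X : Type*} [Group X] {B : Subgroup G} {P : I → Subgroup G} {a b : I} {B' : Subgroup X}
  {P' : I → Subgroup X} {θ : G → X → Prop} (L : Link B P a b B' P' θ)

include L

theorem symm : Link B P b a B' P' θ where
  one := L.one
  memB := L.memB
  memP := fun i hi => L.memP i hi.symm
  ex := fun i hi => L.ex i hi.symm
  sur := L.sur
  act := L.act

theorem lift (k : ℕ) : ∀ c d, (c = a ∧ d = b ∨ c = b ∧ d = a) → ∀ g e, θ g e → ∀ l, GalE B P (alt c d k) l →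
    ∃ l', GalE B' P' (alt c d k) l' ∧ RelG θ g e l l' := by
  induction k with
  | zero =>
    intro c d _ g e hge l hl
    cases l with
    | nil => exact ⟨[], trivial, hge⟩
    | cons x l => exact hl.elim
  | succ k ih =>
    intro c d hcd g e hge l hl
    cases l with
    | nil => exact hl.elim
    | cons x l =>
      have hc : c = a ∨ c = b := hcd.imp And.left And.left
      obtain ⟨e', he'⟩ := L.ex c hc g e hge x hl.1.1
      have hdc : d = a ∧ c = b ∨ d = b ∧ c = a := hcd.elim (fun h => Or.inr ⟨h.2, h.1⟩) (fun h => Or.inl ⟨h.2, h.1⟩)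
      have hP := L.memP c hc _ _ _ _ hge he'
      have hB := L.memB _ _ _ _ hge he'
      rw [inv_mul_cancel_left] at hP hB
      obtain ⟨l', hl', hr⟩ := ih d c hdc (g * x) e' he' l hl.2
      refine ⟨e⁻¹ * e' :: l', ⟨⟨hP.1 hl.1.1, fun h => hl.1.2 (hB.2 h)⟩, hl'⟩, hge, ?_⟩
      rwa [mul_inv_cancel_left]

theorem lift' (k : ℕ) : ∀ c d, (c = a ∧ d = b ∨ c = b ∧ d = a) → ∀ g e, θ g e → ∀ l', GalE B' P' (alt c d k) l' →
    ∃ l, GalE B P (alt c d k) l ∧ RelG θ g e l l' := by
  induction k with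
  | zero =>
    intro c d _ g e hge l hl
    cases l with
    | nil => exact ⟨[], trivial, hge⟩
    | cons x l => exact hl.elim
  | succ k ih =>
    intro c d hcd g e hge l hl
    cases l with
    | nil => exact hl.elim
    | cons y l =>
      have hc : c = a ∨ c = b := hcd.imp And.left And.left
      obtain ⟨g', hg'⟩ := L.sur (e * y)
      have hdc : d = a ∧ c = b ∨ d = b ∧ c = a := hcd.elim (fun h => Or.inr ⟨h.2, h.1⟩) (fun h => Or.inl ⟨h.2, h.1⟩)
      have hP := L.memP c hc _ _ _ _ hge hg'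
      have hB := L.memB _ _ _ _ hge hg'
      rw [inv_mul_cancel_left] at hP hB
      obtain ⟨l', hl', hr⟩ := ih d c hdc g' (e * y) hg' l hl.2
      refine ⟨g⁻¹ * g' :: l', ⟨⟨hP.2 hl.1.1, fun h => hl.1.2 (hB.1 h)⟩, hl'⟩, hge, ?_⟩
      rwa [mul_inv_cancel_left]

omit L in
theorem rel_first {g : G} {e : X} {l : List G} {l' : List X} (h : RelG θ g e l l') : θ g e := by
  cases l with
  | nil =>
    cases l' with
    | nil => exact h
    | cons y l' => exact h.elim
  | cons x l =>
    cases l' with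
    | nil => exact h.elim
    | cons y l' => exact h.1

omit L in
theorem rel_end {g : G} {e : X} {l : List G} {l' : List X} (h : RelG θ g e l l') :
    θ (g * l.prod) (e * l'.prod) := by
  induction l generalizing g e l' with
  | nil =>
    cases l' with
    | nil =>
      have h' : θ g e := h
      simpa using h'
    | cons y l' => exact h.elim
  | cons x l ih =>
    cases l' with
    | nil => exact h.elim
    | cons y l' =>
      have := ih h.2
      simpa [mul_assoc] using this

omit L in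
theorem rel_act {x : G} {z : X} (hxz : ∀ g e, θ g e → θ (x * g) (z * e)) {g : G} {e : X} {l : List G}
    {l' : List X} (h : RelG θ g e l l') : RelG θ (x * g) (z * e) l l' := by
  induction l generalizing g e l' with
  | nil =>
    cases l' with
    | nil => exact hxz g e h
    | cons y l' => exact h.elim
  | cons w l ih =>
    cases l' with
    | nil => exact h.elim
    | cons y l' =>
      refine ⟨hxz g e h.1, ?_⟩
      have := ih h.2
      rwa [← mul_assoc, ← mul_assoc] at this

theorem rel_same {g g' : G} {e e' : X} {l l' : List G} {k k' : List X} (h : RelG θ g e l k)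
    (h' : RelG θ g' e' l' k') (hs : Same B' e e' k k') : Same B g g' l l' := by
  induction l generalizing g g' e e' l' k k' with
  | nil =>
    cases k with
    | nil =>
      cases k' with
      | nil =>
        cases l' with
        | nil => exact (L.memB _ _ _ _ h h').2 hs
        | cons _ _ => exact h'.elim
      | cons _ _ => exact hs.elim
    | cons _ _ => exact h.elim
  | cons x l ih =>
    cases k with
    | nil => exact h.elim
    | cons y k =>
      cases k' with
      | nil => exact hs.elim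
      | cons y' k' =>
        cases l' with
        | nil => exact h'.elim
        | cons x' l' => exact ⟨(L.memB _ _ _ _ h.1 h'.1).2 hs.1, ih h.2 h'.2 hs.2⟩

theorem polygon_uniq {m : ℕ} (h : Polygon B' P' a b m) (l l' : List G) (hl : GalE B P (alt a b m) l)
    (hl' : GalE B P (alt a b m) l') (he : l.prod⁻¹ * l'.prod ∈ B) : Same B 1 1 l l' := by
  obtain ⟨k, hk, hr⟩ := L.lift m a b (Or.inl ⟨rfl, rfl⟩) 1 1 L.one l hl
  obtain ⟨k', hk', hr'⟩ := L.lift m a b (Or.inl ⟨rfl, rfl⟩) 1 1 L.one l' hl'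
  refine L.rel_same hr hr' (h.uniq k k' hk hk' ?_)
  have h1 := rel_end hr
  have h2 := rel_end hr'
  rw [one_mul, one_mul] at h1 h2
  exact (L.memB _ _ _ _ h1 h2).1 he

theorem polygon_trans {m : ℕ} (h : Polygon B' P' a b m) (l l' : List G) (hl : GalE B P (alt a b m) l)
    (hl' : GalE B P (alt a b m) l') : ∃ y ∈ B, Same B y 1 l l' := by
  obtain ⟨k, hk, hr⟩ := L.lift m a b (Or.inl ⟨rfl, rfl⟩) 1 1 L.one l hl
  obtain ⟨k', hk', hr'⟩ := L.lift m a b (Or.inl ⟨rfl, rfl⟩) 1 1 L.one l' hl'
  obtain ⟨z, hz, hs⟩ := h.trans k k' hk hk'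
  obtain ⟨x, hx⟩ := L.act z
  have h1 := hx 1 1 L.one
  have h2 := L.memB _ _ _ _ L.one h1
  rw [inv_one, one_mul, mul_one, inv_one, one_mul, mul_one] at h2
  have h3 := rel_act hx hr
  rw [mul_one, mul_one] at h3
  exact ⟨x, h2.2 hz, L.rel_same h3 hr' hs⟩

/-- **Transfer of `Polygon`.** -/
theorem polygon {m : ℕ} (h : Polygon B' P' a b m) : Polygon B P a b m where
  uniq := L.polygon_uniq h
  uniq' := L.symm.polygon_uniq h.symm
  trans := L.polygon_trans h
  trans' := L.symm.polygon_trans h.symm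
  swap := by
    obtain ⟨k, k', hk, hk', he⟩ := h.swap
    obtain ⟨l, hl, hr⟩ := L.lift' m a b (Or.inl ⟨rfl, rfl⟩) 1 1 L.one k hk
    obtain ⟨l', hl', hr'⟩ := L.lift' m b a (Or.inr ⟨rfl, rfl⟩) 1 1 L.one k' hk'
    refine ⟨l, l', hl, hl', ?_⟩
    have h1 := rel_end hr
    have h2 := rel_end hr'
    rw [one_mul, one_mul] at h1 h2
    exact (L.memB _ _ _ _ h1 h2).2 he

end Link

/-- The usual way to get a `Link`: a homomorphism `φ` from a subgroup `M` of `G` to `L` whose kernel lies in `B`, and a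
homomorphism `ε : X → L` with `P i = ε (P' i) B`. -/
theorem link_of_hom {B : Subgroup G} {P : I → Subgroup G} {a b : I} {X : Type*} [Group X] {B' : Subgroup X}
    {P' : I → Subgroup X} {L : Type*} [Group L] (M : Subgroup G) (φ : M →* L) (ε : X →* L) (BL : Subgroup L)
    (PL : I → Subgroup L) (hPM : ∀ i, i = a ∨ i = b → P i ≤ M)
    (hB : ∀ x : M, (x : G) ∈ B ↔ φ x ∈ BL) (hP : ∀ i, i = a ∨ i = b → ∀ x : M, (x : G) ∈ P i ↔ φ x ∈ PL i)
    (hB' : ∀ e, e ∈ B' ↔ ε e ∈ BL) (hP' : ∀ i, i = a ∨ i = b → ∀ e, e ∈ P' i ↔ ε e ∈ PL i)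
    (hBP : ∀ i, i = a ∨ i = b → BL ≤ PL i)
    (hsur : ∀ e, ∃ x, φ x = ε e)
    (hcov : ∀ i, i = a ∨ i = b → ∀ y ∈ PL i, ∃ e, ∃ c ∈ BL, y = ε e * c) :
    Link B P a b B' P' (fun g e => ∃ h : g ∈ M, (φ ⟨g, h⟩)⁻¹ * ε e ∈ BL) where
  one := ⟨one_mem _, by
    have e : (⟨1, one_mem M⟩ : M) = 1 := rfl
    rw [e, map_one, map_one]; simp [one_mem]⟩
  memB := by
    rintro g e g' e' ⟨h, h1⟩ ⟨h', h1'⟩
    have h2 := hB (⟨g, h⟩⁻¹ * ⟨g', h'⟩)
    rw [map_mul, map_inv] at h2
    rw [hB', map_mul, map_inv]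
    have h3 : ((⟨g, h⟩⁻¹ * ⟨g', h'⟩ : M) : G) = g⁻¹ * g' := rfl
    rw [h3] at h2
    rw [h2]
    constructor
    · intro h4
      have := mul_mem (mul_mem (inv_mem h1) h4) h1'
      have e1 : ((φ ⟨g, h⟩)⁻¹ * ε e)⁻¹ * ((φ ⟨g, h⟩)⁻¹ * φ ⟨g', h'⟩) * ((φ ⟨g', h'⟩)⁻¹ * ε e') =
        (ε e)⁻¹ * ε e' := by group
      rwa [e1] at this
    · intro h4
      have := mul_mem (mul_mem h1 h4) (inv_mem h1')
      have e1 : ((φ ⟨g, h⟩)⁻¹ * ε e) * ((ε e)⁻¹ * ε e') * ((φ ⟨g', h'⟩)⁻¹ * ε e')⁻¹ =
        (φ ⟨g, h⟩)⁻¹ * φ ⟨g', h'⟩ := by group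
      rwa [e1] at this
  memP := by
    rintro i hi g e g' e' ⟨h, h1⟩ ⟨h', h1'⟩
    have h1 := hBP i hi h1
    have h1' := hBP i hi h1'
    have h2 := hP i hi (⟨g, h⟩⁻¹ * ⟨g', h'⟩)
    rw [map_mul, map_inv] at h2
    rw [hP' i hi, map_mul, map_inv]
    have h3 : ((⟨g, h⟩⁻¹ * ⟨g', h'⟩ : M) : G) = g⁻¹ * g' := rfl
    rw [h3] at h2
    rw [h2]
    constructor
    · intro h4
      have := mul_mem (mul_mem (inv_mem h1) h4) h1'
      have e1 : ((φ ⟨g, h⟩)⁻¹ * ε e)⁻¹ * ((φ ⟨g, h⟩)⁻¹ * φ ⟨g', h'⟩) * ((φ ⟨g', h'⟩)⁻¹ * ε e') =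
        (ε e)⁻¹ * ε e' := by group
      rwa [e1] at this
    · intro h4
      have := mul_mem (mul_mem h1 h4) (inv_mem h1')
      have e1 : ((φ ⟨g, h⟩)⁻¹ * ε e) * ((ε e)⁻¹ * ε e') * ((φ ⟨g', h'⟩)⁻¹ * ε e')⁻¹ =
        (φ ⟨g, h⟩)⁻¹ * φ ⟨g', h'⟩ := by group
      rwa [e1] at this
  ex := by
    rintro i hi g e ⟨h, h1⟩ x hx
    have hxM := hPM i hi hx
    have h2 : ((φ ⟨g, h⟩)⁻¹ * ε e)⁻¹ * φ ⟨x, hxM⟩ ∈ PL i :=
      mul_mem (inv_mem (hBP i hi h1)) ((hP i hi ⟨x, hxM⟩).1 hx)
    obtain ⟨e1, c, hc, h3⟩ := hcov i hi _ h2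
    refine ⟨e * e1, mul_mem h hxM, ?_⟩
    have e2 : φ ⟨g * x, mul_mem h hxM⟩ = φ ⟨g, h⟩ * φ ⟨x, hxM⟩ := by rw [← map_mul]; rfl
    rw [e2, map_mul]
    have e3 : (φ ⟨g, h⟩ * φ ⟨x, hxM⟩)⁻¹ * (ε e * ε e1) =
        (((φ ⟨g, h⟩)⁻¹ * ε e)⁻¹ * φ ⟨x, hxM⟩)⁻¹ * ε e1 := by group
    rw [e3, h3]
    have e4 : (ε e1 * c)⁻¹ * ε e1 = c⁻¹ := by group
    rw [e4]; exact inv_mem hc
  sur := by
    intro e
    obtain ⟨x, hx⟩ := hsur e
    refine ⟨x, x.2, ?_⟩
    have e1 : (⟨(x : G), x.2⟩ : M) = x := rfl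
    rw [e1, hx]; simp [one_mem]
  act := by
    intro z
    obtain ⟨x, hx⟩ := hsur z
    refine ⟨x, ?_⟩
    rintro g e ⟨h, h1⟩
    refine ⟨mul_mem x.2 h, ?_⟩
    have e2 : φ ⟨x * g, mul_mem x.2 h⟩ = φ x * φ ⟨g, h⟩ := by rw [← map_mul]; rfl
    rw [e2, map_mul, hx]
    have e3 : (ε z * φ ⟨g, h⟩)⁻¹ * (ε z * ε e) = (φ ⟨g, h⟩)⁻¹ * ε e := by group
    rw [e3]; exact h1

end Cfsg.Agent.ParSys
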