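import Cfsg.Agent.ParSys.Gal
import Cfsg.Agent.ParSys.Polygon

/-!
# Adapters for THEOREM FREE (bb #11242): the rank two residues and the panels

`GPp B P i j m`: the condition of `GP` for one pair `i, j`; it follows from helper398's `Polygon` (hence from a (B,N)-pair
of rank two, `polygon_of_red`, also of a quotient, `link_of_hom`), and for `m = 2` from `P i * P j = P j * P i` and
`P i ∩ P j = B`.  `pan_three`, `pan_index`: the panel condition; `clo_of_coprime`: the closure condition.
-/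

set_option autoImplicit false

namespace Cfsg.Agent.ParSys.RankTwo

open Cfsg.Agent.ParSys Cfsg.Agent.ParSys.Free

variable {G : Type*} [Group G] {I : Type*} {B : Subgroup G} {P : I → Subgroup G}

/-- the condition `GP` for one pair -/
def GPp (B : Subgroup G) (P : I → Subgroup G) (i j : I) (m : ℕ) : Prop :=
  ∀ c l, IsGal (adj B P) (alt i j m) c l →
    ∃! l', IsGal (adj B P) (alt j i m) c l' ∧ l'.getLastD c = l.getLastD c

theorem gp_iff {m : I → I → ℕ} : GP B P m ↔ ∀ i j, i ≠ j → GPp B P i j (m i j) := Iff.rfl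

/-- the chambers of the gallery which starts in `x B` and has the quotients `k` -/
def chm (B : Subgroup G) : G → List G → List (G ⧸ B)
  | _, [] => []
  | x, y :: k => ((x * y : G) : G ⧸ B) :: chm B (x * y) k

theorem chm_last (x : G) (k : List G) : (chm B x k).getLastD (x : G ⧸ B) = ((x * k.prod : G) : G ⧸ B) := by
  induction k generalizing x with
  | nil => simp [chm]
  | cons y k ih =>
    rw [chm, List.getLastD_cons, ih, List.prod_cons, mul_assoc]

theorem isGal_chm (hBP : ∀ i, B ≤ P i) {f : List I} {x : G} {k : List G} (h : GalE B P f k) :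
    IsGal (adj B P) f (x : G ⧸ B) (chm B x k) := by
  induction f generalizing x k with
  | nil =>
    cases k with
    | nil => exact isGal_nil_iff.2 rfl
    | cons y k => exact h.elim
  | cons i f ih =>
    cases k with
    | nil => exact h.elim
    | cons y k =>
      rw [chm, isGal_cons_cons]
      refine ⟨?_, ih h.2⟩
      rw [adj_mk hBP, inv_mul_cancel_left]
      exact h.1

theorem exists_chm (hBP : ∀ i, B ≤ P i) {f : List I} {x : G} {l : List (G ⧸ B)}
    (h : IsGal (adj B P) f (x : G ⧸ B) l) : ∃ k, GalE B P f k ∧ l = chm B x k := by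
  induction f generalizing x l with
  | nil => exact ⟨[], trivial, isGal_nil_iff.1 h⟩
  | cons i f ih =>
    obtain ⟨d, l', rfl, h1, h2⟩ := isGal_cons_iff.1 h
    induction d using QuotientGroup.induction_on with
    | _ z =>
    rw [adj_mk hBP] at h1
    have e : z = x * (x⁻¹ * z) := by group
    rw [e] at h2
    obtain ⟨k, hk, rfl⟩ := ih h2
    exact ⟨(x⁻¹ * z) :: k, ⟨h1, hk⟩, by rw [chm, ← e]⟩

theorem chm_same {t r : G} {k k' : List G} (h : Same B t r k k') : chm B t k = chm B r k' := by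
  induction k generalizing t r k' with
  | nil =>
    cases k' with
    | nil => rfl
    | cons y k' => exact h.elim
  | cons x k ih =>
    cases k' with
    | nil => exact h.elim
    | cons y k' =>
      rw [chm, chm, ih h.2, QuotientGroup.eq.2 (same_first h.2)]

theorem gpp_of_polygon (hBP : ∀ i, B ≤ P i) {i j : I} {m : ℕ} (h : Polygon B P i j m) : GPp B P i j m := by
  intro c l hl
  induction c using QuotientGroup.induction_on with
  | _ x =>
  obtain ⟨k, hk, rfl⟩ := exists_chm hBP hl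
  obtain ⟨k0, k1, h0, h1, h01⟩ := h.swap
  obtain ⟨y, hy, hs⟩ := h.trans _ _ h0 hk
  have he := same_end hs
  rw [one_mul] at he
  -- the other gallery
  have hex : ∃ k', GalE B P (alt j i m) k' ∧ k.prod⁻¹ * k'.prod ∈ B := by
    cases k1 with
    | nil =>
      refine ⟨[], h1, ?_⟩
      have h3 : GalE B P (alt j i m) [] := h1
      have hm : m = 0 := by
        cases m with
        | zero => rfl
        | succ m => exact h3.elim
      subst hm
      have h4 : k = [] := by
        cases k with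
        | nil => rfl
        | cons a k => exact hk.elim
      rw [h4]
      simp [one_mem]
    | cons a k1 =>
      obtain ⟨m', rfl⟩ : ∃ m', m = m' + 1 := by
        cases m with
        | zero => exact h1.elim
        | succ m => exact ⟨m, rfl⟩
      refine ⟨(y * a) :: k1, galE_mul hBP hy h1, ?_⟩
      have h5 := mul_mem (inv_mem he) h01
      have e : ((y * k0.prod)⁻¹ * k.prod)⁻¹ * (k0.prod⁻¹ * (a :: k1).prod) =
          k.prod⁻¹ * ((y * a) :: k1).prod := by
        rw [List.prod_cons, List.prod_cons]; group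
      rwa [e] at h5
  obtain ⟨k', hk', hkk⟩ := hex
  refine ⟨chm B x k', ⟨isGal_chm hBP hk', ?_⟩, ?_⟩
  · rw [chm_last, chm_last, QuotientGroup.eq]
    have e : (x * k'.prod)⁻¹ * (x * k.prod) = (k.prod⁻¹ * k'.prod)⁻¹ := by group
    rw [e]
    exact inv_mem hkk
  · rintro l'' ⟨h2, h3⟩
    obtain ⟨k'', hk'', rfl⟩ := exists_chm hBP h2
    rw [chm_last, chm_last, QuotientGroup.eq] at h3
    have h6 : k'.prod⁻¹ * k''.prod ∈ B := by
      have h7 := mul_mem (inv_mem hkk) (inv_mem h3)
      have e : (k.prod⁻¹ * k'.prod)⁻¹ * ((x * k''.prod)⁻¹ * (x * k.prod))⁻¹ = k'.prod⁻¹ * k''.prod := by group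
      rwa [e] at h7
    have h8 := same_left (z := x) (h.uniq' _ _ hk' hk'' h6)
    rw [mul_one] at h8
    exact (chm_same h8).symm

/-- The product case. -/
theorem gpp_two (hBP : ∀ i, B ≤ P i) {i j : I} (hinf : ∀ x, x ∈ P i → x ∈ P j → x ∈ B)
    (hmul : ∀ p ∈ P i, ∀ q ∈ P j, ∃ q' ∈ P j, ∃ p' ∈ P i, p * q = q' * p') : GPp B P i j 2 := by
  intro c l hl
  induction c using QuotientGroup.induction_on with
  | _ x =>
  obtain ⟨k, hk, rfl⟩ := exists_chm hBP hl
  match k, hk with
  | [], hk => exact hk.elim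
  | [_], hk => exact hk.2.elim
  | _ :: _ :: _ :: _, hk => exact hk.2.2.elim
  | [p, q], hk =>
    obtain ⟨⟨hp, hpB⟩, ⟨hq, hqB⟩, -⟩ := hk
    obtain ⟨q', hq', p', hp', e⟩ := hmul p hp q hq
    have hq'B : q' ∉ B := by
      intro h
      apply hqB
      refine hinf _ ?_ hq
      have e' : q = p⁻¹ * (q' * p') := by rw [← e]; group
      rw [e']
      exact mul_mem (inv_mem hp) (mul_mem (hBP i h) hp')
    have hp'B : p' ∉ B := by
      intro h
      apply hpB
      refine hinf _ hp ?_
      have e' : p = q' * p' * q⁻¹ := by rw [← e]; group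
      rw [e']
      exact mul_mem (mul_mem hq' (hBP j h)) (inv_mem hq)
    have hg : GalE B P (alt j i 2) [q', p'] := ⟨⟨hq', hq'B⟩, ⟨hp', hp'B⟩, trivial⟩
    refine ⟨chm B x [q', p'], ⟨isGal_chm hBP hg, ?_⟩, ?_⟩
    · rw [chm_last, chm_last]
      simp [e]
    · rintro l'' ⟨h2, h3⟩
      obtain ⟨k'', hk'', rfl⟩ := exists_chm hBP h2
      rw [chm_last, chm_last, QuotientGroup.eq] at h3
      match k'', hk'' with
      | [], hk => exact hk.elim
      | [_], hk => exact hk.2.elim
      | _ :: _ :: _ :: _, hk => exact hk.2.2.elim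
      | [a, b], hk'' =>
        obtain ⟨⟨ha, haB⟩, ⟨hb, hbB⟩, -⟩ := hk''
        have h4 : (a * b)⁻¹ * (q' * p') ∈ B := by
          have e' : (x * [a, b].prod)⁻¹ * (x * [p, q].prod) = (a * b)⁻¹ * (q' * p') := by
            rw [← e]; simp only [List.prod_cons, List.prod_nil, mul_one]; group
          rwa [e'] at h3
        have h5 : a⁻¹ * q' ∈ B := by
          refine hinf _ ?_ (mul_mem (inv_mem ha) hq')
          have e' : a⁻¹ * q' = b * ((a * b)⁻¹ * (q' * p')) * p'⁻¹ := by group
          rw [e']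
          exact mul_mem (mul_mem hb (hBP i h4)) (inv_mem hp')
        have h6 : ((x * a : G) : G ⧸ B) = ((x * q' : G) : G ⧸ B) := by
          rw [QuotientGroup.eq]
          have e' : (x * a)⁻¹ * (x * q') = a⁻¹ * q' := by group
          rw [e']; exact h5
        have h7 : ((x * a * b : G) : G ⧸ B) = ((x * q' * p' : G) : G ⧸ B) := by
          rw [QuotientGroup.eq]
          have e' : (x * a * b)⁻¹ * (x * q' * p') = (a * b)⁻¹ * (q' * p') := by group
          rw [e']; exact h4
        simp only [chm, h6, h7]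

/-- `GP` from polygons and products. -/
theorem gp_of (hBP : ∀ i, B ≤ P i) {m : I → I → ℕ} (h : ∀ i j, i ≠ j → Polygon B P i j (m i j) ∨
    (m i j = 2 ∧ (∀ x, x ∈ P i → x ∈ P j → x ∈ B) ∧
      ∀ p ∈ P i, ∀ q ∈ P j, ∃ q' ∈ P j, ∃ p' ∈ P i, p * q = q' * p')) : GP B P m := by
  intro i j hij
  rcases h i j hij with h | ⟨h2, h3, h4⟩
  · exact gpp_of_polygon hBP h
  · have := gpp_two hBP h3 h4
    rw [h2]
    exact this

/-! ### Panels -/

/-- A panel with three chambers: an element fixing two of them fixes the third. -/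
theorem pan_three {i : I} (hBP : B ≤ P i) (h3 : B.relIndex (P i) = 3) {g x : G} (hg : g ∈ B) (hx : x ∈ P i)
    (hxB : x ∉ B) (hgx : x⁻¹ * g * x ∈ B) {y : G} (hy : y ∈ P i) : y⁻¹ * g * y ∈ B := by
  classical
  by_contra hcon
  have hyB : y ∉ B := fun h => hcon (mul_mem (mul_mem (inv_mem h) hg) h)
  have hxy : x⁻¹ * y ∉ B := by
    intro h
    apply hcon
    have e : y⁻¹ * g * y = (x⁻¹ * y)⁻¹ * (x⁻¹ * g * x) * (x⁻¹ * y) := by group
    rw [e]
    exact mul_mem (mul_mem (inv_mem h) hgx) h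
  have hgy : g * y ∈ P i := mul_mem (hBP hg) hy
  -- four different cosets
  let q : P i → P i ⧸ B.subgroupOf (P i) := QuotientGroup.mk
  have hne : ∀ a b : P i, (a : G)⁻¹ * b ∉ B → q a ≠ q b := by
    intro a b h he
    apply h
    have := QuotientGroup.eq.1 he
    rwa [Subgroup.mem_subgroupOf] at this
  have hc : Nat.card (P i ⧸ B.subgroupOf (P i)) = 3 := h3
  haveI : Finite (P i ⧸ B.subgroupOf (P i)) := Nat.finite_of_card_ne_zero (by rw [hc]; norm_num)
  haveI := Fintype.ofFinite (P i ⧸ B.subgroupOf (P i))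
  let v : Fin 4 → P i ⧸ B.subgroupOf (P i) := ![q 1, q ⟨x, hx⟩, q ⟨y, hy⟩, q ⟨g * y, hgy⟩]
  have h01 : q 1 ≠ q ⟨x, hx⟩ := hne _ _ (by simpa using hxB)
  have h02 : q 1 ≠ q ⟨y, hy⟩ := hne _ _ (by simpa using hyB)
  have h03 : q 1 ≠ q ⟨g * y, hgy⟩ := hne _ _ (by
    intro h
    apply hyB
    have h' : g * y ∈ B := by simpa using h
    have e : y = g⁻¹ * (g * y) := by group
    rw [e]; exact mul_mem (inv_mem hg) h')
  have h12 : q ⟨x, hx⟩ ≠ q ⟨y, hy⟩ := hne _ _ hxy
  have h13 : q ⟨x, hx⟩ ≠ q ⟨g * y, hgy⟩ := hne _ _ (by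
    intro h
    apply hxy
    have h' : x⁻¹ * (g * y) ∈ B := h
    have e : x⁻¹ * y = (x⁻¹ * g * x)⁻¹ * (x⁻¹ * (g * y)) := by group
    rw [e]; exact mul_mem (inv_mem hgx) h')
  have h23 : q ⟨y, hy⟩ ≠ q ⟨g * y, hgy⟩ := hne _ _ (by
    intro h
    apply hcon
    have h' : y⁻¹ * (g * y) ∈ B := h
    rwa [← mul_assoc] at h')
  have hinj : Function.Injective v := by
    intro a b hab
    fin_cases a <;> fin_cases b <;> first
      | rfl
      | exact absurd hab h01
      | exact absurd hab h02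
      | exact absurd hab h03
      | exact absurd hab h12
      | exact absurd hab h13
      | exact absurd hab h23
      | exact absurd hab.symm h01
      | exact absurd hab.symm h02
      | exact absurd hab.symm h03
      | exact absurd hab.symm h12
      | exact absurd hab.symm h13
      | exact absurd hab.symm h23
  have := Fintype.card_le_of_injective v hinj
  rw [Fintype.card_fin, ← Nat.card_eq_fintype_card, hc] at this
  omega

/-- A panel on which `U` acts with a normal kernel `K` of index `q`: an element of `U` fixing two chambers fixes all. -/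
theorem pan_index {i : I} {U K : Subgroup G} {q : ℕ} (hUB : U ≤ B) (hBP : B ≤ P i) (hKU : K ≤ U)
    (hK : ∀ k ∈ K, ∀ y ∈ P i, y⁻¹ * k * y ∈ B) (hq : K.relIndex U = q) (hq0 : q ≠ 0)
    (hcard : B.relIndex (P i) = q + 1)
    (htr : ∀ x ∈ P i, x ∉ B → ∀ y ∈ P i, y ∉ B → ∃ u ∈ U, (u * x)⁻¹ * y ∈ B)
    {g x : G} (hg : g ∈ U) (hx : x ∈ P i) (hxB : x ∉ B) (hgx : x⁻¹ * g * x ∈ B) :
    g ∈ K := by
  classical
  -- the stabiliser of `x B` in `U`
  let T : Subgroup G := U ⊓ B.map (MulAut.conj x).toMonoidHom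
  have hmemT : ∀ z, z ∈ T ↔ z ∈ U ∧ x⁻¹ * z * x ∈ B := by
    intro z
    show z ∈ U ∧ z ∈ B.map (MulAut.conj x).toMonoidHom ↔ _
    rw [Subgroup.mem_map]
    constructor
    · rintro ⟨h1, b, hb, rfl⟩
      refine ⟨h1, ?_⟩
      simpa [MulAut.conj_apply, mul_assoc] using hb
    · rintro ⟨h1, h2⟩
      refine ⟨h1, _, h2, ?_⟩
      simp [MulAut.conj_apply, mul_assoc]
  have hKT : K ≤ T := fun k hk => (hmemT k).2 ⟨hKU hk, hK k hk x hx⟩
  have hTU : T ≤ U := inf_le_left
  -- the index of `T` in `U`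
  haveI hfin : Finite (P i ⧸ B.subgroupOf (P i)) := Nat.finite_of_card_ne_zero (by
    have : Nat.card (P i ⧸ B.subgroupOf (P i)) = q + 1 := hcard
    rw [this]; omega)
  have hTq : T.relIndex U = q := by
    have h1 : Nat.card {c : P i ⧸ B.subgroupOf (P i) // c ≠ QuotientGroup.mk 1} = q := by
      haveI := Fintype.ofFinite (P i ⧸ B.subgroupOf (P i))
      rw [Nat.card_eq_fintype_card, Fintype.card_subtype_compl, Fintype.card_subtype_eq,
        ← Nat.card_eq_fintype_card]
      have : Nat.card (P i ⧸ B.subgroupOf (P i)) = q + 1 := hcard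
      rw [this]; omega
    rw [← h1]
    refine Nat.card_congr (Equiv.ofBijective (fun c : U ⧸ T.subgroupOf U =>
      Quotient.liftOn' c (fun u => (⟨QuotientGroup.mk ⟨(u : G) * x, mul_mem (hBP (hUB u.2)) hx⟩, ?_⟩ :
        {c : P i ⧸ B.subgroupOf (P i) // c ≠ QuotientGroup.mk 1})) ?_) ⟨?_, ?_⟩)
    · intro h
      rw [eq_comm, QuotientGroup.eq, Subgroup.mem_subgroupOf] at h
      apply hxB
      have h' : (u : G) * x ∈ B := by simpa using h
      have e : x = (u : G)⁻¹ * (u * x) := by group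
      rw [e]; exact mul_mem (inv_mem (hUB u.2)) h'
    · intro a b hab
      rw [QuotientGroup.leftRel_apply, Subgroup.mem_subgroupOf] at hab
      apply Subtype.ext
      show (QuotientGroup.mk _ : P i ⧸ B.subgroupOf (P i)) = QuotientGroup.mk _
      rw [QuotientGroup.eq, Subgroup.mem_subgroupOf]
      have h := ((hmemT _).1 hab).2
      have e : x⁻¹ * ((a⁻¹ * b : U) : G) * x = ((a : G) * x)⁻¹ * ((b : G) * x) := by
        rw [Subgroup.coe_mul, Subgroup.coe_inv]; group
      rw [e] at h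
      exact h
    · intro a b hab
      induction a using QuotientGroup.induction_on with
      | _ a =>
      induction b using QuotientGroup.induction_on with
      | _ b =>
      have h : (QuotientGroup.mk (⟨(a : G) * x, _⟩ : P i) : P i ⧸ B.subgroupOf (P i)) =
        QuotientGroup.mk ⟨(b : G) * x, _⟩ := congrArg Subtype.val hab
      rw [QuotientGroup.eq, Subgroup.mem_subgroupOf] at h ⊢
      rw [hmemT]
      refine ⟨(a⁻¹ * b).2, ?_⟩
      have e : x⁻¹ * ((a⁻¹ * b : U) : G) * x = ((a : G) * x)⁻¹ * ((b : G) * x) := by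
        rw [Subgroup.coe_mul, Subgroup.coe_inv]; group
      rw [e]
      exact h
    · rintro ⟨c, hc⟩
      induction c using QuotientGroup.induction_on with
      | _ y =>
      have hyB : (y : G) ∉ B := by
        intro h
        apply hc
        rw [eq_comm, QuotientGroup.eq, Subgroup.mem_subgroupOf]
        simpa using h
      obtain ⟨u, hu, huy⟩ := htr x hx hxB y y.2 hyB
      refine ⟨QuotientGroup.mk ⟨u, hu⟩, Subtype.ext ?_⟩
      show (QuotientGroup.mk _ : P i ⧸ B.subgroupOf (P i)) = QuotientGroup.mk _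
      rw [QuotientGroup.eq, Subgroup.mem_subgroupOf]
      exact huy
  have h2 := Subgroup.relIndex_mul_relIndex K T U hKT hTU
  rw [hTq, hq] at h2
  have h3 : K.relIndex T = 1 := by
    have : K.relIndex T * q = 1 * q := by rw [h2, one_mul]
    exact Nat.eq_of_mul_eq_mul_right (Nat.pos_of_ne_zero hq0) this
  exact Subgroup.relIndex_eq_one.1 h3 ((hmemT g).2 ⟨hg, hgx⟩)

/-- If `U` is a normal subgroup of `B` of index prime to `p`, it contains the `p`-elements of `B`. -/
theorem mem_of_coprime {U : Subgroup G} {p : ℕ} (hUB : U ≤ B) (hn : ∀ b ∈ B, ∀ u ∈ U, b * u * b⁻¹ ∈ U)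
    (hco : (U.relIndex B).Coprime p) {g : G} (hg : g ∈ B) {k : ℕ} (hgp : g ^ p ^ k = 1) : g ∈ U := by
  haveI : (U.subgroupOf B).Normal := ⟨fun u hu b => by
    rw [Subgroup.mem_subgroupOf] at hu ⊢
    exact hn b b.2 u hu⟩
  have h1 : (QuotientGroup.mk (⟨g, hg⟩ : B) : B ⧸ U.subgroupOf B) = 1 := by
    have h2 : (QuotientGroup.mk (⟨g, hg⟩ : B) : B ⧸ U.subgroupOf B) ^ p ^ k = 1 := by
      rw [← QuotientGroup.mk_pow]
      have : (⟨g, hg⟩ : B) ^ p ^ k = 1 := Subtype.ext hgp
      rw [this]; rfl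
    have h3 : orderOf (QuotientGroup.mk (⟨g, hg⟩ : B) : B ⧸ U.subgroupOf B) ∣ p ^ k := orderOf_dvd_of_pow_eq_one h2
    have h4 : orderOf (QuotientGroup.mk (⟨g, hg⟩ : B) : B ⧸ U.subgroupOf B) ∣ U.relIndex B := orderOf_dvd_natCard _
    have h5 : (U.relIndex B).Coprime (p ^ k) := hco.pow_right k
    have h6 := Nat.dvd_gcd h4 h3
    rw [h5.gcd_eq_one] at h6
    exact orderOf_eq_one_iff.1 (Nat.dvd_one.1 h6)
  rw [QuotientGroup.eq_one_iff, Subgroup.mem_subgroupOf] at h1
  exact h1

/-- the closure condition -/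
theorem clo_of_coprime {U : Subgroup G} {p : ℕ} (hUB : U ≤ B) (hn : ∀ b ∈ B, ∀ u ∈ U, b * u * b⁻¹ ∈ U)
    (hco : (U.relIndex B).Coprime p) (hp : IsPGroup p U) {g x : G} (hg : g ∈ U) (h : x⁻¹ * g * x ∈ B) :
    x⁻¹ * g * x ∈ U := by
  obtain ⟨k, hk⟩ := hp ⟨g, hg⟩
  have hk' : g ^ p ^ k = 1 := congrArg Subtype.val hk
  refine mem_of_coprime hUB hn hco h (k := k) ?_
  have e : x⁻¹ * g * x = x⁻¹ * g * (x⁻¹)⁻¹ := by rw [inv_inv]
  rw [e, conj_pow, hk', mul_one, mul_inv_cancel]

end Cfsg.Agent.ParSys.RankTwo
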