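import Cfsg.Agent.ParSys.RootEps

/-!
# Positive roots of type `B_n` (`n = m + 1`) and `D_n` (`n = m + 2`) in `ε`-coordinates
-/

set_option autoImplicit false
set_option linter.unusedSectionVars false

namespace Cfsg.Agent.ParSys.RootEpsBD

open Cfsg.Agent.ChevalleyStructure.CoxeterGeom Cfsg.Agent.Tits.Core Cfsg.Agent.ParSys.RootCount
  Cfsg.Agent.ParSys.RootEps

/-! ### Common facts -/

theorem mem_plus' {n a b : ℕ} (hab : a ≠ b) (ha : a < n) (hb : b < n) : E a + E b ∈ plus n := by
  rw [mem_plus]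
  rcases lt_or_gt_of_ne hab with h | h
  · exact ⟨a, b, h, hb, rfl⟩
  · exact ⟨b, a, h, ha, add_comm _ _⟩

theorem mem_minus' {n a b : ℕ} (hab : a < b) (hb : b < n) : E a - E b ∈ minus n := by
  rw [mem_minus]; exact ⟨a, b, hab, hb, rfl⟩

theorem mem_short' {n a : ℕ} (ha : a < n) : E a ∈ short n := by
  rw [mem_short]; exact ⟨a, ha, rfl⟩

theorem S_minus {n : ℕ} {α : ℕ → ℤ} (h : α ∈ minus n) : S n α = 0 := by
  obtain ⟨i, j, h1, h2, rfl⟩ := mem_minus.1 h
  rw [map_sub, S_E, S_E, if_pos (by omega), if_pos h2, sub_self]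

theorem S_plus {n : ℕ} {α : ℕ → ℤ} (h : α ∈ plus n) : S n α = 2 := by
  obtain ⟨i, j, h1, h2, rfl⟩ := mem_plus.1 h
  rw [map_add, S_E, S_E, if_pos (by omega), if_pos h2]; rfl

theorem S_short {n : ℕ} {α : ℕ → ℤ} (h : α ∈ short n) : S n α = 1 := by
  obtain ⟨i, h1, rfl⟩ := mem_short.1 h
  rw [S_E, if_pos h1]

theorem disj_mp (n : ℕ) : Disjoint (minus n) (plus n) := by
  rw [Finset.disjoint_left]
  intro α h1 h2
  have h3 := S_minus h1
  rw [S_plus h2] at h3
  omega

section

open Classical

/-- the positive roots of type `D` -/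
noncomputable def rootsD (n : ℕ) : Finset (ℕ → ℤ) := minus n ∪ plus n

/-- the positive roots of type `B` -/
noncomputable def rootsB (n : ℕ) : Finset (ℕ → ℤ) := rootsD n ∪ short n

theorem mem_rootsD {n : ℕ} {α : ℕ → ℤ} : α ∈ rootsD n ↔ α ∈ minus n ∨ α ∈ plus n := by
  unfold rootsD; rw [Finset.mem_union]

theorem mem_rootsB {n : ℕ} {α : ℕ → ℤ} : α ∈ rootsB n ↔ α ∈ rootsD n ∨ α ∈ short n := by
  unfold rootsB; rw [Finset.mem_union]

theorem card_rootsD (n : ℕ) : (rootsD n).card = n * (n - 1) := by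
  unfold rootsD
  rw [Finset.card_union_of_disjoint (disj_mp n), card_minus, card_plus, ← card_pairs_two]
  ring

theorem disj_ds (n : ℕ) : Disjoint (rootsD n) (short n) := by
  rw [Finset.disjoint_left]
  intro α h1 h2
  have h3 := S_short h2
  rcases mem_rootsD.1 h1 with h4 | h4
  · rw [S_minus h4] at h3; omega
  · rw [S_plus h4] at h3; omega

theorem card_rootsB (n : ℕ) : (rootsB n).card = n * n := by
  unfold rootsB
  rw [Finset.card_union_of_disjoint (disj_ds n), card_rootsD, card_short]
  rcases n with _ | n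
  · rfl
  · simp only [Nat.add_sub_cancel]; ring

/-- the weight of type `B`: `x` on the roots `ε_i ± ε_j`, `y` on the roots `ε_i` -/
noncomputable def wtB {T : Type*} (n : ℕ) (x y : T) (α : ℕ → ℤ) : T := if Even (S n α) then x else y

theorem prod_rootsB {T : Type*} [CommMonoid T] (n : ℕ) (x y : T) :
    ∏ α ∈ rootsB n, wtB n x y α = x ^ (n * (n - 1)) * y ^ n := by
  unfold rootsB
  rw [Finset.prod_union (disj_ds n)]
  congr 1
  · rw [← card_rootsD, ← Finset.prod_const]
    refine Finset.prod_congr rfl fun α hα => ?_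
    unfold wtB
    rw [if_pos]
    rcases mem_rootsD.1 hα with h | h
    · rw [S_minus h]; exact Even.zero
    · rw [S_plus h]; exact even_two
  · rw [← Finset.prod_congr rfl (fun α hα => ?_), Finset.prod_const, card_short]
    unfold wtB
    rw [if_neg]
    rw [S_short hα]; decide

end

/-- swapping `i` and `i + 1` -/
def tau (i j : ℕ) : ℕ := if j = i then i + 1 else if j = i + 1 then i else j

theorem tau_ne {i a b : ℕ} (h : a ≠ b) : tau i a ≠ tau i b := by
  unfold tau; split_ifs <;> omega

theorem tau_le {i a m : ℕ} (hi : i < m) (h : a ≤ m) : tau i a ≤ m := by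
  unfold tau; split_ifs <;> omega

theorem tau_lt {i a b : ℕ} (h : a < b) (hne : ¬ (a = i ∧ b = i + 1)) : tau i a < tau i b := by
  unfold tau; split_ifs <;> omega

/-- the swapping reflection on `ε_j` -/
theorem swap_E {B : Type*} (a : B → ℕ → ℤ) (c : B → (ℕ → ℤ) →+ ℤ) (x : B) (i : ℕ)
    (ha : a x = E i - E (i + 1)) (hc : ∀ v, c x v = v i - v (i + 1)) (j : ℕ) :
    rho a c x (E j) = E (tau i j) := by
  unfold rho tau
  rw [hc, ha]
  simp only [E_apply]
  by_cases h1 : j = i
  · subst h1
    rw [if_pos rfl, if_pos rfl, if_neg (by omega), sub_zero, one_smul]; abel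
  · by_cases h2 : j = i + 1
    · subst h2
      rw [if_neg (by omega), if_neg h1, if_pos rfl, if_pos rfl, zero_sub, neg_smul, one_smul]; abel
    · rw [if_neg h1, if_neg h2, if_neg (Ne.symm h1), if_neg (Ne.symm h2), sub_zero, zero_smul, sub_zero]

/-! ### Type B -/

section B

variable {m : ℕ}

def aB (i : Fin (m + 1)) : ℕ → ℤ := if (i : ℕ) = m then E m else E i - E (i + 1)
def cB (i : Fin (m + 1)) : (ℕ → ℤ) →+ ℤ := if (i : ℕ) = m then 2 • co m else co i - co (i + 1)

/-- type `B_{m+1}` -/
def TypeB (M : CoxeterMatrix (Fin (m + 1))) : Prop :=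
  ∀ i j : Fin (m + 1), i ≠ j → M i j =
    if ((i : ℕ) + 1 = j ∧ (j : ℕ) = m) ∨ ((j : ℕ) + 1 = i ∧ (i : ℕ) = m) then 4
    else if (i : ℕ) + 1 = j ∨ (j : ℕ) + 1 = i then 3 else 2

theorem aB_lt {i : Fin (m + 1)} (h : (i : ℕ) < m) : aB i = E i - E (i + 1) := by
  unfold aB; rw [if_neg (by omega)]

theorem aB_last {i : Fin (m + 1)} (h : (i : ℕ) = m) : aB i = E m := by
  unfold aB; rw [if_pos h]

theorem cB_lt {i : Fin (m + 1)} (h : (i : ℕ) < m) (v : ℕ → ℤ) : cB i v = v i - v (i + 1) := by
  unfold cB; rw [if_neg (by omega)]; rfl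

theorem cB_last {i : Fin (m + 1)} (h : (i : ℕ) = m) (v : ℕ → ℤ) : cB i v = 2 * v m := by
  unfold cB; rw [if_pos h, AddMonoidHom.nsmul_apply, co_apply, nsmul_eq_mul]; rfl

theorem car_B (i j : Fin (m + 1)) : car aB cB i j =
    if i = j then 2
    else if ((i : ℕ) + 1 = j ∧ (j : ℕ) = m) then -1
    else if ((j : ℕ) + 1 = i ∧ (i : ℕ) = m) then -2
    else if (i : ℕ) + 1 = j ∨ (j : ℕ) + 1 = i then -1 else 0 := by
  have hi := i.2
  have hj := j.2
  unfold car
  rcases Nat.lt_or_ge i m with h1 | h1 <;> rcases Nat.lt_or_ge j m with h2 | h2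
  · rw [cB_lt h1, aB_lt h2]
    simp only [Pi.sub_apply, E_apply, Fin.ext_iff]
    split_ifs <;> omega
  · rw [cB_lt h1, aB_last (by omega)]
    simp only [E_apply, Fin.ext_iff]
    split_ifs <;> omega
  · rw [cB_last (by omega), aB_lt h2]
    simp only [Pi.sub_apply, E_apply, Fin.ext_iff]
    split_ifs <;> omega
  · rw [cB_last (by omega), aB_last (by omega)]
    simp only [E_apply, Fin.ext_iff]
    split_ifs <;> omega

theorem isCartan_B {M : CoxeterMatrix (Fin (m + 1))} (hM : TypeB M) : IsCartan M (car (aB (m := m)) cB) where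
  diag i := by rw [car_B, if_pos rfl]
  rel i j hij := by
    rw [hM i j hij, car_B, car_B, if_neg hij, if_neg (Ne.symm hij)]
    by_cases h1 : (i : ℕ) + 1 = j ∧ (j : ℕ) = m
    · rw [if_pos (Or.inl h1), if_pos h1, if_neg (by omega), if_pos h1]
      right; right; left; exact ⟨rfl, Or.inl ⟨rfl, rfl⟩⟩
    · by_cases h2 : (j : ℕ) + 1 = i ∧ (i : ℕ) = m
      · rw [if_pos (Or.inr h2), if_neg h1, if_pos h2, if_pos h2]
        right; right; left; exact ⟨rfl, Or.inr ⟨rfl, rfl⟩⟩
      · rw [if_neg (by tauto), if_neg h1, if_neg h2, if_neg h2, if_neg h1]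
        by_cases h : (i : ℕ) + 1 = j ∨ (j : ℕ) + 1 = i
        · rw [if_pos h, if_pos h, if_pos h.symm]; right; left; exact ⟨rfl, rfl, rfl⟩
        · rw [if_neg h, if_neg h, if_neg (fun h' => h h'.symm)]; left; exact ⟨rfl, rfl, rfl⟩

theorem rho_B_lt {i : Fin (m + 1)} (h : (i : ℕ) < m) (j : ℕ) : rho aB cB i (E j) = E (tau i j) :=
  swap_E aB cB i i (aB_lt h) (cB_lt h) j

theorem rho_B_last {i : Fin (m + 1)} (h : (i : ℕ) = m) (j : ℕ) :
    rho aB cB i (E j) = if j = m then - E m else E j := by
  unfold rho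
  rw [cB_last h, aB_last h]
  simp only [E_apply]
  by_cases h1 : j = m
  · subst h1
    rw [if_pos rfl, if_pos rfl, mul_one, two_smul]; abel
  · rw [if_neg h1, if_neg (Ne.symm h1), mul_zero, zero_smul, sub_zero]

theorem cone_B_short {i : ℕ} (hi : i ≤ m) : E i ∈ cone (aB (m := m)) := by
  have key : ∀ d i, i + d = m → E i ∈ cone (aB (m := m)) := by
    intro d
    induction d with
    | zero =>
      intro i hi
      have := mem_cone aB (⟨m, by omega⟩ : Fin (m + 1))
      rw [aB_last rfl] at this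
      obtain rfl : i = m := by omega
      exact this
    | succ d ih =>
      intro i hi
      have h1 := mem_cone aB (⟨i, by omega⟩ : Fin (m + 1))
      rw [aB_lt (show ((⟨i, by omega⟩ : Fin (m + 1)) : ℕ) < m by simp only; omega)] at h1
      have h2 := add_mem h1 (ih (i + 1) (by omega))
      have e : E i - E (i + 1) + E (i + 1) = E i := by abel
      simp only at h2
      rwa [e] at h2
  exact key (m - i) i (by omega)

theorem cone_B_minus {i j : ℕ} (hij : i < j) (hj : j ≤ m) : E i - E j ∈ cone (aB (m := m)) := by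
  induction j with
  | zero => omega
  | succ j ih =>
    have h1 := mem_cone aB (⟨j, by omega⟩ : Fin (m + 1))
    rw [aB_lt (show ((⟨j, by omega⟩ : Fin (m + 1)) : ℕ) < m by simp only; omega)] at h1
    simp only at h1
    rcases Nat.lt_or_ge i j with h | h
    · have h2 := add_mem (ih h (by omega)) h1
      have e : E i - E j + (E j - E (j + 1)) = E i - E (j + 1) := by abel
      rwa [e] at h2
    · obtain rfl : i = j := by omega
      exact h1

theorem roots_B : Roots (car (aB (m := m)) cB) (lin aB) (rho aB cB) (rootsB (m + 1)) := by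
  refine roots_mk aB cB (fun j => S (j + 1)) ?_ ?_ ?_ ?_ ?_ ?_
  · intro i j hij
    have hi := i.2
    have hj := j.2
    have : (i : ℕ) ≠ j := fun h => hij (Fin.ext h)
    rcases Nat.lt_or_ge i m with h1 | h1
    · rw [aB_lt h1, map_sub, S_E, S_E]
      split_ifs <;> omega
    · rw [aB_last (by omega), S_E]
      split_ifs <;> omega
  · intro j
    have hj := j.2
    rcases Nat.lt_or_ge j m with h1 | h1
    · rw [aB_lt h1, map_sub, S_E, S_E]
      split_ifs <;> omega
    · rw [aB_last (by omega), S_E]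
      split_ifs <;> omega
  · intro i
    have hi := i.2
    rw [mem_rootsB, mem_rootsD]
    rcases Nat.lt_or_ge i m with h1 | h1
    · rw [aB_lt h1]; exact Or.inl (Or.inl (mem_minus' (by omega) (by omega)))
    · rw [aB_last (by omega)]; exact Or.inr (mem_short' (by omega))
  · intro α hα
    rw [mem_rootsB, mem_rootsD, mem_minus, mem_plus, mem_short] at hα
    rcases hα with (⟨i, j, h1, h2, rfl⟩ | ⟨i, j, h1, h2, rfl⟩) | ⟨i, h1, rfl⟩
    · exact cone_B_minus h1 (by omega)
    · exact add_mem (cone_B_short (by omega)) (cone_B_short (by omega))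
    · exact cone_B_short (by omega)
  · intro h0
    rw [mem_rootsB, mem_rootsD, mem_minus, mem_plus, mem_short] at h0
    rcases h0 with (⟨i, j, h1, h2, h3⟩ | ⟨i, j, h1, h2, h3⟩) | ⟨i, h1, h3⟩
    · exact sub_ne_zero' (by omega) h3.symm
    · exact add_ne_zero' _ _ h3.symm
    · exact E_ne_zero _ h3.symm
  · intro i α hα hne
    have hi := i.2
    rw [mem_rootsB, mem_rootsD, mem_minus, mem_plus, mem_short] at hα
    rw [mem_rootsB, mem_rootsD]
    rcases Nat.lt_or_ge i m with h0 | h0
    · rw [aB_lt h0] at hne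
      rcases hα with (⟨a, b, h1, h2, rfl⟩ | ⟨a, b, h1, h2, rfl⟩) | ⟨a, h1, rfl⟩
      · left; left
        rw [rho_sub, rho_B_lt h0, rho_B_lt h0]
        refine mem_minus' (tau_lt h1 ?_) (Nat.lt_succ_of_le (tau_le h0 (by omega)))
        rintro ⟨rfl, rfl⟩; exact hne rfl
      · left; right
        rw [rho_add, rho_B_lt h0, rho_B_lt h0]
        exact mem_plus' (tau_ne (by omega)) (Nat.lt_succ_of_le (tau_le h0 (by omega)))
          (Nat.lt_succ_of_le (tau_le h0 (by omega)))
      · right
        rw [rho_B_lt h0]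
        exact mem_short' (Nat.lt_succ_of_le (tau_le h0 (by omega)))
    · have h0' : (i : ℕ) = m := by omega
      rw [aB_last h0'] at hne
      rcases hα with (⟨a, b, h1, h2, rfl⟩ | ⟨a, b, h1, h2, rfl⟩) | ⟨a, h1, rfl⟩
      · left
        rw [rho_sub, rho_B_last h0', rho_B_last h0', if_neg (by omega)]
        by_cases hb : b = m
        · rw [if_pos hb, sub_neg_eq_add]; right
          exact mem_plus' (by omega) (by omega) (by omega)
        · rw [if_neg hb]; left
          exact mem_minus' h1 h2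
      · left
        rw [rho_add, rho_B_last h0', rho_B_last h0', if_neg (by omega)]
        by_cases hb : b = m
        · rw [if_pos hb, ← sub_eq_add_neg]; left
          exact mem_minus' (by omega) (by omega)
        · rw [if_neg hb]; right
          exact mem_plus' (by omega) (by omega) h2
      · right
        rw [rho_B_last h0']
        by_cases ha : a = m
        · subst ha; exact absurd rfl hne
        · rw [if_neg ha]; exact mem_short' h1

theorem wtB_rho {T : Type*} (x y : T) (i : Fin (m + 1)) (α : ℕ → ℤ) :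
    wtB (m + 1) x y (rho aB cB i α) = wtB (m + 1) x y α := by
  have hi := i.2
  have key : Even (S (m + 1) (rho aB cB i α)) ↔ Even (S (m + 1) α) := by
    unfold rho
    rw [map_sub, map_zsmul, smul_eq_mul]
    rcases Nat.lt_or_ge i m with h0 | h0
    · rw [aB_lt h0, map_sub, S_E, S_E, if_pos (by omega), if_pos (by omega), sub_self, mul_zero, sub_zero]
    · rw [cB_last (by omega), mul_assoc, Int.even_sub]
      simp
  unfold wtB
  simp only [key]

end B

/-! ### Type D -/

section D

variable {m : ℕ}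

def aD (i : Fin (m + 2)) : ℕ → ℤ := if (i : ℕ) = m + 1 then E m + E (m + 1) else E i - E (i + 1)
def cD (i : Fin (m + 2)) : (ℕ → ℤ) →+ ℤ := if (i : ℕ) = m + 1 then co m + co (m + 1) else co i - co (i + 1)

/-- type `D_{m+2}`: the last node is joined with the node `m - 1` -/
def TypeD (M : CoxeterMatrix (Fin (m + 2))) : Prop :=
  ∀ i j : Fin (m + 2), i ≠ j → M i j =
    if ((i : ℕ) + 1 = j ∧ (j : ℕ) ≤ m) ∨ ((j : ℕ) + 1 = i ∧ (i : ℕ) ≤ m) ∨
      ((i : ℕ) + 2 = j ∧ (j : ℕ) = m + 1) ∨ ((j : ℕ) + 2 = i ∧ (i : ℕ) = m + 1) then 3 else 2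

theorem aD_lt {i : Fin (m + 2)} (h : (i : ℕ) ≤ m) : aD i = E i - E (i + 1) := by
  unfold aD; rw [if_neg (by omega)]

theorem aD_last {i : Fin (m + 2)} (h : (i : ℕ) = m + 1) : aD i = E m + E (m + 1) := by
  unfold aD; rw [if_pos h]

theorem cD_lt {i : Fin (m + 2)} (h : (i : ℕ) ≤ m) (v : ℕ → ℤ) : cD i v = v i - v (i + 1) := by
  unfold cD; rw [if_neg (by omega)]; rfl

theorem cD_last {i : Fin (m + 2)} (h : (i : ℕ) = m + 1) (v : ℕ → ℤ) : cD i v = v m + v (m + 1) := by
  unfold cD; rw [if_pos h]; rfl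

theorem car_D (i j : Fin (m + 2)) : car aD cD i j =
    if i = j then 2
    else if ((i : ℕ) + 1 = j ∧ (j : ℕ) ≤ m) ∨ ((j : ℕ) + 1 = i ∧ (i : ℕ) ≤ m) ∨
      ((i : ℕ) + 2 = j ∧ (j : ℕ) = m + 1) ∨ ((j : ℕ) + 2 = i ∧ (i : ℕ) = m + 1) then -1 else 0 := by
  have hi := i.2
  have hj := j.2
  unfold car
  rcases Nat.lt_or_ge i (m + 1) with h1 | h1 <;> rcases Nat.lt_or_ge j (m + 1) with h2 | h2
  · rw [cD_lt (by omega), aD_lt (by omega)]
    simp only [Pi.sub_apply, E_apply, Fin.ext_iff]
    split_ifs <;> omega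
  · rw [cD_lt (by omega), aD_last (by omega)]
    simp only [Pi.add_apply, E_apply, Fin.ext_iff]
    split_ifs <;> omega
  · rw [cD_last (by omega), aD_lt (by omega)]
    simp only [Pi.sub_apply, E_apply, Fin.ext_iff]
    split_ifs <;> omega
  · rw [cD_last (by omega), aD_last (by omega)]
    simp only [Pi.add_apply, E_apply, Fin.ext_iff]
    split_ifs <;> omega

theorem isCartan_D {M : CoxeterMatrix (Fin (m + 2))} (hM : TypeD M) : IsCartan M (car (aD (m := m)) cD) where
  diag i := by rw [car_D, if_pos rfl]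
  rel i j hij := by
    rw [hM i j hij, car_D, car_D, if_neg hij, if_neg (Ne.symm hij)]
    by_cases h : ((i : ℕ) + 1 = j ∧ (j : ℕ) ≤ m) ∨ ((j : ℕ) + 1 = i ∧ (i : ℕ) ≤ m) ∨
      ((i : ℕ) + 2 = j ∧ (j : ℕ) = m + 1) ∨ ((j : ℕ) + 2 = i ∧ (i : ℕ) = m + 1)
    · rw [if_pos h, if_pos h, if_pos (by tauto)]; right; left; exact ⟨rfl, rfl, rfl⟩
    · rw [if_neg h, if_neg h, if_neg (by tauto)]; left; exact ⟨rfl, rfl, rfl⟩

theorem rho_D_lt {i : Fin (m + 2)} (h : (i : ℕ) ≤ m) (j : ℕ) : rho aD cD i (E j) = E (tau i j) :=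
  swap_E aD cD i i (aD_lt h) (cD_lt h) j

theorem rho_D_last {i : Fin (m + 2)} (h : (i : ℕ) = m + 1) (j : ℕ) :
    rho aD cD i (E j) = if j = m then - E (m + 1) else if j = m + 1 then - E m else E j := by
  unfold rho
  rw [cD_last h, aD_last h]
  simp only [E_apply]
  by_cases h1 : j = m
  · subst h1
    rw [if_pos rfl, if_neg (by omega), if_pos rfl, add_zero, one_smul]; abel
  · by_cases h2 : j = m + 1
    · subst h2
      rw [if_neg (by omega), if_pos rfl, if_neg h1, if_pos rfl, zero_add, one_smul]; abel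
    · rw [if_neg h1, if_neg h2, if_neg (Ne.symm h1), if_neg (Ne.symm h2), add_zero, zero_smul, sub_zero]

theorem cone_D_minus {i j : ℕ} (hij : i < j) (hj : j ≤ m + 1) : E i - E j ∈ cone (aD (m := m)) := by
  induction j with
  | zero => omega
  | succ j ih =>
    have h1 := mem_cone aD (⟨j, by omega⟩ : Fin (m + 2))
    rw [aD_lt (show ((⟨j, by omega⟩ : Fin (m + 2)) : ℕ) ≤ m by simp only; omega)] at h1
    simp only at h1
    rcases Nat.lt_or_ge i j with h | h
    · have h2 := add_mem (ih h (by omega)) h1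
      have e : E i - E j + (E j - E (j + 1)) = E i - E (j + 1) := by abel
      rwa [e] at h2
    · obtain rfl : i = j := by omega
      exact h1

theorem cone_D_plus {i j : ℕ} (hij : i < j) (hj : j ≤ m + 1) : E i + E j ∈ cone (aD (m := m)) := by
  have h0 := mem_cone aD (⟨m + 1, by omega⟩ : Fin (m + 2))
  rw [aD_last rfl] at h0
  have h1 : E i + E (m + 1) ∈ cone (aD (m := m)) := by
    rcases Nat.lt_or_ge i m with h | h
    · have h2 := add_mem (cone_D_minus (m := m) h (by omega)) h0
      have e : E i - E m + (E m + E (m + 1)) = E i + E (m + 1) := by abel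
      rwa [e] at h2
    · obtain rfl : i = m := by omega
      exact h0
  rcases Nat.lt_or_ge j (m + 1) with h | h
  · have h2 := add_mem h1 (cone_D_minus (m := m) h le_rfl)
    have e : E i + E (m + 1) + (E j - E (m + 1)) = E i + E j := by abel
    rwa [e] at h2
  · obtain rfl : j = m + 1 := by omega
    exact h1

/-- the dual functionals -/
def omD (j : Fin (m + 2)) : (ℕ → ℤ) →+ ℤ :=
  if (j : ℕ) = m then S (m + 1) - co (m + 1) else S (j + 1)

theorem roots_D : Roots (car (aD (m := m)) cD) (lin aD) (rho aD cD) (rootsD (m + 2)) := by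
  refine roots_mk aD cD omD ?_ ?_ ?_ ?_ ?_ ?_
  · intro i j hij
    have hi := i.2
    have hj := j.2
    have : (i : ℕ) ≠ j := fun h => hij (Fin.ext h)
    unfold omD
    rcases Nat.lt_or_ge i (m + 1) with h1 | h1
    · rw [aD_lt (by omega)]
      by_cases h2 : (j : ℕ) = m
      · rw [if_pos h2, AddMonoidHom.sub_apply, map_sub, map_sub, S_E, S_E, co_apply, co_apply, E_apply, E_apply]
        split_ifs <;> omega
      · rw [if_neg h2, map_sub, S_E, S_E]
        split_ifs <;> omega
    · rw [aD_last (by omega)]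
      by_cases h2 : (j : ℕ) = m
      · rw [if_pos h2, AddMonoidHom.sub_apply, map_add, map_add, S_E, S_E, co_apply, co_apply, E_apply, E_apply]
        split_ifs <;> omega
      · rw [if_neg h2, map_add, S_E, S_E]
        split_ifs <;> omega
  · intro j
    have hj := j.2
    unfold omD
    rcases Nat.lt_or_ge j (m + 1) with h1 | h1
    · rw [aD_lt (by omega)]
      by_cases h2 : (j : ℕ) = m
      · rw [if_pos h2, AddMonoidHom.sub_apply, map_sub, map_sub, S_E, S_E, co_apply, co_apply, E_apply, E_apply]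
        split_ifs <;> omega
      · rw [if_neg h2, map_sub, S_E, S_E]
        split_ifs <;> omega
    · rw [aD_last (by omega), if_neg (by omega), map_add, S_E, S_E]
      split_ifs <;> omega
  · intro i
    have hi := i.2
    rw [mem_rootsD]
    rcases Nat.lt_or_ge i (m + 1) with h1 | h1
    · rw [aD_lt (by omega)]; exact Or.inl (mem_minus' (by omega) (by omega))
    · rw [aD_last (by omega)]; exact Or.inr (mem_plus' (by omega) (by omega) (by omega))
  · intro α hα
    rw [mem_rootsD, mem_minus, mem_plus] at hα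
    rcases hα with ⟨i, j, h1, h2, rfl⟩ | ⟨i, j, h1, h2, rfl⟩
    · exact cone_D_minus h1 (by omega)
    · exact cone_D_plus h1 (by omega)
  · intro h0
    rw [mem_rootsD, mem_minus, mem_plus] at h0
    rcases h0 with ⟨i, j, h1, h2, h3⟩ | ⟨i, j, h1, h2, h3⟩
    · exact sub_ne_zero' (by omega) h3.symm
    · exact add_ne_zero' _ _ h3.symm
  · intro i α hα hne
    have hi := i.2
    rw [mem_rootsD, mem_minus, mem_plus] at hα
    rw [mem_rootsD]
    rcases Nat.lt_or_ge i (m + 1) with h0 | h0
    · have h0 : (i : ℕ) ≤ m := by omega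
      rw [aD_lt h0] at hne
      rcases hα with ⟨a, b, h1, h2, rfl⟩ | ⟨a, b, h1, h2, rfl⟩
      · left
        rw [rho_sub, rho_D_lt h0, rho_D_lt h0]
        refine mem_minus' (tau_lt h1 ?_) (Nat.lt_succ_of_le (tau_le (m := m + 1) (by omega) (by omega)))
        rintro ⟨rfl, rfl⟩; exact hne rfl
      · right
        rw [rho_add, rho_D_lt h0, rho_D_lt h0]
        exact mem_plus' (tau_ne (by omega)) (Nat.lt_succ_of_le (tau_le (m := m + 1) (by omega) (by omega)))
          (Nat.lt_succ_of_le (tau_le (m := m + 1) (by omega) (by omega)))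
    · have h0' : (i : ℕ) = m + 1 := by omega
      rw [aD_last h0'] at hne
      rcases hα with ⟨a, b, h1, h2, rfl⟩ | ⟨a, b, h1, h2, rfl⟩
      · rw [rho_sub, rho_D_last h0', rho_D_last h0']
        by_cases ha : a = m
        · obtain rfl : b = m + 1 := by omega
          left
          rw [if_pos ha, if_neg (by omega), if_pos rfl]
          have e : -E (m + 1) - -E m = E m - E (m + 1) := by abel
          rw [e]; exact mem_minus' (by omega) (by omega)
        · rw [if_neg ha, if_neg (by omega)]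
          by_cases hb : b = m
          · right
            rw [if_pos hb, sub_neg_eq_add]; exact mem_plus' (by omega) (by omega) (by omega)
          · rw [if_neg hb]
            by_cases hb' : b = m + 1
            · right
              rw [if_pos hb', sub_neg_eq_add]; exact mem_plus' (by omega) (by omega) (by omega)
            · left
              rw [if_neg hb']; exact mem_minus' h1 h2
      · rw [rho_add, rho_D_last h0', rho_D_last h0']
        by_cases ha : a = m
        · obtain rfl : b = m + 1 := by omega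
          subst ha; exact absurd rfl hne
        · rw [if_neg ha, if_neg (by omega)]
          by_cases hb : b = m
          · left
            rw [if_pos hb, ← sub_eq_add_neg]; exact mem_minus' (by omega) (by omega)
          · rw [if_neg hb]
            by_cases hb' : b = m + 1
            · left
              rw [if_pos hb', ← sub_eq_add_neg]; exact mem_minus' (by omega) (by omega)
            · right
              rw [if_neg hb']; exact mem_plus' (by omega) (by omega) h2

end D

end Cfsg.Agent.ParSys.RootEpsBD
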