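import Cfsg.Agent.ParSys.RootCount

/-!
# Positive roots of type `F₄`, `E₆`, `E₇`, `E₈` (coordinates = simple roots), checked by kernel computation
-/

set_option autoImplicit false
set_option Elab.async false

namespace Cfsg.Agent.ParSys.RootExc

open Cfsg.Agent.ChevalleyStructure.CoxeterGeom Cfsg.Agent.ParSys.RootCount

/-- the reflections permute the positive roots: `T` gives the index of the image -/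
theorem perm_of_table {n : ℕ} {A : Fin n → Fin n → ℤ} (L : List (Fin n → ℤ)) (T : List (List ℕ))
    (h : ∀ i : Fin n, ∀ j < L.length, L.getD j 0 = Pi.single i 1 ∨
      ((T.getD i []).getD j 0 < L.length ∧ refl A i (L.getD j 0) = L.getD ((T.getD i []).getD j 0) 0)) :
    ∀ i, ∀ v ∈ L.toFinset, v ≠ Pi.single i 1 → refl A i v ∈ L.toFinset := by
  intro i v hv hne
  rw [List.mem_toFinset] at hv ⊢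
  obtain ⟨j, hj, rfl⟩ := List.getElem_of_mem hv
  have e : L.getD j 0 = L[j] := by rw [List.getD_eq_getElem?_getD, List.getElem?_eq_getElem hj]; rfl
  rcases h i j hj with h1 | ⟨h1, h2⟩
  · rw [e] at h1; exact absurd h1 hne
  · rw [e] at h2
    rw [h2, List.getD_eq_getElem?_getD, List.getElem?_eq_getElem h1]
    exact List.getElem_mem h1

/-- Cartan matrix -/
def AF4 : Fin 4 → Fin 4 → ℤ := ![![2, -1, 0, 0],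
  ![-1, 2, -1, 0],
  ![0, -2, 2, -1],
  ![0, 0, -1, 2]]

/-- positive roots -/
def LF4 : List (Fin 4 → ℤ) := [![0, 0, 0, 1],
  ![0, 0, 1, 0],
  ![0, 1, 0, 0],
  ![1, 0, 0, 0],
  ![0, 0, 1, 1],
  ![0, 1, 1, 0],
  ![1, 1, 0, 0],
  ![0, 1, 1, 1],
  ![0, 1, 2, 0],
  ![1, 1, 1, 0],
  ![0, 1, 2, 1],
  ![1, 1, 1, 1],
  ![1, 1, 2, 0],
  ![0, 1, 2, 2],
  ![1, 1, 2, 1],
  ![1, 2, 2, 0],
  ![1, 1, 2, 2],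
  ![1, 2, 2, 1],
  ![1, 2, 2, 2],
  ![1, 2, 3, 1],
  ![1, 2, 3, 2],
  ![1, 2, 4, 2],
  ![1, 3, 4, 2],
  ![2, 3, 4, 2]]

/-- images under the simple reflections -/
def TF4 : List (List ℕ) := [[0, 1, 6, 0, 4, 9, 2, 11, 12, 5, 14, 7, 8, 16, 10, 15, 13, 17, 18, 19, 20, 21, 23, 22],
  [0, 5, 0, 6, 7, 1, 3, 4, 8, 9, 10, 11, 15, 13, 17, 12, 18, 14, 16, 19, 20, 22, 21, 23],
  [4, 0, 8, 3, 0, 5, 12, 10, 2, 9, 7, 14, 6, 13, 11, 15, 16, 19, 21, 17, 20, 18, 22, 23],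
  [0, 4, 2, 3, 1, 7, 6, 5, 13, 11, 10, 9, 16, 8, 14, 18, 12, 17, 15, 20, 19, 21, 22, 23]]

def RF4 : Finset (Fin 4 → ℤ) := LF4.toFinset

set_option backward.isDefEq.respectTransparency false in
theorem isCartan_F4 : IsCartan CoxeterMatrix.F₄ AF4 := by
  constructor <;> decide +kernel

theorem card_F4 : RF4.card = 24 := by
  have h : LF4.Nodup := by decide +kernel
  exact (List.toFinset_card_of_nodup h).trans rfl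

theorem posRoots_F4 : PosRoots AF4 RF4 where
  simple_mem := by
    have h : ∀ i, Pi.single i 1 ∈ LF4 := by decide +kernel
    exact fun i => List.mem_toFinset.2 (h i)
  pos := by
    have h : ∀ v ∈ LF4, ∀ i, 0 ≤ v i := by decide +kernel
    exact fun v hv => h v (List.mem_toFinset.1 hv)
  ne := by
    have h : (0 : Fin 4 → ℤ) ∉ LF4 := by decide +kernel
    exact fun h0 => h (List.mem_toFinset.1 h0)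
  perm := perm_of_table LF4 TF4 (by decide +kernel)

/-- Cartan matrix -/
def AE6 : Fin 6 → Fin 6 → ℤ := ![![2, 0, -1, 0, 0, 0],
  ![0, 2, 0, -1, 0, 0],
  ![-1, 0, 2, -1, 0, 0],
  ![0, -1, -1, 2, -1, 0],
  ![0, 0, 0, -1, 2, -1],
  ![0, 0, 0, 0, -1, 2]]

/-- positive roots -/
def LE6 : List (Fin 6 → ℤ) := [![0, 0, 0, 0, 0, 1],
  ![0, 0, 0, 0, 1, 0],
  ![0, 0, 0, 1, 0, 0],
  ![0, 0, 1, 0, 0, 0],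
  ![0, 1, 0, 0, 0, 0],
  ![1, 0, 0, 0, 0, 0],
  ![0, 0, 0, 0, 1, 1],
  ![0, 0, 0, 1, 1, 0],
  ![0, 0, 1, 1, 0, 0],
  ![0, 1, 0, 1, 0, 0],
  ![1, 0, 1, 0, 0, 0],
  ![0, 0, 0, 1, 1, 1],
  ![0, 0, 1, 1, 1, 0],
  ![0, 1, 0, 1, 1, 0],
  ![0, 1, 1, 1, 0, 0],
  ![1, 0, 1, 1, 0, 0],
  ![0, 0, 1, 1, 1, 1],
  ![0, 1, 0, 1, 1, 1],
  ![0, 1, 1, 1, 1, 0],
  ![1, 0, 1, 1, 1, 0],
  ![1, 1, 1, 1, 0, 0],
  ![0, 1, 1, 1, 1, 1],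
  ![0, 1, 1, 2, 1, 0],
  ![1, 0, 1, 1, 1, 1],
  ![1, 1, 1, 1, 1, 0],
  ![0, 1, 1, 2, 1, 1],
  ![1, 1, 1, 1, 1, 1],
  ![1, 1, 1, 2, 1, 0],
  ![0, 1, 1, 2, 2, 1],
  ![1, 1, 1, 2, 1, 1],
  ![1, 1, 2, 2, 1, 0],
  ![1, 1, 1, 2, 2, 1],
  ![1, 1, 2, 2, 1, 1],
  ![1, 1, 2, 2, 2, 1],
  ![1, 1, 2, 3, 2, 1],
  ![1, 2, 2, 3, 2, 1]]

/-- images under the simple reflections -/
def TE6 : List (List ℕ) := [[0, 1, 2, 10, 4, 0, 6, 7, 15, 9, 3, 11, 19, 13, 20, 8, 23, 17, 24, 12, 14, 26, 27, 16, 18, 29, 21, 22, 31, 25, 30, 28, 32, 33, 34, 35],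
  [0, 1, 9, 3, 0, 5, 6, 13, 14, 2, 10, 17, 18, 7, 8, 20, 21, 11, 12, 24, 15, 16, 22, 26, 19, 25, 23, 27, 28, 29, 30, 31, 32, 33, 35, 34],
  [0, 1, 8, 0, 4, 10, 6, 12, 2, 14, 5, 16, 7, 18, 9, 15, 11, 21, 13, 19, 20, 17, 22, 23, 24, 25, 26, 30, 28, 32, 27, 33, 29, 31, 34, 35],
  [0, 7, 0, 8, 9, 5, 11, 1, 3, 4, 15, 6, 12, 13, 14, 10, 16, 17, 22, 19, 20, 25, 18, 23, 27, 21, 29, 24, 28, 26, 30, 31, 32, 34, 33, 35],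
  [6, 0, 7, 3, 4, 5, 0, 2, 12, 13, 10, 11, 8, 9, 18, 19, 16, 17, 14, 15, 24, 21, 22, 23, 20, 28, 26, 27, 25, 31, 30, 29, 33, 32, 34, 35],
  [0, 6, 2, 3, 4, 5, 1, 11, 8, 9, 10, 7, 16, 17, 14, 15, 12, 13, 21, 23, 20, 18, 25, 19, 26, 22, 24, 29, 28, 27, 32, 31, 30, 33, 34, 35]]

def RE6 : Finset (Fin 6 → ℤ) := LE6.toFinset

set_option backward.isDefEq.respectTransparency false in
theorem isCartan_E6 : IsCartan CoxeterMatrix.E₆ AE6 := by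
  constructor <;> decide +kernel

theorem card_E6 : RE6.card = 36 := by
  have h : LE6.Nodup := by decide +kernel
  exact (List.toFinset_card_of_nodup h).trans rfl

theorem posRoots_E6 : PosRoots AE6 RE6 where
  simple_mem := by
    have h : ∀ i, Pi.single i 1 ∈ LE6 := by decide +kernel
    exact fun i => List.mem_toFinset.2 (h i)
  pos := by
    have h : ∀ v ∈ LE6, ∀ i, 0 ≤ v i := by decide +kernel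
    exact fun v hv => h v (List.mem_toFinset.1 hv)
  ne := by
    have h : (0 : Fin 6 → ℤ) ∉ LE6 := by decide +kernel
    exact fun h0 => h (List.mem_toFinset.1 h0)
  perm := perm_of_table LE6 TE6 (by decide +kernel)

/-- Cartan matrix -/
def AE7 : Fin 7 → Fin 7 → ℤ := ![![2, 0, -1, 0, 0, 0, 0],
  ![0, 2, 0, -1, 0, 0, 0],
  ![-1, 0, 2, -1, 0, 0, 0],
  ![0, -1, -1, 2, -1, 0, 0],
  ![0, 0, 0, -1, 2, -1, 0],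
  ![0, 0, 0, 0, -1, 2, -1],
  ![0, 0, 0, 0, 0, -1, 2]]

/-- positive roots -/
def LE7 : List (Fin 7 → ℤ) := [![0, 0, 0, 0, 0, 0, 1],
  ![0, 0, 0, 0, 0, 1, 0],
  ![0, 0, 0, 0, 1, 0, 0],
  ![0, 0, 0, 1, 0, 0, 0],
  ![0, 0, 1, 0, 0, 0, 0],
  ![0, 1, 0, 0, 0, 0, 0],
  ![1, 0, 0, 0, 0, 0, 0],
  ![0, 0, 0, 0, 0, 1, 1],
  ![0, 0, 0, 0, 1, 1, 0],
  ![0, 0, 0, 1, 1, 0, 0],
  ![0, 0, 1, 1, 0, 0, 0],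
  ![0, 1, 0, 1, 0, 0, 0],
  ![1, 0, 1, 0, 0, 0, 0],
  ![0, 0, 0, 0, 1, 1, 1],
  ![0, 0, 0, 1, 1, 1, 0],
  ![0, 0, 1, 1, 1, 0, 0],
  ![0, 1, 0, 1, 1, 0, 0],
  ![0, 1, 1, 1, 0, 0, 0],
  ![1, 0, 1, 1, 0, 0, 0],
  ![0, 0, 0, 1, 1, 1, 1],
  ![0, 0, 1, 1, 1, 1, 0],
  ![0, 1, 0, 1, 1, 1, 0],
  ![0, 1, 1, 1, 1, 0, 0],
  ![1, 0, 1, 1, 1, 0, 0],
  ![1, 1, 1, 1, 0, 0, 0],
  ![0, 0, 1, 1, 1, 1, 1],
  ![0, 1, 0, 1, 1, 1, 1],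
  ![0, 1, 1, 1, 1, 1, 0],
  ![0, 1, 1, 2, 1, 0, 0],
  ![1, 0, 1, 1, 1, 1, 0],
  ![1, 1, 1, 1, 1, 0, 0],
  ![0, 1, 1, 1, 1, 1, 1],
  ![0, 1, 1, 2, 1, 1, 0],
  ![1, 0, 1, 1, 1, 1, 1],
  ![1, 1, 1, 1, 1, 1, 0],
  ![1, 1, 1, 2, 1, 0, 0],
  ![0, 1, 1, 2, 1, 1, 1],
  ![0, 1, 1, 2, 2, 1, 0],
  ![1, 1, 1, 1, 1, 1, 1],
  ![1, 1, 1, 2, 1, 1, 0],
  ![1, 1, 2, 2, 1, 0, 0],
  ![0, 1, 1, 2, 2, 1, 1],
  ![1, 1, 1, 2, 1, 1, 1],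
  ![1, 1, 1, 2, 2, 1, 0],
  ![1, 1, 2, 2, 1, 1, 0],
  ![0, 1, 1, 2, 2, 2, 1],
  ![1, 1, 1, 2, 2, 1, 1],
  ![1, 1, 2, 2, 1, 1, 1],
  ![1, 1, 2, 2, 2, 1, 0],
  ![1, 1, 1, 2, 2, 2, 1],
  ![1, 1, 2, 2, 2, 1, 1],
  ![1, 1, 2, 3, 2, 1, 0],
  ![1, 1, 2, 2, 2, 2, 1],
  ![1, 1, 2, 3, 2, 1, 1],
  ![1, 2, 2, 3, 2, 1, 0],
  ![1, 1, 2, 3, 2, 2, 1],
  ![1, 2, 2, 3, 2, 1, 1],
  ![1, 1, 2, 3, 3, 2, 1],
  ![1, 2, 2, 3, 2, 2, 1],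
  ![1, 2, 2, 3, 3, 2, 1],
  ![1, 2, 2, 4, 3, 2, 1],
  ![1, 2, 3, 4, 3, 2, 1],
  ![2, 2, 3, 4, 3, 2, 1]]

/-- images under the simple reflections -/
def TE7 : List (List ℕ) := [[0, 1, 2, 3, 12, 5, 0, 7, 8, 9, 18, 11, 4, 13, 14, 23, 16, 24, 10, 19, 29, 21, 30, 15, 17, 33, 26, 34, 35, 20, 22, 38, 39, 25, 27, 28, 42, 43, 31, 32, 40, 46, 36, 37, 44, 49, 41, 47, 48, 45, 50, 51, 52, 53, 54, 55, 56, 57, 58, 59, 60, 62, 61],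
  [0, 1, 2, 11, 4, 0, 6, 7, 8, 16, 17, 3, 12, 13, 21, 22, 9, 10, 24, 26, 27, 14, 15, 30, 18, 31, 19, 20, 28, 34, 23, 25, 32, 38, 29, 35, 36, 37, 33, 39, 40, 41, 42, 43, 44, 45, 46, 47, 48, 49, 50, 54, 52, 56, 51, 58, 53, 59, 55, 57, 60, 61, 62],
  [0, 1, 2, 10, 0, 5, 12, 7, 8, 15, 3, 17, 6, 13, 20, 9, 22, 11, 18, 25, 14, 27, 16, 23, 24, 19, 31, 21, 28, 29, 30, 26, 32, 33, 34, 40, 36, 37, 38, 44, 35, 41, 47, 48, 39, 45, 50, 42, 43, 52, 46, 51, 49, 53, 54, 55, 56, 57, 58, 59, 61, 60, 62],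
  [0, 1, 9, 0, 10, 11, 6, 7, 14, 2, 4, 5, 18, 19, 8, 15, 16, 17, 12, 13, 20, 21, 28, 23, 24, 25, 26, 32, 22, 29, 35, 36, 27, 33, 39, 30, 31, 37, 42, 34, 40, 41, 38, 43, 44, 45, 46, 47, 51, 49, 53, 48, 55, 50, 54, 52, 56, 57, 58, 60, 59, 61, 62],
  [0, 8, 0, 9, 4, 5, 6, 13, 1, 3, 15, 16, 12, 7, 14, 10, 11, 22, 23, 19, 20, 21, 17, 18, 30, 25, 26, 27, 28, 29, 24, 31, 37, 33, 34, 35, 41, 32, 38, 43, 40, 36, 46, 39, 48, 45, 42, 50, 44, 49, 47, 51, 52, 53, 54, 57, 56, 55, 59, 58, 60, 61, 62],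
  [7, 0, 8, 3, 4, 5, 6, 0, 2, 14, 10, 11, 12, 13, 9, 20, 21, 17, 18, 19, 15, 16, 27, 29, 24, 25, 26, 22, 32, 23, 34, 31, 28, 33, 30, 39, 36, 37, 38, 35, 44, 45, 42, 43, 40, 41, 49, 47, 48, 46, 52, 51, 50, 55, 54, 53, 58, 57, 56, 59, 60, 61, 62],
  [0, 7, 2, 3, 4, 5, 6, 1, 13, 9, 10, 11, 12, 8, 19, 15, 16, 17, 18, 14, 25, 26, 22, 23, 24, 20, 21, 31, 28, 33, 30, 27, 36, 29, 38, 35, 32, 41, 34, 42, 40, 37, 39, 46, 47, 45, 43, 44, 50, 49, 48, 53, 52, 51, 56, 55, 54, 57, 58, 59, 60, 61, 62]]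

def RE7 : Finset (Fin 7 → ℤ) := LE7.toFinset

set_option backward.isDefEq.respectTransparency false in
theorem isCartan_E7 : IsCartan CoxeterMatrix.E₇ AE7 := by
  constructor <;> decide +kernel

theorem card_E7 : RE7.card = 63 := by
  have h : LE7.Nodup := by decide +kernel
  exact (List.toFinset_card_of_nodup h).trans rfl

theorem posRoots_E7 : PosRoots AE7 RE7 where
  simple_mem := by
    have h : ∀ i, Pi.single i 1 ∈ LE7 := by decide +kernel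
    exact fun i => List.mem_toFinset.2 (h i)
  pos := by
    have h : ∀ v ∈ LE7, ∀ i, 0 ≤ v i := by decide +kernel
    exact fun v hv => h v (List.mem_toFinset.1 hv)
  ne := by
    have h : (0 : Fin 7 → ℤ) ∉ LE7 := by decide +kernel
    exact fun h0 => h (List.mem_toFinset.1 h0)
  perm := perm_of_table LE7 TE7 (by decide +kernel)

/-- Cartan matrix -/
def AE8 : Fin 8 → Fin 8 → ℤ := ![![2, 0, -1, 0, 0, 0, 0, 0],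
  ![0, 2, 0, -1, 0, 0, 0, 0],
  ![-1, 0, 2, -1, 0, 0, 0, 0],
  ![0, -1, -1, 2, -1, 0, 0, 0],
  ![0, 0, 0, -1, 2, -1, 0, 0],
  ![0, 0, 0, 0, -1, 2, -1, 0],
  ![0, 0, 0, 0, 0, -1, 2, -1],
  ![0, 0, 0, 0, 0, 0, -1, 2]]

/-- positive roots -/
def LE8 : List (Fin 8 → ℤ) := [![0, 0, 0, 0, 0, 0, 0, 1],
  ![0, 0, 0, 0, 0, 0, 1, 0],
  ![0, 0, 0, 0, 0, 1, 0, 0],
  ![0, 0, 0, 0, 1, 0, 0, 0],
  ![0, 0, 0, 1, 0, 0, 0, 0],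
  ![0, 0, 1, 0, 0, 0, 0, 0],
  ![0, 1, 0, 0, 0, 0, 0, 0],
  ![1, 0, 0, 0, 0, 0, 0, 0],
  ![0, 0, 0, 0, 0, 0, 1, 1],
  ![0, 0, 0, 0, 0, 1, 1, 0],
  ![0, 0, 0, 0, 1, 1, 0, 0],
  ![0, 0, 0, 1, 1, 0, 0, 0],
  ![0, 0, 1, 1, 0, 0, 0, 0],
  ![0, 1, 0, 1, 0, 0, 0, 0],
  ![1, 0, 1, 0, 0, 0, 0, 0],
  ![0, 0, 0, 0, 0, 1, 1, 1],
  ![0, 0, 0, 0, 1, 1, 1, 0],
  ![0, 0, 0, 1, 1, 1, 0, 0],
  ![0, 0, 1, 1, 1, 0, 0, 0],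
  ![0, 1, 0, 1, 1, 0, 0, 0],
  ![0, 1, 1, 1, 0, 0, 0, 0],
  ![1, 0, 1, 1, 0, 0, 0, 0],
  ![0, 0, 0, 0, 1, 1, 1, 1],
  ![0, 0, 0, 1, 1, 1, 1, 0],
  ![0, 0, 1, 1, 1, 1, 0, 0],
  ![0, 1, 0, 1, 1, 1, 0, 0],
  ![0, 1, 1, 1, 1, 0, 0, 0],
  ![1, 0, 1, 1, 1, 0, 0, 0],
  ![1, 1, 1, 1, 0, 0, 0, 0],
  ![0, 0, 0, 1, 1, 1, 1, 1],
  ![0, 0, 1, 1, 1, 1, 1, 0],
  ![0, 1, 0, 1, 1, 1, 1, 0],
  ![0, 1, 1, 1, 1, 1, 0, 0],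
  ![0, 1, 1, 2, 1, 0, 0, 0],
  ![1, 0, 1, 1, 1, 1, 0, 0],
  ![1, 1, 1, 1, 1, 0, 0, 0],
  ![0, 0, 1, 1, 1, 1, 1, 1],
  ![0, 1, 0, 1, 1, 1, 1, 1],
  ![0, 1, 1, 1, 1, 1, 1, 0],
  ![0, 1, 1, 2, 1, 1, 0, 0],
  ![1, 0, 1, 1, 1, 1, 1, 0],
  ![1, 1, 1, 1, 1, 1, 0, 0],
  ![1, 1, 1, 2, 1, 0, 0, 0],
  ![0, 1, 1, 1, 1, 1, 1, 1],
  ![0, 1, 1, 2, 1, 1, 1, 0],
  ![0, 1, 1, 2, 2, 1, 0, 0],
  ![1, 0, 1, 1, 1, 1, 1, 1],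
  ![1, 1, 1, 1, 1, 1, 1, 0],
  ![1, 1, 1, 2, 1, 1, 0, 0],
  ![1, 1, 2, 2, 1, 0, 0, 0],
  ![0, 1, 1, 2, 1, 1, 1, 1],
  ![0, 1, 1, 2, 2, 1, 1, 0],
  ![1, 1, 1, 1, 1, 1, 1, 1],
  ![1, 1, 1, 2, 1, 1, 1, 0],
  ![1, 1, 1, 2, 2, 1, 0, 0],
  ![1, 1, 2, 2, 1, 1, 0, 0],
  ![0, 1, 1, 2, 2, 1, 1, 1],
  ![0, 1, 1, 2, 2, 2, 1, 0],
  ![1, 1, 1, 2, 1, 1, 1, 1],
  ![1, 1, 1, 2, 2, 1, 1, 0],
  ![1, 1, 2, 2, 1, 1, 1, 0],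
  ![1, 1, 2, 2, 2, 1, 0, 0],
  ![0, 1, 1, 2, 2, 2, 1, 1],
  ![1, 1, 1, 2, 2, 1, 1, 1],
  ![1, 1, 1, 2, 2, 2, 1, 0],
  ![1, 1, 2, 2, 1, 1, 1, 1],
  ![1, 1, 2, 2, 2, 1, 1, 0],
  ![1, 1, 2, 3, 2, 1, 0, 0],
  ![0, 1, 1, 2, 2, 2, 2, 1],
  ![1, 1, 1, 2, 2, 2, 1, 1],
  ![1, 1, 2, 2, 2, 1, 1, 1],
  ![1, 1, 2, 2, 2, 2, 1, 0],
  ![1, 1, 2, 3, 2, 1, 1, 0],
  ![1, 2, 2, 3, 2, 1, 0, 0],
  ![1, 1, 1, 2, 2, 2, 2, 1],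
  ![1, 1, 2, 2, 2, 2, 1, 1],
  ![1, 1, 2, 3, 2, 1, 1, 1],
  ![1, 1, 2, 3, 2, 2, 1, 0],
  ![1, 2, 2, 3, 2, 1, 1, 0],
  ![1, 1, 2, 2, 2, 2, 2, 1],
  ![1, 1, 2, 3, 2, 2, 1, 1],
  ![1, 1, 2, 3, 3, 2, 1, 0],
  ![1, 2, 2, 3, 2, 1, 1, 1],
  ![1, 2, 2, 3, 2, 2, 1, 0],
  ![1, 1, 2, 3, 2, 2, 2, 1],
  ![1, 1, 2, 3, 3, 2, 1, 1],
  ![1, 2, 2, 3, 2, 2, 1, 1],
  ![1, 2, 2, 3, 3, 2, 1, 0],
  ![1, 1, 2, 3, 3, 2, 2, 1],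
  ![1, 2, 2, 3, 2, 2, 2, 1],
  ![1, 2, 2, 3, 3, 2, 1, 1],
  ![1, 2, 2, 4, 3, 2, 1, 0],
  ![1, 1, 2, 3, 3, 3, 2, 1],
  ![1, 2, 2, 3, 3, 2, 2, 1],
  ![1, 2, 2, 4, 3, 2, 1, 1],
  ![1, 2, 3, 4, 3, 2, 1, 0],
  ![1, 2, 2, 3, 3, 3, 2, 1],
  ![1, 2, 2, 4, 3, 2, 2, 1],
  ![1, 2, 3, 4, 3, 2, 1, 1],
  ![2, 2, 3, 4, 3, 2, 1, 0],
  ![1, 2, 2, 4, 3, 3, 2, 1],
  ![1, 2, 3, 4, 3, 2, 2, 1],
  ![2, 2, 3, 4, 3, 2, 1, 1],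
  ![1, 2, 2, 4, 4, 3, 2, 1],
  ![1, 2, 3, 4, 3, 3, 2, 1],
  ![2, 2, 3, 4, 3, 2, 2, 1],
  ![1, 2, 3, 4, 4, 3, 2, 1],
  ![2, 2, 3, 4, 3, 3, 2, 1],
  ![1, 2, 3, 5, 4, 3, 2, 1],
  ![2, 2, 3, 4, 4, 3, 2, 1],
  ![1, 3, 3, 5, 4, 3, 2, 1],
  ![2, 2, 3, 5, 4, 3, 2, 1],
  ![2, 2, 4, 5, 4, 3, 2, 1],
  ![2, 3, 3, 5, 4, 3, 2, 1],
  ![2, 3, 4, 5, 4, 3, 2, 1],
  ![2, 3, 4, 6, 4, 3, 2, 1],
  ![2, 3, 4, 6, 5, 3, 2, 1],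
  ![2, 3, 4, 6, 5, 4, 2, 1],
  ![2, 3, 4, 6, 5, 4, 3, 1],
  ![2, 3, 4, 6, 5, 4, 3, 2]]

/-- images under the simple reflections -/
def TE8 : List (List ℕ) := [[0, 1, 2, 3, 4, 14, 6, 0, 8, 9, 10, 11, 21, 13, 5, 15, 16, 17, 27, 19, 28, 12, 22, 23, 34, 25, 35, 18, 20, 29, 40, 31, 41, 42, 24, 26, 46, 37, 47, 48, 30, 32, 33, 52, 53, 54, 36, 38, 39, 49, 58, 59, 43, 44, 45, 55, 63, 64, 50, 51, 60, 61, 69, 56, 57, 65, 66, 67, 74, 62, 70, 71, 72, 73, 68, 75, 76, 77, 78, 79, 80, 81, 82, 83, 84, 85, 86, 87, 88, 89, 90, 91, 92, 93, 94, 99, 96, 97, 102, 95, 100, 105, 98, 103, 107, 101, 109, 104, 111, 106, 113, 108, 112, 110, 114, 115, 116, 117, 118, 119],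
  [0, 1, 2, 3, 13, 5, 0, 7, 8, 9, 10, 19, 20, 4, 14, 15, 16, 25, 26, 11, 12, 28, 22, 31, 32, 17, 18, 35, 21, 37, 38, 23, 24, 33, 41, 27, 43, 29, 30, 39, 47, 34, 42, 36, 44, 45, 52, 40, 48, 49, 50, 51, 46, 53, 54, 55, 56, 57, 58, 59, 60, 61, 62, 63, 64, 65, 66, 73, 68, 69, 70, 71, 78, 67, 74, 75, 82, 83, 72, 79, 86, 87, 76, 77, 89, 90, 80, 81, 93, 84, 85, 91, 96, 88, 94, 95, 92, 97, 98, 99, 100, 101, 102, 103, 104, 105, 106, 107, 110, 109, 108, 113, 114, 111, 112, 115, 116, 117, 118, 119],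
  [0, 1, 2, 3, 12, 0, 6, 14, 8, 9, 10, 18, 4, 20, 7, 15, 16, 24, 11, 26, 13, 21, 22, 30, 17, 32, 19, 27, 28, 36, 23, 38, 25, 33, 34, 35, 29, 43, 31, 39, 40, 41, 49, 37, 44, 45, 46, 47, 55, 42, 50, 51, 52, 60, 61, 48, 56, 57, 65, 66, 53, 54, 62, 70, 71, 58, 59, 67, 68, 75, 63, 64, 72, 73, 79, 69, 76, 77, 78, 74, 80, 81, 82, 83, 84, 85, 86, 87, 88, 89, 90, 95, 92, 93, 98, 91, 96, 101, 94, 99, 104, 97, 102, 106, 100, 105, 103, 107, 108, 109, 110, 112, 111, 114, 113, 115, 116, 117, 118, 119],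
  [0, 1, 2, 11, 0, 12, 13, 7, 8, 9, 17, 3, 5, 6, 21, 15, 23, 10, 18, 19, 20, 14, 29, 16, 24, 25, 33, 27, 28, 22, 30, 31, 39, 26, 34, 42, 36, 37, 44, 32, 40, 48, 35, 50, 38, 45, 46, 53, 41, 49, 43, 51, 58, 47, 54, 55, 56, 57, 52, 59, 60, 67, 62, 63, 64, 65, 72, 61, 68, 69, 76, 77, 66, 73, 74, 80, 70, 71, 78, 84, 75, 81, 82, 83, 79, 85, 86, 91, 88, 89, 94, 87, 92, 97, 90, 95, 100, 93, 98, 99, 96, 101, 102, 103, 104, 105, 108, 107, 106, 111, 110, 109, 112, 113, 115, 114, 116, 117, 118, 119],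
  [0, 1, 10, 0, 11, 5, 6, 7, 8, 16, 2, 4, 18, 19, 14, 22, 9, 17, 12, 13, 26, 27, 15, 23, 24, 25, 20, 21, 35, 29, 30, 31, 32, 33, 34, 28, 36, 37, 38, 45, 40, 41, 42, 43, 51, 39, 46, 47, 54, 49, 56, 44, 52, 59, 48, 61, 50, 57, 63, 53, 66, 55, 62, 58, 64, 70, 60, 67, 68, 69, 65, 71, 72, 73, 74, 75, 76, 81, 78, 79, 85, 77, 82, 87, 88, 80, 90, 83, 84, 93, 86, 91, 92, 89, 94, 95, 96, 97, 98, 99, 103, 101, 102, 100, 106, 105, 104, 109, 108, 107, 110, 111, 112, 113, 114, 116, 115, 117, 118, 119],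
  [0, 9, 0, 10, 4, 5, 6, 7, 15, 1, 3, 17, 12, 13, 14, 8, 16, 11, 24, 25, 20, 21, 22, 23, 18, 19, 32, 34, 28, 29, 30, 31, 26, 39, 27, 41, 36, 37, 38, 33, 40, 35, 48, 43, 44, 45, 46, 47, 42, 55, 50, 57, 52, 53, 54, 49, 62, 51, 58, 64, 60, 61, 56, 69, 59, 65, 71, 67, 68, 63, 75, 66, 77, 73, 74, 70, 80, 72, 83, 79, 76, 81, 86, 78, 84, 85, 82, 87, 92, 89, 90, 91, 88, 96, 94, 95, 93, 100, 98, 99, 97, 104, 102, 103, 101, 107, 106, 105, 108, 109, 110, 111, 112, 113, 114, 115, 117, 116, 118, 119],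
  [8, 0, 9, 3, 4, 5, 6, 7, 0, 2, 16, 11, 12, 13, 14, 15, 10, 23, 18, 19, 20, 21, 22, 17, 30, 31, 26, 27, 28, 29, 24, 25, 38, 33, 40, 35, 36, 37, 32, 44, 34, 47, 42, 43, 39, 51, 46, 41, 53, 49, 50, 45, 52, 48, 59, 60, 56, 57, 58, 54, 55, 66, 68, 63, 64, 65, 61, 72, 62, 74, 70, 71, 67, 78, 69, 79, 76, 77, 73, 75, 84, 81, 82, 83, 80, 88, 89, 87, 85, 86, 93, 91, 92, 90, 97, 95, 96, 94, 101, 99, 100, 98, 105, 103, 104, 102, 106, 107, 108, 109, 110, 111, 112, 113, 114, 115, 116, 118, 117, 119],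
  [0, 8, 2, 3, 4, 5, 6, 7, 1, 15, 10, 11, 12, 13, 14, 9, 22, 17, 18, 19, 20, 21, 16, 29, 24, 25, 26, 27, 28, 23, 36, 37, 32, 33, 34, 35, 30, 31, 43, 39, 46, 41, 42, 38, 50, 45, 40, 52, 48, 49, 44, 56, 47, 58, 54, 55, 51, 62, 53, 63, 65, 61, 57, 59, 69, 60, 70, 67, 68, 64, 66, 75, 76, 73, 74, 71, 72, 80, 82, 79, 77, 85, 78, 86, 84, 81, 83, 90, 88, 89, 87, 94, 92, 93, 91, 98, 96, 97, 95, 102, 100, 101, 99, 103, 104, 105, 106, 107, 108, 109, 110, 111, 112, 113, 114, 115, 116, 117, 119, 118]]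

def RE8 : Finset (Fin 8 → ℤ) := LE8.toFinset

set_option backward.isDefEq.respectTransparency false in
theorem isCartan_E8 : IsCartan CoxeterMatrix.E₈ AE8 := by
  constructor <;> decide +kernel

theorem card_E8 : RE8.card = 120 := by
  have h : LE8.Nodup := by decide +kernel
  exact (List.toFinset_card_of_nodup h).trans rfl

theorem posRoots_E8 : PosRoots AE8 RE8 where
  simple_mem := by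
    have h : ∀ i, Pi.single i 1 ∈ LE8 := by decide +kernel
    exact fun i => List.mem_toFinset.2 (h i)
  pos := by
    have h : ∀ v ∈ LE8, ∀ i, 0 ≤ v i := by decide +kernel
    exact fun v hv => h v (List.mem_toFinset.1 hv)
  ne := by
    have h : (0 : Fin 8 → ℤ) ∉ LE8 := by decide +kernel
    exact fun h0 => h (List.mem_toFinset.1 h0)
  perm := perm_of_table LE8 TE8 (by decide +kernel)

end Cfsg.Agent.ParSys.RootExc
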