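import Cfsg.Agent.ParSys.FreeMain
import Cfsg.Agent.ParSys.RootEpsBD
import Cfsg.Agent.ParSys.RootExc

/-!
# THEOREM FREE: the number `q_{w₀}` for the irreducible spherical diagrams

`HasQ M q N` : the Coxeter group of `M` is finite and the product of the `q i` along a reduced word of `w₀` is `N`.
`HasQ.exists_bnPair` : a system (`Free.Sys`) of type `M` with `|U| = N` is a (B,N)-pair.
`conn_of_parent` : connectedness of a diagram.
-/

set_option autoImplicit false

namespace Cfsg.Agent.ParSys.FreeCount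

open Cfsg.Agent.ChevalleyStructure.CoxeterGeom Cfsg.Agent.Tits.Core Cfsg.Agent.ParSys.RootCount
  Cfsg.Agent.ParSys.RootEps Cfsg.Agent.ParSys.RootEpsBD Cfsg.Agent.ParSys.RootExc

variable {I : Type*}

/-! ### Reindexing -/

section reindex

variable {J : Type*} {M : CoxeterMatrix I} {W : Type*} [Group W] (cs : CoxeterSystem M W) (e : I ≃ J)

theorem wordProd_reindex (F : List I) : (cs.reindex e).wordProd (F.map e) = cs.wordProd F := by
  unfold CoxeterSystem.wordProd
  rw [List.map_map]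
  congr 1
  refine List.map_congr_left fun i _ => ?_
  rw [Function.comp_apply, CoxeterSystem.reindex_simple, Equiv.symm_apply_apply]

theorem length_reindex (w : W) : (cs.reindex e).length w = cs.length w := by
  apply le_antisymm
  · obtain ⟨F, hF, rfl⟩ := cs.exists_isReduced w
    have h1 := (cs.reindex e).length_wordProd_le (F.map e)
    rw [wordProd_reindex, List.length_map] at h1
    rw [hF.eq]; exact h1
  · obtain ⟨F, hF, rfl⟩ := (cs.reindex e).exists_isReduced w
    have h2 : (cs.reindex e).wordProd F = cs.wordProd (F.map e.symm) := by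
      rw [← wordProd_reindex cs e, List.map_map]
      simp
    have h1 := cs.length_wordProd_le (F.map e.symm)
    rw [List.length_map] at h1
    rw [hF.eq, h2]; exact h1

theorem isReduced_reindex {F : List I} (hF : cs.IsReduced F) : (cs.reindex e).IsReduced (F.map e) := by
  unfold CoxeterSystem.IsReduced at hF ⊢
  rw [wordProd_reindex, length_reindex, List.length_map]
  exact hF

theorem w0_reindex [Finite W] : w0 (cs.reindex e) = w0 cs := by
  symm
  apply Tits.Exchange.eq_w0_of_length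
  rw [length_reindex, length_reindex]
  exact Tits.Exchange.length_le_w0 cs _

end reindex

/-! ### The invariant -/

/-- the Coxeter group of `M` is finite and the product of the `q i` along a reduced word of `w₀` is `N` -/
def HasQ (M : CoxeterMatrix I) (q : I → ℕ) (N : ℕ) : Prop :=
  Finite M.Group ∧ ∀ F : List I, M.toCoxeterSystem.IsReduced F →
    M.toCoxeterSystem.wordProd F = w0 M.toCoxeterSystem → (F.map q).prod = N

variable {M : CoxeterMatrix I} {q : I → ℕ} {N : ℕ}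

/-- **THEOREM FREE** with the number `q_{w₀}` known -/
theorem HasQ.exists_bnPair {G : Type*} [Group G] [Finite G] [Finite I] (hM : HasQ M q N)
    {B : Subgroup G} {P : I → Subgroup G} {U : Subgroup G}
    (h : Free.Sys M.toCoxeterSystem B P U q) (hcard : Nat.card U = N) :
    ∃ Q : Cfsg.BNPair G, Q.B = B ∧ Q.rank = Nat.card I ∧ (∃ e : I ≃ Q.S, ∀ i, (e i : G) ∈ P i) ∧
      ((∀ J : Set I, J.Nonempty → Jᶜ.Nonempty → ∃ i ∈ J, ∃ j ∈ Jᶜ, M i j ≠ 2) → Q.Irreducible) := by
  have := hM.1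
  obtain ⟨F, hF, he⟩ := M.toCoxeterSystem.exists_isReduced (w0 M.toCoxeterSystem)
  exact h.exists_bnPair hF he.symm (by rw [hcard, hM.2 F hF he.symm])

/-- the bound for `|U|` -/
theorem HasQ.card_le {G : Type*} [Group G] [Finite G] [Finite I] (hM : HasQ M q N)
    {B : Subgroup G} {P : I → Subgroup G} {U : Subgroup G}
    (h : Free.Sys M.toCoxeterSystem B P U q) : Nat.card U ≤ N := by
  have := hM.1
  obtain ⟨F, hF, he⟩ := M.toCoxeterSystem.exists_isReduced (w0 M.toCoxeterSystem)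
  have := h.card_le hF he.symm
  rwa [hM.2 F hF he.symm] at this

/-- transport to an arbitrary index set -/
theorem hasQ_of_fin {n : ℕ} (e : I ≃ Fin n) {A : Fin n → Fin n → ℤ} (hA : IsCartan (M.reindex e) A)
    {L : Type*} [AddCommGroup L] {f : (Fin n → ℤ) →+ L} {ρ : Fin n → L → L} {Φ : Finset L}
    (hΦ : Roots A f ρ Φ) (wt : L → ℕ)
    (hwt : ∀ i, ∀ α ∈ Φ, α ≠ f (Pi.single i 1) → wt (ρ i α) = wt α)
    (hq : ∀ i, q i = wt (f (Pi.single (e i) 1))) (hN : ∏ α ∈ Φ, wt α = N) : HasQ M q N := by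
  have hfin : Finite M.Group := hΦ.finite hA (M.toCoxeterSystem.reindex e)
  refine ⟨hfin, fun F hF hw => ?_⟩
  have h1 := hΦ.prod_w0 hA (M.toCoxeterSystem.reindex e) wt hwt (F.map e)
    (isReduced_reindex _ e hF) (by rw [wordProd_reindex, w0_reindex, hw])
  rw [List.map_map, hN] at h1
  rw [← h1]
  congr 1
  exact List.map_congr_left fun i _ => hq i

theorem hasQ_of_pos {n : ℕ} (e : I ≃ Fin n) {A : Fin n → Fin n → ℤ} (hA : IsCartan (M.reindex e) A)
    {R : Finset (Fin n → ℤ)} (hR : PosRoots A R) (wt : (Fin n → ℤ) → ℕ)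
    (hwt : ∀ i, ∀ v ∈ R, v ≠ Pi.single i 1 → wt (refl A i v) = wt v)
    (hq : ∀ i, q i = wt (Pi.single (e i) 1)) (hN : ∏ v ∈ R, wt v = N) : HasQ M q N := by
  have hfin : Finite M.Group := hR.finite hA (M.toCoxeterSystem.reindex e)
  refine ⟨hfin, fun F hF hw => ?_⟩
  have h1 := hR.prod_w0 hA (M.toCoxeterSystem.reindex e) wt hwt (F.map e)
    (isReduced_reindex _ e hF) (by rw [wordProd_reindex, w0_reindex, hw])
  rw [List.map_map, hN] at h1
  rw [← h1]
  congr 1
  exact List.map_congr_left fun i _ => hq i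

/-! ### The diagrams -/

/-- type `A_n` -/
theorem hasQ_A {n : ℕ} (e : I ≃ Fin n) (hM : TypeA (M.reindex e)) {x : ℕ} (hq : ∀ i, q i = x) :
    HasQ M q (x ^ (n * (n + 1) / 2)) := by
  refine hasQ_of_fin e (isCartan_A hM) roots_A (fun _ => x) (fun _ _ _ _ => rfl) hq ?_
  rw [Finset.prod_const, card_minus, card_pairs, Nat.add_sub_cancel, mul_comm]

/-- type `B_n`, `n = m + 1`: the last node has the parameter `y` -/
theorem hasQ_B {m : ℕ} (e : I ≃ Fin (m + 1)) (hM : TypeB (M.reindex e)) {x y : ℕ}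
    (hq : ∀ i, q i = if (e i : ℕ) = m then y else x) : HasQ M q (x ^ ((m + 1) * m) * y ^ (m + 1)) := by
  refine hasQ_of_fin e (isCartan_B hM) roots_B (wtB (m + 1) x y) (fun i α _ _ => wtB_rho x y i α) ?_ ?_
  · intro i
    rw [hq, lin_single, one_smul]
    have hi := (e i).2
    rcases Nat.lt_or_ge (e i) m with h | h
    · have h1 : S (m + 1) (aB (e i)) = 0 := by
        rw [aB_lt h, map_sub, S_E, S_E, if_pos (by omega), if_pos (by omega), sub_self]
      rw [if_neg (show ¬ (e i : ℕ) = m by omega)]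
      unfold wtB
      rw [h1, if_pos Even.zero]
    · have h1 : S (m + 1) (aB (e i)) = 1 := by
        rw [aB_last (show (e i : ℕ) = m by omega), S_E, if_pos (by omega)]
      rw [if_pos (show (e i : ℕ) = m by omega)]
      unfold wtB
      rw [h1, if_neg (by decide)]
  · rw [prod_rootsB]; rfl

/-- type `D_n`, `n = m + 2` -/
theorem hasQ_D {m : ℕ} (e : I ≃ Fin (m + 2)) (hM : TypeD (M.reindex e)) {x : ℕ} (hq : ∀ i, q i = x) :
    HasQ M q (x ^ ((m + 2) * (m + 1))) := by
  refine hasQ_of_fin e (isCartan_D hM) roots_D (fun _ => x) (fun _ _ _ _ => rfl) hq ?_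
  rw [Finset.prod_const, card_rootsD]; rfl

/-- the weight of type `F₄` -/
def longF (v : Fin 4 → ℤ) : Bool := v 2 % 2 == 0 && v 3 % 2 == 0

theorem longF_refl : ∀ i, ∀ v ∈ LF4, v ≠ Pi.single i 1 → longF (refl AF4 i v) = longF v := by
  decide +kernel

theorem count_long : (LF4.filter fun v => longF v).length = 12 := by decide +kernel
theorem count_short : (LF4.filter fun v => !longF v).length = 12 := by decide +kernel
theorem nodup_F4 : LF4.Nodup := by decide +kernel

theorem prod_F4 (x y : ℕ) : ∏ v ∈ RF4, (if longF v then x else y) = x ^ 12 * y ^ 12 := by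
  rw [Finset.prod_ite, Finset.prod_const, Finset.prod_const]
  have h1 : (RF4.filter fun v => longF v = true).card = 12 := by
    unfold RF4
    rw [← List.toFinset_filter, List.toFinset_card_of_nodup (nodup_F4.filter _)]
    simpa using count_long
  have h2 : (RF4.filter fun v => ¬ longF v = true).card = 12 := by
    have h3 := Finset.card_filter_add_card_filter_not (s := RF4) (fun v => longF v = true)
    rw [h1, card_F4] at h3
    omega
  rw [h1, h2]

/-- type `F₄`: the nodes `0, 1` have the parameter `x`, the nodes `2, 3` the parameter `y` -/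
theorem hasQ_F4 (e : I ≃ Fin 4) (hM : M.reindex e = CoxeterMatrix.F₄) {x y : ℕ}
    (hq : ∀ i, q i = if (e i : ℕ) < 2 then x else y) : HasQ M q (x ^ 12 * y ^ 12) := by
  refine hasQ_of_pos e (hM ▸ isCartan_F4) posRoots_F4 (fun v => if longF v then x else y) ?_ ?_
    (prod_F4 x y)
  · intro i v hv hne
    show (if longF (refl AF4 i v) then x else y) = if longF v then x else y
    rw [longF_refl i v (List.mem_toFinset.1 hv) hne]
  · intro i
    rw [hq]
    have key : ∀ k : Fin 4, longF (Pi.single k 1) = decide ((k : ℕ) < 2) := by decide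
    rw [key]
    simp

theorem hasQ_E6 (e : I ≃ Fin 6) (hM : M.reindex e = CoxeterMatrix.E₆) {x : ℕ} (hq : ∀ i, q i = x) :
    HasQ M q (x ^ 36) := by
  refine hasQ_of_pos e (hM ▸ isCartan_E6) posRoots_E6 (fun _ => x) (fun _ _ _ _ => rfl) hq ?_
  rw [Finset.prod_const, card_E6]

theorem hasQ_E7 (e : I ≃ Fin 7) (hM : M.reindex e = CoxeterMatrix.E₇) {x : ℕ} (hq : ∀ i, q i = x) :
    HasQ M q (x ^ 63) := by
  refine hasQ_of_pos e (hM ▸ isCartan_E7) posRoots_E7 (fun _ => x) (fun _ _ _ _ => rfl) hq ?_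
  rw [Finset.prod_const, card_E7]

theorem hasQ_E8 (e : I ≃ Fin 8) (hM : M.reindex e = CoxeterMatrix.E₈) {x : ℕ} (hq : ∀ i, q i = x) :
    HasQ M q (x ^ 120) := by
  refine hasQ_of_pos e (hM ▸ isCartan_E8) posRoots_E8 (fun _ => x) (fun _ _ _ _ => rfl) hq ?_
  rw [Finset.prod_const, card_E8]

/-! ### Connectedness -/

/-- a diagram in which every node but one is joined with a node of smaller rank is connected -/
theorem conn_of_rank {J₀ : Type*} (e : I ≃ J₀) (r : J₀ → ℕ) (o : J₀)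
    (h : ∀ k : J₀, k ≠ o → ∃ l : J₀, r l < r k ∧ M.reindex e k l ≠ 2) :
    ∀ J : Set I, J.Nonempty → Jᶜ.Nonempty → ∃ i ∈ J, ∃ j ∈ Jᶜ, M i j ≠ 2 := by
  intro J hJ hJ'
  have key : ∀ T : Set J₀, T.Nonempty → Tᶜ.Nonempty →
      ∃ i ∈ T, ∃ j ∈ Tᶜ, M.reindex e i j ≠ 2 := by
    intro T hT hT'
    by_contra hcon
    push Not at hcon
    obtain ⟨a, ha⟩ := hT
    obtain ⟨b, hb⟩ := hT'
    have hsym : ∀ i j, M.reindex e i j = M.reindex e j i := fun i j => (M.reindex e).symmetric i j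
    have hall : ∀ (m : ℕ) (k : J₀), r k = m → (k ∈ T ↔ o ∈ T) := by
      intro m
      induction m using Nat.strong_induction_on with
      | _ m ih =>
        intro k hk
        by_cases hko : k = o
        · rw [hko]
        · obtain ⟨l, hl, hne⟩ := h k hko
          have h1 := ih (r l) (by omega) l rfl
          rw [← h1]
          constructor
          · intro h2
            by_contra h3
            exact hne (hcon _ h2 l h3)
          · intro h2
            by_contra h3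
            exact hne (by rw [hsym]; exact hcon l h2 _ h3)
    exact hb ((hall _ b rfl).2 ((hall _ a rfl).1 ha))
  obtain ⟨i, hi, j, hj, hij⟩ := key (e '' J) (hJ.image e) (by
    obtain ⟨x, hx⟩ := hJ'
    exact ⟨e x, fun ⟨y, hy, hxy⟩ => hx (e.injective hxy ▸ hy)⟩)
  obtain ⟨x, hx, rfl⟩ := hi
  refine ⟨x, hx, e.symm j, fun h3 => hj ⟨_, h3, e.apply_symm_apply j⟩, ?_⟩
  rw [CoxeterMatrix.reindex_apply, Equiv.symm_apply_apply] at hij
  exact hij

/-- a diagram in which every node `k > 0` is joined with a smaller node is connected -/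
theorem conn_of_parent {n : ℕ} (e : I ≃ Fin n)
    (h : ∀ k : Fin n, 0 < (k : ℕ) → ∃ l : Fin n, (l : ℕ) < k ∧ M.reindex e k l ≠ 2) :
    ∀ J : Set I, J.Nonempty → Jᶜ.Nonempty → ∃ i ∈ J, ∃ j ∈ Jᶜ, M i j ≠ 2 := by
  intro J hJ hJ'
  have hn : 0 < n := by
    obtain ⟨x, -⟩ := hJ
    exact lt_of_le_of_lt (Nat.zero_le _) (e x).2
  refine conn_of_rank e (fun k => (k : ℕ)) ⟨0, hn⟩ (fun k hk => h k ?_) J hJ hJ'
  rcases Nat.eq_zero_or_pos (k : ℕ) with h0 | h0
  · exact absurd (Fin.ext h0) hk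
  · exact h0

theorem conn_A {n : ℕ} (e : I ≃ Fin n) (hM : TypeA (M.reindex e)) :
    ∀ J : Set I, J.Nonempty → Jᶜ.Nonempty → ∃ i ∈ J, ∃ j ∈ Jᶜ, M i j ≠ 2 := by
  refine conn_of_parent e fun k hk => ⟨⟨k - 1, by omega⟩, by simp only; omega, ?_⟩
  rw [hM _ _ (fun h => by rw [Fin.ext_iff] at h; simp only at h; omega), if_pos (by simp only; omega)]
  decide

theorem conn_B {m : ℕ} (e : I ≃ Fin (m + 1)) (hM : TypeB (M.reindex e)) :
    ∀ J : Set I, J.Nonempty → Jᶜ.Nonempty → ∃ i ∈ J, ∃ j ∈ Jᶜ, M i j ≠ 2 := by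
  refine conn_of_parent e fun k hk => ⟨⟨k - 1, by omega⟩, by simp only; omega, ?_⟩
  rw [hM _ _ (fun h => by rw [Fin.ext_iff] at h; simp only at h; omega)]
  split_ifs with h1 h2
  · decide
  · decide
  · exact absurd (by simp only; omega) h2

theorem conn_D {m : ℕ} (e : I ≃ Fin (m + 2)) (h1m : 1 ≤ m) (hM : TypeD (M.reindex e)) :
    ∀ J : Set I, J.Nonempty → Jᶜ.Nonempty → ∃ i ∈ J, ∃ j ∈ Jᶜ, M i j ≠ 2 := by
  refine conn_of_parent e fun k hk => ?_
  have hk2 := k.2
  rcases Nat.lt_or_ge k (m + 1) with h | h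
  · refine ⟨⟨k - 1, by omega⟩, by simp only; omega, ?_⟩
    rw [hM _ _ (fun h => by rw [Fin.ext_iff] at h; simp only at h; omega), if_pos (by simp only; omega)]
    decide
  · refine ⟨⟨m - 1, by omega⟩, by simp only; omega, ?_⟩
    rw [hM _ _ (fun h => by rw [Fin.ext_iff] at h; simp only at h; omega), if_pos (by simp only; omega)]
    decide

/-- a Cartan matrix whose graph is connected -/
theorem conn_of_cartan {n : ℕ} {M₀ : CoxeterMatrix (Fin n)} {A : Fin n → Fin n → ℤ} (hA : IsCartan M₀ A)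
    (e : I ≃ Fin n) (hM : M.reindex e = M₀) (r : Fin n → ℕ) (o : Fin n)
    (h : ∀ k : Fin n, k ≠ o → ∃ l : Fin n, r l < r k ∧ A k l ≠ 0) :
    ∀ J : Set I, J.Nonempty → Jᶜ.Nonempty → ∃ i ∈ J, ∃ j ∈ Jᶜ, M i j ≠ 2 := by
  refine conn_of_rank e r o fun k hk => ?_
  obtain ⟨l, h1, h2⟩ := h k hk
  refine ⟨l, h1, fun h3 => h2 ?_⟩
  have h4 := hA.rel k l (fun h => by rw [h] at h1; omega)
  rw [← hM, h3] at h4
  rcases h4 with h4 | h4 | h4 | h4
  · exact h4.2.1
  all_goals exact absurd h4.1 (by decide)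

theorem conn_F4 (e : I ≃ Fin 4) (hM : M.reindex e = CoxeterMatrix.F₄) :
    ∀ J : Set I, J.Nonempty → Jᶜ.Nonempty → ∃ i ∈ J, ∃ j ∈ Jᶜ, M i j ≠ 2 :=
  conn_of_cartan isCartan_F4 e hM ![0, 1, 2, 3] 0 (by decide)

theorem conn_E6 (e : I ≃ Fin 6) (hM : M.reindex e = CoxeterMatrix.E₆) :
    ∀ J : Set I, J.Nonempty → Jᶜ.Nonempty → ∃ i ∈ J, ∃ j ∈ Jᶜ, M i j ≠ 2 :=
  conn_of_cartan isCartan_E6 e hM ![0, 3, 1, 2, 3, 4] 0 (by decide)

theorem conn_E7 (e : I ≃ Fin 7) (hM : M.reindex e = CoxeterMatrix.E₇) :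
    ∀ J : Set I, J.Nonempty → Jᶜ.Nonempty → ∃ i ∈ J, ∃ j ∈ Jᶜ, M i j ≠ 2 :=
  conn_of_cartan isCartan_E7 e hM ![0, 3, 1, 2, 3, 4, 5] 0 (by decide)

theorem conn_E8 (e : I ≃ Fin 8) (hM : M.reindex e = CoxeterMatrix.E₈) :
    ∀ J : Set I, J.Nonempty → Jᶜ.Nonempty → ∃ i ∈ J, ∃ j ∈ Jᶜ, M i j ≠ 2 :=
  conn_of_cartan isCartan_E8 e hM ![0, 3, 1, 2, 3, 4, 5, 6] 0 (by decide)

end Cfsg.Agent.ParSys.FreeCount
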