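import Cfsg.Agent.ParSys.Core
import Cfsg.Agent.ParSys.Bruhat
import Cfsg.Agent.Tits.Exchange
import Cfsg.Agent.LieExceptional.CoxeterExchange
import Cfsg.Agent.LieRecognition.CoxForm

/-!
# The Bruhat decomposition for free: words

`B ≤ P i ≤ G`, `cs : CoxeterSystem M W` (`W` an arbitrary Coxeter group with finitely many simple reflections).
`E f = (P i₁ \ B) (P i₂ \ B) ⋯ (P iₖ \ B) B` for a word `f = i₁ … iₖ`.  If `E f` is one double coset of `B` for every
reduced word `f`, if the panels are thick and if the words `i j i …`, `j i j …` of length `M i j` give the same set, then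
`C w = E f`, `w = π f`, does not depend on the reduced word `f` (Matsumoto) and is a `Cosets` structure of
`ParSys/Bruhat.lean`: the `C w` are pairwise different, they cover `G = ⟨P i⟩`, `G ⧸ B` is a thick building, `W` is finite
if `G` is, and `G` has a (B,N)-pair.
-/

set_option autoImplicit false
set_option linter.unusedSectionVars false

namespace Cfsg.Agent.ParSys.Words

open scoped Pointwise

/-! ### Coxeter groups -/

section order

open Cfsg.Agent.LieRecognition.CoxForm

variable {A : Type*} [Fintype A] [DecidableEq A] {M : CoxeterMatrix A} {W : Type*} [Group W]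
  (cs : CoxeterSystem M W)

theorem eq_zero_of_pow (a b : A) (h0 : M a b = 0) {n : ℕ} (hpow : (cs.simple a * cs.simple b) ^ n = 1) :
    n = 0 := by
  have hab : a ≠ b := by
    rintro rfl
    rw [M.diagonal] at h0
    exact one_ne_zero h0
  have hK : K M a b = -1 := by simp [K, h0]
  have key : ∀ k : ℕ, ((sg M a * sg M b) ^ k) (bs a) = bs a + (2 * k : ℝ) • (bs a + bs b) := by
    intro k
    induction k with
    | zero => simp
    | succ k ih =>
      rw [pow_succ', Module.End.mul_apply, ih, step_eq M a b 1 hK]
      simp only [map_add, map_smul, fn_bs, K_self, hK, K_symm M b a, smul_eq_mul]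
      ext d
      simp only [Pi.add_apply, Pi.smul_apply, smul_eq_mul]
      push_cast
      ring
  have h1 : (sg M a * sg M b) ^ n = 1 := by
    rw [← rep_simple cs a, ← rep_simple cs b, ← map_mul, ← map_pow, hpow, map_one]
  have h2 := key n
  rw [h1, Module.End.one_apply] at h2
  have h3 := congrFun h2 b
  simpa [bs, hab.symm] using h3

/-- `s_a s_b` has order `M a b` (`0` means infinite order). -/
theorem orderOf_eq_aux (a b : A) : orderOf (cs.simple a * cs.simple b) = M a b := by
  apply Nat.dvd_antisymm
  · exact orderOf_dvd_of_pow_eq_one (cs.simple_mul_simple_pow a b)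
  by_cases hab : a = b
  · subst hab
    rw [M.diagonal]
    exact one_dvd _
  by_cases h0 : M a b = 0
  · rw [eq_zero_of_pow cs a b h0 (pow_orderOf_eq_one _)]
    exact dvd_zero _
  have h1 := M.off_diagonal a b hab
  have hm : 2 ≤ M a b := by omega
  have hK : K M a b = - Real.cos (Real.pi / M a b) := by simp [K, h0]
  set n := orderOf (cs.simple a * cs.simple b) with hn
  have hpow : (sg M a * sg M b) ^ n = 1 := by
    rw [← rep_simple cs a, ← rep_simple cs b, ← map_mul, ← map_pow, hn, pow_orderOf_eq_one, map_one]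
  rcases Nat.eq_or_lt_of_le hm with h2 | h3
  · -- m = 2
    have hc0 : Real.cos (Real.pi / M a b) = 0 := by
      rw [← h2]; push_cast; exact Real.cos_pi_div_two
    have key : ∀ k : ℕ, fn M a (((sg M a * sg M b) ^ k) (bs a)) = (-1) ^ k := by
      intro k
      induction k with
      | zero => simp [fn_bs, K_self]
      | succ k ih =>
        rw [pow_succ', Module.End.mul_apply, fn_a_step M a b _ hK, ih, hc0]
        ring
    have := key n
    rw [hpow, Module.End.one_apply, fn_bs, K_self] at this
    rw [← h2]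
    have hev : Even n := by
      by_contra ho
      rw [Nat.not_even_iff_odd] at ho
      rw [ho.neg_one_pow] at this
      norm_num at this
    exact hev.two_dvd
  · have hpi := Real.pi_pos
    have hm' : (3 : ℝ) ≤ M a b := by exact_mod_cast h3
    set θ := Real.pi / M a b with hθ
    have hp1 : 0 < θ := by positivity
    have h4 : 2 * θ < Real.pi := by
      rw [hθ, ← mul_div_assoc, div_lt_iff₀ (by positivity)]
      nlinarith
    have hpos := Real.sin_pos_of_pos_of_lt_pi (by linarith : 0 < 2 * θ) h4
    have hs := rec_sol (fun k => fn M a (((sg M a * sg M b) ^ k) (bs a))) θ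
      (rec_a M a b (Real.cos θ) hK (bs a)) n
    simp only [hpow, Module.End.one_apply, pow_zero, pow_one, fn_bs, K_self,
      fn_a_step M a b (Real.cos θ) hK, K_symm M b a, hK] at hs
    have hcos : Real.cos (2 * n * θ) = 1 := by
      have e : (-1 : ℝ) - 2 * Real.cos θ * -Real.cos θ = Real.cos (2 * θ) := by
        rw [Real.cos_two_mul]; ring
      rw [e, Real.sin_sub] at hs
      have : (Real.cos (2 * n * θ) - 1) * Real.sin (2 * θ) = 0 := by linear_combination -hs
      rcases mul_eq_zero.1 this with h | h
      · linarith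
      · exact absurd h hpos.ne'
    rw [Real.cos_eq_one_iff] at hcos
    obtain ⟨z, hz⟩ := hcos
    have hz' : (z : ℝ) * (M a b : ℝ) = n := by
      have h5 : (z : ℝ) * (2 * Real.pi) = 2 * n * (Real.pi / M a b) := by rw [hz]
      have hM0 : (M a b : ℝ) ≠ 0 := by positivity
      field_simp at h5
      linarith
    have hz2 : z * (M a b : ℤ) = (n : ℤ) := by exact_mod_cast hz'
    have : (M a b : ℤ) ∣ (n : ℤ) := ⟨z, by rw [← hz2, mul_comm]⟩
    exact_mod_cast this

end order

section cox

open Cfsg.Agent.LieExceptional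

variable {I : Type*} {M : CoxeterMatrix I} {W : Type*} [Group W] (cs : CoxeterSystem M W)

theorem orderOf_eq [Finite I] (a b : I) : orderOf (cs.simple a * cs.simple b) = M a b := by
  classical
  have := Fintype.ofFinite I
  exact orderOf_eq_aux cs a b

theorem simple_injective [Finite I] : Function.Injective cs.simple := by
  intro i j h
  by_contra hij
  have h1 := orderOf_eq cs i j
  rw [h, cs.simple_mul_simple_self, orderOf_one] at h1
  exact M.off_diagonal i j hij h1.symm

theorem isRed_iff {f : List I} : CoxeterExchange.IsRed cs.simple f ↔ cs.IsReduced f := by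
  constructor
  · intro h
    obtain ⟨g, hg, e⟩ := cs.exists_isReduced (cs.wordProd f)
    have h1 := h g e.symm
    refine le_antisymm (cs.length_wordProd_le f) ?_
    rw [e, hg.eq]
    exact h1
  · intro h g e
    have e' : cs.wordProd g = cs.wordProd f := e
    rw [← h.eq, ← e']
    exact cs.length_wordProd_le g

theorem exchange : CoxeterExchange.Exchange cs.simple := by
  intro b f hf hbf
  rw [isRed_iff] at hf hbf
  have hlt : cs.length (cs.simple b * cs.wordProd f) < cs.length (cs.wordProd f) := by
    rcases cs.length_simple_mul (cs.wordProd f) b with h | h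
    · exfalso
      apply hbf
      show cs.length (cs.wordProd (b :: f)) = (b :: f).length
      rw [cs.wordProd_cons, h, hf.eq, List.length_cons]
    · omega
  obtain ⟨j, hj, e⟩ := Tits.Exchange.exchange_left cs hlt
  refine ⟨f.take j, f[j], f.drop (j + 1), ?_, ?_⟩
  · rw [List.getElem_cons_drop, List.take_append_drop]
  · show cs.simple b * cs.wordProd (f.take j) = cs.wordProd (f.take j) * cs.simple f[j]
    have e1 : cs.wordProd f
        = cs.wordProd (f.take j) * (cs.simple f[j] * cs.wordProd (f.drop (j + 1))) := by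
      rw [← cs.wordProd_cons, List.getElem_cons_drop, ← cs.wordProd_append, List.take_append_drop]
    rw [List.eraseIdx_eq_take_drop_succ, cs.wordProd_append, e1] at e
    have e2 : cs.simple b * cs.wordProd (f.take j) * cs.simple f[j] = cs.wordProd (f.take j) := by
      have := congrArg (· * (cs.wordProd (f.drop (j + 1)))⁻¹) e
      simpa [mul_assoc] using this
    rw [← mul_assoc] at *
    calc cs.simple b * cs.wordProd (f.take j)
        = cs.simple b * cs.wordProd (f.take j) * cs.simple f[j] * cs.simple f[j] := by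
          rw [mul_assoc _ (cs.simple f[j]), cs.simple_mul_simple_self, mul_one]
      _ = cs.wordProd (f.take j) * cs.simple f[j] := by rw [e2]

theorem alt_eq (a b : I) (k : ℕ) : CoxeterExchange.alt a b k = alt a b k := by
  induction k generalizing a b with
  | zero => rfl
  | succ k ih => rw [CoxeterExchange.alt_succ, ih, alt_cons]

/-- Matsumoto's theorem: a map which satisfies the braid relations has the same value on the reduced words of an
element of an arbitrary Coxeter group (with finitely many simple reflections). -/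
theorem matsumoto [Finite I] {H : Type*} [Monoid H] (d : I → H)
    (hd : ∀ i j, i ≠ j → M i j ≠ 0 → ((alt i j (M i j)).map d).prod = ((alt j i (M i j)).map d).prod)
    {f g : List I} (hf : cs.IsReduced f) (hg : cs.IsReduced g) (e : cs.wordProd f = cs.wordProd g) :
    (f.map d).prod = (g.map d).prod := by
  refine CoxeterExchange.matsumoto (σ := cs.simple) cs.simple_mul_simple_self (simple_injective cs)
    (exchange cs) d ?_ f.length f g rfl ?_ ((isRed_iff cs).2 hf) e
  · intro i j hij hpos
    rw [orderOf_eq] at hpos ⊢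
    rw [alt_eq, alt_eq]
    exact hd i j hij hpos.ne'
  · rw [← hg.eq, ← e, hf.eq]

theorem length_alt (a b : I) (k : ℕ) : (alt a b k).length = k := by
  rw [← alt_eq, CoxeterExchange.length_alt]

/-- The alternating words of length at most `M i j` are reduced. -/
theorem isReduced_alt [Finite I] {i j : I} {k : ℕ} (hk : M i j ≠ 0 → k ≤ M i j) : cs.IsReduced (alt i j k) := by
  induction k generalizing i j with
  | zero =>
    show cs.length (cs.wordProd []) = 0
    rw [cs.wordProd_nil, cs.length_one]
  | succ k ih =>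
    have h1 : cs.IsReduced (alt j i k) := ih fun h0 => by
      rw [M.symmetric j i] at h0 ⊢
      have := hk h0
      omega
    by_contra hn
    rw [← isRed_iff] at h1 hn
    obtain ⟨u, a, v, e1, e2⟩ := exchange cs i (alt j i k) h1 hn
    have hl := congrArg List.length e1
    rw [length_alt, List.length_append, List.length_cons] at hl
    obtain ⟨v', hv'⟩ := alt_prefix j i (k := u.length + 1) (l := k) (by omega)
    have e3 : (u ++ [a]) ++ v = alt j i (u.length + 1) ++ v' := by
      rw [← hv', e1, List.append_assoc, List.singleton_append]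
    have e4 := (List.append_inj e3 (by rw [length_alt, List.length_append, List.length_singleton])).1
    have e5 := (List.append_inj (e4.trans (alt_snoc j i u.length)) (by rw [length_alt])).1
    have e6 : CoxeterExchange.wp cs.simple (CoxeterExchange.alt i j (u.length + 1))
        = CoxeterExchange.wp cs.simple (CoxeterExchange.alt j i (u.length + 1)) := by
      rw [alt_eq, alt_eq, ← e4, alt_cons, CoxeterExchange.wp_cons, CoxeterExchange.wp_append, ← e5, e2,
        CoxeterExchange.wp_cons, CoxeterExchange.wp_nil, mul_one]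
    have e7 := (CoxeterExchange.pow_eq_one_iff (σ := cs.simple) cs.simple_mul_simple_self _).2 e6
    have e8 := orderOf_dvd_of_pow_eq_one e7
    rw [orderOf_eq] at e8
    by_cases h0 : M i j = 0
    · rw [h0, zero_dvd_iff] at e8
      omega
    · have := hk h0
      have := Nat.le_of_dvd (by omega) e8
      omega

end cox

/-! ### Words of double cosets -/

section words

variable {G : Type*} [Group G] {I : Type*}

/-- `P i` without `B` -/
def D (B : Subgroup G) (P : I → Subgroup G) (i : I) : Set G := {x | x ∈ P i ∧ x ∉ B}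

/-- the ends of the galleries of type `f` which start in `B` -/
def E (B : Subgroup G) (P : I → Subgroup G) (f : List I) : Set G := (f.map (D B P)).prod * (B : Set G)

variable {B : Subgroup G} {P : I → Subgroup G}

theorem mem_D {i : I} {x : G} : x ∈ D B P i ↔ x ∈ P i ∧ x ∉ B := Iff.rfl

theorem B_mul_B : (B : Set G) * (B : Set G) = B := by
  ext x
  constructor
  · rintro ⟨a, ha, b, hb, rfl⟩
    exact mul_mem ha hb
  · intro hx
    exact ⟨x, hx, 1, one_mem _, mul_one x⟩

theorem inv_mem_D {i : I} {x : G} (hx : x ∈ D B P i) : x⁻¹ ∈ D B P i :=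
  ⟨inv_mem hx.1, fun h => hx.2 (by simpa using inv_mem h)⟩

theorem inv_D (i : I) : (D B P i)⁻¹ = D B P i := by
  ext x
  rw [Set.mem_inv]
  exact ⟨fun h => by simpa using inv_mem_D h, inv_mem_D⟩

theorem mul_mem_D (hBP : ∀ i, B ≤ P i) {i : I} {x b : G} (hx : x ∈ D B P i) (hb : b ∈ B) : x * b ∈ D B P i :=
  ⟨mul_mem hx.1 (hBP i hb), fun h => hx.2 (by simpa using mul_mem h (inv_mem hb))⟩

theorem mul_mem_D' (hBP : ∀ i, B ≤ P i) {i : I} {x b : G} (hx : x ∈ D B P i) (hb : b ∈ B) : b * x ∈ D B P i :=
  ⟨mul_mem (hBP i hb) hx.1, fun h => hx.2 (by simpa using mul_mem (inv_mem hb) h)⟩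

theorem D_mul_B (hBP : ∀ i, B ≤ P i) (i : I) : D B P i * (B : Set G) = D B P i := by
  ext x
  constructor
  · rintro ⟨a, ha, b, hb, rfl⟩
    exact mul_mem_D hBP ha hb
  · intro hx
    exact ⟨x, hx, 1, one_mem _, mul_one x⟩

theorem B_mul_D (hBP : ∀ i, B ≤ P i) (i : I) : (B : Set G) * D B P i = D B P i := by
  ext x
  constructor
  · rintro ⟨b, hb, a, ha, rfl⟩
    exact mul_mem_D' hBP ha hb
  · intro hx
    exact ⟨1, one_mem _, x, hx, one_mul x⟩

@[simp] theorem E_nil : E B P [] = B := by simp [E]

theorem E_cons (i : I) (f : List I) : E B P (i :: f) = D B P i * E B P f := by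
  rw [E, List.map_cons, List.prod_cons, mul_assoc]
  rfl

theorem B_mul_E (hBP : ∀ i, B ≤ P i) (f : List I) : (B : Set G) * E B P f = E B P f := by
  cases f with
  | nil => rw [E_nil, B_mul_B]
  | cons i f => rw [E_cons, ← mul_assoc, B_mul_D hBP]

theorem E_mul_B (f : List I) : E B P f * (B : Set G) = E B P f := by
  rw [E, mul_assoc, B_mul_B]

theorem E_append (hBP : ∀ i, B ≤ P i) (f g : List I) : E B P (f ++ g) = E B P f * E B P g := by
  induction f with
  | nil => rw [List.nil_append, E_nil, B_mul_E hBP]
  | cons i f ih => rw [List.cons_append, E_cons, E_cons, ih, mul_assoc]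

theorem E_singleton (hBP : ∀ i, B ≤ P i) (i : I) : E B P [i] = D B P i := by
  rw [E_cons, E_nil, D_mul_B hBP]

theorem E_snoc (hBP : ∀ i, B ≤ P i) (f : List I) (i : I) : E B P (f ++ [i]) = E B P f * D B P i := by
  rw [E_append hBP, E_singleton hBP]

theorem inv_E (hBP : ∀ i, B ≤ P i) (f : List I) : (E B P f)⁻¹ = E B P f.reverse := by
  induction f with
  | nil =>
    rw [List.reverse_nil, E_nil]
    ext x
    simp
  | cons i f ih => rw [E_cons, mul_inv_rev, ih, inv_D, List.reverse_cons, E_snoc hBP]

theorem prod_mul_B (hBP : ∀ i, B ≤ P i) {f : List I} (hf : f ≠ []) :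
    (f.map (D B P)).prod * (B : Set G) = (f.map (D B P)).prod := by
  induction f with
  | nil => exact absurd rfl hf
  | cons i f ih =>
    rw [List.map_cons, List.prod_cons, mul_assoc]
    cases f with
    | nil => rw [List.map_nil, List.prod_nil, one_mul, mul_one, D_mul_B hBP]
    | cons j f => rw [ih (by simp)]

theorem E_nonempty (hD : ∀ i, (D B P i).Nonempty) (f : List I) : (E B P f).Nonempty := by
  induction f with
  | nil => rw [E_nil]; exact ⟨1, one_mem _⟩
  | cons i f ih => rw [E_cons]; exact (hD i).mul ih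

theorem mem_E_iff {f : List I} {x : G} : x ∈ E B P f ↔ ∃ l, GalE B P f l ∧ ∃ b ∈ B, x = l.prod * b := by
  induction f generalizing x with
  | nil =>
    rw [E_nil]
    constructor
    · intro hx
      exact ⟨[], trivial, x, hx, by simp⟩
    · rintro ⟨l, hl, b, hb, rfl⟩
      cases l with
      | nil => simpa using hb
      | cons y l => exact hl.elim
  | cons i f ih =>
    rw [E_cons]
    constructor
    · rintro ⟨y, hy, z, hz, rfl⟩
      obtain ⟨l, hl, b, hb, rfl⟩ := ih.1 hz
      exact ⟨y :: l, ⟨hy, hl⟩, b, hb, by simp [mul_assoc]⟩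
    · rintro ⟨l, hl, b, hb, rfl⟩
      cases l with
      | nil => exact hl.elim
      | cons y l => exact ⟨y, hl.1, l.prod * b, ih.2 ⟨l, hl.2, b, hb, rfl⟩, by simp [mul_assoc]⟩

/-- If `U ≤ B` is transitive on the galleries of type `f` starting in `B`, then `E f` is one double coset. -/
theorem one_of_tr {n : I → G} (hBP : ∀ i, B ≤ P i) (hP : ∀ i, n i ∈ P i) (hB : ∀ i, n i ∉ B) {U : Subgroup G}
    (hU : U ≤ B) {f : List I} (h : Tr B P n U f) {x y : G} (hx : x ∈ E B P f) (hy : y ∈ E B P f) :
    ∃ b ∈ B, ∃ b' ∈ B, y = b * x * b' := by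
  have key : ∀ z ∈ E B P f, ∃ b ∈ B, ∃ b' ∈ B, z = b * nw n f * b' := by
    intro z hz
    obtain ⟨l, hl, b, hb, rfl⟩ := mem_E_iff.1 hz
    obtain ⟨t, ht, hA⟩ := (tr_iff hBP hP hB U hU f).1 h l hl
    have h1 := Ag_end hl hA
    refine ⟨t, hU ht, (t * nw n f)⁻¹ * (1 * l.prod) * b, mul_mem h1 hb, ?_⟩
    group
  obtain ⟨a, ha, a', ha', rfl⟩ := key x hx
  obtain ⟨c, hc, c', hc', rfl⟩ := key y hy
  refine ⟨c * a⁻¹, mul_mem hc (inv_mem ha), a'⁻¹ * c', mul_mem (inv_mem ha') hc', ?_⟩
  group

end words

/-! ### The Bruhat decomposition -/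

variable {G : Type*} [Group G] {I : Type*} {M : CoxeterMatrix I} {W : Type*} [Group W]

/-- The hypotheses of the Bruhat decomposition. -/
structure Geo (cs : CoxeterSystem M W) (B : Subgroup G) (P : I → Subgroup G) : Prop where
  le : ∀ i, B ≤ P i
  gen : ⨆ i, P i = ⊤
  /-- the chambers `B`, `x B`, `y B` of the panel `P i / B` are different -/
  three : ∀ i, ∃ x ∈ D B P i, ∃ y ∈ D B P i, x⁻¹ * y ∉ B
  one : ∀ f, cs.IsReduced f → ∀ x ∈ E B P f, ∀ y ∈ E B P f, ∃ b ∈ B, ∃ b' ∈ B, y = b * x * b'
  braid : ∀ i j, i ≠ j → M i j ≠ 0 → E B P (alt i j (M i j)) = E B P (alt j i (M i j))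

variable {cs : CoxeterSystem M W} {B : Subgroup G} {P : I → Subgroup G}

namespace Geo

/-- For the braid relations it is enough that the two sets have a common element. -/
theorem of_inter [Finite I] (le : ∀ i, B ≤ P i) (gen : ⨆ i, P i = ⊤)
    (three : ∀ i, ∃ x ∈ D B P i, ∃ y ∈ D B P i, x⁻¹ * y ∉ B)
    (one : ∀ f, cs.IsReduced f → ∀ x ∈ E B P f, ∀ y ∈ E B P f, ∃ b ∈ B, ∃ b' ∈ B, y = b * x * b')
    (inter : ∀ i j, i ≠ j → M i j ≠ 0 → (E B P (alt i j (M i j)) ∩ E B P (alt j i (M i j))).Nonempty) :
    Geo cs B P where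
  le := le
  gen := gen
  three := three
  one := one
  braid := by
    intro i j hij h0
    obtain ⟨x, hx, hx'⟩ := inter i j hij h0
    have key : ∀ f g : List I, cs.IsReduced f → x ∈ E B P f → x ∈ E B P g → E B P f ⊆ E B P g := by
      intro f g hf hxf hxg y hy
      obtain ⟨b, hb, b', hb', rfl⟩ := one f hf x hxf y hy
      rw [← E_mul_B, ← B_mul_E le]
      exact Set.mul_mem_mul (Set.mul_mem_mul hb hxg) hb'
    refine Set.Subset.antisymm (key _ _ (isReduced_alt cs fun _ => le_rfl) hx hx')
      (key _ _ (isReduced_alt cs fun _ => ?_) hx' hx)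
    rw [M.symmetric i j]

section

variable (h : Geo cs B P)

include h

theorem D_nonempty (i : I) : (D B P i).Nonempty := by
  obtain ⟨x, hx, -⟩ := h.three i
  exact ⟨x, hx⟩

variable [Finite I]

theorem E_eq {f g : List I} (hf : cs.IsReduced f) (hg : cs.IsReduced g) (e : cs.wordProd f = cs.wordProd g) :
    E B P f = E B P g := by
  have h1 : (f.map (D B P)).prod = (g.map (D B P)).prod := by
    refine matsumoto cs (D B P) ?_ hf hg e
    intro i j hij h0
    have h2 := h.braid i j hij h0
    obtain ⟨m, hm⟩ : ∃ m, M i j = m + 1 := ⟨M i j - 1, by omega⟩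
    rw [hm] at h2 ⊢
    unfold E at h2
    rwa [prod_mul_B h.le (by rw [alt_cons]; simp), prod_mul_B h.le (by rw [alt_cons]; simp)] at h2
  rw [E, E, h1]

end

end Geo

/-- the double coset of `w` -/
noncomputable def C (cs : CoxeterSystem M W) (B : Subgroup G) (P : I → Subgroup G) (w : W) : Set G :=
  E B P (cs.exists_isReduced w).choose

namespace Geo

section

variable [Finite I] (h : Geo cs B P)

include h

theorem C_eq {f : List I} (hf : cs.IsReduced f) : C cs B P (cs.wordProd f) = E B P f :=
  h.E_eq (cs.exists_isReduced _).choose_spec.1 hf (cs.exists_isReduced (cs.wordProd f)).choose_spec.2.symm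

theorem C_one : C cs B P 1 = B := by
  have h1 : cs.IsReduced [] := by
    show cs.length (cs.wordProd []) = 0
    rw [cs.wordProd_nil, cs.length_one]
  have := h.C_eq h1
  rwa [cs.wordProd_nil, E_nil] at this

theorem C_simple (i : I) : C cs B P (cs.simple i) = D B P i := by
  have h1 : cs.IsReduced [i] := by
    show cs.length (cs.wordProd [i]) = 1
    rw [cs.wordProd_singleton, cs.length_simple]
  have := h.C_eq h1
  rwa [cs.wordProd_singleton, E_singleton h.le] at this

theorem C_nonempty (w : W) : (C cs B P w).Nonempty := E_nonempty h.D_nonempty _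

theorem C_up {w : W} {i : I} (hl : cs.length w < cs.length (w * cs.simple i)) :
    C cs B P w * D B P i = C cs B P (w * cs.simple i) := by
  obtain ⟨f, hf, rfl⟩ := cs.exists_isReduced w
  have h1 : cs.IsReduced (f ++ [i]) := by
    show cs.length (cs.wordProd (f ++ [i])) = (f ++ [i]).length
    rw [cs.wordProd_append, cs.wordProd_singleton, List.length_append, List.length_singleton, ← hf.eq]
    rcases cs.length_mul_simple (cs.wordProd f) i with h2 | h2
    · exact h2
    · omega
  have h2 := h.C_eq h1
  rw [cs.wordProd_append, cs.wordProd_singleton] at h2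
  rw [h.C_eq hf, h2, E_snoc h.le]

theorem C_down {w : W} {i : I} (hl : cs.length (w * cs.simple i) < cs.length w) :
    C cs B P w = C cs B P (w * cs.simple i) * D B P i := by
  have := h.C_up (w := w * cs.simple i) (i := i) (by rwa [cs.simple_mul_simple_cancel_right])
  rw [this, cs.simple_mul_simple_cancel_right]

theorem C_up_left {w : W} {i : I} (hl : cs.length w < cs.length (cs.simple i * w)) :
    D B P i * C cs B P w = C cs B P (cs.simple i * w) := by
  obtain ⟨f, hf, rfl⟩ := cs.exists_isReduced w
  have h1 : cs.IsReduced (i :: f) := by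
    show cs.length (cs.wordProd (i :: f)) = (i :: f).length
    rw [cs.wordProd_cons, List.length_cons, ← hf.eq]
    rcases cs.length_simple_mul (cs.wordProd f) i with h2 | h2
    · exact h2
    · omega
  have h2 := h.C_eq h1
  rw [cs.wordProd_cons] at h2
  rw [h.C_eq hf, h2, E_cons]

theorem C_mul_B (w : W) : C cs B P w * (B : Set G) = C cs B P w := by
  obtain ⟨f, hf, rfl⟩ := cs.exists_isReduced w
  rw [h.C_eq hf, E_mul_B]

theorem B_mul_C (w : W) : (B : Set G) * C cs B P w = C cs B P w := by
  obtain ⟨f, hf, rfl⟩ := cs.exists_isReduced w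
  rw [h.C_eq hf, B_mul_E h.le]

theorem inv_C (w : W) : (C cs B P w)⁻¹ = C cs B P w⁻¹ := by
  obtain ⟨f, hf, rfl⟩ := cs.exists_isReduced w
  rw [h.C_eq hf, inv_E h.le, ← cs.wordProd_reverse, h.C_eq hf.reverse]

theorem mul_mem_C {w : W} {x b : G} (hx : x ∈ C cs B P w) (hb : b ∈ B) : x * b ∈ C cs B P w := by
  rw [← h.C_mul_B]
  exact Set.mul_mem_mul hx hb

theorem mul_mem_C' {w : W} {x b : G} (hx : x ∈ C cs B P w) (hb : b ∈ B) : b * x ∈ C cs B P w := by
  rw [← h.B_mul_C]
  exact Set.mul_mem_mul hb hx

theorem one_C {w : W} {x y : G} (hx : x ∈ C cs B P w) (hy : y ∈ C cs B P w) :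
    ∃ b ∈ B, ∃ b' ∈ B, y = b * x * b' := by
  obtain ⟨f, hf, rfl⟩ := cs.exists_isReduced w
  rw [h.C_eq hf] at hx hy
  exact h.one f hf x hx y hy

/-- `C` is a Bruhat decomposition. -/
theorem cosets : Bruhat.Cosets cs B P (C cs B P) where
  single := by
    intro w
    obtain ⟨x, hx⟩ := h.C_nonempty w
    refine ⟨x, ?_⟩
    ext y
    rw [DoubleCoset.mem_doubleCoset]
    constructor
    · intro hy
      obtain ⟨b, hb, b', hb', rfl⟩ := h.one_C hx hy
      exact ⟨b, hb, b', hb', rfl⟩
    · rintro ⟨b, hb, b', hb', rfl⟩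
      exact h.mul_mem_C (h.mul_mem_C' hx hb) hb'
  one := by rw [h.C_one]; exact one_mem _
  le := h.le
  up := by
    intro w i hl x hx p hp hpB
    rw [← h.C_up hl]
    exact Set.mul_mem_mul hx ⟨hp, hpB⟩
  gen := h.gen
  three := by
    intro i
    obtain ⟨x, hx, y, hy, hxy⟩ := h.three i
    exact ⟨x, hx.1, y, hy.1, hx.2, hy.2, hxy⟩

include h in
/-- **`W` is finite if `G` is.** -/
theorem finite_W [Finite G] : Finite W :=
  Finite.of_injective (C cs B P) fun _ _ e => h.cosets.inj e

/-- a reduced word of `w` ends in the double coset of `w`, and only there -/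
theorem E_inj {f g : List I} (hf : cs.IsReduced f) (hg : cs.IsReduced g) (e : (E B P f ∩ E B P g).Nonempty) :
    cs.wordProd f = cs.wordProd g := by
  obtain ⟨x, hx, hy⟩ := e
  rw [← h.C_eq hf] at hx
  rw [← h.C_eq hg] at hy
  exact h.cosets.eq_of_mem_mem hx hy

end

end Geo

end Cfsg.Agent.ParSys.Words
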