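import Cfsg.Agent.ParSys.FreeCount
import Cfsg.Agent.ParSys.FreePan
import Cfsg.Agent.S1143

/-!
# THEOREM FREE for a simple group of rank at least three: the group is of Lie type
-/

set_option autoImplicit false

namespace Cfsg.Agent.ParSys.FreeLie

open Cfsg.Agent.ParSys.FreeCount

variable {I : Type*} {M : CoxeterMatrix I} {G : Type*} [Group G] {q : I → ℕ} {N : ℕ}
  {B : Subgroup G} {P : I → Subgroup G} {U : Subgroup G}

/-- a simple group with a system (`Free.Sys`) of a connected spherical type `M` of rank at least three, `|U| = q_{w₀}` -/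
theorem isLie [Finite G] [IsSimpleGroup G] [Finite I] (hM : HasQ M q N)
    (h : Free.Sys M.toCoxeterSystem B P U q) (hcard : Nat.card U = N) (h3 : 3 ≤ Nat.card I)
    (hconn : ∀ J : Set I, J.Nonempty → Jᶜ.Nonempty → ∃ i ∈ J, ∃ j ∈ Jᶜ, M i j ≠ 2) :
    Cfsg.IsPSL G ∨ Cfsg.IsPSp G ∨ Cfsg.IsPSU G ∨ Cfsg.IsPOmegaOdd G ∨ Cfsg.IsPOmegaPlus G ∨ Cfsg.IsPOmegaMinus G ∨
      Cfsg.IsExceptionalLieType G := by
  obtain ⟨Q, -, hr, -, hirr⟩ := hM.exists_bnPair h hcard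
  exact Cfsg.Agent.S1143.result Q (hr ▸ h3) (hirr hconn)

/-- three chambers in each panel -/
theorem isLie_two [Finite G] [IsSimpleGroup G] [Finite I] (hM : HasQ M (fun _ => 2) N)
    (htop : B ≠ ⊤) (hBP : ∀ i, B ≤ P i) (hgen : ⨆ i, P i = ⊤) (hgp : Free.GP B P (fun i j => M i j))
    (hthree : ∀ i, B.relIndex (P i) = 3) (hcard : Nat.card B = N) (h3 : 3 ≤ Nat.card I)
    (hconn : ∀ J : Set I, J.Nonempty → Jᶜ.Nonempty → ∃ i ∈ J, ∃ j ∈ Jᶜ, M i j ≠ 2) :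
    Cfsg.IsPSL G ∨ Cfsg.IsPSp G ∨ Cfsg.IsPSU G ∨ Cfsg.IsPOmegaOdd G ∨ Cfsg.IsPOmegaPlus G ∨ Cfsg.IsPOmegaMinus G ∨
      Cfsg.IsExceptionalLieType G :=
  isLie hM (Free.sys_two M.toCoxeterSystem htop hBP hgen hgp hthree) hcard h3 hconn

end Cfsg.Agent.ParSys.FreeLie
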