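import Cfsg.Agent.ChevalleyStructure.CoxeterGeom
import Cfsg.Agent.Tits.Exchange

/-!
# Counting roots: `W` is finite, the length of `w₀` and the product of parameters along a reduced word of `w₀`

`PosRoots A R` : `R` is a finite set of nonnegative nonzero vectors of the root lattice, containing the simple
roots, and `s_i` maps `R \ {α_i}` into itself.  Then `W` is finite, and for a weight `wt` which is invariant under
the `s_i`, `∏ wt` over `R` is the product of the `wt α_i` along any reduced word of `w₀`.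
-/

set_option autoImplicit false

namespace Cfsg.Agent.ParSys.RootCount

open Cfsg.Agent.ChevalleyStructure.CoxeterGeom Cfsg.Agent.Tits.Core

variable {B : Type*} [Fintype B] [DecidableEq B]

/-- a finite set of positive roots -/
structure PosRoots (A : B → B → ℤ) (R : Finset (B → ℤ)) : Prop where
  simple_mem : ∀ i, Pi.single i 1 ∈ R
  pos : ∀ v ∈ R, 0 ≤ v
  ne : (0 : B → ℤ) ∉ R
  perm : ∀ i, ∀ v ∈ R, v ≠ Pi.single i 1 → refl A i v ∈ R

variable {W : Type*} [Group W] {M : CoxeterMatrix B} {A : B → B → ℤ} {R : Finset (B → ℤ)}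

theorem refl_refl (h : IsCartan M A) (i : B) (v : B → ℤ) : refl A i (refl A i v) = v := by
  have := refl_mul_self A i (h.diag i)
  have h2 := LinearMap.congr_fun this v
  simpa using h2

namespace PosRoots

variable (hR : PosRoots A R) (h : IsCartan M A) (cs : CoxeterSystem M W)

include hR in
theorem not_both {v : B → ℤ} (h1 : v ∈ R) (h2 : -v ∈ R) : False := by
  have h3 := hR.pos v h1
  have h4 := hR.pos _ h2
  have h5 : v = 0 := le_antisymm (neg_nonneg.1 h4) h3
  exact hR.ne (h5 ▸ h1)

include hR in
theorem rep_mem (w : W) : ∀ v ∈ R, rep cs h w v ∈ R ∨ -(rep cs h w v) ∈ R := by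
  refine cs.simple_induction_left (p := fun w => ∀ v ∈ R, rep cs h w v ∈ R ∨ -(rep cs h w v) ∈ R) w ?_ ?_
  · intro v hv
    left
    rw [map_one, Module.End.one_apply]; exact hv
  · intro w i ih v hv
    rw [rep_mul_apply, rep_simple]
    rcases ih v hv with h1 | h1
    · by_cases h2 : rep cs h w v = Pi.single i 1
      · right
        rw [h2, refl_single_self h, neg_neg]; exact hR.simple_mem i
      · left; exact hR.perm i _ h1 h2
    · by_cases h2 : -(rep cs h w v) = Pi.single i 1
      · left
        have : rep cs h w v = - Pi.single i 1 := by rw [← h2, neg_neg]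
        rw [this, map_neg, refl_single_self h, neg_neg]; exact hR.simple_mem i
      · right
        rw [← map_neg]; exact hR.perm i _ h1 h2

include hR in
theorem rep_mem_iff (w : W) {v : B → ℤ} (hv : v ∈ R) : rep cs h w v ∉ R ↔ -(rep cs h w v) ∈ R :=
  ⟨fun h1 => (hR.rep_mem h cs w v hv).resolve_left h1, fun h1 h2 => hR.not_both h2 h1⟩

include hR h cs in
theorem finite : Finite W := by
  classical
  let T : Finset (B → ℤ) := R ∪ R.image (fun v => -v)
  have hT : ∀ (w : W) (i : B), rep cs h w (Pi.single i 1) ∈ T := by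
    intro w i
    rcases hR.rep_mem h cs w _ (hR.simple_mem i) with h1 | h1
    · exact Finset.mem_union_left _ h1
    · exact Finset.mem_union_right _ (Finset.mem_image.2 ⟨_, h1, neg_neg _⟩)
  refine Finite.of_injective (fun (w : W) (i : B) => (⟨rep cs h w (Pi.single i 1), hT w i⟩ : T)) ?_
  intro v w hvw
  have h1 : ∀ i, rep cs h v (Pi.single i 1) = rep cs h w (Pi.single i 1) := fun i =>
    congrArg Subtype.val (congrFun hvw i)
  have h2 : w⁻¹ * v = 1 := by
    refine eq_one_of_fix cs h _ fun i => ?_
    rw [rep_mul_apply, h1, ← rep_mul_apply, inv_mul_cancel, map_one, Module.End.one_apply]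
  exact (inv_mul_eq_one.1 h2).symm

open Classical in
/-- the inversion set -/
noncomputable def invs (h : IsCartan M A) (cs : CoxeterSystem M W) (R : Finset (B → ℤ)) (w : W) : Finset (B → ℤ) :=
  R.filter fun v => rep cs h w v ∉ R

theorem mem_invs {w : W} {v : B → ℤ} : v ∈ invs h cs R w ↔ v ∈ R ∧ rep cs h w v ∉ R := by
  unfold invs; rw [Finset.mem_filter]

include hR in
theorem mem_of_lt {w : W} {i : B} (hl : cs.length w < cs.length (w * cs.simple i)) :
    rep cs h w (Pi.single i 1) ∈ R := by
  rcases hR.rep_mem h cs w _ (hR.simple_mem i) with h1 | h1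
  · exact h1
  · exfalso
    have h2 := (lt_iff' cs h w i).1 hl
    have h3 := hR.pos _ h1
    exact rep_single_ne_zero cs h w i (le_antisymm (neg_nonneg.1 h3) h2)

include hR in
theorem not_mem_of_lt {w : W} {i : B} (hl : cs.length (w * cs.simple i) < cs.length w) :
    rep cs h w (Pi.single i 1) ∉ R := fun h1 =>
  rep_single_ne_zero cs h w i (le_antisymm ((lt_iff cs h w i).1 hl) (hR.pos _ h1))

include hR in
theorem invs_mul {w : W} {i : B} (hl : cs.length w < cs.length (w * cs.simple i)) :
    invs h cs R (w * cs.simple i) = insert (Pi.single i 1) ((invs h cs R w).image (refl A i)) := by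
  have hm := hR.mem_of_lt h cs hl
  have hns : -(Pi.single i 1 : B → ℤ) ∉ R := fun h1 => hR.not_both (hR.simple_mem i) h1
  ext v
  rw [mem_invs, Finset.mem_insert, Finset.mem_image]
  constructor
  · rintro ⟨h1, h2⟩
    by_cases h3 : v = Pi.single i 1
    · exact Or.inl h3
    · right
      refine ⟨refl A i v, ?_, refl_refl h i v⟩
      rw [mem_invs]
      rw [rep_mul_apply, rep_simple] at h2
      exact ⟨hR.perm i v h1 h3, h2⟩
  · rintro (rfl | ⟨u, hu, rfl⟩)
    · refine ⟨hR.simple_mem i, fun h1 => ?_⟩
      rw [rep_mul_simple_single] at h1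
      exact hR.not_both hm h1
    · rw [mem_invs] at hu
      obtain ⟨h1, h2⟩ := hu
      have h3 : u ≠ Pi.single i 1 := fun h4 => h2 (h4 ▸ hm)
      refine ⟨hR.perm i u h1 h3, ?_⟩
      rw [rep_mul_apply, rep_simple, refl_refl h]
      exact h2

include hR in
theorem not_mem_image {w : W} {i : B} :
    (Pi.single i 1 : B → ℤ) ∉ (invs h cs R w).image (refl A i) := by
  rw [Finset.mem_image]
  rintro ⟨u, hu, h1⟩
  rw [mem_invs] at hu
  have h2 : u = - Pi.single i 1 := by
    rw [← refl_refl h i u, h1, refl_single_self h]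
  exact hR.not_both (hR.simple_mem i) (h2 ▸ hu.1)

include hR in
/-- the product of a weight along a reduced word -/
theorem prod_word {T : Type*} [CommMonoid T] (wt : (B → ℤ) → T)
    (hwt : ∀ i, ∀ v ∈ R, v ≠ Pi.single i 1 → wt (refl A i v) = wt v) (F : List B) (hF : cs.IsReduced F) :
    (F.map fun i => wt (Pi.single i 1)).prod = ∏ v ∈ invs h cs R (cs.wordProd F), wt v := by
  induction F using List.reverseRecOn with
  | nil =>
    rw [List.map_nil, List.prod_nil, cs.wordProd_nil]
    have : invs h cs R (1 : W) = ∅ := by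
      ext v
      rw [mem_invs, map_one, Module.End.one_apply]
      simp
    rw [this, Finset.prod_empty]
  | append_singleton F i ih =>
    have hF' : cs.IsReduced F := by
      have := hF.take F.length
      rwa [List.take_left'] at this
      rfl
    have e : cs.wordProd (F ++ [i]) = cs.wordProd F * cs.simple i := by
      rw [cs.wordProd_append, cs.wordProd_singleton]
    have hl : cs.length (cs.wordProd F) < cs.length (cs.wordProd F * cs.simple i) := by
      rw [← e, hF.eq, hF'.eq]; simp
    rw [e, hR.invs_mul h cs hl, Finset.prod_insert (hR.not_mem_image h cs), Finset.prod_image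
      (fun x _ y _ hxy => by rw [← refl_refl h i x, hxy, refl_refl h]), List.map_append, List.prod_append,
      ih hF', List.map_singleton, List.prod_singleton, mul_comm]
    congr 1
    refine (Finset.prod_congr rfl fun v hv => ?_)
    rw [mem_invs] at hv
    refine (hwt i v hv.1 fun h4 => hv.2 ?_).symm
    rw [h4]; exact hR.mem_of_lt h cs hl

include hR in
theorem invs_of_max {w : W} (hw : ∀ i, cs.length (w * cs.simple i) < cs.length w) : invs h cs R w = R := by
  ext v
  rw [mem_invs]
  refine ⟨fun h1 => h1.1, fun h1 => ⟨h1, fun h2 => ?_⟩⟩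
  have h3 : rep cs h w v ≤ 0 := by
    have e : v = ∑ i, v i • (Pi.single i 1 : B → ℤ) := by
      conv_lhs => rw [← Finset.univ_sum_single v]
      exact Finset.sum_congr rfl fun i _ => by rw [single_eq_smul i (v i)]
    rw [e, map_sum]
    refine Finset.sum_nonpos fun i _ => ?_
    rw [map_smul]
    have h4 := (lt_iff cs h w i).1 (hw i)
    have h5 := hR.pos v h1 i
    exact smul_nonpos_of_nonneg_of_nonpos h5 h4
  have h6 : rep cs h w v = 0 := le_antisymm h3 (hR.pos _ h2)
  rw [h6] at h2
  exact hR.ne h2

include hR h in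
theorem prod_w0 [Finite W] {T : Type*} [CommMonoid T] (wt : (B → ℤ) → T)
    (hwt : ∀ i, ∀ v ∈ R, v ≠ Pi.single i 1 → wt (refl A i v) = wt v) (F : List B) (hF : cs.IsReduced F)
    (hw : cs.wordProd F = w0 cs) :
    (F.map fun i => wt (Pi.single i 1)).prod = ∏ v ∈ R, wt v := by
  rw [hR.prod_word h cs wt hwt F hF, hR.invs_of_max h cs]
  intro i
  rw [hw]
  have := Tits.Exchange.length_w0_mul cs (cs.simple i)
  rw [cs.length_simple] at this
  omega

include hR h in
theorem length_w0 [Finite W] (F : List B) (hF : cs.IsReduced F) (hw : cs.wordProd F = w0 cs) :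
    F.length = R.card := by
  have h1 := hR.prod_w0 h cs (fun _ => 2) (fun _ _ _ _ => rfl) F hF hw
  simp only [List.map_const', List.prod_replicate, Finset.prod_const] at h1
  exact Nat.pow_right_injective le_rfl h1

end PosRoots

/-! ### Roots in another lattice -/

/-- positive roots, in a lattice `L` in which the root lattice is embedded -/
structure Roots (A : B → B → ℤ) {L : Type*} [AddCommGroup L] (f : (B → ℤ) →+ L) (ρ : B → L → L) (Φ : Finset L) :
    Prop where
  inj : Function.Injective f
  comm : ∀ i v, f (refl A i v) = ρ i (f v)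
  simple_mem : ∀ i, f (Pi.single i 1) ∈ Φ
  pos : ∀ α ∈ Φ, ∃ v, 0 ≤ v ∧ f v = α
  ne : (0 : L) ∉ Φ
  perm : ∀ i, ∀ α ∈ Φ, α ≠ f (Pi.single i 1) → ρ i α ∈ Φ

namespace Roots

variable {L : Type*} [AddCommGroup L] {f : (B → ℤ) →+ L} {ρ : B → L → L} {Φ : Finset L}

theorem posRoots (hΦ : Roots A f ρ Φ) : PosRoots A (Φ.preimage f hΦ.inj.injOn) where
  simple_mem i := by rw [Finset.mem_preimage]; exact hΦ.simple_mem i
  pos v hv := by
    rw [Finset.mem_preimage] at hv
    obtain ⟨u, hu, h1⟩ := hΦ.pos _ hv
    rw [← hΦ.inj h1]; exact hu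
  ne h0 := by
    rw [Finset.mem_preimage, map_zero] at h0
    exact hΦ.ne h0
  perm i v hv hne := by
    rw [Finset.mem_preimage] at hv ⊢
    rw [hΦ.comm]
    exact hΦ.perm i _ hv fun h1 => hne (hΦ.inj h1)

theorem finite (hΦ : Roots A f ρ Φ) (h : IsCartan M A) (cs : CoxeterSystem M W) : Finite W :=
  hΦ.posRoots.finite h cs

theorem prod_w0 (hΦ : Roots A f ρ Φ) (h : IsCartan M A) (cs : CoxeterSystem M W) [Finite W] {T : Type*}
    [CommMonoid T] (wt : L → T) (hwt : ∀ i, ∀ α ∈ Φ, α ≠ f (Pi.single i 1) → wt (ρ i α) = wt α) (F : List B)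
    (hF : cs.IsReduced F) (hw : cs.wordProd F = w0 cs) :
    (F.map fun i => wt (f (Pi.single i 1))).prod = ∏ α ∈ Φ, wt α := by
  rw [hΦ.posRoots.prod_w0 h cs (fun v => wt (f v)) ?_ F hF hw]
  · refine Finset.prod_preimage f Φ hΦ.inj.injOn wt ?_
    intro α hα hα2
    obtain ⟨v, -, h1⟩ := hΦ.pos α hα
    exact absurd ⟨v, h1⟩ hα2
  · intro i v hv hne
    rw [Finset.mem_preimage] at hv
    show wt (f (refl A i v)) = wt (f v)
    rw [hΦ.comm]
    exact hwt i _ hv fun h1 => hne (hΦ.inj h1)

theorem length_w0 (hΦ : Roots A f ρ Φ) (h : IsCartan M A) (cs : CoxeterSystem M W) [Finite W] (F : List B)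
    (hF : cs.IsReduced F) (hw : cs.wordProd F = w0 cs) : F.length = Φ.card := by
  have h1 := hΦ.prod_w0 h cs (fun _ => 2) (fun _ _ _ _ => rfl) F hF hw
  simp only [List.map_const', List.prod_replicate, Finset.prod_const] at h1
  exact Nat.pow_right_injective le_rfl h1

end Roots

end Cfsg.Agent.ParSys.RootCount
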