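import Cfsg.Agent.ParSys.Front

/-!
# THEOREM PAR, front end: from local data to `Sys`
-/

set_option autoImplicit false

namespace Cfsg.Agent.ParSys

open Subgroup

variable {G : Type*} [Group G] {I : Type*}

/-- a `p'`-element of `B` which centralises `U / Q i` and acts fixed-point-freely on `U / Q j` -/
def SepG (p : ℕ) (B U : Subgroup G) (Pi Pj : Subgroup G) : Prop :=
  ∃ b ∈ B, (∃ k : ℕ, p.Coprime k ∧ b ^ k = 1) ∧ (∀ u ∈ U, b * u * b⁻¹ * u⁻¹ ∈ Qk B Pi) ∧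
    ∀ u ∈ U, b * u * b⁻¹ * u⁻¹ ∈ Qk B Pj → u ∈ Qk B Pj

/-- a `p'`-element of `B` which acts fixed-point-freely on `U / Q i` -/
def FpfG (p : ℕ) (B U : Subgroup G) (Pi : Subgroup G) : Prop :=
  ∃ b ∈ B, (∃ k : ℕ, p.Coprime k ∧ b ^ k = 1) ∧ ∀ u ∈ U, b * u * b⁻¹ * u⁻¹ ∈ Qk B Pi → u ∈ Qk B Pi

open Pointwise in
/-- A `p'`-element of `B = U H` is conjugate into `H` under `U`. -/
theorem exists_conj_mem [Finite G] {p : ℕ} [hp : Fact p.Prime] {B U H : Subgroup G}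
    (D : Hall.HallData p B U H) {b : G} (hb : b ∈ B) {k : ℕ} (hk : p.Coprime k) (hbk : b ^ k = 1) :
    ∃ u ∈ U, u * b * u⁻¹ ∈ H := by
  set K : Subgroup G := zpowers b with hK
  have hKB : K ≤ B := by rw [hK, zpowers_le]; exact hb
  have hKc : p.Coprime (Nat.card K) := by
    rw [hK, Nat.card_zpowers]
    exact Nat.Coprime.coprime_dvd_right (orderOf_dvd_of_pow_eq_one hbk) hk
  have hKs := D.le_sup hKB hKc
  have hHN := D.H_norm_U
  have hKN : K ≤ normalizer (U : Set G) := hKB.trans D.U_norm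
  -- the complement `K' = H ∩ U K`
  set K' : Subgroup G := H ⊓ (U ⊔ K) with hK'
  have hK'H : K' ≤ H := inf_le_left
  have hK'N : K' ≤ normalizer (U : Set G) := hK'H.trans hHN
  have hKK' : K ≤ U ⊔ K' := by
    intro x hx
    have h1 := hKs hx
    rw [sup_comm] at h1
    obtain ⟨u, hu, a, ha, rfl⟩ := Solvable.Glauberman.exists_mul_of_mem_sup H U hHN h1
    refine mul_mem (Subgroup.mem_sup_left hu) (Subgroup.mem_sup_right (mem_inf.2 ⟨ha, ?_⟩))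
    have h2 : u * a ∈ U ⊔ K := Subgroup.mem_sup_right hx
    have h3 := mul_mem (inv_mem (Subgroup.mem_sup_left hu : u ∈ U ⊔ K)) h2
    rwa [inv_mul_cancel_left] at h3
  have hK'K : K' ≤ U ⊔ K := inf_le_right
  have hcU : ∀ L : Subgroup G, p.Coprime (Nat.card L) → Disjoint U L := by
    intro L hL
    obtain ⟨a, ha⟩ := (IsPGroup.iff_card (p := p)).mp D.U_pgroup
    apply Subgroup.disjoint_of_coprime_natCard
    rw [ha]; exact hL.pow_left a
  have hK'c : p.Coprime (Nat.card K') := Nat.Coprime.coprime_dvd_right (Subgroup.card_dvd_of_le hK'H) D.H_cop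
  have hsup : U ⊔ K = U ⊔ K' := le_antisymm (sup_le le_sup_left hKK') (sup_le le_sup_left hK'K)
  have hcard : ∀ L : Subgroup G, L ≤ normalizer (U : Set G) → Disjoint U L →
      Nat.card ↥(U ⊔ L) = Nat.card U * Nat.card L := by
    intro L hL hd
    rw [← Nat.card_prod]
    symm
    apply Nat.card_congr
    refine Equiv.ofBijective (fun z : U × L => (⟨(z.1 : G) * z.2, mul_mem (Subgroup.mem_sup_left z.1.2)
      (Subgroup.mem_sup_right z.2.2)⟩ : ↥(U ⊔ L))) ⟨?_, ?_⟩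
    · rintro ⟨u, l⟩ ⟨u', l'⟩ h
      have h1 : (u : G) * l = u' * l' := congrArg Subtype.val h
      have h2 : (u' : G)⁻¹ * u = l' * (l : G)⁻¹ := by
        rw [inv_mul_eq_iff_eq_mul, ← mul_assoc, ← h1, mul_inv_cancel_right]
      have h3 : (u' : G)⁻¹ * u ∈ U ⊓ L := mem_inf.2 ⟨mul_mem (inv_mem u'.2) u.2, by
        rw [h2]; exact mul_mem l'.2 (inv_mem l.2)⟩
      rw [disjoint_iff.1 hd, Subgroup.mem_bot] at h3
      have h4 : (u : G) = u' := (inv_mul_eq_one.1 h3).symm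
      have h5 : (l : G) = l' := by
        rw [h3] at h2
        exact (mul_inv_eq_one.1 h2.symm).symm
      exact Prod.ext (Subtype.ext h4) (Subtype.ext h5)
    · rintro ⟨x, hx⟩
      rw [sup_comm] at hx
      obtain ⟨u, hu, a, ha, rfl⟩ := Solvable.Glauberman.exists_mul_of_mem_sup L U hL hx
      exact ⟨(⟨u, hu⟩, ⟨a, ha⟩), rfl⟩
  have hcards : Nat.card K = Nat.card K' := by
    have h1 := hcard K hKN (hcU K hKc)
    have h2 := hcard K' hK'N (hcU K' hK'c)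
    rw [hsup, h2] at h1
    exact (Nat.eq_of_mul_eq_mul_left Nat.card_pos h1).symm
  obtain ⟨u, hu, h⟩ := Solvable.Glauberman.exists_conj_of_le_sup K' U hK'N
    (Nat.Coprime.coprime_dvd_left (Subgroup.card_dvd_of_le hK'H) D.card_cop) (Or.inr D.U_solvable) K
    (by rw [sup_comm]; exact hKK') hcards
  refine ⟨u⁻¹, inv_mem hu, hK'H ?_⟩
  have h1 : b ∈ MulAut.conj u • K' := by rw [h]; exact mem_zpowers b
  rw [Subgroup.mem_smul_pointwise_iff_exists] at h1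
  obtain ⟨c, hc, h2⟩ := h1
  rw [MulAut.smul_def, MulAut.conj_apply] at h2
  rw [← h2]
  have e : u⁻¹ * (u * c * u⁻¹) * u⁻¹⁻¹ = c := by group
  rwa [e]

theorem sep_of_sepG [Finite G] {p : ℕ} [hp : Fact p.Prime] {B U H : Subgroup G}
    (D : Hall.HallData p B U H) {Pi Pj : Subgroup G} (hi : B ≤ Pi) (hj : B ≤ Pj) (h : SepG p B U Pi Pj) :
    Sep B U H Pi Pj := by
  obtain ⟨b, hb, ⟨k, hk, hbk⟩, h1, h2⟩ := h
  obtain ⟨u, hu, hh⟩ := exists_conj_mem D hb hk hbk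
  have huB := D.U_le hu
  have key : ∀ v ∈ U, u * b * u⁻¹ * v * (u * b * u⁻¹)⁻¹ * v⁻¹ =
      u * (b * (u⁻¹ * v * u) * b⁻¹ * (u⁻¹ * v * u)⁻¹) * u⁻¹ := by intro v _; group
  have hv : ∀ v ∈ U, u⁻¹ * v * u ∈ U := fun v hv => mul_mem (mul_mem (inv_mem hu) hv) hu
  refine ⟨_, hh, fun v hv' => ?_, fun v hv' h3 => ?_⟩
  · rw [key v hv']
    exact Qk_conj' (h1 _ (hv v hv')) (hi huB)
  · rw [key v hv'] at h3
    have h4 := Qk_conj h3 (hj huB)
    have e : u⁻¹ * (u * (b * (u⁻¹ * v * u) * b⁻¹ * (u⁻¹ * v * u)⁻¹) * u⁻¹) * u =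
        b * (u⁻¹ * v * u) * b⁻¹ * (u⁻¹ * v * u)⁻¹ := by group
    rw [e] at h4
    have h5 := Qk_conj' (h2 _ (hv v hv') h4) (hj huB)
    have e2 : u * (u⁻¹ * v * u) * u⁻¹ = v := by group
    rwa [e2] at h5

theorem fix_of_fpfG [Finite G] {p : ℕ} [hp : Fact p.Prime] {B U H : Subgroup G}
    (D : Hall.HallData p B U H) {Pi : Subgroup G} (hi : B ≤ Pi) (h : FpfG p B U Pi) :
    ∀ c ∈ U, c ∈ centralizer (H : Set G) → c ∈ Qk B Pi := by
  obtain ⟨b, hb, ⟨k, hk, hbk⟩, h2⟩ := h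
  obtain ⟨u, hu, hh⟩ := exists_conj_mem D hb hk hbk
  have huB := D.U_le hu
  intro c hc hcC
  rw [Subgroup.mem_centralizer_iff] at hcC
  have h3 := hcC _ hh
  have h4 : b * (u⁻¹ * c * u) * b⁻¹ * (u⁻¹ * c * u)⁻¹ = 1 := by
    have e : b * (u⁻¹ * c * u) * b⁻¹ * (u⁻¹ * c * u)⁻¹ =
        u⁻¹ * (u * b * u⁻¹ * c * (u * b * u⁻¹)⁻¹ * c⁻¹) * u := by group
    rw [e, h3]; group
  have h5 := h2 (u⁻¹ * c * u) (mul_mem (mul_mem (inv_mem hu) hc) hu) (by rw [h4]; exact one_mem _)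
  have h6 := Qk_conj' h5 (hi huB)
  have e2 : u * (u⁻¹ * c * u) * u⁻¹ = c := by group
  rwa [e2] at h6

/-- **From local data to a parabolic system with tori.** -/
theorem Front.sys [Nonempty I] [Finite G] {p : ℕ} [hp : Fact p.Prime] {U : Subgroup G} {E : I → Subgroup G}
    {m : I → I → ℕ} (D : Front p U E) (gen : ⨆ i, E i = ⊤)
    (three : ∀ i, ∃ x ∈ Pa U E i, ∃ y ∈ Pa U E i, x ∉ Bo U E ∧ y ∉ Bo U E ∧ x⁻¹ * y ∉ Bo U E)
    (ptr : ∀ i, Hall.HallData.PTr (Bo U E) U (Pa U E i))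
    (reg : ∀ i, ∀ u ∈ U, ∀ g ∈ Pa U E i, g ∉ Bo U E → g⁻¹ * u * g ∈ Bo U E → u ∈ Qk (Bo U E) (Pa U E i))
    (fpf : ∀ i, FpfG p (Bo U E) U (Pa U E i))
    (m_two : ∀ i j, i ≠ j → 2 ≤ m i j) (m_symm : ∀ i j, m i j = m j i)
    (poly : ∀ i j, i ≠ j → Polygon (Bo U E) (Pa U E) i j (m i j))
    (torus : ∀ i j, i ≠ j → SepG p (Bo U E) U (Pa U E i) (Pa U E j) ∨ SepG p (Bo U E) U (Pa U E j) (Pa U E i))
    (frat : ∀ i j, i ≠ j → ∀ T ≤ U,
      (∀ u ∈ U, ∃ t ∈ T, t⁻¹ * u ∈ Qk (Bo U E) (Pa U E i) ∧ t⁻¹ * u ∈ Qk (Bo U E) (Pa U E j)) →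
      ∀ u ∈ U, ∃ t ∈ T, t⁻¹ * u ∈ Qk (Bo U E) (Pa U E i ⊔ Pa U E j)) :
    ∃ H : Subgroup G, Sys p (Bo U E) U H (Pa U E) m := by
  obtain ⟨H, hall, -⟩ := D.exists_hall
  exact ⟨H, {
    hall := hall
    gen := by
      rw [eq_top_iff, ← gen]
      exact iSup_mono fun i => Front.E_le_Pa i
    le := Front.Bo_le_Pa
    three := three
    ptr := ptr
    reg := reg
    fix := fun i => fix_of_fpfG hall (Front.Bo_le_Pa i) (fpf i)
    m_two := m_two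
    m_symm := m_symm
    poly := poly
    torus := fun i j hij => (torus i j hij).imp
      (fun h => (sep_of_sepG hall (Front.Bo_le_Pa i) (Front.Bo_le_Pa j) h).sepT hall (Front.Bo_le_Pa j))
      (fun h => (sep_of_sepG hall (Front.Bo_le_Pa j) (Front.Bo_le_Pa i) h).sepT hall (Front.Bo_le_Pa i))
    frat := fun i j hij T hT _ h => frat i j hij T hT h }⟩

end Cfsg.Agent.ParSys
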