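import Cfsg.Agent.ParSys.Good
import Cfsg.Agent.ParSys.Hall

/-!
# Parabolic systems: the pairs whose residue is a product of two rank ones

* `Digon B P Q` : `P Q = Q P` and `P ⊓ Q ≤ B`; it gives the fields `unq`, `braid` and `g1` of `ParSys.Data` for `m = 2`.
* `Pair B P Q L M` : `P = L B`, `Q = M B`, `B` normalises `L` and `M`, `[L, M] ≤ B`; it gives a digon if `P ≠ Q`.
* `pan_commutator` : the torus of one of the two factors gives (G1).
-/

set_option autoImplicit false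
set_option linter.style.haveILetI false

namespace Cfsg.Agent.ParSys

open Subgroup

variable {G : Type*} [Group G] {I : Type*}

/-- The residue generated by the panels `P / B` and `Q / B` is a digon. -/
structure Digon (B P Q : Subgroup G) : Prop where
  left : B ≤ P
  right : B ≤ Q
  comm : ∀ a ∈ P, ∀ b ∈ Q, ∃ b' ∈ Q, ∃ a' ∈ P, a * b = b' * a'
  inf : ∀ x ∈ P, x ∈ Q → x ∈ B

namespace Digon

variable {B P Q : Subgroup G}

theorem symm (D : Digon B P Q) : Digon B Q P where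
  left := D.right
  right := D.left
  comm := by
    intro a ha b hb
    obtain ⟨b', hb', a', ha', e⟩ := D.comm b⁻¹ (inv_mem hb) a⁻¹ (inv_mem ha)
    refine ⟨a'⁻¹, inv_mem ha', b'⁻¹, inv_mem hb', ?_⟩
    have := congrArg (·⁻¹) e
    simpa [mul_inv_rev] using this
  inf := fun x h1 h2 => D.inf x h2 h1

/-- `y ∈ B` which fixes the end of the gallery `B, n B, n n' B` fixes `n B`. -/
theorem unq_aux (D : Digon B P Q) {n n' : G} (hn : n ∈ P) (hn' : n' ∈ Q) {y : G} (hy : y ∈ B)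
    (h : (n * n')⁻¹ * y * (n * n') ∈ B) : n⁻¹ * y * n ∈ B := by
  refine D.inf _ (mul_mem (mul_mem (inv_mem hn) (D.left hy)) hn) ?_
  have e : n⁻¹ * y * n = n' * ((n * n')⁻¹ * y * (n * n')) * n'⁻¹ := by group
  rw [e]
  exact mul_mem (mul_mem hn' (D.right h)) (inv_mem hn')

/-- `n n' B = n' n B` -/
theorem braid_aux (D : Digon B P Q) {H₀ : Subgroup G} (hH : H₀ ≤ B)
    {n n' : G} (hn : n ∈ P) (hnH : n ∈ normalizer (H₀ : Set G))
    (hn' : n' ∈ Q) (hnB' : n' ∉ B) (hnH' : n' ∈ normalizer (H₀ : Set G))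
    (huQ : ∀ g ∈ Q, g ∉ B → (∀ a ∈ H₀, g⁻¹ * a * g ∈ B) → g⁻¹ * n' ∈ B) :
    (n * n')⁻¹ * (n' * n) ∈ P := by
  obtain ⟨b, hb, a, ha, e⟩ := D.comm n hn n' hn'
  have hbB : b ∉ B := by
    intro h
    apply hnB'
    refine D.inf _ ?_ hn'
    have : n' = n⁻¹ * (b * a) := by rw [← e]; group
    rw [this]
    exact mul_mem (inv_mem hn) (mul_mem (D.left h) ha)
  have h1 : b⁻¹ * n' ∈ B := by
    refine huQ b hb hbB fun h hh => ?_
    refine D.inf _ ?_ (mul_mem (mul_mem (inv_mem hb) (D.right (hH hh))) hb)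
    have hnn : n * n' ∈ normalizer (H₀ : Set G) := mul_mem hnH hnH'
    have h2 : (n * n')⁻¹ * h * (n * n') ∈ H₀ := by
      have := (mem_normalizer_iff.mp (inv_mem hnn) h).mp hh
      simpa using this
    have e2 : b⁻¹ * h * b = a * ((n * n')⁻¹ * h * (n * n')) * a⁻¹ := by rw [e]; group
    rw [e2]
    exact mul_mem (mul_mem ha (D.left (hH h2))) (inv_mem ha)
  have e3 : (n * n')⁻¹ * (n' * n) = a⁻¹ * (b⁻¹ * n') * n := by rw [e]; group
  rw [e3]
  exact mul_mem (mul_mem (inv_mem ha) (D.left h1)) hn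

/-- the braid relation, `m = 2` -/
theorem braid_mem (D : Digon B P Q) {H₀ : Subgroup G} (hH : H₀ ≤ B)
    {n n' : G} (hn : n ∈ P) (hnB : n ∉ B) (hnH : n ∈ normalizer (H₀ : Set G))
    (hn' : n' ∈ Q) (hnB' : n' ∉ B) (hnH' : n' ∈ normalizer (H₀ : Set G))
    (huP : ∀ g ∈ P, g ∉ B → (∀ a ∈ H₀, g⁻¹ * a * g ∈ B) → g⁻¹ * n ∈ B)
    (huQ : ∀ g ∈ Q, g ∉ B → (∀ a ∈ H₀, g⁻¹ * a * g ∈ B) → g⁻¹ * n' ∈ B) :
    (n * n')⁻¹ * (n' * n) ∈ B ⊓ normalizer (H₀ : Set G) := by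
  refine ⟨D.inf _ (D.braid_aux hH hn hnH hn' hnB' hnH' huQ) ?_, ?_⟩
  · have h := D.symm.braid_aux hH hn' hnH' hn hnB hnH huP
    have := inv_mem h
    simpa [mul_assoc] using this
  · exact (normalizer (H₀ : Set G)).mul_mem ((normalizer (H₀ : Set G)).inv_mem (mul_mem hnH hnH')) (mul_mem hnH' hnH)

/-- The key step of (G1): an element of `T` which fixes `n B` and moves the chamber of `Q / B` below `n n' B` to the one
below `n x B`. -/
theorem step (D : Digon B P Q) {T : Subgroup G} {n n' x : G} (hn' : n' ∈ Q)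
    (hx : x ∈ Q) {b a b' a' : G} (ha : a ∈ P) (ha' : a' ∈ P) (e : n * n' = b * a)
    (e' : n * x = b' * a') {s : G} (hs : s ∈ T) (hsn : n⁻¹ * s * n ∈ B) (hsb : b'⁻¹ * s * b ∈ B) :
    ∃ t ∈ stp B n T, (t * n')⁻¹ * x ∈ B := by
  refine ⟨n⁻¹ * s * n, ⟨?_, hsn⟩, ?_⟩
  · show n * (n⁻¹ * s * n) * n⁻¹ ∈ T
    have : n * (n⁻¹ * s * n) * n⁻¹ = s := by group
    rwa [this]
  · refine D.inf _ ?_ ?_
    · have e1 : (n⁻¹ * s * n * n')⁻¹ * x = a⁻¹ * (b'⁻¹ * s * b)⁻¹ * a' := by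
        have e2 : (n⁻¹ * s * n * n')⁻¹ * x = (n * n')⁻¹ * s⁻¹ * (n * x) := by group
        rw [e2, e, e']; group
      rw [e1]
      exact mul_mem (mul_mem (inv_mem ha) (D.left (inv_mem hsb))) ha'
    · exact mul_mem (inv_mem (mul_mem (D.right hsn) hn')) hx

/-- (G1) from a subgroup `T₁` of `T` which is transitive on the chambers `≠ B` of `P / B` and fixes `Q / B`. -/
theorem g1_left (D : Digon B P Q) {T T₁ : Subgroup G} (hT : T ≤ B) (hT₁ : T₁ ≤ T) {n n' : G}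
    (hn : n ∈ P) (hnB : n ∉ B) (hn' : n' ∈ Q) (hnB' : n' ∉ B)
    (hQ : ∀ x ∈ Q, x ∉ B → ∃ t ∈ T, (t * n')⁻¹ * x ∈ B)
    (hP : ∀ x ∈ P, x ∉ B → ∃ t ∈ T₁, (t * n)⁻¹ * x ∈ B)
    (hfix : ∀ t ∈ T₁, ∀ x ∈ Q, x⁻¹ * t * x ∈ B) :
    ∀ x ∈ Q, x ∉ B → ∃ t ∈ stp B n T, (t * n')⁻¹ * x ∈ B := by
  intro x hx hxB
  obtain ⟨b, hb, a, ha, e⟩ := D.comm n hn n' hn'
  obtain ⟨b', hb', a', ha', e'⟩ := D.comm n hn x hx
  have hbB : b ∉ B := by
    intro h
    apply hnB'
    refine D.inf _ ?_ hn'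
    have : n' = n⁻¹ * (b * a) := by rw [← e]; group
    rw [this]
    exact mul_mem (inv_mem hn) (mul_mem (D.left h) ha)
  have hbB' : b' ∉ B := by
    intro h
    apply hxB
    refine D.inf _ ?_ hx
    have : x = n⁻¹ * (b' * a') := by rw [← e']; group
    rw [this]
    exact mul_mem (inv_mem hn) (mul_mem (D.left h) ha')
  obtain ⟨t, ht, h1⟩ := hQ b hb hbB
  obtain ⟨t', ht', h2⟩ := hQ b' hb' hbB'
  -- `s = t' t⁻¹` moves `b B` to `b' B`
  have hs : t' * t⁻¹ ∈ T := mul_mem ht' (inv_mem ht)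
  have hsb : b'⁻¹ * (t' * t⁻¹) * b ∈ B := by
    have : b'⁻¹ * (t' * t⁻¹) * b = ((t' * n')⁻¹ * b')⁻¹ * ((t * n')⁻¹ * b) := by group
    rw [this]
    exact mul_mem (inv_mem h2) h1
  have hsn : t' * t⁻¹ * n ∈ P := mul_mem (D.left (hT hs)) hn
  have hsn' : t' * t⁻¹ * n ∉ B := fun h => hnB (by
    have := mul_mem (inv_mem (hT hs)) h
    rwa [inv_mul_cancel_left] at this)
  obtain ⟨r, hr, h3⟩ := hP _ hsn hsn'
  refine D.step hn' hx ha ha' e e' (s := r⁻¹ * (t' * t⁻¹)) (mul_mem (inv_mem (hT₁ hr)) hs) ?_ ?_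
  · have : n⁻¹ * (r⁻¹ * (t' * t⁻¹)) * n = (r * n)⁻¹ * (t' * t⁻¹ * n) := by group
    rw [this]
    exact h3
  · have : b'⁻¹ * (r⁻¹ * (t' * t⁻¹)) * b = (b'⁻¹ * r⁻¹ * b') * (b'⁻¹ * (t' * t⁻¹) * b) := by group
    rw [this]
    exact mul_mem (hfix _ (inv_mem hr) _ hb') hsb

/-- (G1) from a subgroup `T₁` of `T` which is transitive on the chambers `≠ B` of `Q / B` and fixes `P / B`. -/
theorem g1_right (D : Digon B P Q) {T T₁ : Subgroup G} (hT₁ : T₁ ≤ T) {n n' : G}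
    (hn : n ∈ P) (hn' : n' ∈ Q) (hnB' : n' ∉ B)
    (hQ : ∀ x ∈ Q, x ∉ B → ∃ t ∈ T₁, (t * n')⁻¹ * x ∈ B)
    (hfix : ∀ t ∈ T₁, ∀ x ∈ P, x⁻¹ * t * x ∈ B) :
    ∀ x ∈ Q, x ∉ B → ∃ t ∈ stp B n T, (t * n')⁻¹ * x ∈ B := by
  intro x hx hxB
  obtain ⟨b, hb, a, ha, e⟩ := D.comm n hn n' hn'
  obtain ⟨b', hb', a', ha', e'⟩ := D.comm n hn x hx
  have hbB : b ∉ B := by
    intro h
    apply hnB'
    refine D.inf _ ?_ hn'
    have : n' = n⁻¹ * (b * a) := by rw [← e]; group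
    rw [this]
    exact mul_mem (inv_mem hn) (mul_mem (D.left h) ha)
  have hbB' : b' ∉ B := by
    intro h
    apply hxB
    refine D.inf _ ?_ hx
    have : x = n⁻¹ * (b' * a') := by rw [← e']; group
    rw [this]
    exact mul_mem (inv_mem hn) (mul_mem (D.left h) ha')
  obtain ⟨t, ht, h1⟩ := hQ b hb hbB
  obtain ⟨t', ht', h2⟩ := hQ b' hb' hbB'
  have hs : t' * t⁻¹ ∈ T₁ := mul_mem ht' (inv_mem ht)
  refine D.step hn' hx ha ha' e e' (hT₁ hs) (hfix _ hs _ hn) ?_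
  have : b'⁻¹ * (t' * t⁻¹) * b = ((t' * n')⁻¹ * b')⁻¹ * ((t * n')⁻¹ * b) := by group
  rw [this]
  exact mul_mem (inv_mem h2) h1

end Digon

/-! ### The fields of `ParSys.Data` -/

namespace Digon

variable {B : Subgroup G} {P : I → Subgroup G} {n : I → G} {i j : I}

/-- field `unq` -/
theorem unq (D : Digon B (P i) (P j)) (hi : n i ∈ P i) (hj : n j ∈ P j) {m : ℕ} (hm : m = 2) :
    ∀ y ∈ B, (nw n (alt i j m))⁻¹ * y * nw n (alt i j m) ∈ B →
      ∀ k ≤ m, (nw n (alt i j k))⁻¹ * y * nw n (alt i j k) ∈ B := by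
  subst hm
  intro y hy h k hk
  have h' : (n i * n j)⁻¹ * y * (n i * n j) ∈ B := by
    simpa [alt_cons] using h
  rcases k with _ | _ | _ | k
  · simpa using hy
  · have := D.unq_aux hi hj hy h'
    simpa [alt_cons] using this
  · exact h
  · omega

/-- field `braid` -/
theorem braid (D : Digon B (P i) (P j)) {H₀ : Subgroup G} (hH : H₀ ≤ B)
    (hi : n i ∈ P i) (hiB : n i ∉ B) (hiH : n i ∈ normalizer (H₀ : Set G))
    (hj : n j ∈ P j) (hjB : n j ∉ B) (hjH : n j ∈ normalizer (H₀ : Set G))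
    (hui : ∀ g ∈ P i, g ∉ B → (∀ a ∈ H₀, g⁻¹ * a * g ∈ B) → g⁻¹ * n i ∈ B)
    (huj : ∀ g ∈ P j, g ∉ B → (∀ a ∈ H₀, g⁻¹ * a * g ∈ B) → g⁻¹ * n j ∈ B) {m : ℕ} (hm : m = 2) :
    (nw n (alt i j m))⁻¹ * nw n (alt j i m) ∈ B ⊓ normalizer (H₀ : Set G) := by
  subst hm
  have := D.braid_mem hH hi hiB hiH hj hjB hjH hui huj
  simpa [alt_cons] using this

/-- field `g1`, with a subgroup which is transitive on the first panel and fixes the second one -/
theorem tr_left (D : Digon B (P i) (P j)) {T T₁ : Subgroup G} (hT : T ≤ B) (hT₁ : T₁ ≤ T)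
    (hi : n i ∈ P i) (hiB : n i ∉ B) (hj : n j ∈ P j) (hjB : n j ∉ B)
    (hTi : Pan B P n T i) (hTj : Pan B P n T j) (hP : Pan B P n T₁ i)
    (hfix : ∀ t ∈ T₁, ∀ x ∈ P j, x⁻¹ * t * x ∈ B) {m : ℕ} (hm : m = 2) : Tr B P n T (alt i j m) := by
  subst hm
  exact ⟨hTi, D.g1_left hT hT₁ hi hiB hj hjB hTj hP hfix, trivial⟩

/-- field `g1`, with a subgroup which is transitive on the second panel and fixes the first one -/
theorem tr_right (D : Digon B (P i) (P j)) {T T₁ : Subgroup G} (hT₁ : T₁ ≤ T)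
    (hi : n i ∈ P i) (hj : n j ∈ P j) (hjB : n j ∉ B)
    (hTi : Pan B P n T i) (hP : Pan B P n T₁ j)
    (hfix : ∀ t ∈ T₁, ∀ x ∈ P i, x⁻¹ * t * x ∈ B) {m : ℕ} (hm : m = 2) : Tr B P n T (alt i j m) := by
  subst hm
  exact ⟨hTi, D.g1_right hT₁ hi hj hjB hP hfix, trivial⟩

end Digon

/-! ### Pairs of commuting factors -/

/-- `P = L B`, `Q = M B` and `[L, M] ≤ B` -/
structure Pair (B P Q L M : Subgroup G) : Prop where
  left : B ≤ P
  right : B ≤ Q
  L_le : L ≤ P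
  M_le : M ≤ Q
  eqP : ∀ x ∈ P, ∃ l ∈ L, ∃ b ∈ B, x = l * b
  eqQ : ∀ x ∈ Q, ∃ l ∈ M, ∃ b ∈ B, x = l * b
  normL : B ≤ normalizer (L : Set G)
  normM : B ≤ normalizer (M : Set G)
  comm : ∀ x ∈ L, ∀ y ∈ M, x⁻¹ * y⁻¹ * x * y ∈ B

namespace Pair

variable {B P Q L M : Subgroup G}

theorem symm (D : Pair B P Q L M) : Pair B Q P M L where
  left := D.right
  right := D.left
  L_le := D.M_le
  M_le := D.L_le
  eqP := D.eqQ
  eqQ := D.eqP
  normL := D.normM
  normM := D.normL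
  comm := fun x hx y hy => by
    have := inv_mem (D.comm y hy x hx)
    have e : x⁻¹ * y⁻¹ * x * y = (y⁻¹ * x⁻¹ * y * x)⁻¹ := by group
    rw [e]; exact this

/-- `L ⊓ B` fixes `Q / B` -/
theorem fix (D : Pair B P Q L M) {t : G} (ht : t ∈ L) (htB : t ∈ B) {x : G} (hx : x ∈ Q) : x⁻¹ * t * x ∈ B := by
  obtain ⟨y, hy, b, hb, rfl⟩ := D.eqQ x hx
  have h := D.comm t ht y hy
  have e : (y * b)⁻¹ * t * (y * b) = b⁻¹ * (t * (t⁻¹ * y⁻¹ * t * y)) * b := by group
  rw [e]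
  exact mul_mem (mul_mem (inv_mem hb) (mul_mem htB h)) hb

theorem digon (D : Pair B P Q L M) (hinf : ∀ x ∈ P, x ∈ Q → x ∈ B) : Digon B P Q where
  left := D.left
  right := D.right
  comm := by
    intro a ha b hb
    obtain ⟨l, hl, b₁, hb₁, rfl⟩ := D.eqP a ha
    obtain ⟨y, hy, b₂, hb₂, rfl⟩ := D.eqQ b hb
    have hy' : b₁ * y * b₁⁻¹ ∈ M := (mem_normalizer_iff.mp (D.normM hb₁) y).mp hy
    refine ⟨b₁ * y * b₁⁻¹, D.M_le hy', l * (l⁻¹ * (b₁ * y * b₁⁻¹)⁻¹ * l * (b₁ * y * b₁⁻¹)) * (b₁ * b₂), ?_, by group⟩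
    exact mul_mem (mul_mem (D.L_le hl) (D.left (D.comm l hl _ hy'))) (D.left (mul_mem hb₁ hb₂))
  inf := hinf

end Pair

/-- If `U ≤ B` is transitive on the chambers `≠ B` of `P / B`, then `B` is maximal in `P`. -/
theorem le_or_inf_of_pan {B P Q U : Subgroup G} (hQ : B ≤ Q) (hU : U ≤ B) {n : G}
    (hpan : ∀ x ∈ P, x ∉ B → ∃ u ∈ U, (u * n)⁻¹ * x ∈ B) : P ≤ Q ∨ ∀ x ∈ P, x ∈ Q → x ∈ B := by
  by_cases h : ∀ x ∈ P, x ∈ Q → x ∈ B
  · exact Or.inr h
  · left
    push Not at h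
    obtain ⟨x, hx, hxQ, hxB⟩ := h
    obtain ⟨u, hu, h1⟩ := hpan x hx hxB
    have hn : n ∈ Q := by
      have : n = u⁻¹ * x * ((u * n)⁻¹ * x)⁻¹ := by group
      rw [this]
      exact mul_mem (mul_mem (hQ (inv_mem (hU hu))) hxQ) (hQ (inv_mem h1))
    intro y hy
    by_cases hyB : y ∈ B
    · exact hQ hyB
    · obtain ⟨v, hv, h2⟩ := hpan y hy hyB
      have : y = v * n * ((v * n)⁻¹ * y) := by group
      rw [this]
      exact mul_mem (mul_mem (hQ (hU hv)) hn) (hQ h2)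

/-- Two panels with transitive groups are equal or meet in `B`. -/
theorem inf_of_pan {B P Q U : Subgroup G} (hP : B ≤ P) (hQ : B ≤ Q) (hU : U ≤ B) {n n' : G}
    (hpan : ∀ x ∈ P, x ∉ B → ∃ u ∈ U, (u * n)⁻¹ * x ∈ B)
    (hpan' : ∀ x ∈ Q, x ∉ B → ∃ u ∈ U, (u * n')⁻¹ * x ∈ B) (hne : P ≠ Q) : ∀ x ∈ P, x ∈ Q → x ∈ B := by
  rcases le_or_inf_of_pan hQ hU hpan with h | h
  · rcases le_or_inf_of_pan hP hU hpan' with h' | h'
    · exact absurd (le_antisymm h h') hne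
    · exact fun x h1 h2 => h' x h2 h1
  · exact h

/-! ### The torus of one factor -/

/-- the subgroup generated by the commutators of `T` and `A` -/
def cmt (T A : Subgroup G) : Subgroup G := closure {x | ∃ t ∈ T, ∃ a ∈ A, x = t * a * t⁻¹ * a⁻¹}

theorem cmt_le_left {T A : Subgroup G} (h : A ≤ normalizer (T : Set G)) : cmt T A ≤ T := by
  unfold cmt
  rw [closure_le]
  rintro _ ⟨t, ht, a, ha, rfl⟩
  have : t * a * t⁻¹ * a⁻¹ = t * (a * t⁻¹ * a⁻¹) := by group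
  rw [SetLike.mem_coe, this]
  exact mul_mem ht ((mem_normalizer_iff.mp (h ha) _).mp (inv_mem ht))

theorem cmt_le_right {T A L : Subgroup G} (hA : A ≤ L) (h : T ≤ normalizer (L : Set G)) : cmt T A ≤ L := by
  unfold cmt
  rw [closure_le]
  rintro _ ⟨t, ht, a, ha, rfl⟩
  rw [SetLike.mem_coe]
  exact mul_mem ((mem_normalizer_iff.mp (h ht) _).mp (hA ha)) (inv_mem (hA ha))

/-- The hypothesis on one panel: `K` is normal in `P`, contained in `B`, the group `U` is regular on the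
chambers `≠ B` modulo `K`, and `U = [U, A] K` modulo `K`. -/
structure Torus (B P U A K : Subgroup G) (n : G) : Prop where
  K_le : K ≤ B
  K_norm : P ≤ normalizer (K : Set G)
  reg : ∀ u ∈ U, n⁻¹ * u * n ∈ B → u ∈ K
  A_le : A ≤ B
  gen : U ≤ cmt U A ⊔ K

theorem Torus.mono {B P U A A' K : Subgroup G} {n : G} (D : Torus B P U A K n) (h : A ≤ A') (h' : A' ≤ B) :
    Torus B P U A' K n where
  K_le := D.K_le
  K_norm := D.K_norm
  reg := D.reg
  A_le := h'
  gen := D.gen.trans (sup_le_sup_right (Subgroup.closure_mono (by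
    rintro _ ⟨t, ht, a, ha, rfl⟩
    exact ⟨t, ht, a, h ha, rfl⟩)) _)

/-- `[T, A]` is transitive on the panel if `T` is. -/
theorem Torus.pan {B P U A K : Subgroup G} {n : G} (D : Torus B P U A K n) (hBP : B ≤ P) (hU : U ≤ B)
    (hn : n ∈ P) (hnB : n ∉ B)
    {T : Subgroup G} (hT : T ≤ U) (hA : A ≤ normalizer (T : Set G))
    (hU' : ∀ x ∈ P, x ∉ B → ∃ u ∈ U, (u * n)⁻¹ * x ∈ B)
    (hpan : ∀ x ∈ P, x ∉ B → ∃ t ∈ T, (t * n)⁻¹ * x ∈ B) :
    ∀ x ∈ P, x ∉ B → ∃ t ∈ cmt T A, (t * n)⁻¹ * x ∈ B := by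
  have hKB : B ≤ normalizer (K : Set G) := hBP.trans D.K_norm
  have hTU : ∀ u ∈ U, ∃ t ∈ T, ∃ k ∈ K, u = t * k := by
    intro u hu
    have h1 : u * n ∈ P := mul_mem (hBP (hU hu)) hn
    have h2 : u * n ∉ B := fun h => hnB (by
      have := mul_mem (inv_mem (hU hu)) h
      rwa [inv_mul_cancel_left] at this)
    obtain ⟨t, ht, h3⟩ := hpan _ h1 h2
    refine ⟨t, ht, t⁻¹ * u, D.reg _ (mul_mem (inv_mem (hT ht)) hu) ?_, by group⟩
    have : n⁻¹ * (t⁻¹ * u) * n = (t * n)⁻¹ * (u * n) := by group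
    rw [this]; exact h3
  have hcT : cmt T A ≤ B := (cmt_le_left hA).trans (hT.trans hU)
  have hle : cmt U A ≤ cmt T A ⊔ K := by
    unfold cmt
    rw [closure_le]
    rintro _ ⟨u, hu, a, ha, rfl⟩
    obtain ⟨t, ht, k, hk, rfl⟩ := hTU u hu
    have e : t * k * a * (t * k)⁻¹ * a⁻¹ =
        (t * (k * (a * k⁻¹ * a⁻¹)) * t⁻¹) * (t * a * t⁻¹ * a⁻¹) := by group
    rw [SetLike.mem_coe, e]
    refine mul_mem (mem_sup_right ?_) (mem_sup_left (subset_closure ⟨t, ht, a, ha, rfl⟩))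
    have hk1 : k * (a * k⁻¹ * a⁻¹) ∈ K :=
      mul_mem hk ((mem_normalizer_iff.mp (hKB (D.A_le ha)) _).mp (inv_mem hk))
    exact (mem_normalizer_iff.mp (hKB (hU (hT ht))) _).mp hk1
  have hle2 : U ≤ cmt T A ⊔ K := D.gen.trans (sup_le hle le_sup_right)
  intro x hx hxB
  obtain ⟨u, hu, h1⟩ := hU' x hx hxB
  obtain ⟨k, hk, c, hc, rfl⟩ := Solvable.Glauberman.exists_mul_of_mem_sup (cmt T A) K (hcT.trans hKB) (hle2 hu)
  refine ⟨c, hc, ?_⟩
  have h2 : c⁻¹ * k * c ∈ K := by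
    have := (mem_normalizer_iff.mp (hKB (inv_mem (hcT hc))) k).mp hk
    simpa using this
  have h3 : n⁻¹ * (c⁻¹ * k * c) * n ∈ K := by
    have := (mem_normalizer_iff.mp (D.K_norm (inv_mem hn)) _).mp h2
    simpa using this
  have e : (c * n)⁻¹ * x = (n⁻¹ * (c⁻¹ * k * c) * n) * ((k * c * n)⁻¹ * x) := by group
  rw [e]
  exact mul_mem (D.K_le h3) h1

/-! ### (G1) for a pair of commuting factors -/

/-- field `g1` at `(i, j)`; the first factor has a torus. -/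
theorem Pair.g1_left {B : Subgroup G} {P : I → Subgroup G} {n : I → G} {i j : I} {L M U H₀ A K : Subgroup G}
    (D : Pair B (P i) (P j) L M) (hinf : ∀ x ∈ P i, x ∈ P j → x ∈ B) (hU : U ≤ B)
    (hi : n i ∈ P i) (hiB : n i ∉ B) (hj : n j ∈ P j) (hjB : n j ∉ B)
    (hUi : Pan B P n U i) (hAL : A ≤ L) (hAH : A ≤ H₀) (hA : Torus B (P i) U A K (n i))
    {T : Subgroup G} (hT : Hall.HallData.Adm U H₀ T) (hTi : Pan B P n T i) (hTj : Pan B P n T j)
    {m : ℕ} (hm : m = 2) : Tr B P n T (alt i j m) := by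
  have hcT : cmt T A ≤ T := cmt_le_left (hAH.trans hT.2)
  refine (D.digon hinf).tr_left (hT.1.trans hU) hcT hi hiB hj hjB hTi hTj
    (hA.pan D.left hU hi hiB hT.1 (hAH.trans hT.2) hUi hTi) ?_ hm
  intro t ht x hx
  exact D.fix (cmt_le_right hAL ((hT.1.trans hU).trans D.normL) ht) (hU (hT.1 (hcT ht))) hx

/-- field `g1` at `(i, j)`; the second factor has a torus. -/
theorem Pair.g1_right {B : Subgroup G} {P : I → Subgroup G} {n : I → G} {i j : I} {L M U H₀ A K : Subgroup G}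
    (D : Pair B (P i) (P j) L M) (hinf : ∀ x ∈ P i, x ∈ P j → x ∈ B) (hU : U ≤ B)
    (hi : n i ∈ P i) (hj : n j ∈ P j) (hjB : n j ∉ B)
    (hUj : Pan B P n U j) (hAM : A ≤ M) (hAH : A ≤ H₀) (hA : Torus B (P j) U A K (n j))
    {T : Subgroup G} (hT : Hall.HallData.Adm U H₀ T) (hTi : Pan B P n T i) (hTj : Pan B P n T j)
    {m : ℕ} (hm : m = 2) : Tr B P n T (alt i j m) := by
  have hcT : cmt T A ≤ T := cmt_le_left (hAH.trans hT.2)
  refine (D.digon hinf).tr_right hcT hi hj hjB hTi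
    (hA.pan D.right hU hj hjB hT.1 (hAH.trans hT.2) hUj hTj) ?_ hm
  intro t ht x hx
  exact D.symm.fix (cmt_le_right hAM ((hT.1.trans hU).trans D.normM) ht) (hU (hT.1 (hcT ht))) hx

/-! ### The torus of a perfect factor -/

open scoped commutatorElement in
/-- A TI subgroup `X` with `N(X) = X A`, `|A|` prime to `p`: if `X ≤ Y'`, then `X = [X, A]`. -/
theorem le_cmt_of_ti {Y : Type*} [Group Y] [Finite Y] {p : ℕ} [Fact p.Prime] (X A : Subgroup Y)
    (hX : IsPGroup p X) (hA : p.Coprime (Nat.card A)) (hAX : A ≤ normalizer (X : Set Y))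
    (hTI : ∀ x ∈ X, x ≠ 1 → ∀ g : Y, g * x * g⁻¹ ∈ X → ∃ y ∈ X, ∃ a ∈ A, g = y * a)
    (hcomm : X ≤ commutator Y) : X ≤ cmt X A := by
  rcases eq_or_ne X ⊥ with hbot | hbot
  · rw [hbot]; exact bot_le
  obtain ⟨x₀, hx₀, hx₀1⟩ := (X.bot_or_exists_ne_one).resolve_left hbot
  -- `X` is a Sylow subgroup
  have hmax : ∀ {R : Subgroup Y}, IsPGroup p R → X ≤ R → R = X := by
    intro R hR hXR
    by_contra hne
    have hlt : X.subgroupOf R < ⊤ := by
      rw [lt_top_iff_ne_top]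
      intro h
      rw [subgroupOf_eq_top] at h
      exact hne (le_antisymm h hXR)
    haveI := hR.isNilpotent
    have h1 := Group.normalizerCondition_of_isNilpotent (G := R) _ hlt
    obtain ⟨g, hg, hgX⟩ := SetLike.exists_of_lt h1
    apply hgX
    rw [mem_subgroupOf]
    have h2 : (g : Y) * x₀ * (g : Y)⁻¹ ∈ X := by
      have := (mem_normalizer_iff.mp hg ⟨x₀, hXR hx₀⟩).mp (by
        rw [mem_subgroupOf]; exact hx₀)
      rw [mem_subgroupOf] at this
      exact this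
    obtain ⟨y, hy, a, ha, e⟩ := hTI x₀ hx₀ hx₀1 g h2
    have haR : a ∈ R := by
      have : a = y⁻¹ * g := by rw [e]; group
      rw [this]
      exact mul_mem (inv_mem (hXR hy)) g.2
    have ha1 : a = 1 := by
      obtain ⟨k, hk⟩ := hR ⟨a, haR⟩
      have hk' : a ^ p ^ k = 1 := by simpa using congrArg Subtype.val hk
      have := Hall.mem_of_pow_mem_of_coprime (K := (⊥ : Subgroup Y)) (x := a) (a := p ^ k) (b := Nat.card A)
        (by rw [hk']; exact one_mem _) (by rw [Hall.pow_card_of_mem ha]; exact one_mem _) (hA.pow_left k)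
      exact mem_bot.mp this
    rw [e, ha1, mul_one]; exact hy
  let S : Sylow p Y := ⟨X, hX, hmax⟩
  have hfoc := Subgroup.commutator_inf_eq_focalSubgroup S
  have hfoc' : commutator Y ⊓ X = Subgroup.focalSubgroup X := hfoc
  rw [inf_eq_right.mpr hcomm] at hfoc'
  set C := cmt X A with hC
  have hCX : C ≤ X := cmt_le_left hAX
  -- `C` is normal in `X`
  have hCn : X ≤ normalizer (C : Set Y) := by
    have key : ∀ x ∈ X, ∀ c ∈ C, x * c * x⁻¹ ∈ C := by
      intro x hx c hc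
      rw [hC] at hc ⊢
      unfold cmt at hc ⊢
      induction hc using closure_induction with
      | mem z hz =>
        obtain ⟨t, ht, a, ha, rfl⟩ := hz
        have e : x * (t * a * t⁻¹ * a⁻¹) * x⁻¹ = ((x * t) * a * (x * t)⁻¹ * a⁻¹) * (x * a * x⁻¹ * a⁻¹)⁻¹ := by
          group
        rw [e]
        exact mul_mem (subset_closure ⟨x * t, mul_mem hx ht, a, ha, rfl⟩)
          (inv_mem (subset_closure ⟨x, hx, a, ha, rfl⟩))
      | one => simp [one_mem]
      | mul a b _ _ h1 h2 =>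
        have e : x * (a * b) * x⁻¹ = (x * a * x⁻¹) * (x * b * x⁻¹) := by group
        rw [e]; exact mul_mem h1 h2
      | inv a _ h1 =>
        have e : x * a⁻¹ * x⁻¹ = (x * a * x⁻¹)⁻¹ := by group
        rw [e]; exact inv_mem h1
    intro x hx
    rw [mem_normalizer_iff]
    intro c
    refine ⟨key x hx c, fun h => ?_⟩
    have := key x⁻¹ (inv_mem hx) _ h
    simpa [mul_assoc] using this
  have hle : X ≤ C ⊔ ⁅X, X⁆ := by
    conv_lhs => rw [hfoc']
    rw [Subgroup.focalSubgroup_def, Subgroup.closure_le]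
    rintro g ⟨hg, x, hx, u, rfl⟩
    rw [SetLike.mem_coe]
    rcases eq_or_ne x 1 with rfl | hx1
    · rw [commutatorElement_one_left]; exact one_mem _
    have hy : u * x * u⁻¹ ∈ X := by
      have h1 : (⁅x, u⁆)⁻¹ * x ∈ X := mul_mem (inv_mem hg) hx
      have h2 : (⁅x, u⁆)⁻¹ * x = u * x * u⁻¹ := by
        rw [commutatorElement_def]; group
      rwa [h2] at h1
    obtain ⟨y, hyX, a, ha, rfl⟩ := hTI x hx hx1 u hy
    have hx' : a * x * a⁻¹ ∈ X := (mem_normalizer_iff.mp (hAX ha) x).mp hx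
    have e : ⁅x, y * a⁆ = (x * a * x⁻¹ * a⁻¹) * ⁅a * x * a⁻¹, y⁆ := by
      rw [commutatorElement_def, commutatorElement_def]; group
    rw [e]
    exact mul_mem (mem_sup_left (subset_closure ⟨x, hx, a, ha, rfl⟩))
      (mem_sup_right (commutator_mem_commutator hx' hyX))
  -- `X / C` is perfect and solvable
  haveI hn : (C.subgroupOf X).Normal := by
    constructor
    intro c hc g
    rw [mem_subgroupOf] at hc ⊢
    have := (mem_normalizer_iff.mp (hCn g.2) (c : Y)).mp hc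
    simpa using this
  haveI := hX.isNilpotent
  by_contra hnot
  have hnt : Nontrivial (X ⧸ C.subgroupOf X) := by
    rw [QuotientGroup.nontrivial_iff]
    intro h
    rw [subgroupOf_eq_top] at h
    exact hnot h
  have hlt := Group.IsSolvable.commutator_lt_top_of_nontrivial (X ⧸ C.subgroupOf X)
  apply hlt.ne
  rw [eq_top_iff]
  intro z _
  obtain ⟨x, rfl⟩ := QuotientGroup.mk'_surjective (C.subgroupOf X) z
  obtain ⟨d, hd, c, hc, e⟩ := Solvable.Glauberman.exists_mul_of_mem_sup C ⁅X, X⁆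
    (hCX.trans (by
      intro g hg
      rw [mem_normalizer_iff]
      have key : ∀ g ∈ X, ∀ h ∈ ⁅X, X⁆, g * h * g⁻¹ ∈ ⁅X, X⁆ := by
        intro g hg h hh
        have hhX : h ∈ X := (Subgroup.commutator_le_self X) hh
        have e : g * h * g⁻¹ = ⁅g, h⁆ * h := by rw [commutatorElement_def]; group
        rw [e]
        exact mul_mem (commutator_mem_commutator hg hhX) hh
      intro h
      refine ⟨key g hg h, fun h' => ?_⟩
      have := key g⁻¹ (inv_mem hg) _ h'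
      simpa [mul_assoc] using this)) (hle x.2)
  have hdX : d ∈ X := (Subgroup.commutator_le_self X) hd
  have hcX : c ∈ X := hCX hc
  have ex : x = ⟨d, hdX⟩ * ⟨c, hcX⟩ := Subtype.ext e
  have h1 : (QuotientGroup.mk' (C.subgroupOf X)) ⟨c, hcX⟩ = 1 := by
    rw [QuotientGroup.mk'_apply, QuotientGroup.eq_one_iff, mem_subgroupOf]; exact hc
  rw [ex, map_mul, h1, mul_one]
  have h2 : (⟨d, hdX⟩ : X) ∈ commutator X := by
    have h3 : ⁅X, X⁆ = (commutator X).map X.subtype := by rw [map_subtype_commutator]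
    rw [h3] at hd
    obtain ⟨d', hd', e'⟩ := hd
    have : (⟨d, hdX⟩ : X) = d' := Subtype.ext e'.symm
    rw [this]; exact hd'
  have h4 := mem_map_of_mem (QuotientGroup.mk' (C.subgroupOf X)) h2
  rw [_root_.commutator_def, Subgroup.map_commutator] at h4
  exact Subgroup.commutator_mono le_top le_top h4

/-- The subgroup `⟨U, A⟩ K` -/
theorem mem_sup_three {B U A K : Subgroup G} (hU : U ≤ B) (hA : A ≤ B) (hUn : B ≤ normalizer (U : Set G))
    (hKn : B ≤ normalizer (K : Set G)) {x : G} (hx : x ∈ U ⊔ A ⊔ K) :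
    ∃ u ∈ U, ∃ a ∈ A, ∃ k ∈ K, x = u * a * k := by
  obtain ⟨k, hk, y, hy, rfl⟩ := Solvable.Glauberman.exists_mul_of_mem_sup (U ⊔ A) K ((sup_le hU hA).trans hKn) hx
  rw [sup_comm] at hy
  obtain ⟨u, hu, a, ha, rfl⟩ := Solvable.Glauberman.exists_mul_of_mem_sup A U (hA.trans hUn) hy
  have hn : (u * a)⁻¹ ∈ normalizer (K : Set G) := inv_mem (hKn (mul_mem (hU hu) (hA ha)))
  refine ⟨u, hu, a, ha, (u * a)⁻¹ * k * ((u * a)⁻¹)⁻¹, (mem_normalizer_iff.mp hn k).mp hk, by group⟩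

/-- **(G1) for a perfect factor**: `L` is a subgroup of `P` with `U ≤ L K`, `U ≤ L' K`, `L ⊓ B ≤ U A K` where `A ≤ L ⊓ B` is a
`p'`-group; `U` is regular on the chambers `≠ B` of `P / B` modulo `K`. -/
theorem Torus.of_perfect [Finite G] {p : ℕ} [Fact p.Prime] {B P U A K L : Subgroup G} {n : G}
    (hBP : B ≤ P) (hKB : K ≤ B) (hKP : P ≤ normalizer (K : Set G)) (hLP : L ≤ P)
    (hUB : U ≤ B) (hUp : IsPGroup p U) (hUn : B ≤ normalizer (U : Set G))
    (hAL : A ≤ L) (hAB : A ≤ B) (hAp : p.Coprime (Nat.card A)) (hLB : L ⊓ B ≤ U ⊔ A ⊔ K)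
    (hpan : ∀ x ∈ P, x ∉ B → ∃ u ∈ U, (u * n)⁻¹ * x ∈ B)
    (hreg : ∀ u ∈ U, n⁻¹ * u * n ∈ B → u ∈ K) (hperf : U ≤ ⁅L, L⁆ ⊔ K) : Torus B P U A K n where
  K_le := hKB
  K_norm := hKP
  reg := hreg
  A_le := hAB
  gen := by
    have hKBn : B ≤ normalizer (K : Set G) := hBP.trans hKP
    set E := L ⊔ K with hE
    have hLE : L ≤ E := le_sup_left
    have hKE : K ≤ E := le_sup_right
    have hEP : E ≤ P := sup_le hLP (hKB.trans hBP)
    have hUE : U ≤ E := hperf.trans (sup_le_sup_right (Subgroup.commutator_le_self L) K)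
    have hAE : A ≤ E := hAL.trans hLE
    have hEB : ∀ g ∈ E, g ∈ B → ∃ u ∈ U, ∃ a ∈ A, ∃ k ∈ K, g = u * a * k := by
      intro g hg hgB
      obtain ⟨k, hk, l, hl, rfl⟩ := Solvable.Glauberman.exists_mul_of_mem_sup L K (hLP.trans hKP) hg
      have hlB : l ∈ B := by
        have := mul_mem (inv_mem (hKB hk)) hgB
        rwa [inv_mul_cancel_left] at this
      exact mem_sup_three hUB hAB hUn hKBn (mul_mem (mem_sup_right hk) (hLB ⟨hl, hlB⟩))
    haveI hKN : (K.subgroupOf E).Normal := by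
      constructor
      intro c hc g
      rw [mem_subgroupOf] at hc ⊢
      have := (mem_normalizer_iff.mp (hKP (hEP g.2)) (c : G)).mp hc
      simpa using this
    set π := QuotientGroup.mk' (K.subgroupOf E) with hπ
    have hπs : Function.Surjective π := QuotientGroup.mk'_surjective _
    have hker : ∀ e : E, π e = 1 ↔ (e : G) ∈ K := by
      intro e
      rw [hπ, QuotientGroup.mk'_apply, QuotientGroup.eq_one_iff, mem_subgroupOf]
    have heq : ∀ e f : E, π e = π f ↔ (f : G)⁻¹ * (e : G) ∈ K := by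
      intro e f
      have := hker (f⁻¹ * e)
      rw [map_mul, map_inv, inv_mul_eq_one] at this
      rw [eq_comm, this]
      simp
    set X : Subgroup (E ⧸ K.subgroupOf E) := (U.subgroupOf E).map π with hX
    set A' : Subgroup (E ⧸ K.subgroupOf E) := (A.subgroupOf E).map π with hA'
    have hXU : ∀ u (hu : u ∈ U), π ⟨u, hUE hu⟩ ∈ X := fun u hu =>
      mem_map_of_mem π (by rw [mem_subgroupOf]; exact hu)
    have hAA : ∀ a (ha : a ∈ A), π ⟨a, hAE ha⟩ ∈ A' := fun a ha =>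
      mem_map_of_mem π (by rw [mem_subgroupOf]; exact ha)
    have hXp : IsPGroup p X := by
      rintro ⟨x, hx⟩
      obtain ⟨u, hu, rfl⟩ := mem_map.mp hx
      obtain ⟨k, hk⟩ := hUp ⟨(u : G), hu⟩
      refine ⟨k, Subtype.ext ?_⟩
      have h1 : (u : G) ^ p ^ k = 1 := by simpa using congrArg Subtype.val hk
      have h2 : u ^ p ^ k = 1 := Subtype.ext (by simpa using h1)
      simp only [SubmonoidClass.mk_pow, OneMemClass.coe_one]
      rw [← map_pow, h2, map_one]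
    have hA'p : p.Coprime (Nat.card A') := by
      have h1 : Nat.card A' ∣ Nat.card (A.subgroupOf E) := Subgroup.card_map_dvd _ _
      have h2 : Nat.card (A.subgroupOf E) = Nat.card A := by
        exact Nat.card_congr (Subgroup.subgroupOfEquivOfLe hAE).toEquiv
      rw [h2] at h1
      exact Nat.Coprime.coprime_dvd_right h1 hAp
    have hA'X : A' ≤ normalizer (X : Set _) := by
      have key : ∀ a ∈ A', ∀ x ∈ X, a * x * a⁻¹ ∈ X := by
        rintro _ ⟨a, ha, rfl⟩ _ ⟨u, hu, rfl⟩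
        refine ⟨a * u * a⁻¹, ?_, by simp⟩
        rw [SetLike.mem_coe, mem_subgroupOf] at hu ha ⊢
        have := (mem_normalizer_iff.mp (hUn (hAB ha)) (u : G)).mp hu
        simpa using this
      intro a ha
      rw [mem_normalizer_iff]
      intro x
      refine ⟨key a ha x, fun h => ?_⟩
      have := key a⁻¹ (inv_mem ha) _ h
      simpa [mul_assoc] using this
    have hTI : ∀ x ∈ X, x ≠ 1 → ∀ g, g * x * g⁻¹ ∈ X → ∃ y ∈ X, ∃ a ∈ A', g = y * a := by
      rintro _ ⟨u, hu, rfl⟩ hx1 g hg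
      obtain ⟨e, rfl⟩ := hπs g
      rw [SetLike.mem_coe, mem_subgroupOf] at hu
      have huK : (u : G) ∉ K := fun h => hx1 ((hker u).mpr h)
      have h1 : (e : G) * u * (e : G)⁻¹ ∈ B := by
        obtain ⟨v, hv, h⟩ := hg
        rw [SetLike.mem_coe, mem_subgroupOf] at hv
        rw [← map_inv, ← map_mul, ← map_mul, eq_comm, heq] at h
        have h2 : (e : G) * u * (e : G)⁻¹ = v * ((v : G)⁻¹ * ((e * u * e⁻¹ : E) : G)) := by simp
        rw [h2]
        exact mul_mem (hUB hv) (hKB h)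
      have h3 : (e : G) ∈ B := by
        by_contra hnot
        have h4 : (e : G)⁻¹ ∉ B := fun h => hnot (by simpa using inv_mem h)
        obtain ⟨v, hv, hb⟩ := hpan _ (inv_mem (hEP e.2)) h4
        set b := (v * n)⁻¹ * (e : G)⁻¹ with hbdef
        have he : (e : G) = b⁻¹ * (v * n)⁻¹ := by rw [hbdef]; group
        have h5 : n⁻¹ * (v⁻¹ * u * v) * n ∈ B := by
          have e1 : n⁻¹ * (v⁻¹ * u * v) * n = b * ((e : G) * u * (e : G)⁻¹) * b⁻¹ := by
            rw [he]; group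
          rw [e1]
          exact mul_mem (mul_mem hb h1) (inv_mem hb)
        have h6 := hreg _ (mul_mem (mul_mem (inv_mem hv) hu) hv) h5
        apply huK
        have h7 := (mem_normalizer_iff.mp (hKBn (hUB hv)) _).mp h6
        have e2 : v * (v⁻¹ * (u : G) * v) * v⁻¹ = u := by group
        rwa [e2] at h7
      obtain ⟨v, hv, a, ha, k, hk, e'⟩ := hEB e e.2 h3
      refine ⟨_, hXU v hv, _, hAA a ha, ?_⟩
      rw [← map_mul, heq]
      have e3 : (((⟨v, hUE hv⟩ * ⟨a, hAE ha⟩ : E) : G))⁻¹ * (e : G) = k := by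
        rw [e']; simp [mul_assoc]
      rw [e3]; exact hk
    have hXc : X ≤ _root_.commutator (E ⧸ K.subgroupOf E) := by
      rintro _ ⟨u, hu, rfl⟩
      rw [SetLike.mem_coe, mem_subgroupOf] at hu
      have hKc : ⁅L, L⁆ ≤ normalizer (K : Set G) := (Subgroup.commutator_le_self L).trans (hLP.trans hKP)
      obtain ⟨k, hk, c, hc, e⟩ := Solvable.Glauberman.exists_mul_of_mem_sup _ K hKc (hperf hu)
      have hc' : c ∈ ⁅E, E⁆ := Subgroup.commutator_mono hLE hLE hc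
      rw [← map_subtype_commutator] at hc'
      obtain ⟨c', hc', rfl⟩ := hc'
      have h1 : π u = π c' := by
        rw [heq, e]
        have h2 := (mem_normalizer_iff.mp (hKP (hEP (inv_mem c'.2))) k).mp hk
        simpa [mul_assoc] using h2
      rw [h1]
      have h4 := mem_map_of_mem π hc'
      rw [_root_.commutator_def, Subgroup.map_commutator] at h4
      exact Subgroup.commutator_mono le_top le_top h4
    have hmain := le_cmt_of_ti X A' hXp hA'p hA'X hTI hXc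
    have hcE : cmt U A ≤ E := (cmt_le_left (hAB.trans hUn)).trans hUE
    have hle : cmt X A' ≤ ((cmt U A).subgroupOf E).map π := by
      unfold cmt
      rw [closure_le]
      rintro _ ⟨_, ⟨t, ht, rfl⟩, _, ⟨a, ha, rfl⟩, rfl⟩
      rw [SetLike.mem_coe, mem_subgroupOf] at ht ha
      refine ⟨t * a * t⁻¹ * a⁻¹, ?_, by simp⟩
      rw [SetLike.mem_coe, mem_subgroupOf]
      exact subset_closure ⟨t, ht, a, ha, by simp⟩
    intro u hu
    obtain ⟨c, hc, e⟩ := hle (hmain (hXU u hu))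
    rw [SetLike.mem_coe, mem_subgroupOf] at hc
    rw [eq_comm, heq] at e
    have : u = c * ((c : G)⁻¹ * u) := by group
    rw [this]
    exact mul_mem (mem_sup_left hc) (mem_sup_right e)

end Cfsg.Agent.ParSys
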