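import Cfsg.Agent.ParSys.Par
import Cfsg.Agent.ParSys.Prod

/-!
# Parabolic systems: the pairs whose residue is a product of two rank ones

The fields `poly`, `torus`, `frat` of `ParSys.Sys` for a pair `P`, `Q` which generates a product of two rank ones.
-/

set_option autoImplicit false
set_option linter.style.haveILetI false

namespace Cfsg.Agent.ParSys

open Subgroup

variable {G : Type*} [Group G] {I : Type*}

theorem SepT.both {B U H Pi Pj : Subgroup G} (h : SepT B U H Pi Pj) (hH : H ≤ normalizer (U : Set G)) :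
    ∀ u ∈ U, ∀ v ∈ U, ∃ w ∈ U, u⁻¹ * w ∈ Qk B Pi ∧ v⁻¹ * w ∈ Qk B Pj := by
  intro u hu v hv
  obtain ⟨t, ht, h1, h2⟩ := h U le_rfl hH (fun u hu => ⟨u, hu, by rw [inv_mul_cancel]; exact one_mem _⟩)
    (u⁻¹ * v) (mul_mem (inv_mem hu) hv)
  refine ⟨u * t, mul_mem hu ht, ?_, ?_⟩
  · rw [inv_mul_cancel_left]; exact h1
  · have := inv_mem h2
    have e : v⁻¹ * (u * t) = (t⁻¹ * (u⁻¹ * v))⁻¹ := by group
    rw [e]; exact this

namespace Digon

variable {B P Q : Subgroup G}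

/-- `P ⊔ Q = P Q` -/
theorem exists_mul (D : Digon B P Q) {g : G} (hg : g ∈ P ⊔ Q) : ∃ a ∈ P, ∃ b ∈ Q, g = a * b := by
  let S : Subgroup G :=
    { carrier := {g | ∃ a ∈ P, ∃ b ∈ Q, g = a * b}
      mul_mem' := by
        rintro _ _ ⟨a, ha, b, hb, rfl⟩ ⟨a', ha', b', hb', rfl⟩
        obtain ⟨c, hc, d, hd, e⟩ := D.symm.comm b hb a' ha'
        refine ⟨a * c, mul_mem ha hc, d * b', mul_mem hd hb', ?_⟩
        calc a * b * (a' * b') = a * (b * a') * b' := by group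
          _ = a * (c * d) * b' := by rw [e]
          _ = a * c * (d * b') := by group
      one_mem' := ⟨1, one_mem _, 1, one_mem _, by simp⟩
      inv_mem' := by
        rintro _ ⟨a, ha, b, hb, rfl⟩
        obtain ⟨c, hc, d, hd, e⟩ := D.symm.comm b⁻¹ (inv_mem hb) a⁻¹ (inv_mem ha)
        exact ⟨c, hc, d, hd, by rw [mul_inv_rev, e]⟩ }
  have h : P ⊔ Q ≤ S := sup_le (fun a ha => ⟨a, ha, 1, one_mem _, by simp⟩)
    (fun b hb => ⟨1, one_mem _, b, hb, by simp⟩)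
  exact h hg

/-- **(b)** the kernel of the digon -/
theorem qk_inf (D : Digon B P Q) {x : G} (h1 : x ∈ Qk B P) (h2 : x ∈ Qk B Q) : x ∈ Qk B (P ⊔ Q) := by
  intro g hg
  obtain ⟨a, ha, b, hb, rfl⟩ := D.exists_mul hg
  obtain ⟨b', hb', a', ha', e⟩ := D.comm a ha b hb
  refine D.inf _ ?_ ?_
  · rw [e]
    have e1 : (b' * a')⁻¹ * x * (b' * a') = a'⁻¹ * (b'⁻¹ * x * b') * a' := by group
    rw [e1]
    exact mul_mem (mul_mem (inv_mem ha') (D.left (h2 b' hb'))) ha'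
  · have e1 : (a * b)⁻¹ * x * (a * b) = b⁻¹ * (a⁻¹ * x * a) * b := by group
    rw [e1]
    exact mul_mem (mul_mem (inv_mem hb) (D.right (h1 a ha))) hb

/-- the field `frat` of `Sys` -/
theorem frat (D : Digon B P Q) {U T : Subgroup G}
    (h : ∀ u ∈ U, ∃ t ∈ T, t⁻¹ * u ∈ Qk B P ∧ t⁻¹ * u ∈ Qk B Q) :
    ∀ u ∈ U, ∃ t ∈ T, t⁻¹ * u ∈ Qk B (P ⊔ Q) := by
  intro u hu
  obtain ⟨t, ht, h1, h2⟩ := h u hu
  exact ⟨t, ht, D.qk_inf h1 h2⟩

variable {R : I → Subgroup G} {i j : I}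

theorem uniq_two (D : Digon B (R i) (R j)) (l l' : List G) (hl : GalE B R (alt i j 2) l)
    (hl' : GalE B R (alt i j 2) l') (h : l.prod⁻¹ * l'.prod ∈ B) : Same B 1 1 l l' := by
  match l, l', hl, hl' with
  | [x, y], [x', y'], hl, hl' =>
    have hx : x ∈ R i := hl.1.1
    have hy : y ∈ R j := hl.2.1.1
    have hx' : x' ∈ R i := hl'.1.1
    have hy' : y' ∈ R j := hl'.2.1.1
    have h1 : (x * y)⁻¹ * (x' * y') ∈ B := by simpa using h
    have h2 : x⁻¹ * x' ∈ B := by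
      refine D.inf _ (mul_mem (inv_mem hx) hx') ?_
      have e : x⁻¹ * x' = y * ((x * y)⁻¹ * (x' * y')) * y'⁻¹ := by group
      rw [e]
      exact mul_mem (mul_mem hy (D.right h1)) (inv_mem hy')
    refine ⟨by simp [one_mem], ?_, ?_⟩
    · simpa using h2
    · show (1 * x * y)⁻¹ * (1 * x' * y') ∈ B
      rw [one_mul, one_mul]; exact h1
  | [], _, hl, _ => exact hl.elim
  | [_], _, hl, _ => exact hl.2.elim
  | _ :: _ :: _ :: _, _, hl, _ => exact hl.2.2.elim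
  | _, [], _, hl' => exact hl'.elim
  | _, [_], _, hl' => exact hl'.2.elim
  | _, _ :: _ :: _ :: _, _, hl' => exact hl'.2.2.elim

/-- the first factor of `x y = b a` is not in `B` -/
theorem first_not_mem (D : Digon B P Q) {x y b a : G} (hx : x ∈ P) (hy : y ∈ Q) (hyB : y ∉ B) (ha : a ∈ P)
    (e : x * y = b * a) : b ∉ B := by
  intro h
  apply hyB
  refine D.inf _ ?_ hy
  have : y = x⁻¹ * (b * a) := by rw [← e]; group
  rw [this]
  exact mul_mem (inv_mem hx) (mul_mem (D.left h) ha)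

theorem trans_two (D : Digon B (R i) (R j)) {U : Subgroup G} (hU : U ≤ B) (hi : Hall.HallData.PTr B U (R i))
    (hj : Hall.HallData.PTr B U (R j))
    (hw : ∀ u ∈ U, ∀ v ∈ U, ∃ w ∈ U, u⁻¹ * w ∈ Qk B (R i) ∧ v⁻¹ * w ∈ Qk B (R j)) (l l' : List G)
    (hl : GalE B R (alt i j 2) l) (hl' : GalE B R (alt i j 2) l') : ∃ y ∈ B, Same B y 1 l l' := by
  match l, l', hl, hl' with
  | [x, y], [x', y'], hl, hl' =>
    obtain ⟨⟨hx, hxB⟩, ⟨hy, hyB⟩, -⟩ := hl
    obtain ⟨⟨hx', hxB'⟩, ⟨hy', hyB'⟩, -⟩ := hl'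
    obtain ⟨b, hb, a, ha, e⟩ := D.comm x hx y hy
    obtain ⟨b', hb', a', ha', e'⟩ := D.comm x' hx' y' hy'
    have hbB : b ∉ B := D.first_not_mem hx hy hyB ha e
    have hbB' : b' ∉ B := D.first_not_mem hx' hy' hyB' ha' e'
    obtain ⟨u, hu, c, hc, hx2⟩ := hi x hx hxB x' hx' hxB'
    obtain ⟨v, hv, d, hd, hb2⟩ := hj b hb hbB b' hb' hbB'
    obtain ⟨w, hwU, h1, h2⟩ := hw u hu v hv
    have h3 : (w * x)⁻¹ * x' ∈ B := by
      have h4 := inv_mem (h1 x hx)
      have e1 : (w * x)⁻¹ * x' = (x⁻¹ * (u⁻¹ * w) * x)⁻¹ * c := by rw [hx2]; group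
      rw [e1]; exact mul_mem h4 hc
    have h4 : (w * b)⁻¹ * b' ∈ B := by
      have h5 := inv_mem (h2 b hb)
      have e1 : (w * b)⁻¹ * b' = (b⁻¹ * (v⁻¹ * w) * b)⁻¹ * d := by rw [hb2]; group
      rw [e1]; exact mul_mem h5 hd
    refine ⟨w, hU hwU, ?_, ?_, ?_⟩
    · rw [mul_one]; exact inv_mem (hU hwU)
    · rw [one_mul]; exact h3
    · show (w * x * y)⁻¹ * (1 * x' * y') ∈ B
      rw [one_mul]
      refine D.inf _ ?_ ?_
      · have e1 : (w * x * y)⁻¹ * (x' * y') = a⁻¹ * ((w * b)⁻¹ * b') * a' := by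
          rw [e', mul_assoc w, e]; group
        rw [e1]
        exact mul_mem (mul_mem (inv_mem ha) (D.left h4)) ha'
      · have e1 : (w * x * y)⁻¹ * (x' * y') = y⁻¹ * ((w * x)⁻¹ * x') * y' := by group
        rw [e1]
        exact mul_mem (mul_mem (inv_mem hy) (D.right h3)) hy'
  | [], _, hl, _ => exact hl.elim
  | [_], _, hl, _ => exact hl.2.elim
  | _ :: _ :: _ :: _, _, hl, _ => exact hl.2.2.elim
  | _, [], _, hl' => exact hl'.elim
  | _, [_], _, hl' => exact hl'.2.elim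
  | _, _ :: _ :: _ :: _, _, hl' => exact hl'.2.2.elim

/-- **(a)** a digon with a sufficiently transitive group is a generalised `2`-gon. -/
theorem polygon (D : Digon B (R i) (R j)) {U : Subgroup G} (hU : U ≤ B) (hi : Hall.HallData.PTr B U (R i))
    (hj : Hall.HallData.PTr B U (R j))
    (hw : ∀ u ∈ U, ∀ v ∈ U, ∃ w ∈ U, u⁻¹ * w ∈ Qk B (R i) ∧ v⁻¹ * w ∈ Qk B (R j))
    (hPi : ∃ x ∈ R i, x ∉ B) (hPj : ∃ x ∈ R j, x ∉ B) : Polygon B R i j 2 where
  uniq := D.uniq_two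
  uniq' := D.symm.uniq_two
  swap := by
    obtain ⟨x, hx, hxB⟩ := hPi
    obtain ⟨y, hy, hyB⟩ := hPj
    obtain ⟨b, hb, a, ha, e⟩ := D.comm x hx y hy
    have hbB : b ∉ B := D.first_not_mem hx hy hyB ha e
    have haB : a ∉ B := D.symm.first_not_mem (x := b⁻¹) (y := x) (b := a) (a := y⁻¹) (inv_mem hb) hx hxB
      (inv_mem hy) (by
        have : x = b * a * y⁻¹ := by rw [← e]; group
        rw [this]; group)
    refine ⟨[x, y], [b, a], ⟨⟨hx, hxB⟩, ⟨hy, hyB⟩, trivial⟩, ⟨⟨hb, hbB⟩, ⟨ha, haB⟩, trivial⟩, ?_⟩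
    have e1 : [x, y].prod⁻¹ * [b, a].prod = 1 := by
      simp only [List.prod_cons, List.prod_nil, mul_one]
      rw [← e, inv_mul_cancel]
    rw [e1]; exact one_mem _
  trans := D.trans_two hU hi hj hw
  trans' := D.symm.trans_two hU hj hi (fun u hu v hv => by
    obtain ⟨w, hwU, h1, h2⟩ := hw v hv u hu
    exact ⟨w, hwU, h2, h1⟩)

end Digon

/-- two panels with transitive groups are equal or meet in `B` -/
theorem inf_of_ptr {B P Q U : Subgroup G} (hP : B ≤ P) (hQ : B ≤ Q) (hU : U ≤ B)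
    (hi : Hall.HallData.PTr B U P) (hj : Hall.HallData.PTr B U Q) (hPi : ∃ x ∈ P, x ∉ B) (hPj : ∃ x ∈ Q, x ∉ B)
    (hne : P ≠ Q) : ∀ x ∈ P, x ∈ Q → x ∈ B := by
  obtain ⟨x, hx, hxB⟩ := hPi
  obtain ⟨y, hy, hyB⟩ := hPj
  refine inf_of_pan hP hQ hU (n := x) (n' := y) ?_ ?_ hne
  · intro z hz hzB
    obtain ⟨u, hu, b, hb, e⟩ := hi x hx hxB z hz hzB
    refine ⟨u, hu, ?_⟩
    have : (u * x)⁻¹ * z = b := by rw [e]; group
    rw [this]; exact hb
  · intro z hz hzB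
    obtain ⟨u, hu, b, hb, e⟩ := hj y hy hyB z hz hzB
    refine ⟨u, hu, ?_⟩
    have : (u * y)⁻¹ * z = b := by rw [e]; group
    rw [this]; exact hb

/-- **The torus of the second factor**: `A ≤ M ⊓ H` with `U ≤ [U, A] Q j` gives `SepT`. -/
theorem Pair.sepT {B U H P Q L M A : Subgroup G} (D : Pair B P Q L M) (hU : U ≤ B) (hH : H ≤ B)
    (hAM : A ≤ M) (hAH : A ≤ H) (hgen : U ≤ cmt U A ⊔ Qk B Q) : SepT B U H P Q := by
  intro T hTU hTH hcov
  have hTB := hTU.trans hU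
  have hcT : cmt T A ≤ T := cmt_le_left (hAH.trans hTH)
  have hK : ∀ b ∈ B, ∀ k ∈ Qk B Q, b * k * b⁻¹ ∈ Qk B Q := fun b hb k hk => Qk_conj' hk (D.right hb)
  have hKn : B ≤ normalizer (Qk B Q : Set G) := by
    intro b hb
    rw [mem_normalizer_iff]
    intro k
    refine ⟨hK b hb k, fun h => ?_⟩
    have := hK b⁻¹ (inv_mem hb) _ h
    simpa [mul_assoc] using this
  have hle : cmt U A ≤ cmt T A ⊔ Qk B Q := by
    unfold cmt
    rw [closure_le]
    rintro _ ⟨u, hu, a, ha, rfl⟩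
    obtain ⟨t, ht, hk⟩ := hcov u hu
    set k := t⁻¹ * u with hkd
    have hu' : u = t * k := by rw [hkd]; group
    rw [hu']
    have e : t * k * a * (t * k)⁻¹ * a⁻¹ =
        (t * (k * (a * k⁻¹ * a⁻¹)) * t⁻¹) * (t * a * t⁻¹ * a⁻¹) := by group
    rw [SetLike.mem_coe, e]
    refine mul_mem (mem_sup_right ?_) (mem_sup_left (subset_closure ⟨t, ht, a, ha, rfl⟩))
    exact hK t (hTB ht) _ (mul_mem hk (hK a (hH (hAH ha)) _ (inv_mem hk)))
  intro u hu
  have hu2 : u ∈ cmt T A ⊔ Qk B Q := (hgen.trans (sup_le hle le_sup_right)) hu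
  obtain ⟨k, hk, c, hc, rfl⟩ := Solvable.Glauberman.exists_mul_of_mem_sup (cmt T A) (Qk B Q)
    ((hcT.trans hTB).trans hKn) hu2
  refine ⟨c, hcT hc, ?_, ?_⟩
  · intro x hx
    exact D.symm.fix (cmt_le_right hAM (hTB.trans D.normM) hc) (hTB (hcT hc)) hx
  · have := hK c⁻¹ (inv_mem (hTB (hcT hc))) k hk
    have e : c⁻¹ * (k * c) = c⁻¹ * k * (c⁻¹)⁻¹ := by group
    rw [e]; exact this

/-- For `M` normal in a finite group, `|M : M ∩ H|` divides `|B : H|`. -/
theorem relIndex_dvd_index {X : Type*} [Group X] [Finite X] (H M : Subgroup X) [M.Normal] :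
    H.relIndex M ∣ H.index := by
  obtain ⟨c, hc⟩ := Subgroup.relIndex_dvd_index_of_normal M H
  have h1 := Subgroup.card_mul_index H
  have h2 := Subgroup.card_mul_index M
  have h3 := Subgroup.card_mul_index (H.subgroupOf M)
  have h4 := Subgroup.card_mul_index (M.subgroupOf H)
  have h5 : Nat.card (H.subgroupOf M) = Nat.card (M.subgroupOf H) := by
    rw [← Subgroup.card_subtype M (H.subgroupOf M), ← Subgroup.card_subtype H (M.subgroupOf H),
      Subgroup.subgroupOf_map_subtype, Subgroup.subgroupOf_map_subtype, inf_comm]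
  change Nat.card (H.subgroupOf M) * H.relIndex M = Nat.card M at h3
  change Nat.card (M.subgroupOf H) * M.relIndex H = Nat.card H at h4
  refine ⟨c, ?_⟩
  have h6 : Nat.card H * H.index = Nat.card H * (H.relIndex M * c) := by
    rw [h1, ← h2, hc, ← h3, ← h4, h5]; ring
  exact Nat.eq_of_mul_eq_mul_left Nat.card_pos h6

/-- `M ≤ R (M ∩ H)` if `M` is normal in `B` and `|M : M ∩ R|` is prime to `p`. -/
theorem le_sup_inf_hall [Finite G] {p : ℕ} [Fact p.Prime] {B U H : Subgroup G} (hall : Hall.HallData p B U H)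
    {M R : Subgroup G} (hM : M ≤ B) (hMn : B ≤ normalizer (M : Set G)) (hR : ¬ p ∣ R.relIndex M) :
    M ≤ R ⊔ (M ⊓ H) := by
  -- `|B : H|` is a power of `p`
  have h1 : ∃ k, H.relIndex B = p ^ k := by
    obtain ⟨k, hk⟩ := hall.index
    have h2 : H.relIndex (U ⊔ H) * (U ⊔ H).relIndex B = H.relIndex B :=
      Subgroup.relIndex_mul_relIndex _ _ _ le_sup_right (sup_le hall.U_le hall.H_le)
    have h3 : H.relIndex (U ⊔ H) ∣ Nat.card U := by
      have hc := Subgroup.card_mul_index (H.subgroupOf (U ⊔ H))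
      change Nat.card (H.subgroupOf (U ⊔ H)) * H.relIndex (U ⊔ H) = _ at hc
      have hH : Nat.card (H.subgroupOf (U ⊔ H)) = Nat.card H :=
        Nat.card_congr (Subgroup.subgroupOfEquivOfLe le_sup_right).toEquiv
      rw [hH] at hc
      -- `|U H| ∣ |U| |H|`
      have hs : Nat.card (U ⊔ H : Subgroup G) ≤ Nat.card H * Nat.card U := by
        have hsurj : Function.Surjective (fun z : H × U => (⟨z.2 * z.1,
            mul_mem (mem_sup_left z.2.2) (mem_sup_right z.1.2)⟩ : (U ⊔ H : Subgroup G))) := by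
          rintro ⟨x, hx⟩
          rw [sup_comm] at hx
          obtain ⟨u, hu, a, ha, e⟩ := Solvable.Glauberman.exists_mul_of_mem_sup H U hall.H_norm_U hx
          exact ⟨(⟨a, ha⟩, ⟨u, hu⟩), Subtype.ext e.symm⟩
        calc Nat.card (U ⊔ H : Subgroup G) ≤ Nat.card (H × U) := Nat.card_le_card_of_surjective _ hsurj
          _ = _ := Nat.card_prod _ _
      have hdU : Nat.card U ∣ Nat.card (U ⊔ H : Subgroup G) := Subgroup.card_dvd_of_le le_sup_left
      have hdH : Nat.card H ∣ Nat.card (U ⊔ H : Subgroup G) := Subgroup.card_dvd_of_le le_sup_right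
      have hd : Nat.card H * Nat.card U ∣ Nat.card (U ⊔ H : Subgroup G) :=
        Nat.Coprime.mul_dvd_of_dvd_of_dvd hall.card_cop hdH hdU
      have he : Nat.card (U ⊔ H : Subgroup G) = Nat.card H * Nat.card U :=
        le_antisymm hs (Nat.le_of_dvd Nat.card_pos hd)
      rw [he] at hc
      rw [Nat.eq_of_mul_eq_mul_left Nat.card_pos hc]
    obtain ⟨l, hl⟩ := (IsPGroup.iff_card (p := p)).mp hall.U_pgroup
    rw [hl] at h3
    obtain ⟨r, -, hr⟩ := (Nat.dvd_prime_pow Fact.out).1 h3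
    exact ⟨r + k, by rw [← h2, hr, hk, pow_add]⟩
  obtain ⟨k, hk⟩ := h1
  -- `|M : M ∩ H|` is a power of `p`
  have h2 : H.relIndex M ∣ p ^ k := by
    rw [← hk]
    haveI : (M.subgroupOf B).Normal := by
      constructor
      intro c hc g
      rw [mem_subgroupOf] at hc ⊢
      have := (mem_normalizer_iff.mp (hMn g.2) (c : G)).mp hc
      simpa using this
    have h3 := relIndex_dvd_index (H.subgroupOf B) (M.subgroupOf B)
    rwa [Subgroup.relIndex_subgroupOf hM] at h3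
  have h3 : (R ⊔ (M ⊓ H)).relIndex M ∣ p ^ k := by
    refine dvd_trans ?_ h2
    have := Subgroup.relIndex_dvd_of_le_left M (le_sup_right : M ⊓ H ≤ R ⊔ (M ⊓ H))
    rwa [Subgroup.inf_relIndex_left] at this
  have h4 : (R ⊔ (M ⊓ H)).relIndex M ∣ R.relIndex M := Subgroup.relIndex_dvd_of_le_left M le_sup_left
  rw [← Subgroup.relIndex_eq_one]
  obtain ⟨r, -, hr⟩ := (Nat.dvd_prime_pow Fact.out).1 h3
  rcases Nat.eq_zero_or_pos r with h0 | h0
  · rw [hr, h0, pow_zero]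
  · exact absurd (dvd_trans (hr ▸ dvd_pow_self p h0.ne') h4) hR

/-- **A product with a perfect second factor**: the field `torus`. -/
theorem Pair.sepT_of_perfect [Finite G] {p : ℕ} [Fact p.Prime] {B U H P Q L M : Subgroup G}
    (hall : Hall.HallData p B U H) (D : Pair B P Q L M) (hj : Hall.HallData.PTr B U Q) (hPj : ∃ x ∈ Q, x ∉ B)
    (hreg : ∀ u ∈ U, ∀ g ∈ Q, g ∉ B → g⁻¹ * u * g ∈ B → u ∈ Qk B Q)
    (hperf : U ≤ ⁅M, M⁆ ⊔ Qk B Q) (hsyl : ¬ p ∣ (U ⊔ Qk B Q).relIndex (M ⊓ B)) : SepT B U H P Q := by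
  obtain ⟨n, hn, hnB⟩ := hPj
  have hK : ∀ b ∈ Q, ∀ k ∈ Qk B Q, b * k * b⁻¹ ∈ Qk B Q := fun b hb k hk => Qk_conj' hk hb
  have hKn : Q ≤ normalizer (Qk B Q : Set G) := by
    intro b hb
    rw [mem_normalizer_iff]
    intro k
    refine ⟨hK b hb k, fun h => ?_⟩
    have := hK b⁻¹ (inv_mem hb) _ h
    simpa [mul_assoc] using this
  have hMBn : B ≤ normalizer ((M ⊓ B : Subgroup G) : Set G) := by
    intro b hb
    have key : ∀ b ∈ B, ∀ x ∈ M ⊓ B, b * x * b⁻¹ ∈ M ⊓ B := fun b hb x hx =>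
      mem_inf.2 ⟨(mem_normalizer_iff.mp (D.normM hb) x).mp (mem_inf.1 hx).1,
        mul_mem (mul_mem hb (mem_inf.1 hx).2) (inv_mem hb)⟩
    rw [mem_normalizer_iff]
    intro x
    refine ⟨key b hb x, fun h => ?_⟩
    have := key b⁻¹ (inv_mem hb) _ h
    simpa [mul_assoc] using this
  have hle := le_sup_inf_hall hall (inf_le_right : M ⊓ B ≤ B) hMBn hsyl
  have hA : M ⊓ B ⊓ H = M ⊓ H := by rw [inf_assoc, inf_eq_right.2 hall.H_le]
  rw [hA] at hle
  have hT := Torus.of_perfect (p := p) (P := Q) (K := Qk B Q) (L := M) (A := M ⊓ H) (n := n) D.right (Qk_le B Q) hKn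
    D.M_le hall.U_le hall.U_pgroup hall.U_norm inf_le_left (inf_le_right.trans hall.H_le)
    (Nat.Coprime.coprime_dvd_right (Subgroup.card_dvd_of_le inf_le_right) hall.H_cop)
    (hle.trans (by
      rw [sup_assoc, sup_assoc, sup_comm (M ⊓ H)]))
    (by
      intro x hx hxB
      obtain ⟨u, hu, b, hb, e⟩ := hj n hn hnB x hx hxB
      refine ⟨u, hu, ?_⟩
      have : (u * n)⁻¹ * x = b := by rw [e]; group
      rw [this]; exact hb)
    (fun u hu h => hreg u hu n hn hnB h) hperf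
  exact D.sepT hall.U_le hall.H_le inf_le_left inf_le_right hT.gen

/-- **Products of two rank ones, the second factor perfect**: the fields `poly`, `torus` and `frat` of `Sys`. -/
theorem Pair.fields [Finite G] {p : ℕ} [Fact p.Prime] {B U H L M : Subgroup G} {R : I → Subgroup G} {i j : I}
    (hall : Hall.HallData p B U H) (D : Pair B (R i) (R j) L M) (hne : R i ≠ R j)
    (hi : Hall.HallData.PTr B U (R i)) (hj : Hall.HallData.PTr B U (R j))
    (hPi : ∃ x ∈ R i, x ∉ B) (hPj : ∃ x ∈ R j, x ∉ B)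
    (hreg : ∀ u ∈ U, ∀ g ∈ R j, g ∉ B → g⁻¹ * u * g ∈ B → u ∈ Qk B (R j))
    (hperf : U ≤ ⁅M, M⁆ ⊔ Qk B (R j)) (hsyl : ¬ p ∣ (U ⊔ Qk B (R j)).relIndex (M ⊓ B)) :
    Polygon B R i j 2 ∧ SepT B U H (R i) (R j) ∧
      ∀ T ≤ U, H ≤ normalizer (T : Set G) →
        (∀ u ∈ U, ∃ t ∈ T, t⁻¹ * u ∈ Qk B (R i) ∧ t⁻¹ * u ∈ Qk B (R j)) →
          ∀ u ∈ U, ∃ t ∈ T, t⁻¹ * u ∈ Qk B (R i ⊔ R j) := by
  have hD := D.digon (inf_of_ptr D.left D.right hall.U_le hi hj hPi hPj hne)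
  have hS := D.sepT_of_perfect hall hj hPj hreg hperf hsyl
  exact ⟨hD.polygon hall.U_le hi hj (hS.both hall.H_norm_U) hPi hPj, hS, fun T _ _ h => hD.frat h⟩

/-- If `B = U H`, the condition on the Sylow subgroups in `Pair.fields` holds. -/
theorem not_dvd_relIndex_of_le [Finite G] {p : ℕ} [Fact p.Prime] {B U H R M : Subgroup G}
    (hall : Hall.HallData p B U H) (hB : B ≤ U ⊔ H) (hM : M ≤ B) (hR : U ≤ R) : ¬ p ∣ R.relIndex M := by
  intro h
  have h1 : R.relIndex M ∣ U.relIndex M := Subgroup.relIndex_dvd_of_le_left M hR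
  haveI : (U.subgroupOf B).Normal := by
    constructor
    intro c hc g
    rw [mem_subgroupOf] at hc ⊢
    have := (mem_normalizer_iff.mp (hall.U_norm g.2) (c : G)).mp hc
    simpa using this
  have h2 : U.relIndex M ∣ U.relIndex B := by
    have := Subgroup.relIndex_dvd_index_of_normal (U.subgroupOf B) (M.subgroupOf B)
    rwa [Subgroup.relIndex_subgroupOf hM] at this
  have h3 : ¬ p ∣ U.relIndex B := by
    intro h4
    obtain ⟨x, hx⟩ := exists_prime_orderOf_dvd_card' (G := B ⧸ U.subgroupOf B) p h4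
    obtain ⟨b, rfl⟩ := QuotientGroup.mk'_surjective (U.subgroupOf B) x
    have h5 : (b : G) ^ (Nat.card H) ∈ U := hall.pow_card_mem (hB b.2)
    have h6 : (QuotientGroup.mk' (U.subgroupOf B) b) ^ (Nat.card H) = 1 := by
      rw [← map_pow, QuotientGroup.mk'_apply, QuotientGroup.eq_one_iff, mem_subgroupOf]
      simpa using h5
    have h7 := orderOf_dvd_of_pow_eq_one h6
    rw [hx] at h7
    have h8 := Nat.Coprime.eq_one_of_dvd hall.H_cop h7
    exact (Fact.out : p.Prime).one_lt.ne' h8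
  exact h3 (dvd_trans h (dvd_trans h1 h2))

end Cfsg.Agent.ParSys
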