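import Cfsg.Agent.ParSys.Central

/-!
# Central extensions of the groups of Lie type of rank two: generation of the Borel subgroup

`CExt.gen : ψ x ∈ Q.B → x ∈ ⟨Es ∩ ψ⁻¹(B), Et ∩ ψ⁻¹(B)⟩`.
-/

set_option autoImplicit false

namespace Cfsg.Agent.ParSys

open Subgroup
open Cfsg.Agent.LieExceptional.BNPairCore

variable {M F : Type*} [Group M] [Group F]

local notation "altF" => LieRecognition.FeitHigmanGroup.alt

namespace CExt

variable {ψ : M →* F} {U Es Et : Subgroup M} {Q : Cfsg.BNPair F} {UF : Subgroup F} {s t : F}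

/-- the two reflections -/
def rr (s t : F) (a : Bool) : F := cond a s t

/-- the two panels -/
def PP (ψ : M →* F) (Es Et : Subgroup M) (Q : Cfsg.BNPair F) (a : Bool) : Subgroup M :=
  B2 ψ Es Et Q ⊔ cond a Es Et

/-- the torus -/
def TT (ψ : M →* F) (Es Et : Subgroup M) (Q : Cfsg.BNPair F) : Subgroup M := B2 ψ Es Et Q ⊓ Q.N.comap ψ

theorem mem_TT {x : M} : x ∈ TT ψ Es Et Q ↔ x ∈ B2 ψ Es Et Q ∧ ψ x ∈ Q.N := Iff.rfl

/-- Representatives of the reflections. -/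
structure Ref (C : CExt ψ U Es Et Q UF s t) (n : Bool → M) : Prop where
  mem : ∀ a, n a ∈ (cond a Es Et : Subgroup M)
  im : ∀ a, ∃ h ∈ Q.B ⊓ Q.N, ψ (n a) = rr s t a * h

theorem exists_ref (C : CExt ψ U Es Et Q UF s t) : ∃ n : Bool → M, Ref C n := by
  obtain ⟨x, hx, h1⟩ := C.exists_ns
  obtain ⟨y, hy, h2⟩ := C.symm.exists_ns
  refine ⟨fun a => cond a x y, ⟨?_, ?_⟩⟩
  · intro a; cases a
    · exact hy
    · exact hx
  · intro a; cases a
    · exact h2
    · exact h1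

variable (C : CExt ψ U Es Et Q UF s t)

include C

theorem hr (a : Bool) : rr s t a ∈ Q.S := by
  cases a
  · exact C.K.ht
  · exact C.K.hs

theorem inf_PP (a : Bool) {x : M} (hx : x ∈ PP ψ Es Et Q a) (hB : ψ x ∈ Q.B) : x ∈ B2 ψ Es Et Q := by
  cases a
  · have h1 : x ∈ B2 ψ Et Es Q ⊔ Et := by rw [B2_comm]; exact hx
    have := C.symm.inf_Ps h1 hB
    rwa [B2_comm] at this
  · exact C.inf_Ps hx hB

theorem im_PP (a : Bool) {x : M} (hx : x ∈ PP ψ Es Et Q a) : ψ x ∈ Q.parabolic {rr s t a} := by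
  cases a
  · have h1 : x ∈ B2 ψ Et Es Q ⊔ Et := by rw [B2_comm]; exact hx
    exact C.symm.im_Ps h1
  · exact C.im_Ps hx

omit C in
theorem B2_le_PP (a : Bool) : B2 ψ Es Et Q ≤ PP ψ Es Et Q a := le_sup_left

variable {C} {n : Bool → M} (R : Ref C n)

include R

theorem n_mem (a : Bool) : n a ∈ PP ψ Es Et Q a := (le_sup_right : cond a Es Et ≤ _) (R.mem a)

theorem n_not (a : Bool) : ψ (n a) ∉ Q.B := by
  obtain ⟨h, hh, h1⟩ := R.im a
  rw [h1]
  intro h2
  apply not_mem_B (hr C a)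
  have := mul_mem h2 (inv_mem (mem_inf.1 hh).1)
  rwa [mul_inv_cancel_right] at this

theorem n_N (a : Bool) : ψ (n a) ∈ Q.N := by
  obtain ⟨h, hh, h1⟩ := R.im a
  rw [h1]
  exact mul_mem (mem_N (hr C a)) (mem_inf.1 hh).2

theorem conj_TT (a : Bool) {x : M} (hx : x ∈ TT ψ Es Et Q) : n a * x * (n a)⁻¹ ∈ TT ψ Es Et Q := by
  rw [mem_TT] at hx ⊢
  have h1 := n_mem R a
  have h2 := B2_le ψ Es Et Q hx.1
  rw [Subgroup.mem_comap] at h2
  have h3 := n_N R a
  have h4 : ψ (n a * x * (n a)⁻¹) = ψ (n a) * ψ x * (ψ (n a))⁻¹ := by rw [map_mul, map_mul, map_inv]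
  refine ⟨inf_PP C a (mul_mem (mul_mem h1 (B2_le_PP a hx.1)) (inv_mem h1)) ?_, ?_⟩
  · rw [h4]; exact conj_mem' h3 h2 hx.2
  · rw [h4]; exact mul_mem (mul_mem h3 hx.2) (inv_mem h3)

theorem conj_TT' (a : Bool) {x : M} (hx : x ∈ TT ψ Es Et Q) : (n a)⁻¹ * x * n a ∈ TT ψ Es Et Q := by
  rw [mem_TT] at hx ⊢
  have h1 := n_mem R a
  have h2 := B2_le ψ Es Et Q hx.1
  rw [Subgroup.mem_comap] at h2
  have h3 := n_N R a
  have h4 : ψ ((n a)⁻¹ * x * n a) = (ψ (n a))⁻¹ * ψ x * ψ (n a) := by rw [map_mul, map_mul, map_inv]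
  refine ⟨inf_PP C a (mul_mem (mul_mem (inv_mem h1) (B2_le_PP a hx.1)) h1) ?_, ?_⟩
  · rw [h4]; exact conj_mem_inv h3 h2 hx.2
  · rw [h4]; exact mul_mem (mul_mem (inv_mem h3) hx.2) h3

theorem sq_TT (a : Bool) : n a * n a ∈ TT ψ Es Et Q := by
  rw [mem_TT]
  have h1 := n_mem R a
  have h3 := n_N R a
  refine ⟨inf_PP C a (mul_mem h1 h1) ?_, by rw [map_mul]; exact mul_mem h3 h3⟩
  obtain ⟨h, hh, h4⟩ := R.im a
  have h5 := conj_mem_inv (mem_N (hr C a)) (mem_inf.1 hh).1 (mem_inf.1 hh).2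
  have e : ψ (n a * n a) = rr s t a * rr s t a * ((rr s t a)⁻¹ * h * rr s t a) * h := by
    rw [map_mul, h4]; group
  rw [e]
  exact mul_mem (mul_mem (Q.sq_mem _ (hr C a)) h5) (mem_inf.1 hh).1

theorem conj_nw_TT (f : List Bool) {x : M} (hx : x ∈ TT ψ Es Et Q) : (nw n f)⁻¹ * x * nw n f ∈ TT ψ Es Et Q := by
  induction f generalizing x with
  | nil => simpa using hx
  | cons i f ih =>
    have h2 := ih (conj_TT' R i hx)
    have e : (nw n (i :: f))⁻¹ * x * nw n (i :: f) = (nw n f)⁻¹ * ((n i)⁻¹ * x * n i) * nw n f := by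
      rw [nw_cons]; group
    rw [e]; exact h2

/-- the image of an alternating word -/
theorem im_nw (k : ℕ) (a : Bool) : ∃ τ ∈ Q.B ⊓ Q.N,
    ψ (nw n (alt a (!a) k)) = altF k (rr s t a) (rr s t (!a)) * τ := by
  induction k generalizing a with
  | zero => exact ⟨1, one_mem _, by rw [alt_zero, nw_nil, map_one, mul_one]; rfl⟩
  | succ k ih =>
    obtain ⟨τ, hτ, h1⟩ := ih (!a)
    rw [Bool.not_not] at h1
    obtain ⟨h, hh, h2⟩ := R.im a
    have hN := LieRecognition.FeitHigmanGroup.alt_mem_N (hr C (!a)) (hr C a) k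
    refine ⟨(altF k (rr s t (!a)) (rr s t a))⁻¹ * h * altF k (rr s t (!a)) (rr s t a) * τ, ?_, ?_⟩
    · refine mul_mem (mem_inf.2 ⟨conj_mem_inv hN (mem_inf.1 hh).1 (mem_inf.1 hh).2,
        mul_mem (mul_mem (inv_mem hN) (mem_inf.1 hh).2) hN⟩) hτ
    · rw [alt_cons, nw_cons, map_mul, h1, h2, LieRecognition.FeitHigmanGroup.alt_succ]
      group

/-- **The braid relation holds in `M`.** -/
theorem braid {m : ℕ} (hm : 1 ≤ m) (a : Bool)
    (hbr : (altF m (rr s t a) (rr s t (!a)))⁻¹ * altF m (rr s t (!a)) (rr s t a) ∈ Q.B) :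
    (nw n (alt a (!a) m))⁻¹ * nw n (alt (!a) a m) ∈ TT ψ Es Et Q := by
  obtain ⟨m, rfl⟩ : ∃ m', m = m' + 1 := ⟨m - 1, by omega⟩
  obtain ⟨τ, hτ, h1⟩ := im_nw R (m + 1) a
  obtain ⟨τ', hτ', h2⟩ := im_nw R (m + 1) (!a)
  rw [Bool.not_not] at h2
  have hNa := LieRecognition.FeitHigmanGroup.alt_mem_N (hr C a) (hr C (!a)) (m + 1)
  have hNb := LieRecognition.FeitHigmanGroup.alt_mem_N (hr C (!a)) (hr C a) (m + 1)
  have h3 : ψ ((nw n (alt a (!a) (m + 1)))⁻¹ * nw n (alt (!a) a (m + 1))) ∈ Q.B ⊓ Q.N := by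
    rw [map_mul, map_inv, h1, h2]
    have e : (altF (m + 1) (rr s t a) (rr s t (!a)) * τ)⁻¹ * (altF (m + 1) (rr s t (!a)) (rr s t a) * τ') =
      τ⁻¹ * ((altF (m + 1) (rr s t a) (rr s t (!a)))⁻¹ * altF (m + 1) (rr s t (!a)) (rr s t a)) * τ' := by group
    rw [e]
    exact mul_mem (mul_mem (inv_mem hτ) (mem_inf.2 ⟨hbr, mul_mem (inv_mem hNa) hNb⟩)) hτ'
  obtain ⟨b, hb, h4⟩ := C.exists_B2 (mem_inf.1 h3).1
  have hbT : b ∈ TT ψ Es Et Q := ⟨hb, by show ψ b ∈ Q.N; rw [h4]; exact (mem_inf.1 h3).2⟩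
  set z := b⁻¹ * ((nw n (alt a (!a) (m + 1)))⁻¹ * nw n (alt (!a) a (m + 1))) with hz
  have hz1 : ψ z = 1 := by rw [hz, map_mul, map_inv, h4, inv_mul_cancel]
  have hzc := C.central z hz1
  suffices h : z ∈ TT ψ Es Et Q by
    have := mul_mem hbT h
    rwa [hz, mul_inv_cancel_left] at this
  -- `w n_y = n_a w b z`
  set w := nw n (alt (!a) a m) with hw
  set y := nxt (!a) a m with hy
  have e1 : nw n (alt a (!a) (m + 1)) = n a * w := by rw [alt_cons, nw_cons]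
  have e2 : nw n (alt (!a) a (m + 1)) = w * n y := by
    rw [alt_snoc, nw_append]; simp [hw, hy]
  have e3 : w * n y = n a * w * b * z := by
    rw [hz, e1, e2]; group
  have e4 : w⁻¹ * n a * w = n y * z⁻¹ * b⁻¹ := by
    have : n a * w * b * z * z⁻¹ * b⁻¹ = w * n y * z⁻¹ * b⁻¹ := by rw [e3]
    calc w⁻¹ * n a * w = w⁻¹ * (n a * w * b * z * z⁻¹ * b⁻¹) := by group
      _ = _ := by rw [this]; group
  have hzc' : ∀ x, z⁻¹ * x = x * z⁻¹ := fun x => by
    have := hzc x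
    rw [inv_mul_eq_iff_eq_mul, ← mul_assoc, this, mul_inv_cancel_right]
  have e5 : w⁻¹ * (n a * n a) * w = (n y * b⁻¹ * (n y)⁻¹) * (n y * n y) * b⁻¹ * (z ^ 2)⁻¹ := by
    have h6 : w⁻¹ * (n a * n a) * w = (w⁻¹ * n a * w) * (w⁻¹ * n a * w) := by group
    rw [h6, e4]
    calc n y * z⁻¹ * b⁻¹ * (n y * z⁻¹ * b⁻¹) = n y * (z⁻¹ * b⁻¹) * n y * (z⁻¹ * b⁻¹) := by group
      _ = n y * (b⁻¹ * z⁻¹) * n y * (b⁻¹ * z⁻¹) := by rw [hzc' b⁻¹]
      _ = n y * b⁻¹ * (z⁻¹ * (n y * b⁻¹)) * z⁻¹ := by group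
      _ = n y * b⁻¹ * (n y * b⁻¹ * z⁻¹) * z⁻¹ := by rw [hzc' (n y * b⁻¹)]
      _ = _ := by group
  have h7 : w⁻¹ * (n a * n a) * w ∈ TT ψ Es Et Q := conj_nw_TT R _ (sq_TT R a)
  have h8 : (n y * b⁻¹ * (n y)⁻¹) * (n y * n y) * b⁻¹ ∈ TT ψ Es Et Q :=
    mul_mem (mul_mem (conj_TT R y (inv_mem hbT)) (sq_TT R y)) (inv_mem hbT)
  have h9 : z ^ 2 ∈ TT ψ Es Et Q := by
    have := mul_mem (inv_mem h7) h8
    rw [e5] at this
    have e6 : ((n y * b⁻¹ * (n y)⁻¹) * (n y * n y) * b⁻¹ * (z ^ 2)⁻¹)⁻¹ *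
        ((n y * b⁻¹ * (n y)⁻¹) * (n y * n y) * b⁻¹) = z ^ 2 := by group
    rwa [e6] at this
  obtain ⟨k, hk, h10⟩ := C.cop z hz1
  exact Hall.mem_of_pow_mem_of_coprime (a := 2) (b := k) h9 (by rw [h10]; exact one_mem _) hk

/-- lifting of the equality of galleries -/
theorem lift_ag (f : List Bool) : ∀ (u v : M) (l : List M), u⁻¹ * v ∈ B2 ψ Es Et Q →
    GalE (B2 ψ Es Et Q) (PP ψ Es Et Q) f l → Ag Q.B (fun a => ψ (n a)) (ψ u) (ψ v) f (l.map ψ) →
    Ag (B2 ψ Es Et Q) n u v f l := by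
  induction f with
  | nil => intro u v l h _ _; exact h
  | cons i f ih =>
    intro u v l h hl hA
    cases l with
    | nil => exact hl.elim
    | cons x l =>
      refine ⟨h, ih (u * n i) (v * x) l ?_ hl.2 ?_⟩
      · have h1 : (u * n i)⁻¹ * (v * x) = (n i)⁻¹ * (u⁻¹ * v) * x := by group
        rw [h1]
        refine inf_PP C i (mul_mem (mul_mem (inv_mem (n_mem R i)) (B2_le_PP i h)) hl.1.1) ?_
        have h2 : Ag Q.B (fun a => ψ (n a)) (ψ u * ψ (n i)) (ψ v * ψ x) f (l.map ψ) := hA.2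
        have h3 : (ψ u * ψ (n i))⁻¹ * (ψ v * ψ x) ∈ Q.B := by
          cases f with
          | nil => exact h2
          | cons j f =>
            cases l with
            | nil => exact h2.elim
            | cons y l => exact h2.1
        have e : ψ ((n i)⁻¹ * (u⁻¹ * v) * x) = (ψ u * ψ (n i))⁻¹ * (ψ v * ψ x) := by
          simp only [map_mul, map_inv]; group
        rw [e]; exact h3
      · rw [map_mul, map_mul]; exact hA.2

omit R in
theorem galE_map (f : List Bool) : ∀ l : List M, GalE (B2 ψ Es Et Q) (PP ψ Es Et Q) f l →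
    GalE Q.B (fun a => Q.parabolic {rr s t a}) f (l.map ψ) := by
  induction f with
  | nil =>
    intro l hl
    cases l with
    | nil => trivial
    | cons x l => exact hl.elim
  | cons i f ih =>
    intro l hl
    cases l with
    | nil => exact hl.elim
    | cons x l =>
      exact ⟨⟨im_PP C i hl.1.1, fun h => hl.1.2 (inf_PP C i hl.1.1 h)⟩, ih l hl.2⟩

/-- `U` is transitive on the galleries of alternating type -/
theorem tr_alt {m : ℕ} (a : Bool) (hred : LieRecognition.FeitHigmanGroup.Red Q (rr s t a) (rr s t (!a)) m)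
    {l : List M} (hl : GalE (B2 ψ Es Et Q) (PP ψ Es Et Q) (alt a (!a) m) l) :
    ∃ u ∈ U, Ag (B2 ψ Es Et Q) n u 1 (alt a (!a) m) l := by
  have h1 : GalE Q.B (fun a => Q.parabolic {rr s t a}) (alt a (!a) m) ((alt a (!a) m).map fun a => ψ (n a)) :=
    galE_std (fun a => im_PP C a (n_mem R a)) (fun a => n_not R a) _
  obtain ⟨y, hy, h2⟩ := gal_trans (P := fun a => Q.parabolic {rr s t a}) (hr C a) (hr C (!a)) rfl rfl hred h1
    (galE_map (C := C) _ l hl)
  obtain ⟨v, hv, τ, hτ, rfl⟩ := C.K.split.cover' hy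
  have h3 := ag_mul_right (H := Q.B ⊓ Q.N) inf_le_left (fun i h hh => mem_inf.2
    ⟨conj_mem_inv (n_N R i) (mem_inf.1 hh).1 (mem_inf.1 hh).2,
      mul_mem (mul_mem (inv_mem (n_N R i)) (mem_inf.1 hh).2) (n_N R i)⟩) hτ (ag_of_same h2)
  obtain ⟨u, hu, rfl⟩ := (C.img _).1 hv
  refine ⟨u, hu, lift_ag R _ u 1 l ?_ hl (by rw [map_one]; exact h3)⟩
  rw [mul_one]
  exact inv_mem (C.U_le_B2 hu)

/-- the cells of length `≤ m` -/
def InX (_ : Ref C n) (m : ℕ) (x : M) : Prop :=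
  ∃ (a : Bool) (k : ℕ), k ≤ m ∧ ∃ b ∈ B2 ψ Es Et Q, ∃ b' ∈ B2 ψ Es Et Q, x = b * nw n (alt a (!a) k) * b'

/-- one step further -/
theorem step {m k : ℕ} (a : Bool) (hk : k + 1 ≤ m)
    (hred : ∀ a, LieRecognition.FeitHigmanGroup.Red Q (rr s t a) (rr s t (!a)) m) {p : M}
    (hp : p ∈ PP ψ Es Et Q (nxt a (!a) k)) (hpB : p ∉ B2 ψ Es Et Q) :
    ∃ u ∈ U, (u * nw n (alt a (!a) (k + 1)))⁻¹ * (nw n (alt a (!a) k) * p) ∈ B2 ψ Es Et Q := by
  have hn : ∀ a, n a ∈ PP ψ Es Et Q a := n_mem R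
  have hnB : ∀ a, n a ∉ B2 ψ Es Et Q := fun a h => n_not R a (B2_le ψ Es Et Q h)
  have hg : GalE (B2 ψ Es Et Q) (PP ψ Es Et Q) (alt a (!a) (k + 1)) ((alt a (!a) k).map n ++ [p]) := by
    rw [alt_snoc]
    exact galE_append (galE_std hn hnB _) ⟨⟨hp, hpB⟩, trivial⟩
  obtain ⟨u, hu, h1⟩ := tr_alt R a ((hred a).of_le (hr C a) (hr C (!a)) hk) hg
  refine ⟨u, hu, ?_⟩
  have h2 := Ag_end hg h1
  rwa [List.prod_append, prod_map, List.prod_singleton, one_mul] at h2

theorem last {m k : ℕ} (a : Bool) (hk : k + 1 ≤ m)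
    (hred : ∀ a, LieRecognition.FeitHigmanGroup.Red Q (rr s t a) (rr s t (!a)) m) {p : M}
    (hp : p ∈ PP ψ Es Et Q (nxt a (!a) k)) : InX R m (nw n (alt a (!a) (k + 1)) * p) := by
  have hsn : nw n (alt a (!a) (k + 1)) = nw n (alt a (!a) k) * n (nxt a (!a) k) := by
    rw [alt_snoc, nw_append]; simp
  have hp' : n (nxt a (!a) k) * p ∈ PP ψ Es Et Q (nxt a (!a) k) := mul_mem (n_mem R _) hp
  by_cases h : n (nxt a (!a) k) * p ∈ B2 ψ Es Et Q
  · exact ⟨a, k, by omega, 1, one_mem _, _, h, by rw [hsn]; group⟩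
  · obtain ⟨u, hu, h1⟩ := step R a hk hred hp' h
    refine ⟨a, k + 1, hk, u, C.U_le_B2 hu, _, h1, ?_⟩
    rw [hsn]; group

theorem closed {m : ℕ} (hm : 1 ≤ m)
    (hred : ∀ a, LieRecognition.FeitHigmanGroup.Red Q (rr s t a) (rr s t (!a)) m)
    (hbr : ∀ a, (altF m (rr s t a) (rr s t (!a)))⁻¹ * altF m (rr s t (!a)) (rr s t a) ∈ Q.B) {x p : M}
    (hx : InX R m x) (i : Bool) (hp : p ∈ PP ψ Es Et Q i) : InX R m (x * p) := by
  obtain ⟨a, k, hk, b, hb, b', hb', rfl⟩ := hx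
  have hp' : b' * p ∈ PP ψ Es Et Q i := mul_mem (B2_le_PP i hb') hp
  -- left multiplication by `b` is harmless
  have hleft : ∀ y, InX R m y → InX R m (b * y) := by
    rintro y ⟨a, k, hk, c, hc, c', hc', rfl⟩
    exact ⟨a, k, hk, b * c, mul_mem hb hc, c', hc', by group⟩
  have e : b * nw n (alt a (!a) k) * b' * p = b * (nw n (alt a (!a) k) * (b' * p)) := by group
  rw [e]
  apply hleft
  clear e
  set p' := b' * p with hpp
  clear_value p'
  -- the case of the last letter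
  have hlast : ∀ (a : Bool) (k : ℕ), k + 1 ≤ m → i = nxt a (!a) k → InX R m (nw n (alt a (!a) (k + 1)) * p') :=
    fun a k hk hi => last R a hk hred (by rw [← hi]; exact hp')
  by_cases hB : p' ∈ B2 ψ Es Et Q
  · exact ⟨a, k, hk, 1, one_mem _, p', hB, by group⟩
  -- the next letter
  have hnext : ∀ (a : Bool) (k : ℕ), k + 1 ≤ m → i = nxt a (!a) k → InX R m (nw n (alt a (!a) k) * p') := by
    intro a k hk hi
    obtain ⟨u, hu, h1⟩ := step R a hk hred (by rw [← hi]; exact hp') hB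
    exact ⟨a, k + 1, hk, u, C.U_le_B2 hu, _, h1, by group⟩
  rcases Nat.eq_zero_or_pos k with rfl | hk0
  · have := hnext i 0 hm rfl
    simpa using this
  obtain ⟨k, rfl⟩ : ∃ k', k = k' + 1 := ⟨k - 1, by omega⟩
  -- `i` is the last letter or the next letter
  have hcases : i = nxt a (!a) k ∨ i = nxt a (!a) (k + 1) := by
    have h1 : ∀ (k : ℕ) (a : Bool), nxt a (!a) (k + 1) = !(nxt a (!a) k) := by
      intro k
      induction k with
      | zero => intro a; rfl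
      | succ k ih =>
        intro a
        show nxt (!a) a (k + 1) = !(nxt (!a) a k)
        have := ih (!a)
        rwa [Bool.not_not] at this
    rw [h1]
    cases i <;> cases nxt a (!a) k <;> simp
  rcases hcases with h1 | h1
  · exact hlast a k hk h1
  rcases Nat.lt_or_ge (k + 1) m with h2 | h2
  · exact hnext a (k + 1) h2 h1
  · -- the longest element: use the braid relation
    obtain rfl : m = k + 1 := by omega
    have h3 := braid R hm (!a) (by rw [Bool.not_not]; exact hbr (!a) |> fun h => by rwa [Bool.not_not] at h)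
    rw [Bool.not_not] at h3
    -- `nw (alt a !a) = nw (alt !a a) * τ`
    have h4 : nw n (alt a (!a) (k + 1)) * p' = nw n (alt (!a) a (k + 1)) *
        ((nw n (alt (!a) a (k + 1)))⁻¹ * nw n (alt a (!a) (k + 1)) * p') := by group
    rw [h4]
    have hi : i = nxt (!a) (!(!a)) k := by
      rw [Bool.not_not]; exact h1
    have h5 := last R (!a) hk hred (p := (nw n (alt (!a) a (k + 1)))⁻¹ * nw n (alt a (!a) (k + 1)) * p')
      (by rw [← hi]; exact mul_mem (B2_le_PP i h3.1) hp')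
    rwa [Bool.not_not] at h5

end CExt

namespace CExt

variable {ψ : M →* F} {U Es Et : Subgroup M} {Q : Cfsg.BNPair F} {UF : Subgroup F} {s t : F}
  (C : CExt ψ U Es Et Q UF s t)

include C

/-- The kernel lies in the group generated by the local Borel subgroups. -/
theorem ker_le [Finite F] {z : M} (hz : ψ z = 1) : z ∈ B2 ψ Es Et Q := by
  obtain ⟨n, R⟩ := exists_ref C
  obtain ⟨m, hm2, hred, hbr, -⟩ := LieRecognition.FeitHigmanGroup.exists_max_red C.K.S C.K.ne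
  have hredr : ∀ a, LieRecognition.FeitHigmanGroup.Red Q (rr s t a) (rr s t (!a)) m := by
    intro a; cases a
    · exact ⟨hred.2, hred.1⟩
    · exact hred
  have hbrr : ∀ a, (altF m (rr s t a) (rr s t (!a)))⁻¹ * altF m (rr s t (!a)) (rr s t a) ∈ Q.B := by
    intro a; cases a
    · exact rel_symm hbr
    · exact hbr
  -- `M` is generated by the `PP a`
  have hall : ∀ x : M, InX R m x := by
    intro x
    have hx : x ∈ closure ((PP ψ Es Et Q true : Set M) ∪ PP ψ Es Et Q false) := by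
      have h1 : (⊤ : Subgroup M) ≤ closure ((PP ψ Es Et Q true : Set M) ∪ PP ψ Es Et Q false) := by
        rw [← C.top]
        apply sup_le
        · intro y hy
          exact subset_closure (Or.inl ((le_sup_right : Es ≤ _) hy))
        · intro y hy
          exact subset_closure (Or.inr ((le_sup_right : Et ≤ _) hy))
      exact h1 trivial
    induction hx using Subgroup.closure_induction_right with
    | one => exact ⟨true, 0, by omega, 1, one_mem _, 1, one_mem _, by simp⟩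
    | mul_right x hx y hy ih =>
      rcases hy with hy | hy
      · exact closed R (by omega) hredr hbrr ih true hy
      · exact closed R (by omega) hredr hbrr ih false hy
    | mul_inv_cancel x hx y hy ih =>
      rcases hy with hy | hy
      · exact closed R (by omega) hredr hbrr ih true (inv_mem hy)
      · exact closed R (by omega) hredr hbrr ih false (inv_mem hy)
  obtain ⟨a, k, hk, b, hb, b', hb', h1⟩ := hall z
  obtain ⟨τ, hτ, h2⟩ := im_nw R k a
  have h3 : altF k (rr s t a) (rr s t (!a)) ∈ Q.B := by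
    have h4 := congrArg ψ h1
    rw [hz, map_mul, map_mul, h2] at h4
    have hb1 := B2_le ψ Es Et Q hb
    have hb1' := B2_le ψ Es Et Q hb'
    rw [Subgroup.mem_comap] at hb1 hb1'
    have h5 : altF k (rr s t a) (rr s t (!a)) = (ψ b)⁻¹ * (ψ b')⁻¹ * τ⁻¹ := by
      have h6 : altF k (rr s t a) (rr s t (!a)) =
        (ψ b)⁻¹ * (ψ b * (altF k (rr s t a) (rr s t (!a)) * τ) * ψ b') * (ψ b')⁻¹ * τ⁻¹ := by group
      rw [h6, ← h4]; group
    rw [h5]
    exact mul_mem (mul_mem (inv_mem hb1) (inv_mem hb1')) (inv_mem (mem_inf.1 hτ).1)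
  have hN := LieRecognition.FeitHigmanGroup.alt_mem_N (hr C a) (hr C (!a)) k
  have h4 := (len_eq_zero_iff hN).2 h3
  rw [((hredr a).of_le (hr C a) (hr C (!a)) hk).1] at h4
  subst h4
  rw [h1, alt_zero, nw_nil, mul_one]
  exact mul_mem hb hb'

/-- **`ψ⁻¹(Q.B)` is generated by the local Borel subgroups.** -/
theorem gen [Finite F] {x : M} (hx : ψ x ∈ Q.B) : x ∈ B2 ψ Es Et Q := by
  obtain ⟨b, hb, h1⟩ := C.exists_B2 hx
  have h2 : ψ (b⁻¹ * x) = 1 := by rw [map_mul, map_inv, h1, inv_mul_cancel]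
  have := mul_mem hb (C.ker_le h2)
  rwa [mul_inv_cancel_left] at this

end CExt

end Cfsg.Agent.ParSys
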