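import Cfsg.Agent.ParSys.ResOut
import Cfsg.Agent.ParSys.CentralGen

/-!
# Generation of the Borel subgroup of a residue of rank two, modulo a normal 2-subgroup

`DExt`: `ψ : M → F` is surjective, `D ≤ U` is a normal 2-subgroup of `M`, `Ker ψ / D` is central in `M / D` and of odd
order, `M = ⟨Es, Et⟩`, `Es`, `Et` are generated by conjugates of `U`, `ψ(U) = V` is a Sylow 2-subgroup, `ψ(Es) ≤ As`, `ψ(Et) ≤ At`
(two different parabolic subgroups over `N(V)`).

* `DExt.gen`: `ψ x ∈ N(V)` implies `x ∈ ⟨N_{Es}(U), N_{Et}(U)⟩`.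
-/

set_option autoImplicit false

namespace Cfsg.Agent.ParSys

open Subgroup
open Cfsg.Agent.LieExceptional.BNPairCore

variable {M F : Type*} [Group M] [Group F]

/-- overgroups of `Q.B` in rank two -/
theorem parabolic_of_pair [Finite F] {p : ℕ} [Fact p.Prime] {Q : Cfsg.BNPair F} {s t : F} (hS : Q.S = {s, t})
    {As At : Subgroup F} (h1 : Q.B ≤ As) (h2 : Q.B ≤ At) (h3 : As ⊓ At ≤ Q.B) (h4 : ¬ As ≤ Q.B) (h5 : ¬ At ≤ Q.B) :
    (As = Q.parabolic {s} ∧ At = Q.parabolic {t}) ∨ (As = Q.parabolic {t} ∧ At = Q.parabolic {s}) := by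
  have hs : s ∈ Q.S := by rw [hS]; simp
  have ht : t ∈ Q.S := by rw [hS]; simp
  have hex : ∀ A : Subgroup F, Q.B ≤ A → ¬ A ≤ Q.B → s ∈ A ∨ t ∈ A := by
    intro A hA hA'
    by_contra hcon
    push Not at hcon
    apply hA'
    have e1 := eq_parabolic hA
    have e2 : Q.S ∩ (A : Set F) = ∅ := by
      rw [hS]
      ext x
      simp only [Set.mem_inter_iff, Set.mem_insert_iff, Set.mem_singleton_iff, SetLike.mem_coe,
        Set.mem_empty_iff_false, iff_false, not_and]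
      rintro (rfl | rfl)
      · exact hcon.1
      · exact hcon.2
    rw [e2, Cfsg.Agent.Schreier.BNSch.parabolic_empty] at e1
    exact le_of_eq e1
  have hboth : ∀ r ∈ Q.S, ¬ (r ∈ As ∧ r ∈ At) := fun r hr h => Cfsg.Agent.Schreier.BNSch.not_mem_B Q hr (h3 h)
  have hone : ∀ (A : Subgroup F) (r r' : F), Q.S = {r, r'} → Q.B ≤ A → r ∈ A → r' ∉ A → A = Q.parabolic {r} := by
    intro A r r' hrr hA hr hr'
    rw [eq_parabolic hA]
    congr 1
    rw [hrr]
    ext x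
    simp only [Set.mem_inter_iff, Set.mem_insert_iff, Set.mem_singleton_iff, SetLike.mem_coe]
    constructor
    · rintro ⟨rfl | rfl, hx⟩
      · rfl
      · exact absurd hx hr'
    · rintro rfl
      exact ⟨Or.inl rfl, hr⟩
  have hS' : Q.S = {t, s} := by rw [hS, Set.pair_comm]
  rcases hex As h1 h4 with a | a <;> rcases hex At h2 h5 with b | b
  · exact absurd ⟨a, b⟩ (hboth s hs)
  · exact Or.inl ⟨hone As s t hS h1 a (fun h => hboth t ht ⟨h, b⟩), hone At t s hS' h2 b (fun h => hboth s hs ⟨a, h⟩)⟩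
  · exact Or.inr ⟨hone As t s hS' h1 a (fun h => hboth s hs ⟨h, b⟩), hone At s t hS h2 b (fun h => hboth t ht ⟨a, h⟩)⟩
  · exact absurd ⟨a, b⟩ (hboth t ht)

/-- An extension of a group of Lie type of rank two, modulo a normal 2-subgroup a central extension of odd order. -/
structure DExt (ψ : M →* F) (D U Es Et : Subgroup M) (V As At : Subgroup F) : Prop where
  surj : Function.Surjective ψ
  top : Es ⊔ Et = ⊤
  Us : U ≤ Es
  Ut : U ≤ Et
  isP : IsPGroup 2 U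
  nD : D.Normal
  DU : D ≤ U
  Dker : ∀ d ∈ D, ψ d = 1
  central : ∀ z, ψ z = 1 → ∀ x, z * x * z⁻¹ * x⁻¹ ∈ D
  cop : ∀ z, ψ z = 1 → ∃ k : ℕ, Nat.Coprime 2 k ∧ z ^ k ∈ D
  img : ∀ e, e ∈ V ↔ ∃ u ∈ U, ψ u = e
  gens : ∀ N : Subgroup M, (∀ e ∈ Es, ∀ u ∈ U, e * u * e⁻¹ ∈ N) → Es ≤ N
  gent : ∀ N : Subgroup M, (∀ e ∈ Et, ∀ u ∈ U, e * u * e⁻¹ ∈ N) → Et ≤ N
  ims : ∀ e ∈ Es, ψ e ∈ As
  imt : ∀ e ∈ Et, ψ e ∈ At
  nAs : normalizer (V : Set F) ≤ As
  nAt : normalizer (V : Set F) ≤ At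
  inf : As ⊓ At ≤ normalizer (V : Set F)
  nots : ∃ e ∈ Es, ψ e ∉ normalizer (V : Set F)
  nott : ∃ e ∈ Et, ψ e ∉ normalizer (V : Set F)

/-- the case `V = UE`, `As = P_s`, `At = P_t` -/
theorem gen_aux [Finite F] {ψ : M →* F} {D U Es Et : Subgroup M} {Q : Cfsg.BNPair F} {UE : Subgroup F} {s t : F}
    (K : KPair 2 Q UE s t) (surj : Function.Surjective ψ)
    (top : Es ⊔ Et = ⊤) (Us : U ≤ Es) (Ut : U ≤ Et) (isP : IsPGroup 2 U) (nD : D.Normal) (DU : D ≤ U)
    (Dker : ∀ d ∈ D, ψ d = 1) (central : ∀ z, ψ z = 1 → ∀ x, z * x * z⁻¹ * x⁻¹ ∈ D)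
    (cop : ∀ z, ψ z = 1 → ∃ k : ℕ, Nat.Coprime 2 k ∧ z ^ k ∈ D)
    (img : ∀ e, e ∈ UE ↔ ∃ u ∈ U, ψ u = e)
    (gens : ∀ N : Subgroup M, (∀ e ∈ Es, ∀ u ∈ U, e * u * e⁻¹ ∈ N) → Es ≤ N)
    (gent : ∀ N : Subgroup M, (∀ e ∈ Et, ∀ u ∈ U, e * u * e⁻¹ ∈ N) → Et ≤ N)
    (ims : ∀ e ∈ Es, ψ e ∈ Q.parabolic {s}) (imt : ∀ e ∈ Et, ψ e ∈ Q.parabolic {t})
    (nots : ∃ e ∈ Es, ψ e ∉ Q.B) (nott : ∃ e ∈ Et, ψ e ∉ Q.B) {x : M} (hx : ψ x ∈ Q.B) :
    x ∈ (Es ⊓ normalizer (U : Set M)) ⊔ (Et ⊓ normalizer (U : Set M)) := by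
  have hker : D ≤ ψ.ker := fun d hd => Dker d hd
  let π : M →* M ⧸ D := QuotientGroup.mk' D
  let ψ' : M ⧸ D →* F := QuotientGroup.lift D ψ hker
  have hψ' : ∀ x : M, ψ' (π x) = ψ x := fun _ => rfl
  have hπ : Function.Surjective π := QuotientGroup.mk'_surjective D
  have hπ1 : ∀ x : M, π x = 1 ↔ x ∈ D := fun x => QuotientGroup.eq_one_iff x
  have hmap : ∀ {A : Subgroup M} {x : M}, D ≤ A → (π x ∈ A.map π ↔ x ∈ A) := by
    intro A x hA
    constructor
    · rintro ⟨y, hy, e⟩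
      have h1 : π (y⁻¹ * x) = 1 := by rw [map_mul, map_inv, e, inv_mul_cancel]
      have h2 := mul_mem hy (hA ((hπ1 _).1 h1))
      rwa [mul_inv_cancel_left] at h2
    · intro h
      exact ⟨x, h, rfl⟩
  have C : CExt ψ' (U.map π) (Es.map π) (Et.map π) Q UE s t :=
    { K := K
      surj := fun e => by
        obtain ⟨x, rfl⟩ := surj e
        exact ⟨π x, rfl⟩
      top := by
        rw [← Subgroup.map_sup, top, ← MonoidHom.range_eq_map, MonoidHom.range_eq_top.2 hπ]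
      Us := Subgroup.map_mono Us
      Ut := Subgroup.map_mono Ut
      isP := isP.map π
      central := by
        intro z hz x
        obtain ⟨z, rfl⟩ := hπ z
        obtain ⟨x, rfl⟩ := hπ x
        have h1 := central z hz x
        rw [← hπ1, map_mul, map_mul, map_mul, map_inv, map_inv] at h1
        have e : π z * π x = (π z * π x * (π z)⁻¹ * (π x)⁻¹) * (π x * π z) := by group
        rw [e, h1, one_mul]
      cop := by
        intro z hz
        obtain ⟨z, rfl⟩ := hπ z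
        obtain ⟨k, hk, h1⟩ := cop z hz
        exact ⟨k, hk, by rw [← map_pow, hπ1]; exact h1⟩
      img := by
        intro e
        rw [img]
        constructor
        · rintro ⟨u, hu, rfl⟩
          exact ⟨π u, ⟨u, hu, rfl⟩, rfl⟩
        · rintro ⟨_, ⟨u, hu, rfl⟩, h1⟩
          exact ⟨u, hu, h1⟩
      gens := by
        intro N hN
        rw [Subgroup.map_le_iff_le_comap]
        exact gens _ fun e he u hu => by
          have := hN (π e) ⟨e, he, rfl⟩ (π u) ⟨u, hu, rfl⟩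
          rwa [← map_inv, ← map_mul, ← map_mul] at this
      gent := by
        intro N hN
        rw [Subgroup.map_le_iff_le_comap]
        exact gent _ fun e he u hu => by
          have := hN (π e) ⟨e, he, rfl⟩ (π u) ⟨u, hu, rfl⟩
          rwa [← map_inv, ← map_mul, ← map_mul] at this
      ims := by
        rintro _ ⟨e, he, rfl⟩
        exact ims e he
      imt := by
        rintro _ ⟨e, he, rfl⟩
        exact imt e he
      nots := by
        obtain ⟨e, he, h1⟩ := nots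
        exact ⟨π e, ⟨e, he, rfl⟩, h1⟩
      nott := by
        obtain ⟨e, he, h1⟩ := nott
        exact ⟨π e, ⟨e, he, rfl⟩, h1⟩ }
  -- the normaliser of `U`
  have hN : ∀ y : M, ψ y ∈ Q.B → y ∈ normalizer (U : Set M) := by
    intro y hy
    have h1 : π y ∈ normalizer ((U.map π : Subgroup (M ⧸ D)) : Set (M ⧸ D)) := C.mem_iff.2 hy
    rw [Subgroup.mem_normalizer_iff] at h1 ⊢
    intro u
    have h2 := h1 (π u)
    rw [← map_inv, ← map_mul, ← map_mul, hmap DU, hmap DU] at h2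
    exact h2
  have h1 := C.gen (x := π x) hx
  have h2 : B2 ψ' (Es.map π) (Et.map π) Q ≤
      ((Es ⊓ normalizer (U : Set M)) ⊔ (Et ⊓ normalizer (U : Set M))).map π := by
    unfold B2
    apply sup_le
    · rintro _ ⟨⟨y, hy, rfl⟩, hyB⟩
      exact ⟨y, Subgroup.mem_sup_left ⟨hy, hN y hyB⟩, rfl⟩
    · rintro _ ⟨⟨y, hy, rfl⟩, hyB⟩
      exact ⟨y, Subgroup.mem_sup_right ⟨hy, hN y hyB⟩, rfl⟩
  have h3 : D ≤ (Es ⊓ normalizer (U : Set M)) ⊔ (Et ⊓ normalizer (U : Set M)) := fun d hd =>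
    Subgroup.mem_sup_left ⟨Us (DU hd), Subgroup.le_normalizer (DU hd)⟩
  exact (hmap h3).1 (h2 h1)

/-- **Generation of the Borel subgroup.** -/
theorem DExt.gen [Finite F] {ψ : M →* F} {D U Es Et : Subgroup M} {V As At : Subgroup F}
    (h : DExt ψ D U Es Et V As At) {Q : Cfsg.BNPair F} {UE : Subgroup F} {s t : F} (K : KPair 2 Q UE s t)
    (hV : Nat.card V = Nat.card UE) {x : M} (hx : ψ x ∈ normalizer (V : Set F)) :
    x ∈ (Es ⊓ normalizer (U : Set M)) ⊔ (Et ⊓ normalizer (U : Set M)) := by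
  have : Fact (Nat.Prime 2) := ⟨Nat.prime_two⟩
  obtain ⟨e, he⟩ := split_conj K.split hV
  let c : F ≃* F := MulAut.conj e⁻¹
  have hc : ∀ y, c y = e⁻¹ * y * e := fun y => by simp [c]
  let ψ' : M →* F := c.toMonoidHom.comp ψ
  have hψ' : ∀ y, ψ' y = e⁻¹ * ψ y * e := fun y => hc _
  have hone : ∀ y, ψ' y = 1 → ψ y = 1 := by
    intro y hy
    rw [hψ'] at hy
    have e1 : ψ y = e * (e⁻¹ * ψ y * e) * e⁻¹ := by group
    rw [e1, hy]; group
  -- the normaliser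
  have hnB : ∀ y, y ∈ normalizer (V : Set F) ↔ c y ∈ Q.B := by
    intro y
    rw [← K.split.normalizer_eq, Subgroup.mem_normalizer_iff, Subgroup.mem_normalizer_iff]
    constructor
    · intro h1 z
      have h2 := h1 (e * z * e⁻¹)
      rw [he, he] at h2
      have e1 : e⁻¹ * (e * z * e⁻¹) * e = z := by group
      have e2 : e⁻¹ * (y * (e * z * e⁻¹) * y⁻¹) * e = c y * z * (c y)⁻¹ := by rw [hc]; group
      rwa [e1, e2] at h2
    · intro h1 z
      rw [he, he]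
      have h2 := h1 (e⁻¹ * z * e)
      have e2 : c y * (e⁻¹ * z * e) * (c y)⁻¹ = e⁻¹ * (y * z * y⁻¹) * e := by rw [hc]; group
      rwa [e2] at h2
  have hsub : ∀ A : Subgroup F, ∀ y, c y ∈ A.map c.toMonoidHom ↔ y ∈ A := by
    intro A y
    constructor
    · rintro ⟨z, hz, h1⟩
      have : z = y := c.injective h1
      rwa [← this]
    · intro hy
      exact ⟨y, hy, rfl⟩
  have hB : ∀ A : Subgroup F, normalizer (V : Set F) ≤ A → Q.B ≤ A.map c.toMonoidHom := by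
    intro A hA b hb
    obtain ⟨y, rfl⟩ := c.surjective b
    exact ⟨y, hA ((hnB y).2 hb), rfl⟩
  have hpar := parabolic_of_pair (p := 2) K.S (hB _ h.nAs) (hB _ h.nAt) (by
      rintro y ⟨hy1, hy2⟩
      obtain ⟨y, rfl⟩ := c.surjective y
      exact (hnB y).1 (h.inf ⟨(hsub As y).1 hy1, (hsub At y).1 hy2⟩)) (by
      intro hle
      obtain ⟨y, hy, h1⟩ := h.nots
      exact h1 ((hnB _).2 (hle ((hsub _ _).2 (h.ims y hy))))) (by
      intro hle
      obtain ⟨y, hy, h1⟩ := h.nott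
      exact h1 ((hnB _).2 (hle ((hsub _ _).2 (h.imt y hy)))))
  have himg : ∀ y, y ∈ UE ↔ ∃ u ∈ U, ψ' u = y := by
    intro y
    have h1 := h.img (e * y * e⁻¹)
    rw [he] at h1
    have e1 : e⁻¹ * (e * y * e⁻¹) * e = y := by group
    rw [e1] at h1
    rw [h1]
    constructor
    · rintro ⟨u, hu, h2⟩
      exact ⟨u, hu, by rw [hψ', h2]; group⟩
    · rintro ⟨u, hu, h2⟩
      exact ⟨u, hu, by rw [← h2, hψ']; group⟩
  have hsur : Function.Surjective ψ' := c.surjective.comp h.surj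
  have hxB : ψ' x ∈ Q.B := (hnB _).1 hx
  rcases hpar with ⟨h1, h2⟩ | ⟨h1, h2⟩
  · exact gen_aux K hsur h.top h.Us h.Ut h.isP h.nD h.DU (fun d hd => by rw [hψ', h.Dker d hd]; group)
      (fun z hz => h.central z (hone z hz)) (fun z hz => h.cop z (hone z hz)) himg h.gens h.gent
      (fun y hy => by rw [← h1]; exact (hsub _ _).2 (h.ims y hy))
      (fun y hy => by rw [← h2]; exact (hsub _ _).2 (h.imt y hy))
      (by obtain ⟨y, hy, h3⟩ := h.nots; exact ⟨y, hy, fun h4 => h3 ((hnB _).2 h4)⟩)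
      (by obtain ⟨y, hy, h3⟩ := h.nott; exact ⟨y, hy, fun h4 => h3 ((hnB _).2 h4)⟩) hxB
  · exact gen_aux K.symm hsur h.top h.Us h.Ut h.isP h.nD h.DU (fun d hd => by rw [hψ', h.Dker d hd]; group)
      (fun z hz => h.central z (hone z hz)) (fun z hz => h.cop z (hone z hz)) himg h.gens h.gent
      (fun y hy => by rw [← h1]; exact (hsub _ _).2 (h.ims y hy))
      (fun y hy => by rw [← h2]; exact (hsub _ _).2 (h.imt y hy))
      (by obtain ⟨y, hy, h3⟩ := h.nots; exact ⟨y, hy, fun h4 => h3 ((hnB _).2 h4)⟩)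
      (by obtain ⟨y, hy, h3⟩ := h.nott; exact ⟨y, hy, fun h4 => h3 ((hnB _).2 h4)⟩) hxB

end Cfsg.Agent.ParSys
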