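import Cfsg.Agent.ParSys.ResOut
import Cfsg.Agent.ParSys.Fam.L3

/-!
# Residues of type `A₂`: `P i ⊔ P j` acts `F`-linearly on `F³`, the image contains `SL₃(F)`

`ResA.resOut`, `ResA.resSep`: all fields of `Sys` for the pair `i`, `j`.
-/

set_option autoImplicit false

namespace Cfsg.Agent.ParSys

open Subgroup Matrix
open scoped MatrixGroups

section mat

variable {F : Type*} [Field F]

/-- upper triangular -/
def UpT (g : GL (Fin 3) F) : Prop := g 1 0 = 0 ∧ g 2 0 = 0 ∧ g 2 1 = 0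

/-- upper unitriangular -/
def UniT (g : GL (Fin 3) F) : Prop := UpT g ∧ g 0 0 = 1 ∧ g 1 1 = 1 ∧ g 2 2 = 1

theorem sl_ext {g h : SpecialLinearGroup (Fin 3) F} (e : g.1 = h.1) : g = h := Subtype.ext e

theorem sl_mul (g h : SpecialLinearGroup (Fin 3) F) : (g * h).1 = g.1 * h.1 := rfl

theorem sl_one : (1 : SpecialLinearGroup (Fin 3) F).1 = 1 := rfl

/-- the upper unitriangular matrix with entries `a`, `b`, `c` -/
def um (a b c : F) : SpecialLinearGroup (Fin 3) F :=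
  ⟨!![1, a, c; 0, 1, b; 0, 0, 1], by rw [Matrix.det_fin_three]; simp⟩

theorem um_val (a b c : F) : (um a b c).1 = !![1, a, c; 0, 1, b; 0, 0, 1] := rfl

theorem uniT_um (a b c : F) : UniT (um a b c : GL (Fin 3) F) := by
  refine ⟨⟨?_, ?_, ?_⟩, ?_, ?_, ?_⟩ <;> simp [um_val, SpecialLinearGroup.coe_GL_coe_matrix]

theorem UniT.eq_um {g : GL (Fin 3) F} (h : UniT g) : g = um (g 0 1) (g 1 2) (g 0 2) := by
  obtain ⟨⟨h1, h2, h3⟩, h4, h5, h6⟩ := h
  apply Units.ext
  ext a b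
  rw [SpecialLinearGroup.coe_GL_coe_matrix, um_val]
  fin_cases a <;> fin_cases b <;> simp [h1, h2, h3, h4, h5, h6]

theorem UniT.trace {g : GL (Fin 3) F} (h : UniT g) : (g : Matrix (Fin 3) (Fin 3) F).trace = 3 := by
  rw [Matrix.trace_fin_three, h.2.1, h.2.2.1, h.2.2.2]
  norm_num

theorem um_mul (a b c a' b' c' : F) : um a b c * um a' b' c' = um (a + a') (b + b') (c + c' + a * b') := by
  apply sl_ext
  rw [sl_mul, um_val, um_val, um_val]
  ext x y
  rw [Matrix.mul_apply, Fin.sum_univ_three]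
  fin_cases x <;> fin_cases y <;> simp <;> ring

/-- the unitriangular subgroup of `SL₃` -/
def US (F : Type*) [Field F] : Subgroup (SpecialLinearGroup (Fin 3) F) where
  carrier := {g | ∃ a b c, g = um a b c}
  one_mem' := ⟨0, 0, 0, by
    apply sl_ext
    rw [um_val, sl_one]
    ext x y
    fin_cases x <;> fin_cases y <;> simp⟩
  mul_mem' := by
    rintro _ _ ⟨a, b, c, rfl⟩ ⟨a', b', c', rfl⟩
    exact ⟨_, _, _, um_mul _ _ _ _ _ _⟩
  inv_mem' := by
    rintro _ ⟨a, b, c, rfl⟩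
    refine ⟨-a, -b, -c + a * b, ?_⟩
    rw [inv_eq_iff_mul_eq_one, um_mul]
    apply sl_ext
    rw [um_val, sl_one]
    ext x y
    fin_cases x <;> fin_cases y <;> simp

theorem mem_US {g : SpecialLinearGroup (Fin 3) F} : g ∈ US F ↔ ∃ a b c, g = um a b c := Iff.rfl

theorem mem_US_iff {g : SpecialLinearGroup (Fin 3) F} : g ∈ US F ↔ UniT (g : GL (Fin 3) F) := by
  constructor
  · rintro ⟨a, b, c, rfl⟩
    exact uniT_um a b c
  · intro h
    have := h.eq_um
    exact ⟨_, _, _, SpecialLinearGroup.toGL_injective this⟩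

theorem isPGroup_US [CharP F 2] : IsPGroup 2 (US F) := by
  have h2 : (2 : F) = 0 := CharTwo.two_eq_zero
  rintro ⟨_, a, b, c, rfl⟩
  refine ⟨2, Subtype.ext ?_⟩
  show um a b c ^ 4 = 1
  rw [show (4 : ℕ) = 2 * 2 from rfl, pow_mul, pow_two (um a b c), um_mul, pow_two, um_mul]
  have h3 : um (a + a + (a + a)) (b + b + (b + b)) (c + c + a * b + (c + c + a * b) + (a + a) * (b + b)) =
      um (0 : F) 0 0 := by
    congr 1
    · linear_combination 2 * a * h2
    · linear_combination 2 * b * h2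
    · linear_combination (2 * c + a * b + 2 * a * b) * h2
  rw [h3]
  apply sl_ext
  rw [um_val, sl_one]
  ext x y
  fin_cases x <;> fin_cases y <;> simp

/-- the main computation: what normalises the unitriangular group modulo scalars is upper triangular -/
theorem upT_of_norm [CharP F 2] {g : GL (Fin 3) F}
    (h : ∀ u : SpecialLinearGroup (Fin 3) F, u ∈ US F → ∃ v ∈ US F, ∃ c ∈ Subgroup.center (GL (Fin 3) F),
      g * u * g⁻¹ = c * (v : GL (Fin 3) F)) : UpT g := by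
  have h2 : (2 : F) = 0 := CharTwo.two_eq_zero
  have key : ∀ u : SpecialLinearGroup (Fin 3) F, u ∈ US F → ∃ v ∈ US F, g * u = v * g := by
    intro u hu
    obtain ⟨v, hv, c, hc, h1⟩ := h u hu
    obtain ⟨r, hr⟩ := GeneralLinearGroup.mem_center_iff_val_mem_range_scalar.1 hc
    have ht : (u : GL (Fin 3) F).1.trace = r * (v : GL (Fin 3) F).1.trace := by
      have e1 : ((c * (v : GL (Fin 3) F) : GL (Fin 3) F) : Matrix (Fin 3) (Fin 3) F) =
          r • (v : GL (Fin 3) F).1 := by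
        rw [Units.val_mul, ← hr, Matrix.scalar_apply, ← Matrix.smul_eq_diagonal_mul]
      have e2 : ((g * u * g⁻¹ : GL (Fin 3) F) : Matrix (Fin 3) (Fin 3) F).trace = (u : GL (Fin 3) F).1.trace := by
        rw [Units.val_mul, Units.val_mul, Matrix.trace_mul_comm, ← mul_assoc, ← Units.val_mul, inv_mul_cancel,
          Units.val_one, one_mul]
      rw [← e2, h1, e1, Matrix.trace_smul, smul_eq_mul]
    rw [(mem_US_iff.1 hu).trace, (mem_US_iff.1 hv).trace] at ht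
    have hr1 : r = 1 := by linear_combination (-1 : F) * ht - (r - 1) * h2
    have hc1 : c = 1 := by
      apply Units.ext
      rw [← hr, hr1, map_one, Units.val_one]
    refine ⟨v, hv, ?_⟩
    rw [hc1, one_mul] at h1
    rw [← h1, inv_mul_cancel_right]
  -- two special elements
  have hN : ∀ u v : SpecialLinearGroup (Fin 3) F, g * u = v * g → ∀ x y,
      (g 0 0 * 0 + ∑ k, g x k * u.1 k y) = ∑ k, v.1 x k * g k y := by
    intro u v huv x y
    have e1 := congrArg (fun m : GL (Fin 3) F => (m : Matrix (Fin 3) (Fin 3) F) x y) huv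
    simp only [Units.val_mul, Matrix.mul_apply, SpecialLinearGroup.coe_GL_coe_matrix] at e1
    rw [mul_zero, zero_add]
    exact e1
  obtain ⟨v1, ⟨a1, b1, c1, rfl⟩, hv1⟩ := key (um 1 0 0) ⟨_, _, _, rfl⟩
  obtain ⟨v2, ⟨a2, b2, c2, rfl⟩, hv2⟩ := key (um 0 1 0) ⟨_, _, _, rfl⟩
  have e1 := hN _ _ hv1 2 1
  have e2 := hN _ _ hv2 2 2
  have e3 := hN _ _ hv1 1 1
  simp only [Fin.sum_univ_three, um_val] at e1 e2 e3
  simp at e1 e2 e3
  refine ⟨?_, ?_, ?_⟩
  · rw [e2] at e3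
    simpa using e3
  · exact e1
  · exact e2

/-! ### The Sylow 2-subgroup of `PSL₃(F)` -/

theorem UpT.mul {g h : GL (Fin 3) F} (hg : UpT g) (hh : UpT h) : UpT (g * h) ∧
    (g * h) 0 0 = g 0 0 * h 0 0 ∧ (g * h) 1 1 = g 1 1 * h 1 1 ∧ (g * h) 2 2 = g 2 2 * h 2 2 := by
  obtain ⟨h1, h2, h3⟩ := hg
  obtain ⟨h4, h5, h6⟩ := hh
  refine ⟨⟨?_, ?_, ?_⟩, ?_, ?_, ?_⟩ <;>
    simp [Units.val_mul, Matrix.mul_apply, Fin.sum_univ_three, h1, h2, h3, h4, h5, h6]

theorem UpT.pow {g : GL (Fin 3) F} (hg : UpT g) (k : ℕ) : UpT (g ^ k) ∧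
    (g ^ k) 0 0 = g 0 0 ^ k ∧ (g ^ k) 1 1 = g 1 1 ^ k ∧ (g ^ k) 2 2 = g 2 2 ^ k := by
  induction k with
  | zero => simp [UpT]
  | succ k ih =>
    rw [pow_succ]
    obtain ⟨h1, h2, h3, h4⟩ := ih
    obtain ⟨h5, h6, h7, h8⟩ := h1.mul hg
    exact ⟨h5, by rw [h6, h2, pow_succ], by rw [h7, h3, pow_succ], by rw [h8, h4, pow_succ]⟩

/-- the unitriangular subgroup of `PSL₃` -/
def UP (F : Type*) [Field F] : Subgroup (ProjectiveSpecialLinearGroup (Fin 3) F) :=
  (US F).map (QuotientGroup.mk' (Subgroup.center (SpecialLinearGroup (Fin 3) F)))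

theorem isPGroup_UP [CharP F 2] : IsPGroup 2 (UP F) := isPGroup_US.map _

theorem mem_UP_of_norm [CharP F 2] {g : SpecialLinearGroup (Fin 3) F}
    (hg : ∀ u ∈ US F, ∃ v ∈ US F, ∃ c ∈ Subgroup.center (SpecialLinearGroup (Fin 3) F), g * u * g⁻¹ = c * v) {n : ℕ}
    (hn : g ^ 2 ^ n ∈ Subgroup.center (SpecialLinearGroup (Fin 3) F)) :
    (QuotientGroup.mk g : ProjectiveSpecialLinearGroup (Fin 3) F) ∈ UP F := by
  have h1 : UpT (g : GL (Fin 3) F) := by
    apply upT_of_norm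
    intro u hu
    obtain ⟨v, hv, c, hc, h1⟩ := hg u hu
    refine ⟨v, hv, c, (SpecialLinearGroup.toGL_mem_center_iff c).2 hc, ?_⟩
    rw [← map_mul, ← map_inv, ← map_mul, ← map_mul, h1]
  obtain ⟨h2, h3, h4, h5⟩ := h1.pow (2 ^ n)
  obtain ⟨r, -, hr⟩ := Matrix.SpecialLinearGroup.mem_center_iff.1 hn
  have hd : ∀ a : Fin 3, ((g : GL (Fin 3) F) ^ 2 ^ n) a a = r := by
    intro a
    rw [← map_pow]
    change (g ^ 2 ^ n).1 a a = r
    rw [← hr, Matrix.scalar_apply, Matrix.diagonal_apply_eq]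
  rw [hd] at h3 h4 h5
  have hp : ∀ a b : F, r = a ^ 2 ^ n → r = b ^ 2 ^ n → a = b := by
    intro a b ha hb
    have : ExpChar F 2 := ExpChar.prime Nat.prime_two
    exact iterateFrobenius_inj F 2 n (by rw [iterateFrobenius_def, iterateFrobenius_def, ← ha, ← hb])
  have e1 := hp _ _ h3 h4
  have e2 := hp _ _ h3 h5
  obtain ⟨h6, h7, h8⟩ := h1
  change g.1 1 0 = 0 at h6
  change g.1 2 0 = 0 at h7
  change g.1 2 1 = 0 at h8
  change g.1 0 0 = g.1 1 1 at e1
  change g.1 0 0 = g.1 2 2 at e2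
  have hdet := g.2
  rw [Matrix.det_fin_three, h6, h7, h8, ← e1, ← e2] at hdet
  set a := g.1 0 0 with ha
  have ha3 : a ^ 3 = 1 := by linear_combination hdet
  have ha0 : a ≠ 0 := by
    intro h0
    rw [h0] at ha3
    simp at ha3
  let z : SpecialLinearGroup (Fin 3) F := ⟨Matrix.scalar (Fin 3) a, by
    rw [Matrix.scalar_apply, Matrix.det_diagonal]
    simp [Fin.prod_univ_three]
    linear_combination ha3⟩
  have hz : z ∈ Subgroup.center (SpecialLinearGroup (Fin 3) F) :=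
    Matrix.SpecialLinearGroup.mem_center_iff.2 ⟨a, by simpa using ha3, rfl⟩
  refine ⟨um (g.1 0 1 / a) (g.1 1 2 / a) (g.1 0 2 / a), ⟨_, _, _, rfl⟩, ?_⟩
  rw [QuotientGroup.mk'_apply, eq_comm, ← one_mul (QuotientGroup.mk (um _ _ _)),
    ← (QuotientGroup.eq_one_iff z).2 hz, ← QuotientGroup.mk_mul]
  congr 1
  apply sl_ext
  rw [sl_mul, um_val]
  change g.1 = Matrix.scalar (Fin 3) a * _
  ext x y
  rw [Matrix.scalar_apply, Matrix.diagonal_mul]
  fin_cases x <;> fin_cases y <;> simp [h6, h7, h8, ← ha, ← e1, ← e2] <;> field_simp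

/-- A `p`-subgroup containing the `p`-elements of its normaliser is a Sylow subgroup. -/
theorem exists_sylow_eq {Y : Type*} [Group Y] [Finite Y] {p : ℕ} [Fact p.Prime] {V : Subgroup Y} (hV : IsPGroup p V)
    (h : ∀ x ∈ normalizer (V : Set Y), ∀ n : ℕ, x ^ p ^ n = 1 → x ∈ V) : ∃ T : Sylow p Y, (T : Subgroup Y) = V := by
  obtain ⟨T, hT⟩ := hV.exists_le_sylow
  refine ⟨T, ?_⟩
  by_contra hne
  obtain ⟨x, hx, hxU, hxN⟩ := Cfsg.Agent.Involutions.BaerSuzuki.exists_mem_normalizer_of_lt T.isPGroup'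
    (lt_of_le_of_ne hT (fun e => hne e.symm))
  obtain ⟨n, hn⟩ := T.isPGroup' ⟨x, hx⟩
  exact hxU (h x hxN n (by simpa using congrArg Subtype.val hn))

theorem exists_sylow_UP [Finite F] [CharP F 2] :
    ∃ T : Sylow 2 (ProjectiveSpecialLinearGroup (Fin 3) F), (T : Subgroup _) = UP F := by
  have : Finite (SpecialLinearGroup (Fin 3) F) := Subtype.finite
  have : Finite (ProjectiveSpecialLinearGroup (Fin 3) F) := Quotient.finite _
  have : Fact (Nat.Prime 2) := ⟨Nat.prime_two⟩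
  apply exists_sylow_eq isPGroup_UP
  intro x hx n hn
  obtain ⟨g, rfl⟩ := QuotientGroup.mk_surjective x
  apply mem_UP_of_norm (n := n)
  · intro u hu
    obtain ⟨v, hv, h1⟩ := (Subgroup.mem_normalizer_iff.1 hx (QuotientGroup.mk u)).1 ⟨u, hu, rfl⟩
    have h2 : (QuotientGroup.mk v : ProjectiveSpecialLinearGroup (Fin 3) F) = QuotientGroup.mk (g * u * g⁻¹) := h1
    rw [QuotientGroup.eq] at h2
    refine ⟨v, hv, g * u * g⁻¹ * v⁻¹, ?_, by group⟩
    have h3 := (inferInstance : (Subgroup.center (SpecialLinearGroup (Fin 3) F)).Normal).conj_mem _ h2 v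
    have e : v * (v⁻¹ * (g * u * g⁻¹)) * v⁻¹ = g * u * g⁻¹ * v⁻¹ := by group
    rwa [e] at h3
  · rw [← QuotientGroup.eq_one_iff, QuotientGroup.mk_pow]
    exact hn

end mat

/-! ### The residue -/

section res

variable {G : Type*} [Group G] {I : Type*} {F : Type*} [Field F]

/-- `P i ⊔ P j` acts `F`-linearly on `F³`: the image contains `SL₃(F)`, `P i` stabilises the plane `⟨e₀, e₁⟩`, `P j` the point
`⟨e₀⟩`, `U` acts as the unitriangular group, `B` contains the stabiliser of the flag. -/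
structure ResA (B U : Subgroup G) (P : I → Subgroup G) (i j : I) (ρ : ↥(P i ⊔ P j) →* GL (Fin 3) F) : Prop where
  le : ∀ a, B ≤ P a
  U_le : U ≤ B
  norm : ∀ b ∈ B, ∀ u ∈ U, b * u * b⁻¹ ∈ U
  U_to : ∀ u : ↥(P i ⊔ P j), (u : G) ∈ U → UniT (ρ u)
  U_of : ∀ a b c : F, ∃ u : ↥(P i ⊔ P j), (u : G) ∈ U ∧ ρ u = um a b c
  sl : ∀ g : SpecialLinearGroup (Fin 3) F, ∃ x, ρ x = g
  bor : ∀ x, UpT (ρ x) → (x : G) ∈ B
  Pi : ∀ x : ↥(P i ⊔ P j), (x : G) ∈ P i → ρ x 2 0 = 0 ∧ ρ x 2 1 = 0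
  Pj : ∀ x : ↥(P i ⊔ P j), (x : G) ∈ P j → ρ x 1 0 = 0 ∧ ρ x 2 0 = 0
  lt : ∀ a, a = i ∨ a = j → ∃ x ∈ P a, x ∉ B

/-- `PSL₃ → PGL₃` -/
def epsA (F : Type*) [Field F] : ProjectiveSpecialLinearGroup (Fin 3) F →*
    GL (Fin 3) F ⧸ Subgroup.center (GL (Fin 3) F) :=
  QuotientGroup.lift _ ((QuotientGroup.mk' (Subgroup.center (GL (Fin 3) F))).comp SpecialLinearGroup.toGL) (by
    intro g hg
    rw [MonoidHom.mem_ker, MonoidHom.comp_apply, QuotientGroup.mk'_apply, QuotientGroup.eq_one_iff]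
    exact (SpecialLinearGroup.toGL_mem_center_iff g).2 hg)

theorem epsA_mk (g : SpecialLinearGroup (Fin 3) F) :
    epsA F (QuotientGroup.mk g) = QuotientGroup.mk (g : GL (Fin 3) F) := rfl

namespace ResA

variable {B U : Subgroup G} {P : I → Subgroup G} {i j : I} {ρ : ↥(P i ⊔ P j) →* GL (Fin 3) F}
  (h : ResA B U P i j ρ)

include h

theorem homRes [CharP F 2] : HomRes B U P i j ((QuotientGroup.mk' (Subgroup.center (GL (Fin 3) F))).comp ρ)
    (epsA F) (UP F) where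
  le := h.le
  inj := by
    rw [injective_iff_map_eq_one]
    intro e he
    obtain ⟨g, rfl⟩ := QuotientGroup.mk_surjective e
    rw [epsA_mk, QuotientGroup.eq_one_iff] at he
    exact (QuotientGroup.eq_one_iff g).2 ((SpecialLinearGroup.toGL_mem_center_iff g).1 he)
  onto := by
    intro e
    obtain ⟨g, rfl⟩ := QuotientGroup.mk_surjective e
    obtain ⟨x, hx⟩ := h.sl g
    exact ⟨x, by rw [epsA_mk, MonoidHom.comp_apply, hx]; rfl⟩
  nor := by
    intro x e
    obtain ⟨g, rfl⟩ := QuotientGroup.mk_surjective e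
    have hdet : (ρ x * (g : GL (Fin 3) F) * (ρ x)⁻¹ : GL (Fin 3) F).1.det = 1 := by
      rw [Units.val_mul, Units.val_mul, Matrix.det_mul, Matrix.det_mul, mul_right_comm, ← Matrix.det_mul,
        ← Units.val_mul, mul_inv_cancel, Units.val_one, Matrix.det_one, one_mul]
      exact g.2
    let k : SpecialLinearGroup (Fin 3) F := ⟨_, hdet⟩
    have hk : (k : GL (Fin 3) F) = ρ x * (g : GL (Fin 3) F) * (ρ x)⁻¹ := Units.ext rfl
    refine ⟨QuotientGroup.mk k, ?_⟩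
    rw [epsA_mk, epsA_mk, hk]
    rfl
  U_le := h.U_le
  norm := h.norm
  U_to := by
    intro u hu
    obtain h1 := (h.U_to u hu).eq_um
    refine ⟨QuotientGroup.mk (um (ρ u 0 1) (ρ u 1 2) (ρ u 0 2)), ⟨_, ⟨_, _, _, rfl⟩, rfl⟩, ?_⟩
    rw [epsA_mk, MonoidHom.comp_apply, QuotientGroup.mk'_apply, ← h1]
  U_of := by
    rintro _ ⟨_, ⟨a, b, c, rfl⟩, rfl⟩
    obtain ⟨u, hu, h1⟩ := h.U_of a b c
    refine ⟨u, hu, ?_⟩
    rw [MonoidHom.comp_apply, h1]
    rfl
  memB := by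
    intro x hx
    apply h.bor
    apply upT_of_norm
    intro u hu
    obtain ⟨_, ⟨v, hv, rfl⟩, h1⟩ := hx (QuotientGroup.mk u) ⟨u, hu, rfl⟩
    rw [QuotientGroup.mk'_apply, epsA_mk, epsA_mk, MonoidHom.comp_apply, QuotientGroup.mk'_apply,
      ← QuotientGroup.mk_mul, ← QuotientGroup.mk_inv, ← QuotientGroup.mk_mul, eq_comm, QuotientGroup.eq] at h1
    refine ⟨v, hv, ρ x * u * (ρ x)⁻¹ * (v : GL (Fin 3) F)⁻¹, ?_, by group⟩
    have h3 := (inferInstance : (Subgroup.center (GL (Fin 3) F)).Normal).conj_mem _ h1 (v : GL (Fin 3) F)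
    have e : (v : GL (Fin 3) F) * ((v : GL (Fin 3) F)⁻¹ * (ρ x * u * (ρ x)⁻¹)) * (v : GL (Fin 3) F)⁻¹ =
        ρ x * u * (ρ x)⁻¹ * (v : GL (Fin 3) F)⁻¹ := by group
    rwa [e] at h3
  lt := h.lt
  inf := by
    rintro x ⟨hx1, hx2⟩
    have hx : x ∈ P i ⊔ P j := le_sup_left (a := P i) hx1
    have h1 := h.Pi ⟨x, hx⟩ hx1
    have h2 := h.Pj ⟨x, hx⟩ hx2
    exact h.bor ⟨x, hx⟩ ⟨h2.1, h1.1, h1.2⟩

/-- **The Lie pair of a residue of type `A₂`.** -/
theorem exists_liePair [Finite F] [CharP F 2] {Q : Cfsg.BNPair (ProjectiveSpecialLinearGroup (Fin 3) F)}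
    {UE : Subgroup (ProjectiveSpecialLinearGroup (Fin 3) F)} {s t : ProjectiveSpecialLinearGroup (Fin 3) F}
    (K : KPair 2 Q UE s t) :
    ∃ (φ' : ↥(P i ⊔ P j) →* ((QuotientGroup.mk' (Subgroup.center (GL (Fin 3) F))).comp ρ).range)
      (ε' : ProjectiveSpecialLinearGroup (Fin 3) F →* ((QuotientGroup.mk' (Subgroup.center (GL (Fin 3) F))).comp ρ).range),
      LiePair 2 B U P i j φ' ε' Q UE s t := by
  have : Finite (SpecialLinearGroup (Fin 3) F) := Subtype.finite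
  have : Finite (ProjectiveSpecialLinearGroup (Fin 3) F) := Quotient.finite _
  have : Fact (Nat.Prime 2) := ⟨Nat.prime_two⟩
  obtain ⟨T, hT⟩ := exists_sylow_UP (F := F)
  exact h.homRes.exists_liePair K.split K.S K.ne (by rw [← hT]; exact split_card_eq K.split T)

/-- **A residue of type `A₂`, `q ≥ 4`: the fields of `Sys`, without `torus`.** -/
theorem resOut [Finite G] [Finite F] [CharP F 2] (hF : 4 ≤ Nat.card F) : ResOut 2 B U P i j := by
  have : Finite (SpecialLinearGroup (Fin 3) F) := Subtype.finite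
  have : Finite (ProjectiveSpecialLinearGroup (Fin 3) F) := Quotient.finite _
  have : Fact (Nat.Prime 2) := ⟨Nat.prime_two⟩
  obtain ⟨Q, UE, s, t, K, -⟩ := Fam.L3.hasKPair (F := F) hF
  obtain ⟨φ', ε', h1⟩ := h.exists_liePair K
  exact h1.resOut K

/-- **A residue of type `A₂`, `q ≥ 8`: the field `torus`.** -/
theorem resSep [Finite G] [Finite F] [CharP F 2] (hF : 4 < Nat.card F) : ResSep 2 B U P i j := by
  have : Finite (SpecialLinearGroup (Fin 3) F) := Subtype.finite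
  have : Finite (ProjectiveSpecialLinearGroup (Fin 3) F) := Quotient.finite _
  have : Fact (Nat.Prime 2) := ⟨Nat.prime_two⟩
  obtain ⟨Q, UE, s, t, K, -, hS⟩ := Fam.L3.hasKPairSep (F := F) hF
  obtain ⟨φ', ε', h1⟩ := h.exists_liePair K
  exact h1.resSep hS

end ResA

end res

end Cfsg.Agent.ParSys
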