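import Cfsg.Agent.ParSys.FreeLoc
import Cfsg.Agent.ParSys.FreeCount
import Cfsg.Agent.S1143

/-!
# THEOREM FREE with local closure, numbers `q_{w₀}` known; a simple group of rank at least three is of Lie type
-/

set_option autoImplicit false

namespace Cfsg.Agent.ParSys.FreeLieLoc

open Cfsg.Agent.ParSys.FreeCount Cfsg.Agent.Tits.Core

variable {I : Type*} {M : CoxeterMatrix I} {G : Type*} [Group G] {q : I → ℕ} {N : ℕ}
  {B : Subgroup G} {P : I → Subgroup G} {U : Subgroup G}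

/-- the bound for `|U|` -/
theorem card_le [Finite G] [Finite I] (hM : HasQ M q N) (h : FreeLoc.SysL M.toCoxeterSystem B P U q) :
    Nat.card U ≤ N := by
  have := hM.1
  obtain ⟨F, hF, he⟩ := M.toCoxeterSystem.exists_isReduced (w0 M.toCoxeterSystem)
  have := h.card_le hF he.symm
  rwa [hM.2 F hF he.symm] at this

/-- **THEOREM FREE** (local closure) with the number `q_{w₀}` known -/
theorem exists_bnPair [Finite G] [Finite I] (hM : HasQ M q N) (h : FreeLoc.SysL M.toCoxeterSystem B P U q)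
    (hcard : N ≤ Nat.card U) :
    ∃ Q : Cfsg.BNPair G, Q.B = B ∧ Q.rank = Nat.card I ∧ (∃ e : I ≃ Q.S, ∀ i, (e i : G) ∈ P i) ∧
      ((∀ J : Set I, J.Nonempty → Jᶜ.Nonempty → ∃ i ∈ J, ∃ j ∈ Jᶜ, M i j ≠ 2) → Q.Irreducible) := by
  have := hM.1
  obtain ⟨F, hF, he⟩ := M.toCoxeterSystem.exists_isReduced (w0 M.toCoxeterSystem)
  exact h.exists_bnPair hF he.symm (by rw [hM.2 F hF he.symm]; exact hcard)

/-- a simple group with a system with local closure of a connected spherical type of rank at least three -/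
theorem isLie [Finite G] [IsSimpleGroup G] [Finite I] (hM : HasQ M q N)
    (h : FreeLoc.SysL M.toCoxeterSystem B P U q) (hcard : N ≤ Nat.card U) (h3 : 3 ≤ Nat.card I)
    (hconn : ∀ J : Set I, J.Nonempty → Jᶜ.Nonempty → ∃ i ∈ J, ∃ j ∈ Jᶜ, M i j ≠ 2) :
    Cfsg.IsPSL G ∨ Cfsg.IsPSp G ∨ Cfsg.IsPSU G ∨ Cfsg.IsPOmegaOdd G ∨ Cfsg.IsPOmegaPlus G ∨ Cfsg.IsPOmegaMinus G ∨
      Cfsg.IsExceptionalLieType G := by
  obtain ⟨Q, -, hr, -, hirr⟩ := exists_bnPair hM h hcard
  exact Cfsg.Agent.S1143.result Q (hr ▸ h3) (hirr hconn)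

end Cfsg.Agent.ParSys.FreeLieLoc
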