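import Mathlib
import Cfsg.Agent.ParSys.RankTwo

/-!
# Residues of rank two which are given by a geometry

`Model B P i j A φ Γ` : the chambers `x B`, `x ∈ Γ`, of the residue `{i, j}` are the chambers `φ x` of a chamber system
`A` (any type).  `Model.gpp` : then `GPp B P i j m` is a property of `A` at `φ 1`.

`Flags` : `A` = the flags of an incidence geometry; `Flags.gpp_three` (two points are on exactly one line) and
`Flags.gpp_three'` (dual), `Flags.gpp_four` (generalised quadrangle).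
-/

set_option autoImplicit false

namespace Cfsg.Agent.ParSys.FlagGP

open Cfsg.Agent.ParSys Cfsg.Agent.ParSys.Free Cfsg.Agent.ParSys.RankTwo

variable {G : Type*} [Group G] {I : Type*} {B : Subgroup G} {P : I → Subgroup G} {T : Type*}

theorem mem_alt {a b i : I} {k : ℕ} (h : i ∈ alt a b k) : i = a ∨ i = b := by
  induction k generalizing a b with
  | zero => simp at h
  | succ k ih =>
    rw [alt_cons, List.mem_cons] at h
    rcases h with h | h
    · exact Or.inl h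
    · exact (ih h).symm

/-- the chambers of the residue `{i, j}` are given by the chamber system `A` on `T` -/
structure Model (B : Subgroup G) (P : I → Subgroup G) (i j : I) (A : I → T → T → Prop) (φ : G → T)
    (Γ : Subgroup G) : Prop where
  li : P i ≤ Γ
  lj : P j ≤ Γ
  inj : ∀ x ∈ Γ, ∀ y ∈ Γ, φ x = φ y → x⁻¹ * y ∈ B
  eqB : ∀ x ∈ Γ, ∀ b ∈ B, φ (x * b) = φ x
  adj : ∀ k, k = i ∨ k = j → ∀ x ∈ Γ, ∀ p ∈ P k, p ∉ B → A k (φ x) (φ (x * p))
  sur : ∀ k, k = i ∨ k = j → ∀ x ∈ Γ, ∀ d, A k (φ x) d → ∃ p ∈ P k, p ∉ B ∧ φ (x * p) = d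

/-- the chambers `φ (x y₁ .. yₙ)` -/
def phm (φ : G → T) : G → List G → List T
  | _, [] => []
  | x, y :: k => φ (x * y) :: phm φ (x * y) k

theorem phm_last (φ : G → T) (x : G) (k : List G) : (phm φ x k).getLastD (φ x) = φ (x * k.prod) := by
  induction k generalizing x with
  | nil => simp [phm]
  | cons y k ih => rw [phm, List.getLastD_cons, ih, List.prod_cons, mul_assoc]

namespace Model

variable {i j : I} {A : I → T → T → Prop} {φ : G → T} {Γ : Subgroup G} (h : Model B P i j A φ Γ)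

include h

theorem symm : Model B P j i A φ Γ where
  li := h.lj
  lj := h.li
  inj := h.inj
  eqB := h.eqB
  adj k hk := h.adj k hk.symm
  sur k hk := h.sur k hk.symm

theorem leΓ {k : I} (hk : k = i ∨ k = j) : P k ≤ Γ := by
  rcases hk with rfl | rfl
  · exact h.li
  · exact h.lj

theorem prod_mem {f : List I} (hf : ∀ a ∈ f, a = i ∨ a = j) {k : List G} (hk : GalE B P f k) : k.prod ∈ Γ := by
  induction f generalizing k with
  | nil =>
    cases k with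
    | nil => simp [one_mem]
    | cons y k => exact hk.elim
  | cons a f ih =>
    cases k with
    | nil => exact hk.elim
    | cons y k =>
      rw [List.prod_cons]
      exact mul_mem (h.leΓ (hf a (by simp)) hk.1.1) (ih (fun b hb => hf b (by simp [hb])) hk.2)

theorem isGal_phm {f : List I} (hf : ∀ a ∈ f, a = i ∨ a = j) {x : G} (hx : x ∈ Γ) {k : List G}
    (hk : GalE B P f k) : IsGal A f (φ x) (phm φ x k) := by
  induction f generalizing x k with
  | nil =>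
    cases k with
    | nil => exact isGal_nil_iff.2 rfl
    | cons y k => exact hk.elim
  | cons a f ih =>
    cases k with
    | nil => exact hk.elim
    | cons y k =>
      rw [phm, isGal_cons_cons]
      exact ⟨h.adj a (hf a (by simp)) x hx y hk.1.1 hk.1.2,
        ih (fun b hb => hf b (by simp [hb])) (mul_mem hx (h.leΓ (hf a (by simp)) hk.1.1)) hk.2⟩

theorem exists_phm {f : List I} (hf : ∀ a ∈ f, a = i ∨ a = j) {x : G} (hx : x ∈ Γ) {l : List T}
    (hl : IsGal A f (φ x) l) : ∃ k, GalE B P f k ∧ l = phm φ x k := by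
  induction f generalizing x l with
  | nil => exact ⟨[], trivial, isGal_nil_iff.1 hl⟩
  | cons a f ih =>
    obtain ⟨d, l', rfl, h1, h2⟩ := isGal_cons_iff.1 hl
    obtain ⟨p, hp, hpB, rfl⟩ := h.sur a (hf a (by simp)) x hx d h1
    obtain ⟨k, hk, rfl⟩ := ih (fun b hb => hf b (by simp [hb])) (mul_mem hx (h.leΓ (hf a (by simp)) hp)) h2
    exact ⟨p :: k, ⟨⟨hp, hpB⟩, hk⟩, rfl⟩

theorem chm_eq {f : List I} (hf : ∀ a ∈ f, a = i ∨ a = j) {x y z : G} (hx : x ∈ Γ) (hy : y ∈ Γ)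
    {k k' : List G} (hk : GalE B P f k) (hk' : GalE B P f k') (he : phm φ x k = phm φ y k') :
    chm B (z * x) k = chm B (z * y) k' := by
  induction f generalizing x y k k' with
  | nil =>
    cases k with
    | nil =>
      cases k' with
      | nil => rfl
      | cons a k' => exact hk'.elim
    | cons a k => exact hk.elim
  | cons a f ih =>
    cases k with
    | nil => exact hk.elim
    | cons u k =>
      cases k' with
      | nil => exact hk'.elim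
      | cons v k' =>
        rw [phm, phm, List.cons.injEq] at he
        have hxu := mul_mem hx (h.leΓ (hf a (by simp)) hk.1.1)
        have hyv := mul_mem hy (h.leΓ (hf a (by simp)) hk'.1.1)
        rw [chm, chm, List.cons.injEq, mul_assoc, mul_assoc]
        refine ⟨?_, ih (fun b hb => hf b (by simp [hb])) hxu hyv hk.2 hk'.2 he.2⟩
        rw [QuotientGroup.eq]
        have e : (z * (x * u))⁻¹ * (z * (y * v)) = (x * u)⁻¹ * (y * v) := by group
        rw [e]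
        exact h.inj _ hxu _ hyv he.1

/-- **the generalised polygon property of a residue which is given by a model** -/
theorem gpp (hBP : ∀ i, B ≤ P i) {m : ℕ}
    (hgp : ∀ l, IsGal A (alt i j m) (φ 1) l →
      ∃! l', IsGal A (alt j i m) (φ 1) l' ∧ l'.getLastD (φ 1) = l.getLastD (φ 1)) : GPp B P i j m := by
  intro c l hl
  have hf : ∀ a ∈ alt i j m, a = i ∨ a = j := fun a ha => mem_alt ha
  have hf' : ∀ a ∈ alt j i m, a = i ∨ a = j := fun a ha => (mem_alt ha).symm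
  induction c using QuotientGroup.induction_on with
  | _ x =>
  obtain ⟨k, hk, rfl⟩ := exists_chm hBP hl
  obtain ⟨l', ⟨h1, h2⟩, h3⟩ := hgp _ (h.isGal_phm hf (one_mem Γ) hk)
  obtain ⟨k', hk', rfl⟩ := h.exists_phm hf' (one_mem Γ) h1
  rw [phm_last, phm_last, one_mul, one_mul] at h2
  have hkk := h.inj _ (h.prod_mem hf' hk') _ (h.prod_mem hf hk) h2
  refine ⟨chm B x k', ⟨isGal_chm hBP hk', ?_⟩, ?_⟩
  · rw [chm_last, chm_last, QuotientGroup.eq]
    have e : (x * k'.prod)⁻¹ * (x * k.prod) = k'.prod⁻¹ * k.prod := by group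
    rw [e]; exact hkk
  · rintro l'' ⟨h4, h5⟩
    obtain ⟨k'', hk'', rfl⟩ := exists_chm hBP h4
    rw [chm_last, chm_last, QuotientGroup.eq] at h5
    have e : (x * k''.prod)⁻¹ * (x * k.prod) = k''.prod⁻¹ * k.prod := by group
    rw [e] at h5
    have h6 : φ k''.prod = φ k.prod := by
      rw [← h.eqB _ (h.prod_mem hf' hk'') _ h5, mul_inv_cancel_left]
    have h7 := h3 (phm φ 1 k'') ⟨h.isGal_phm hf' (one_mem Γ) hk'', by
      rw [phm_last, phm_last, one_mul, one_mul]; exact h6⟩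
    have h8 := h.chm_eq (z := x) hf' (one_mem Γ) (one_mem Γ) hk'' hk' h7
    rwa [mul_one] at h8

end Model

/-! ### Flags of an incidence geometry -/

section geometry

variable {X Y : Type*}

/-- the flags `(p, l)`; `i` moves the point, `j` moves the line -/
def FA (i j : I) (pt : Set X) (ln : Set Y) (inc : X → Y → Prop) (k : I) (c d : X × Y) : Prop :=
  (c.1 ∈ pt ∧ c.2 ∈ ln ∧ inc c.1 c.2) ∧ (d.1 ∈ pt ∧ d.2 ∈ ln ∧ inc d.1 d.2) ∧
    ((k = i ∧ c.2 = d.2 ∧ c.1 ≠ d.1) ∨ (k = j ∧ c.1 = d.1 ∧ c.2 ≠ d.2))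

variable {i j : I} {pt : Set X} {ln : Set Y} {inc : X → Y → Prop}

theorem fa_i (hij : i ≠ j) {p p' : X} {l l' : Y} : FA i j pt ln inc i (p, l) (p', l') ↔
    (p ∈ pt ∧ l ∈ ln ∧ inc p l) ∧ p' ∈ pt ∧ inc p' l ∧ l' = l ∧ p ≠ p' := by
  constructor
  · rintro ⟨h1, ⟨h2, h3, h4⟩, h5⟩
    rcases h5 with ⟨-, h6, h7⟩ | ⟨h6, -⟩
    · have h6 : l = l' := h6
      subst h6
      exact ⟨h1, h2, h4, rfl, h7⟩
    · exact (hij h6).elim
  · rintro ⟨⟨h1, h2, h3⟩, h4, h5, rfl, h6⟩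
    exact ⟨⟨h1, h2, h3⟩, ⟨h4, h2, h5⟩, Or.inl ⟨rfl, rfl, h6⟩⟩

theorem fa_j (hij : i ≠ j) {p p' : X} {l l' : Y} : FA i j pt ln inc j (p, l) (p', l') ↔
    (p ∈ pt ∧ l ∈ ln ∧ inc p l) ∧ l' ∈ ln ∧ inc p l' ∧ p' = p ∧ l ≠ l' := by
  constructor
  · rintro ⟨h1, ⟨h2, h3, h4⟩, h5⟩
    rcases h5 with ⟨h6, -⟩ | ⟨-, h6, h7⟩
    · exact (hij h6.symm).elim
    · have h6 : p = p' := h6
      subst h6
      exact ⟨h1, h3, h4, rfl, h7⟩
  · rintro ⟨⟨h1, h2, h3⟩, h4, h5, rfl, h6⟩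
    exact ⟨⟨h1, h2, h3⟩, ⟨h1, h4, h5⟩, Or.inr ⟨rfl, rfl, h6⟩⟩

theorem isGal_three {A : I → T → T → Prop} {a b c : I} {x : T} {l : List T} :
    IsGal A [a, b, c] x l ↔ ∃ y z w, l = [y, z, w] ∧ A a x y ∧ A b y z ∧ A c z w := by
  constructor
  · intro h
    obtain ⟨y, l1, rfl, h1, h2⟩ := isGal_cons_iff.1 h
    obtain ⟨z, l2, rfl, h3, h4⟩ := isGal_cons_iff.1 h2
    obtain ⟨w, l3, rfl, h5, h6⟩ := isGal_cons_iff.1 h4
    rw [isGal_nil_iff] at h6
    subst h6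
    exact ⟨y, z, w, rfl, h1, h3, h5⟩
  · rintro ⟨y, z, w, rfl, h1, h2, h3⟩
    exact ⟨h1, h2, h3, trivial⟩

/-- two distinct points are on exactly one line: galleries `i j i` -/
theorem gal_three (hij : i ≠ j) (hpp : ∀ p ∈ pt, ∀ p' ∈ pt, p ≠ p' → ∃ l ∈ ln, inc p l ∧ inc p' l)
    (hpu : ∀ p ∈ pt, ∀ p' ∈ pt, p ≠ p' → ∀ l ∈ ln, ∀ l' ∈ ln, inc p l → inc p' l → inc p l' → inc p' l' → l = l')
    (c : X × Y) (l : List (X × Y)) (hl : IsGal (FA i j pt ln inc) (alt i j 3) c l) :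
    ∃! l', IsGal (FA i j pt ln inc) (alt j i 3) c l' ∧ l'.getLastD c = l.getLastD c := by
  have e1 : alt i j 3 = [i, j, i] := rfl
  have e2 : alt j i 3 = [j, i, j] := rfl
  rw [e1] at hl
  rw [e2]
  obtain ⟨⟨p1, l1⟩, ⟨p2, l2⟩, ⟨p3, l3⟩, rfl, h1, h2, h3⟩ := isGal_three.1 hl
  obtain ⟨p, m⟩ := c
  rw [fa_i hij] at h1 h3
  rw [fa_j hij] at h2
  obtain ⟨⟨hp, hm, hpm⟩, hp1, hp1m, rfl, hpp1⟩ := h1
  obtain ⟨-, hl2, hp1l2, rfl, hll2⟩ := h2
  obtain ⟨-, hp3, hp3l2, rfl, hp2p3⟩ := h3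
  -- now: `p, p2 ∈ l1`, `p2, p3 ∈ l3`
  have hne : p ≠ p3 := by
    rintro rfl
    exact hll2 (hpu p hp p2 hp1 hpp1 l1 hm l3 hl2 hpm hp1m hp3l2 hp1l2)
  obtain ⟨n, hn, hpn, hp3n⟩ := hpp p hp p3 hp3 hne
  have hnl1 : l1 ≠ n := by
    rintro rfl
    exact hll2 (hpu p2 hp1 p3 hp3 hp2p3 l1 hm l3 hl2 hp1m hp3n hp1l2 hp3l2)
  have hnl3 : n ≠ l3 := by
    rintro rfl
    exact hll2 (hpu p hp p2 hp1 hpp1 l1 hm n hl2 hpm hp1m hpn hp1l2)
  refine ⟨[(p, n), (p3, n), (p3, l3)], ⟨isGal_three.2 ⟨_, _, _, rfl, ?_, ?_, ?_⟩, rfl⟩, ?_⟩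
  · exact (fa_j hij).2 ⟨⟨hp, hm, hpm⟩, hn, hpn, rfl, hnl1⟩
  · exact (fa_i hij).2 ⟨⟨hp, hn, hpn⟩, hp3, hp3n, rfl, hne⟩
  · exact (fa_j hij).2 ⟨⟨hp3, hn, hp3n⟩, hl2, hp3l2, rfl, hnl3⟩
  · rintro l' ⟨h4, h5⟩
    obtain ⟨⟨q1, m1⟩, ⟨q2, m2⟩, ⟨q3, m3⟩, rfl, h6, h7, h8⟩ := isGal_three.1 h4
    rw [fa_j hij] at h6 h8
    rw [fa_i hij] at h7
    obtain ⟨-, hm1, hpm1, rfl, hne1⟩ := h6
    obtain ⟨-, hq2, hq2m1, rfl, hne2⟩ := h7
    obtain ⟨-, hm3, hq2m3, rfl, hne3⟩ := h8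
    have h9 : (q3, m3) = (p3, l3) := h5
    rw [Prod.mk.injEq] at h9
    obtain ⟨rfl, rfl⟩ := h9
    have h10 := hpu q1 hp q3 hp3 hne m2 hm1 n hn hpm1 hq2m1 hpn hp3n
    subst h10
    rfl

theorem getLastD_swap {X Y : Type*} (c : X × Y) (l : List (X × Y)) :
    (l.map Prod.swap).getLastD c.swap = (l.getLastD c).swap := by
  induction l generalizing c with
  | nil => rfl
  | cons d l ih => rw [List.map_cons, List.getLastD_cons, List.getLastD_cons, ih]

theorem isGal_swap {c : X × Y} {f : List I} {l : List (X × Y)} (h : IsGal (FA i j pt ln inc) f c l) :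
    IsGal (FA j i ln pt (fun y x => inc x y)) f c.swap (l.map Prod.swap) := by
  induction f generalizing c l with
  | nil => rw [isGal_nil_iff.1 h]; simp
  | cons a f ih =>
    obtain ⟨d, l', rfl, h1, h2⟩ := isGal_cons_iff.1 h
    refine ⟨?_, ih h2⟩
    obtain ⟨⟨h3, h4, h5⟩, ⟨h6, h7, h8⟩, h9⟩ := h1
    exact ⟨⟨h4, h3, h5⟩, ⟨h7, h6, h8⟩, h9.symm⟩

/-- two distinct lines meet in exactly one point: galleries `j i j` -/
theorem gal_three' (hij : i ≠ j) (hpp : ∀ l ∈ ln, ∀ l' ∈ ln, l ≠ l' → ∃ p ∈ pt, inc p l ∧ inc p l')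
    (hpu : ∀ p ∈ pt, ∀ p' ∈ pt, p ≠ p' → ∀ l ∈ ln, ∀ l' ∈ ln, inc p l → inc p' l → inc p l' → inc p' l' → l = l')
    (c : X × Y) (l : List (X × Y)) (hl : IsGal (FA i j pt ln inc) (alt j i 3) c l) :
    ∃! l', IsGal (FA i j pt ln inc) (alt i j 3) c l' ∧ l'.getLastD c = l.getLastD c := by
  obtain ⟨l', ⟨h1, h2⟩, h3⟩ := gal_three (i := j) (j := i) (pt := ln) (ln := pt) (inc := fun y x => inc x y) hij.symm
    hpp (fun y hy y' hy' hne x hx x' hx' h1 h2 h3 h4 => by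
      by_contra hcon
      exact hne (hpu x hx x' hx' hcon y hy y' hy' h1 h3 h2 h4)) c.swap _ (isGal_swap hl)
  have key : ∀ l : List (X × Y), (l.map Prod.swap).getLastD c.swap = (l.getLastD c).swap := fun l =>
    getLastD_swap c l
  have key2 : ∀ l : List (Y × X), (l.map Prod.swap).getLastD c = (l.getLastD c.swap).swap := fun l => by
    have := getLastD_swap c.swap l
    rwa [Prod.swap_swap] at this
  have hinv : ∀ l : List (Y × X), (l.map Prod.swap).map Prod.swap = l := fun l => by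
    rw [List.map_map]; simp
  refine ⟨l'.map Prod.swap, ⟨?_, ?_⟩, ?_⟩
  · have := isGal_swap h1
    rwa [Prod.swap_swap] at this
  · rw [key2, h2, key, Prod.swap_swap]
  · rintro l'' ⟨h4, h5⟩
    have h6 := h3 (l''.map Prod.swap) ⟨isGal_swap h4, by rw [key, key, h5]⟩
    rw [← h6, List.map_map]; simp

end geometry

/-! ### Groups acting on a geometry -/

section flags

variable {X Y : Type*} [MulAction G X] [MulAction G Y]

/-- `⟨Pi, Pj⟩` acts flag-transitively on the geometry `(pt, ln, inc)`, and `B` is the stabiliser of the flag `(p, l)` -/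
structure Flags (B Pi Pj : Subgroup G) (pt : Set X) (ln : Set Y) (inc : X → Y → Prop) (p : X) (l : Y) : Prop where
  hp : p ∈ pt
  hl : l ∈ ln
  hpl : inc p l
  Bi : B ≤ Pi
  Bj : B ≤ Pj
  pts : ∀ g, g ∈ Pi ∨ g ∈ Pj → ∀ x ∈ pt, g • x ∈ pt
  lns : ∀ g, g ∈ Pi ∨ g ∈ Pj → ∀ y ∈ ln, g • y ∈ ln
  inc' : ∀ g, g ∈ Pi ∨ g ∈ Pj → ∀ x ∈ pt, ∀ y ∈ ln, inc x y → inc (g • x) (g • y)
  fixl : ∀ g ∈ Pi, g • l = l
  fixp : ∀ g ∈ Pj, g • p = p
  trp : ∀ x ∈ pt, inc x l → ∃ g ∈ Pi, g • p = x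
  trl : ∀ y ∈ ln, inc p y → ∃ g ∈ Pj, g • l = y
  stab : ∀ g ∈ Pi ⊔ Pj, g • p = p → g • l = l → g ∈ B

namespace Flags

variable {i j : I} {pt : Set X} {ln : Set Y} {inc : X → Y → Prop} {p : X} {l : Y}
  (F : Flags B (P i) (P j) pt ln inc p l)

include F

theorem mem_all : ∀ g ∈ P i ⊔ P j, (∀ x ∈ pt, g • x ∈ pt) ∧ (∀ y ∈ ln, g • y ∈ ln) ∧
    ∀ x ∈ pt, ∀ y ∈ ln, inc x y → inc (g • x) (g • y) := by
  intro g hg
  rw [Subgroup.sup_eq_closure] at hg
  induction hg using Subgroup.closure_induction_left with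
  | one => simp
  | mul_left a ha b hb ih =>
    refine ⟨fun x hx => ?_, fun y hy => ?_, fun x hx y hy h => ?_⟩
    · rw [mul_smul]; exact F.pts a ha _ (ih.1 x hx)
    · rw [mul_smul]; exact F.lns a ha _ (ih.2.1 y hy)
    · rw [mul_smul, mul_smul]; exact F.inc' a ha _ (ih.1 x hx) _ (ih.2.1 y hy) (ih.2.2 x hx y hy h)
  | inv_mul_cancel a ha b hb ih =>
    have ha' : a⁻¹ ∈ P i ∨ a⁻¹ ∈ P j := ha.imp (fun h => inv_mem h) (fun h => inv_mem h)
    refine ⟨fun x hx => ?_, fun y hy => ?_, fun x hx y hy h => ?_⟩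
    · rw [mul_smul]; exact F.pts _ ha' _ (ih.1 x hx)
    · rw [mul_smul]; exact F.lns _ ha' _ (ih.2.1 y hy)
    · rw [mul_smul, mul_smul]; exact F.inc' _ ha' _ (ih.1 x hx) _ (ih.2.1 y hy) (ih.2.2 x hx y hy h)

theorem inc_iff {g : G} (hg : g ∈ P i ⊔ P j) {x : X} (hx : x ∈ pt) {y : Y} (hy : y ∈ ln) :
    inc (g • x) (g • y) ↔ inc x y := by
  refine ⟨fun h => ?_, (F.mem_all g hg).2.2 x hx y hy⟩
  have h1 := (F.mem_all g⁻¹ (inv_mem hg)).2.2 _ ((F.mem_all g hg).1 x hx) _ ((F.mem_all g hg).2.1 y hy) h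
  rwa [inv_smul_smul, inv_smul_smul] at h1

/-- the model of the residue -/
theorem model (hij : i ≠ j) :
    Model B P i j (FA i j pt ln inc) (fun g : G => ((g • p, g • l) : X × Y)) (P i ⊔ P j) where
  li := le_sup_left
  lj := le_sup_right
  inj x hx y hy h := by
    rw [Prod.mk.injEq] at h
    apply F.stab _ (mul_mem (inv_mem hx) hy)
    · rw [mul_smul, ← h.1, inv_smul_smul]
    · rw [mul_smul, ← h.2, inv_smul_smul]
  eqB x _ b hb := by
    rw [mul_smul, mul_smul, F.fixp b (F.Bj hb), F.fixl b (F.Bi hb)]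
  adj k hk x hx q hq hqB := by
    have hxq : x * q ∈ P i ⊔ P j := by
      rcases hk with rfl | rfl
      · exact mul_mem hx (Subgroup.mem_sup_left hq)
      · exact mul_mem hx (Subgroup.mem_sup_right hq)
    refine ⟨⟨(F.mem_all x hx).1 p F.hp, (F.mem_all x hx).2.1 l F.hl, (F.mem_all x hx).2.2 p F.hp l F.hl F.hpl⟩,
      ⟨(F.mem_all _ hxq).1 p F.hp, (F.mem_all _ hxq).2.1 l F.hl, (F.mem_all _ hxq).2.2 p F.hp l F.hl F.hpl⟩, ?_⟩
    rcases hk with rfl | rfl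
    · refine Or.inl ⟨rfl, ?_, ?_⟩
      · show x • l = (x * q) • l
        rw [mul_smul, F.fixl q hq]
      · intro h
        have h : x • p = (x * q) • p := h
        rw [mul_smul, smul_left_cancel_iff] at h
        exact hqB (F.stab q (Subgroup.mem_sup_left hq) h.symm (F.fixl q hq))
    · refine Or.inr ⟨rfl, ?_, ?_⟩
      · show x • p = (x * q) • p
        rw [mul_smul, F.fixp q hq]
      · intro h
        have h : x • l = (x * q) • l := h
        rw [mul_smul, smul_left_cancel_iff] at h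
        exact hqB (F.stab q (Subgroup.mem_sup_right hq) (F.fixp q hq) h.symm)
  sur k hk x hx d h := by
    obtain ⟨y, m⟩ := d
    rcases hk with rfl | rfl
    · rw [fa_i hij] at h
      obtain ⟨⟨h1, h2, h3⟩, h4, h5, rfl, h6⟩ := h
      have h7 := (F.mem_all x⁻¹ (inv_mem hx)).1 y h4
      have h8 : inc (x⁻¹ • y) l := by
        rw [← F.inc_iff hx h7 F.hl, smul_inv_smul]; exact h5
      obtain ⟨g, hg, h9⟩ := F.trp _ h7 h8
      refine ⟨g, hg, fun hgB => h6 ?_, ?_⟩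
      · rw [eq_inv_smul_iff] at h9
        rw [← h9, F.fixp g (F.Bj hgB)]
      · rw [eq_inv_smul_iff] at h9
        rw [mul_smul, mul_smul, h9, F.fixl g hg]
    · rw [fa_j hij] at h
      obtain ⟨⟨h1, h2, h3⟩, h4, h5, rfl, h6⟩ := h
      have h7 := (F.mem_all x⁻¹ (inv_mem hx)).2.1 m h4
      have h8 : inc p (x⁻¹ • m) := by
        rw [← F.inc_iff hx F.hp h7, smul_inv_smul]; exact h5
      obtain ⟨g, hg, h9⟩ := F.trl _ h7 h8
      refine ⟨g, hg, fun hgB => h6 ?_, ?_⟩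
      · rw [eq_inv_smul_iff] at h9
        rw [← h9, F.fixl g (F.Bi hgB)]
      · rw [eq_inv_smul_iff] at h9
        rw [mul_smul, mul_smul, h9, F.fixp g hg]

/-- **projective plane** -/
theorem gpp_three (hBP : ∀ i, B ≤ P i) (hij : i ≠ j)
    (hpp : ∀ p ∈ pt, ∀ p' ∈ pt, p ≠ p' → ∃ l ∈ ln, inc p l ∧ inc p' l)
    (hpu : ∀ p ∈ pt, ∀ p' ∈ pt, p ≠ p' → ∀ l ∈ ln, ∀ l' ∈ ln, inc p l → inc p' l → inc p l' → inc p' l' → l = l')
    (hll : ∀ l ∈ ln, ∀ l' ∈ ln, l ≠ l' → ∃ p ∈ pt, inc p l ∧ inc p l') : GPp B P i j 3 ∧ GPp B P j i 3 :=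
  ⟨(F.model hij).gpp hBP fun l hl => gal_three hij hpp hpu _ l hl,
    (F.model hij).symm.gpp hBP fun l hl => gal_three' hij hll hpu _ l hl⟩

end Flags

end flags

end Cfsg.Agent.ParSys.FlagGP
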