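import Cfsg.Agent.ParSys.FlagGP

/-!
# Flags of a generalised quadrangle

`FlagFour.gal_four`, `FlagFour.gal_four'` : galleries of length four in the chamber system of the flags of a generalised
quadrangle; `FlagFour.gpp_four` : a group which acts flag-transitively on a generalised quadrangle.
-/

set_option autoImplicit false

namespace Cfsg.Agent.ParSys.FlagFour

open Cfsg.Agent.ParSys Cfsg.Agent.ParSys.Free Cfsg.Agent.ParSys.RankTwo Cfsg.Agent.ParSys.FlagGP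

variable {G : Type*} [Group G] {I : Type*} {B : Subgroup G} {P : I → Subgroup G} {T : Type*}

section geometry

variable {X Y : Type*} {i j : I} {pt : Set X} {ln : Set Y} {inc : X → Y → Prop}

theorem isGal_four {A : I → T → T → Prop} {a b c d : I} {x : T} {l : List T} :
    IsGal A [a, b, c, d] x l ↔ ∃ y z w v, l = [y, z, w, v] ∧ A a x y ∧ A b y z ∧ A c z w ∧ A d w v := by
  constructor
  · intro h
    obtain ⟨y, l1, rfl, h1, h2⟩ := isGal_cons_iff.1 h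
    obtain ⟨z, w, v, rfl, h3, h4, h5⟩ := isGal_three.1 h2
    exact ⟨y, z, w, v, rfl, h1, h3, h4, h5⟩
  · rintro ⟨y, z, w, v, rfl, h1, h2, h3, h4⟩
    exact ⟨h1, h2, h3, h4, trivial⟩

/-- a generalised quadrangle: two distinct points are on at most one line, and for a point `p` off the line `l` there
is exactly one pair `(q, m)`, `p, q ∈ m`, `q ∈ l`: galleries `i j i j` -/
theorem gal_four (hij : i ≠ j)
    (hpu : ∀ p ∈ pt, ∀ p' ∈ pt, p ≠ p' → ∀ l ∈ ln, ∀ l' ∈ ln, inc p l → inc p' l → inc p l' → inc p' l' → l = l')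
    (hq : ∀ p ∈ pt, ∀ l ∈ ln, ¬ inc p l → ∃ q ∈ pt, ∃ m ∈ ln, inc p m ∧ inc q m ∧ inc q l ∧
      ∀ q' ∈ pt, ∀ m' ∈ ln, inc p m' → inc q' m' → inc q' l → q' = q ∧ m' = m)
    (c : X × Y) (l : List (X × Y)) (hl : IsGal (FA i j pt ln inc) (alt i j 4) c l) :
    ∃! l', IsGal (FA i j pt ln inc) (alt j i 4) c l' ∧ l'.getLastD c = l.getLastD c := by
  have e1 : alt i j 4 = [i, j, i, j] := rfl
  have e2 : alt j i 4 = [j, i, j, i] := rfl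
  rw [e1] at hl
  rw [e2]
  obtain ⟨⟨p1, l1⟩, ⟨p2, l2⟩, ⟨p3, l3⟩, ⟨p4, l4⟩, rfl, h1, h2, h3, h4⟩ := isGal_four.1 hl
  obtain ⟨p, m⟩ := c
  rw [fa_i hij] at h1 h3
  rw [fa_j hij] at h2 h4
  obtain ⟨⟨hp, hm, hpm⟩, hp1, hp1m, rfl, hpp1⟩ := h1
  obtain ⟨-, hl2, hp1l2, rfl, hll2⟩ := h2
  obtain ⟨-, hp3, hp3l2, rfl, hp2p3⟩ := h3
  obtain ⟨-, hl4, hp3l4, rfl, hl34⟩ := h4
  -- now: `p, p2 ∈ l1`, `p2, p4 ∈ l3`, `p4 ∈ l4`, `l1 ≠ l3 ≠ l4`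
  have huniq : ∀ x ∈ pt, ∀ y ∈ ln, ¬ inc x y → ∀ q ∈ pt, ∀ n ∈ ln, ∀ q' ∈ pt, ∀ n' ∈ ln, inc x n → inc q n →
      inc q y → inc x n' → inc q' n' → inc q' y → q = q' ∧ n = n' := by
    intro x hx y hy hxy q hq0 n hn q' hq' n' hn' h1 h2 h3 h4 h5 h6
    obtain ⟨q1, -, n1, -, -, -, -, h7⟩ := hq x hx y hy hxy
    obtain ⟨e3, e4⟩ := h7 q hq0 n hn h1 h2 h3
    obtain ⟨e5, e6⟩ := h7 q' hq' n' hn' h4 h5 h6
    exact ⟨e3.trans e5.symm, e4.trans e6.symm⟩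
  have hpl3 : ¬ inc p l3 := fun h => hll2 (hpu p hp p2 hp1 hpp1 l1 hm l3 hl2 hpm hp1m h hp1l2)
  have hp4l1 : ¬ inc p4 l1 := fun h => hll2 (hpu p2 hp1 p4 hp3 hp2p3 l1 hm l3 hl2 hp1m h hp1l2 hp3l2)
  have hpl4 : ¬ inc p l4 := fun h =>
    hp2p3 (huniq p hp l3 hl2 hpl3 p2 hp1 l1 hm p4 hp3 l4 hl4 hpm hp1m hp1l2 h hp3l4 hp3l2).1
  obtain ⟨q, hq1, n, hn, hpn, hqn, hql4, hqu⟩ := hq p hp l4 hl4 hpl4
  have hqp : p ≠ q := by
    rintro rfl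
    exact hpl4 hql4
  have hnl4 : n ≠ l4 := by
    rintro rfl
    exact hpl4 hpn
  have hqp4 : q ≠ p4 := by
    rintro rfl
    exact hp2p3 (huniq p hp l3 hl2 hpl3 p2 hp1 l1 hm q hp3 n hn hpm hp1m hp1l2 hpn hqn hp3l2).1
  have hnl1 : l1 ≠ n := by
    rintro rfl
    exact hl34 (huniq p4 hp3 l1 hm hp4l1 p2 hp1 l3 hl2 q hq1 l4 hl4 hp3l2 hp1l2 hp1m hp3l4 hql4 hqn).2
  refine ⟨[(p, n), (q, n), (q, l4), (p4, l4)], ⟨isGal_four.2 ⟨_, _, _, _, rfl, ?_, ?_, ?_, ?_⟩, rfl⟩, ?_⟩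
  · exact (fa_j hij).2 ⟨⟨hp, hm, hpm⟩, hn, hpn, rfl, hnl1⟩
  · exact (fa_i hij).2 ⟨⟨hp, hn, hpn⟩, hq1, hqn, rfl, hqp⟩
  · exact (fa_j hij).2 ⟨⟨hq1, hn, hqn⟩, hl4, hql4, rfl, hnl4⟩
  · exact (fa_i hij).2 ⟨⟨hq1, hl4, hql4⟩, hp3, hp3l4, rfl, hqp4⟩
  · rintro l' ⟨h4, h5⟩
    obtain ⟨⟨q1, m1⟩, ⟨q2, m2⟩, ⟨q3, m3⟩, ⟨q4, m4⟩, rfl, h6, h7, h8, h9⟩ := isGal_four.1 h4
    rw [fa_j hij] at h6 h8
    rw [fa_i hij] at h7 h9
    obtain ⟨-, hm1, hpm1, rfl, hne1⟩ := h6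
    obtain ⟨-, hq2, hq2m1, rfl, hne2⟩ := h7
    obtain ⟨-, hm3, hq2m3, rfl, hne3⟩ := h8
    obtain ⟨-, hq4, hq4m3, rfl, hne4⟩ := h9
    have h10 : (q4, m4) = (p4, l4) := h5
    rw [Prod.mk.injEq] at h10
    obtain ⟨rfl, rfl⟩ := h10
    obtain ⟨rfl, rfl⟩ := hqu _ hq2 _ hm1 hpm1 hq2m1 hq2m3
    rfl

/-- the dual: galleries `j i j i` -/
theorem gal_four' (hij : i ≠ j)
    (hpu : ∀ p ∈ pt, ∀ p' ∈ pt, p ≠ p' → ∀ l ∈ ln, ∀ l' ∈ ln, inc p l → inc p' l → inc p l' → inc p' l' → l = l')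
    (hq : ∀ p ∈ pt, ∀ l ∈ ln, ¬ inc p l → ∃ q ∈ pt, ∃ m ∈ ln, inc p m ∧ inc q m ∧ inc q l ∧
      ∀ q' ∈ pt, ∀ m' ∈ ln, inc p m' → inc q' m' → inc q' l → q' = q ∧ m' = m)
    (c : X × Y) (l : List (X × Y)) (hl : IsGal (FA i j pt ln inc) (alt j i 4) c l) :
    ∃! l', IsGal (FA i j pt ln inc) (alt i j 4) c l' ∧ l'.getLastD c = l.getLastD c := by
  obtain ⟨l', ⟨h1, h2⟩, h3⟩ := gal_four (i := j) (j := i) (pt := ln) (ln := pt) (inc := fun y x => inc x y) hij.symm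
    (fun y hy y' hy' hne x hx x' hx' h1 h2 h3 h4 => by
      by_contra hcon
      exact hne (hpu x hx x' hx' hcon y hy y' hy' h1 h3 h2 h4))
    (fun y hy x hx hxy => by
      obtain ⟨q, hq1, m, hm, h1, h2, h3, h4⟩ := hq x hx y hy hxy
      refine ⟨m, hm, q, hq1, h3, h2, h1, fun m' hm' q' hq' h5 h6 h7 => ?_⟩
      exact (h4 q' hq' m' hm' h7 h6 h5).symm) c.swap _ (isGal_swap hl)
  have key : ∀ l : List (X × Y), (l.map Prod.swap).getLastD c.swap = (l.getLastD c).swap := fun l =>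
    getLastD_swap c l
  have key2 : ∀ l : List (Y × X), (l.map Prod.swap).getLastD c = (l.getLastD c.swap).swap := fun l => by
    have := getLastD_swap c.swap l
    rwa [Prod.swap_swap] at this
  refine ⟨l'.map Prod.swap, ⟨?_, ?_⟩, ?_⟩
  · have := isGal_swap h1
    rwa [Prod.swap_swap] at this
  · rw [key2, h2, key, Prod.swap_swap]
  · rintro l'' ⟨h4, h5⟩
    have h6 := h3 (l''.map Prod.swap) ⟨isGal_swap h4, by rw [key, key, h5]⟩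
    rw [← h6, List.map_map]; simp

end geometry

section flags

variable {X Y : Type*} [MulAction G X] [MulAction G Y] {i j : I} {pt : Set X} {ln : Set Y} {inc : X → Y → Prop}
  {p : X} {l : Y}

/-- **generalised quadrangle** -/
theorem _root_.Cfsg.Agent.ParSys.FlagGP.Flags.gpp_four (F : Flags B (P i) (P j) pt ln inc p l)
    (hBP : ∀ i, B ≤ P i) (hij : i ≠ j)
    (hpu : ∀ p ∈ pt, ∀ p' ∈ pt, p ≠ p' → ∀ l ∈ ln, ∀ l' ∈ ln, inc p l → inc p' l → inc p l' → inc p' l' → l = l')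
    (hq : ∀ p ∈ pt, ∀ l ∈ ln, ¬ inc p l → ∃ q ∈ pt, ∃ m ∈ ln, inc p m ∧ inc q m ∧ inc q l ∧
      ∀ q' ∈ pt, ∀ m' ∈ ln, inc p m' → inc q' m' → inc q' l → q' = q ∧ m' = m) :
    GPp B P i j 4 ∧ GPp B P j i 4 :=
  ⟨(F.model hij).gpp hBP fun l hl => gal_four hij hpu hq _ l hl,
    (F.model hij).symm.gpp hBP fun l hl => gal_four' hij hpu hq _ l hl⟩

end flags

end Cfsg.Agent.ParSys.FlagFour
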