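import Mathlib
import Cfsg.Agent.ParSys.FreeMain

/-!
# THEOREM FREE with local closure: BN-pairs with full stabilisers

The field `clo` of `Free.Sys` (every conjugate in `G` of an element of `U` which lies in `B` lies in `U`) is replaced by
the local one (conjugation by the elements of the `P i` only).  So `B` can be the full stabiliser in `G` of a chamber
(field automorphisms and odd kernels included) and `U` its "unipotent linear" normal subgroup.

Output: `SysL.card_le` : `|U| ≤ q_{w0}`; if `|U| = q_{w0}`: `SysL.cosets`, `SysL.exists_bnPair`, `SysL.isLie`.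
-/

set_option autoImplicit false

namespace Cfsg.Agent.ParSys.FreeLoc

open Cfsg.Agent.ParSys Cfsg.Agent.ParSys.Free Cfsg.Agent.Tits.Core

/-! ### Fixed galleries with a local property -/

section spread

variable {C I : Type*} {A : I → C → C → Prop} {m : I → I → ℕ} {g : C → C}

/-- the property 'good and fixes a gallery of type `F`' spreads to the neighbours -/
theorem spread (hC : Cham A m) (hg : ∀ i c d, A i c d → A i (g c) (g d)) (hm : ∀ i j, m i j = m j i)
    {Good : C → Prop} (hgood : ∀ i c d, Good c → g c = c → g d = d → A i c d → Good d)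
    (hpan : ∀ i c d e, Good c → g c = c → g d = d → A i c d → A i c e → g e = e) {F : List I}
    (hF : ∀ i, ∃ f i', Br m F (i :: f) ∧ Br m F (f ++ [i'])) {c d : C} (hcg : Good c) (h : FG A g F c d) {i : I}
    {x : C} (hx : A i c x) : Good x ∧ ∃ d', FG A g F x d' := by
  obtain ⟨f, i', hf1, hf2⟩ := hF i
  have h1 := FG.br hC hg hf1 h
  obtain ⟨c1, ⟨hc, h2⟩, h3⟩ := fg_cons.1 h1
  have hgx : g x = x := hpan i c c1 x hcg hc h3.left h2 hx
  refine ⟨hgood i c x hcg hc hgx hx, ?_⟩
  by_cases hxc : x = c1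
  · subst hxc
    have h4 := FG.br hC hg hf2 h
    obtain ⟨e, h5, h6, h7⟩ := fg_snoc.1 h4
    refine ⟨e, FG.br hC hg (hf2.symm hm) (fg_snoc.2 ⟨d, h3, hC.symm h6, h5.right⟩)⟩
  · refine ⟨d, FG.br hC hg (hf1.symm hm) (fg_cons.2 ⟨c1, ⟨hgx, hC.trans hx h2 hxc⟩, h3⟩)⟩

/-- **THEOREM FREE (1)**, local form -/
theorem fix_all (hC : Cham A m) (hg : ∀ i c d, A i c d → A i (g c) (g d)) (hm : ∀ i j, m i j = m j i)
    {Good : C → Prop} (hgood : ∀ i c d, Good c → g c = c → g d = d → A i c d → Good d)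
    (hpan : ∀ i c d e, Good c → g c = c → g d = d → A i c d → A i c e → g e = e) {F : List I}
    (hF : ∀ i, ∃ f i', Br m F (i :: f) ∧ Br m F (f ++ [i'])) {c d : C} (hcg : Good c) (h : FG A g F c d) {x : C}
    (hconn : Relation.ReflTransGen (fun y z => ∃ i, A i y z) c x) : Good x ∧ g x = x := by
  have key : Good x ∧ ∃ d', FG A g F x d' := by
    induction hconn with
    | refl => exact ⟨hcg, d, h⟩
    | tail _ hbc ih =>
      obtain ⟨hb, d', hd'⟩ := ih
      obtain ⟨i, hi⟩ := hbc
      exact spread hC hg hm hgood hpan hF hb hd' hi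
  exact ⟨key.1, key.2.choose_spec.left⟩

end spread

/-! ### The system -/

variable {G : Type*} [Group G] {I : Type*} {M : CoxeterMatrix I} {W : Type*} [Group W]

/-- The data of THEOREM FREE with local closure. -/
structure SysL (cs : CoxeterSystem M W) (B : Subgroup G) (P : I → Subgroup G) (U : Subgroup G) (q : I → ℕ) :
    Prop where
  le : ∀ i, B ≤ P i
  gen : ⨆ i, P i = ⊤
  gp : GP B P (fun i j => M i j)
  /-- every panel has `q i + 1` chambers -/
  card : ∀ i, B.relIndex (P i) = q i + 1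
  two : ∀ i, 2 ≤ q i
  U_le : U ≤ B
  /-- an element of `U` which fixes one more chamber of the panel `P i / B` fixes the panel -/
  pan : ∀ i, ∀ g ∈ U, ∀ x ∈ P i, x ∉ B → x⁻¹ * g * x ∈ B → ∀ y ∈ P i, y⁻¹ * g * y ∈ B
  /-- local closure -/
  clo : ∀ i, ∀ g ∈ U, ∀ x ∈ P i, x⁻¹ * g * x ∈ B → x⁻¹ * g * x ∈ U
  /-- an element of `U` which lies in all conjugates of `B` is trivial -/
  core : ∀ g ∈ U, (∀ x, x⁻¹ * g * x ∈ B) → g = 1

namespace SysL

variable {cs : CoxeterSystem M W} {B : Subgroup G} {P : I → Subgroup G} {U : Subgroup G} {q : I → ℕ}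
  (h : SysL cs B P U q)

include h

theorem ex (i : I) : ∃ x ∈ P i, x ∉ B := by
  by_contra hcon
  push Not at hcon
  have h1 : P i ≤ B := hcon
  have h2 := h.card i
  have h3 := h.two i
  rw [Subgroup.relIndex_eq_one.2 h1] at h2
  omega

theorem cham : Cham (adj B P) (fun i j => M i j) := Free.cham h.le h.ex h.gp

theorem card_adj' [Finite G] (i : I) (c : G ⧸ B) : Nat.card {d // adj B P i c d} = q i := by
  have h1 := card_adj h.le i c
  rw [h.card] at h1
  omega

/-- `B` normalises `U` (if there is an index) -/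
theorem norm (i : I) {b u : G} (hb : b ∈ B) (hu : u ∈ U) : b⁻¹ * u * b ∈ U :=
  h.clo i u hu b (h.le i hb) (B.mul_mem (B.mul_mem (B.inv_mem hb) (h.U_le hu)) hb)

theorem norm' (i : I) {b u : G} (hb : b ∈ B) (hu : u ∈ U) : b * u * b⁻¹ ∈ U := by
  have := h.norm i (B.inv_mem hb) hu
  rwa [inv_inv] at this

/-- the element `u` is unipotent at the chamber `c` -/
def Good (U : Subgroup G) (B : Subgroup G) (u : G) (c : G ⧸ B) : Prop := ∃ x : G, c = (x : G ⧸ B) ∧ x⁻¹ * u * x ∈ U

theorem good_mk (i : I) {u x : G} : Good U B u (x : G ⧸ B) ↔ x⁻¹ * u * x ∈ U := by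
  constructor
  · rintro ⟨y, hy, hu⟩
    rw [QuotientGroup.eq] at hy
    have h1 := h.norm' i hy hu
    have e : x⁻¹ * y * (y⁻¹ * u * y) * (x⁻¹ * y)⁻¹ = x⁻¹ * u * x := by group
    rwa [e] at h1
  · intro hu
    exact ⟨x, rfl, hu⟩

theorem good_step {u : G} (i : I) (c d : G ⧸ B) (hc : Good U B u c) (hd : u • d = d) (hcd : adj B P i c d) :
    Good U B u d := by
  induction c using QuotientGroup.induction_on with
  | _ x =>
  induction d using QuotientGroup.induction_on with
  | _ y =>
  rw [h.good_mk i] at hc ⊢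
  rw [Sys.smul_mk_eq] at hd
  rw [adj_mk h.le] at hcd
  have e : (x⁻¹ * y)⁻¹ * (x⁻¹ * u * x) * (x⁻¹ * y) = y⁻¹ * u * y := by group
  have h1 := h.clo i _ hc (x⁻¹ * y) hcd.1 (by rw [e]; exact hd)
  rwa [e] at h1

/-- an element which is unipotent at `c` and fixes one more chamber of a panel at `c` fixes the panel -/
theorem pan' {u : G} (i : I) (c d e : G ⧸ B) (hc : Good U B u c) (hd : u • d = d)
    (hcd : adj B P i c d) (hce : adj B P i c e) : u • e = e := by
  induction c using QuotientGroup.induction_on with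
  | _ x =>
  induction d using QuotientGroup.induction_on with
  | _ y =>
  induction e using QuotientGroup.induction_on with
  | _ z =>
  rw [h.good_mk i] at hc
  rw [Sys.smul_mk_eq] at hd ⊢
  rw [adj_mk h.le] at hcd hce
  have h2 := h.pan i _ hc (x⁻¹ * y) hcd.1 hcd.2 (by
    have e : (x⁻¹ * y)⁻¹ * (x⁻¹ * u * x) * (x⁻¹ * y) = y⁻¹ * u * y := by group
    rw [e]; exact hd) (x⁻¹ * z) hce.1
  have e : (x⁻¹ * z)⁻¹ * (x⁻¹ * u * x) * (x⁻¹ * z) = z⁻¹ * u * z := by group
  rwa [e] at h2

theorem msymm (i j : I) : (fun i j => M i j) i j = (fun i j => M i j) j i := by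
  have := h
  exact M.symmetric i j

/-- the words which are used: reduced words of `w0` -/
theorem word [Finite I] [Finite W] {F : List I} (hF : cs.IsReduced F) (hw : cs.wordProd F = w0 cs) (i : I) :
    ∃ f i', Br (fun i j => M i j) F (i :: f) ∧ Br (fun i j => M i j) F (f ++ [i']) := by
  have := h
  obtain ⟨f, hf, he⟩ := cs.exists_isReduced (cs.simple i * w0 cs)
  have hlen : f.length + 1 = cs.length (w0 cs) := by
    have h1 := Tits.Exchange.length_mul_w0 cs (cs.simple i)
    rw [cs.length_simple] at h1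
    have h2 : cs.length (cs.simple i * w0 cs) = f.length := by rw [he]; exact hf
    omega
  have p1 : cs.wordProd (i :: f) = w0 cs := by
    rw [cs.wordProd_cons, ← he, ← mul_assoc, cs.simple_mul_simple_self, one_mul]
  have p2 : cs.wordProd (f ++ [op cs i]) = w0 cs := by
    rw [cs.wordProd_append, cs.wordProd_singleton, ← he, Tits.Exchange.simple_op]
    calc cs.simple i * w0 cs * (w0 cs * cs.simple i * w0 cs)
        = cs.simple i * (w0 cs * w0 cs) * cs.simple i * w0 cs := by group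
      _ = w0 cs := by rw [Tits.Exchange.w0_mul_self, mul_one, cs.simple_mul_simple_self, one_mul]
  refine ⟨f, op cs i, br_of_reduced cs hF ?_ (hw.trans p1.symm), br_of_reduced cs hF ?_ (hw.trans p2.symm)⟩
  · show cs.length (cs.wordProd (i :: f)) = (i :: f).length
    rw [p1, List.length_cons, hlen]
  · show cs.length (cs.wordProd (f ++ [op cs i])) = (f ++ [op cs i]).length
    rw [p2, List.length_append, List.length_singleton, hlen]

/-- **THEOREM FREE (1)**: `U` acts freely on the galleries of type `w0` from `B` -/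
theorem free [Finite I] [Finite W] {F : List I} (hF : cs.IsReduced F) (hw : cs.wordProd F = w0 cs) {u : G}
    (hu : u ∈ U) {l : List (G ⧸ B)} (hl : IsGal (adj B P) F ((1 : G) : G ⧸ B) l) (hfix : ∀ x ∈ l, u • x = x) :
    u = 1 := by
  have h1 : u • ((1 : G) : G ⧸ B) = ((1 : G) : G ⧸ B) := by
    rw [Sys.smul_mk_eq]
    simpa using h.U_le hu
  have hfg : FG (adj B P) (u • ·) F ((1 : G) : G ⧸ B) (l.getLastD ((1 : G) : G ⧸ B)) := ⟨h1, l, hl, hfix, rfl⟩
  apply h.core u hu
  intro x
  rw [← Sys.smul_mk_eq]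
  exact (fix_all (g := (u • ·)) h.cham (fun i c d hcd => adj_smul u hcd) h.msymm
    (Good := fun c => Good U B u c)
    (fun i c d hc _ hd hcd => h.good_step i c d hc hd hcd)
    (fun i c d e hc _ hd hcd hce => h.pan' i c d e hc hd hcd hce)
    (fun i => h.word hF hw i) ⟨1, rfl, by simpa using hu⟩ hfg (conn h.le h.gen _ _)).2

/-- **THEOREM FREE (2a)** -/
theorem card_le [Finite G] [Finite I] [Finite W] {F : List I} (hF : cs.IsReduced F)
    (hw : cs.wordProd F = w0 cs) : Nat.card U ≤ (F.map q).prod := by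
  obtain ⟨l, hl⟩ := exists_isGal h.cham.ex F ((1 : G) : G ⧸ B)
  refine Free.card_le (U := U) (A := adj B P) (fun u i c d hcd => adj_smul (u : G) hcd) h.card_adj' ?_ ?_ hl
  · intro u
    have := (Sys.smul_mk_eq (B := B) (u := u) (x := 1)).2 (by simpa using h.U_le u.2)
    exact this
  · intro u l hl hfix
    exact Subtype.ext (h.free hF hw u.2 hl hfix)

/-- transitivity on the galleries of type `w0` -/
theorem trans_w0 [Finite G] [Finite I] [Finite W] {F : List I} (hF : cs.IsReduced F)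
    (hw : cs.wordProd F = w0 cs) (hcard : (F.map q).prod ≤ Nat.card U) {l l' : List (G ⧸ B)}
    (hl : IsGal (adj B P) F ((1 : G) : G ⧸ B) l) (hl' : IsGal (adj B P) F ((1 : G) : G ⧸ B) l') :
    ∃ u : U, l' = l.map (u • ·) := by
  have hcard := le_antisymm (h.card_le hF hw) hcard
  refine Free.trans_of_card (U := U) (A := adj B P) (fun u i c d hcd => adj_smul (u : G) hcd) h.card_adj' ?_ ?_
    hcard hl hl'
  · intro u
    have := (Sys.smul_mk_eq (B := B) (u := u) (x := 1)).2 (by simpa using h.U_le u.2)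
    exact this
  · intro u l hl hfix
    exact Subtype.ext (h.free hF hw u.2 hl hfix)

/-- transitivity on the galleries of reduced type -/
theorem trans [Finite G] [Finite I] [Finite W] {F : List I} (hF : cs.IsReduced F)
    (hw : cs.wordProd F = w0 cs) (hcard : (F.map q).prod ≤ Nat.card U) {f : List I} (hf : cs.IsReduced f)
    {l l' : List (G ⧸ B)}
    (hl : IsGal (adj B P) f ((1 : G) : G ⧸ B) l) (hl' : IsGal (adj B P) f ((1 : G) : G ⧸ B) l') :
    ∃ u : U, l' = l.map (u • ·) := by
  obtain ⟨v, hv, he⟩ := cs.exists_isReduced ((cs.wordProd f)⁻¹ * w0 cs)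
  have p1 : cs.wordProd (f ++ v) = w0 cs := by
    rw [cs.wordProd_append, ← he, mul_inv_cancel_left]
  have hlen : f.length + v.length = cs.length (w0 cs) := by
    have h1 := Tits.Exchange.length_mul_w0 cs (cs.wordProd f)⁻¹
    rw [cs.length_inv, hf.eq] at h1
    have h2 : cs.length ((cs.wordProd f)⁻¹ * w0 cs) = v.length := by rw [he]; exact hv
    omega
  have hred : cs.IsReduced (f ++ v) := by
    show cs.length (cs.wordProd (f ++ v)) = (f ++ v).length
    rw [p1, List.length_append, hlen]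
  have hbr := br_of_reduced cs hF hred (hw.trans p1.symm)
  have hprod := prod_br h.cham h.msymm h.card_adj' hbr
  exact trans_prefix h.cham.ex (fun l l' hl hl' => h.trans_w0 hred p1 (hprod ▸ hcard) hl hl') hl hl'

theorem mem_D_iff [Finite I] [Finite W] {f : List I} (hf : cs.IsReduced f) {x : G} :
    x ∈ Sys.D cs B P (cs.wordProd f) ↔
      ∃ l, IsGal (adj B P) f ((1 : G) : G ⧸ B) l ∧ l.getLastD ((1 : G) : G ⧸ B) = (x : G ⧸ B) := by
  constructor
  · rintro ⟨f', hf', he, l, hl, hx⟩
    have hfg : FG (adj B P) id f' ((1 : G) : G ⧸ B) (x : G ⧸ B) := ⟨rfl, l, hl, fun _ _ => rfl, hx⟩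
    obtain ⟨-, l', hl', -, hx'⟩ := FG.br h.cham (fun i c d h => h) (br_of_reduced cs hf' hf he) hfg
    exact ⟨l', hl', hx'⟩
  · rintro ⟨l, hl, hx⟩
    exact ⟨f, hf, rfl, l, hl, hx⟩

theorem three [Finite G] (i : I) : ∃ x ∈ P i, ∃ y ∈ P i, x ∉ B ∧ y ∉ B ∧ x⁻¹ * y ∉ B := by
  have h1 := h.card_adj' i ((1 : G) : G ⧸ B)
  have h2 := h.two i
  have h3 : 1 < Nat.card {d // adj B P i ((1 : G) : G ⧸ B) d} := by omega
  have h4 : Nontrivial {d // adj B P i ((1 : G) : G ⧸ B) d} := Finite.one_lt_card_iff_nontrivial.1 h3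
  obtain ⟨⟨c, hc⟩, ⟨d, hd⟩, hne⟩ := exists_pair_ne {d // adj B P i ((1 : G) : G ⧸ B) d}
  induction c using QuotientGroup.induction_on with
  | _ x =>
  induction d using QuotientGroup.induction_on with
  | _ y =>
  rw [adj_mk h.le] at hc hd
  simp only [inv_one, one_mul] at hc hd
  refine ⟨x, hc.1, y, hd.1, hc.2, hd.2, fun hB => hne (Subtype.ext ?_)⟩
  exact QuotientGroup.eq.2 hB

/-- **THEOREM FREE (2b)**: the Bruhat decomposition -/
theorem cosets [Finite G] [Finite I] [Finite W] {F : List I} (hF : cs.IsReduced F)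
    (hw : cs.wordProd F = w0 cs) (hcard : (F.map q).prod ≤ Nat.card U) :
    Bruhat.Cosets cs B P (Sys.D cs B P) where
  single w := by
    obtain ⟨f, hf, rfl⟩ := cs.exists_isReduced w
    obtain ⟨l, hl⟩ := exists_isGal h.cham.ex f ((1 : G) : G ⧸ B)
    obtain ⟨x, hx⟩ := QuotientGroup.mk_surjective (l.getLastD ((1 : G) : G ⧸ B))
    refine ⟨x, ?_⟩
    ext y
    rw [h.mem_D_iff hf, DoubleCoset.mem_doubleCoset]
    constructor
    · rintro ⟨l', hl', hy⟩
      obtain ⟨u, rfl⟩ := h.trans hF hw hcard hf hl hl'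
      have h1 : (u : G) • ((1 : G) : G ⧸ B) = ((1 : G) : G ⧸ B) := by
        rw [Sys.smul_mk_eq]; simpa using h.U_le u.2
      have h2 := getLastD_map (fun c : G ⧸ B => (u : G) • c) ((1 : G) : G ⧸ B) l
      have h3 : (l.map (u • ·)).getLastD ((1 : G) : G ⧸ B) = (u : G) • (x : G ⧸ B) := by
        rw [hx, ← h2, h1]; rfl
      rw [h3] at hy
      have h4 : ((u * x : G) : G ⧸ B) = (y : G ⧸ B) := hy
      rw [QuotientGroup.eq] at h4
      exact ⟨u, h.U_le u.2, _, h4, by group⟩
    · rintro ⟨a, ha, b, hb, rfl⟩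
      have h1 : (a : G) • ((1 : G) : G ⧸ B) = ((1 : G) : G ⧸ B) := by
        rw [Sys.smul_mk_eq]; simpa using ha
      have h2 := hl.map (g := fun c : G ⧸ B => a • c) (fun i c d hcd => adj_smul a hcd)
      have h3 := getLastD_map (fun c : G ⧸ B => a • c) ((1 : G) : G ⧸ B) l
      simp only [h1] at h2 h3
      refine ⟨_, h2, ?_⟩
      rw [h3, ← hx]
      have e : a • (x : G ⧸ B) = ((a * x : G) : G ⧸ B) := rfl
      rw [e, QuotientGroup.eq]
      have e' : (a * x)⁻¹ * (a * x * b) = b := by group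
      rw [e']; exact hb
  one := ⟨[], by simp [CoxeterSystem.IsReduced], rfl, [], by simp, rfl⟩
  le := h.le
  up w i hlt x hx p hp hpB := by
    obtain ⟨f, hf, rfl⟩ := cs.exists_isReduced w
    obtain ⟨l, hl, hx⟩ := (h.mem_D_iff hf).1 hx
    have hred : cs.IsReduced (f ++ [i]) := by
      show cs.length (cs.wordProd (f ++ [i])) = (f ++ [i]).length
      rw [cs.wordProd_append, cs.wordProd_singleton, List.length_append, List.length_singleton, ← hf.eq]
      rcases cs.length_mul_simple (cs.wordProd f) i with h1 | h1 <;> omega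
    have e : cs.wordProd f * cs.simple i = cs.wordProd (f ++ [i]) := by
      rw [cs.wordProd_append, cs.wordProd_singleton]
    rw [e, h.mem_D_iff hred]
    refine ⟨l ++ [((x * p : G) : G ⧸ B)], hl.append ?_, ?_⟩
    · rw [hx]
      refine ⟨?_, trivial⟩
      rw [adj_mk h.le, inv_mul_cancel_left]
      exact ⟨hp, hpB⟩
    · rw [getLastD_append]; rfl
  gen := h.gen
  three := h.three

/-- **THEOREM FREE (2b)**: the BN-pair -/
theorem exists_bnPair [Finite G] [Finite I] [Finite W] {F : List I} (hF : cs.IsReduced F)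
    (hw : cs.wordProd F = w0 cs) (hcard : (F.map q).prod ≤ Nat.card U) :
    ∃ Q : Cfsg.BNPair G, Q.B = B ∧ Q.rank = Nat.card I ∧ (∃ e : I ≃ Q.S, ∀ i, (e i : G) ∈ P i) ∧
      ((∀ J : Set I, J.Nonempty → Jᶜ.Nonempty → ∃ i ∈ J, ∃ j ∈ Jᶜ, M i j ≠ 2) → Q.Irreducible) :=
  (h.cosets hF hw hcard).exists_bnPair

end SysL

end Cfsg.Agent.ParSys.FreeLoc
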