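import Cfsg.Agent.ParSys.LiePair

/-!
# Lie pairs, abstract form: a residue linked with a group with a split (B,N)-pair of rank two

`LinkPair`: the residue of type `{i, j}` is linked (`Link`) with the building of `E`, `U` acts on the residue as `U_E`.
-/

set_option autoImplicit false

namespace Cfsg.Agent.ParSys

open Subgroup
open Cfsg.Agent.Schreier.BNSch (Node)
open Cfsg.Agent.LieExceptional.BNPairCore

variable {G : Type*} [Group G] {I : Type*} {E : Type*} [Group E]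

/-- `u` acts on the residue as `v` -/
def Acts (B : Subgroup G) (θ : G → E → Prop) (u : G) (v : E) : Prop :=
  ∀ g x g', θ g x → θ g' (v * x) → (u * g)⁻¹ * g' ∈ B

theorem Acts.mul {B : Subgroup G} {θ : G → E → Prop} (hsur : ∀ e, ∃ g, θ g e) {u u' : G} {v v' : E}
    (h : Acts B θ u v) (h' : Acts B θ u' v') : Acts B θ (u * u') (v * v') := by
  intro g x g' h1 h2
  obtain ⟨g1, h3⟩ := hsur (v' * x)
  have h4 := h' _ _ _ h1 h3
  have h5 := h _ _ _ h3 (by rwa [mul_assoc] at h2)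
  have := mul_mem h4 h5
  have e : (u' * g)⁻¹ * g1 * ((u * g1)⁻¹ * g') = (u * u' * g)⁻¹ * g' := by group
  rwa [e] at this

theorem Acts.inv {B : Subgroup G} {θ : G → E → Prop} {u : G} {v : E} (h : Acts B θ u v) : Acts B θ u⁻¹ v⁻¹ := by
  intro g x g' h1 h2
  have h3 := inv_mem (h _ _ _ h2 (by rwa [mul_inv_cancel_left]))
  have e : ((u * g')⁻¹ * g)⁻¹ = (u⁻¹ * g)⁻¹ * g' := by group
  rwa [e] at h3

/-- the literal form of `Acts` -/
theorem Link.acts_of {B : Subgroup G} {P : I → Subgroup G} {i j : I} {B' : Subgroup E}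
    {P' : I → Subgroup E} {θ : G → E → Prop} (L : Link B P i j B' P' θ) {u : G} {v : E}
    (huv : ∀ g x, θ g x → θ (u * g) (v * x)) : Acts B θ u v := by
  intro g x g' h1 h2
  rw [L.memB _ _ _ _ (huv _ _ h1) h2, inv_mul_cancel]
  exact one_mem _

/-- every element of `E` is induced by an element of `G` -/
theorem Link.exists_acts {B : Subgroup G} {P : I → Subgroup G} {i j : I} {B' : Subgroup E}
    {P' : I → Subgroup E} {θ : G → E → Prop} (L : Link B P i j B' P' θ) (v : E) : ∃ u, Acts B θ u v := by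
  obtain ⟨u, hu⟩ := L.act v
  exact ⟨u, L.acts_of hu⟩

/-- The residue of type `{i, j}` is linked with the building of the split (B,N)-pair `Q` of rank two of `E`. -/
structure LinkPair (p : ℕ) (B U : Subgroup G) (P : I → Subgroup G) (i j : I) (Q : Cfsg.BNPair E)
    (UE : Subgroup E) (s t : E) (P' : I → Subgroup E) (θ : G → E → Prop) : Prop where
  link : Link B P i j Q.B P' θ
  Pi : P' i = Q.parabolic {s}
  Pj : P' j = Q.parabolic {t}
  split : FixBN.Split Q p UE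
  S : Q.S = {s, t}
  ne : s ≠ t
  U_le : U ≤ B
  /-- `U` acts on the residue as elements of `U_E` -/
  U_to : ∀ u ∈ U, ∃ e ∈ UE, Acts B θ u e
  /-- the elements of `U_E` are induced by elements of `U` -/
  U_of : ∀ e ∈ UE, ∃ u ∈ U, Acts B θ u e

/-- `T_2`: an element of the torus which centralises `U_E / V_s` and acts fixed-point-freely on `U_E / V_t`. -/
def SepE (Q : Cfsg.BNPair E) (UE : Subgroup E) (s t : E) : Prop :=
  ∃ h ∈ Q.B ⊓ Q.N, (∀ u ∈ UE, s⁻¹ * (h * u * h⁻¹ * u⁻¹) * s ∈ Q.B) ∧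
    ∀ u ∈ UE, t⁻¹ * (h * u * h⁻¹ * u⁻¹) * t ∈ Q.B → t⁻¹ * u * t ∈ Q.B

/-- `T_3`: an element of the torus which acts fixed-point-freely on `U_E / V_s`. -/
def FpfE (Q : Cfsg.BNPair E) (UE : Subgroup E) (s : E) : Prop :=
  ∃ h ∈ Q.B ⊓ Q.N, ∀ u ∈ UE, s⁻¹ * (h * u * h⁻¹ * u⁻¹) * s ∈ Q.B → s⁻¹ * u * s ∈ Q.B

namespace LinkPair

variable {p : ℕ} {B U : Subgroup G} {P : I → Subgroup G} {i j : I} {Q : Cfsg.BNPair E} {UE : Subgroup E} {s t : E}
  {P' : I → Subgroup E} {θ : G → E → Prop} (h : LinkPair p B U P i j Q UE s t P' θ)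

include h

theorem hs : s ∈ Q.S := by rw [h.S]; simp

theorem ht : t ∈ Q.S := by rw [h.S]; simp

theorem symm : LinkPair p B U P j i Q UE t s P' θ where
  link := h.link.symm
  Pi := h.Pj
  Pj := h.Pi
  split := h.split
  S := by rw [h.S, Set.pair_comm]
  ne := h.ne.symm
  U_le := h.U_le
  U_to := h.U_to
  U_of := h.U_of

/-- **The residue is a generalised polygon.** -/
theorem polygon {m : ℕ} (hm : LieRecognition.FeitHigmanGroup.Red Q s t m)
    (hbr : (LieRecognition.FeitHigmanGroup.alt m s t)⁻¹ * LieRecognition.FeitHigmanGroup.alt m t s ∈ Q.B) :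
    Polygon B P i j m :=
  h.link.polygon (polygon_of_red h.hs h.ht h.Pi h.Pj hm hbr)

/-- **The field `poly`**, together with `m ≥ 3` iff the node involutions do not commute. -/
theorem exists_polygon [Finite E] : ∃ m, 2 ≤ m ∧ Polygon B P i j m ∧ (3 ≤ m ↔ s * t * s⁻¹ * t⁻¹ ∉ Q.B) := by
  obtain ⟨m, h2, hr, hb, hlt⟩ := LieRecognition.FeitHigmanGroup.exists_max_red h.S h.ne
  refine ⟨m, h2, h.polygon hr hb, ?_⟩
  have e : (LieRecognition.FeitHigmanGroup.alt 2 s t)⁻¹ * LieRecognition.FeitHigmanGroup.alt 2 t s =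
      t⁻¹ * s⁻¹ * t * s := by
    simp only [LieRecognition.FeitHigmanGroup.alt_succ, LieRecognition.FeitHigmanGroup.alt_zero, mul_one]
    group
  have hst : s * t ∈ Q.N := mul_mem (mem_N h.hs) (mem_N h.ht)
  have hts : t * s ∈ Q.N := mul_mem (mem_N h.ht) (mem_N h.hs)
  have key : s * t * s⁻¹ * t⁻¹ ∈ Q.B ↔ t⁻¹ * s⁻¹ * t * s ∈ Q.B := by
    constructor
    · intro h1
      have h3 : s * t * s⁻¹ * t⁻¹ ∈ Q.N := mul_mem (mul_mem hst (inv_mem (mem_N h.hs))) (inv_mem (mem_N h.ht))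
      have h4 := conj_mem_inv (P := Q) hts h1 h3
      have h5 := inv_mem h4
      have e1 : ((t * s)⁻¹ * (s * t * s⁻¹ * t⁻¹) * (t * s))⁻¹ = t⁻¹ * s⁻¹ * t * s := by group
      rwa [e1] at h5
    · intro h1
      have h3 : t⁻¹ * s⁻¹ * t * s ∈ Q.N := mul_mem (mul_mem (mul_mem (inv_mem (mem_N h.ht)) (inv_mem (mem_N h.hs)))
        (mem_N h.ht)) (mem_N h.hs)
      have h4 := conj_mem' (P := Q) hts h1 h3
      have h5 := inv_mem h4
      have e1 : (t * s * (t⁻¹ * s⁻¹ * t * s) * (t * s)⁻¹)⁻¹ = s * t * s⁻¹ * t⁻¹ := by group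
      rwa [e1] at h5
  rw [key]
  constructor
  · intro h3 h4
    exact hlt 2 (by omega) (by omega) (by rw [e]; exact h4)
  · intro h3
    by_contra h4
    obtain rfl : m = 2 := by omega
    rw [e] at hb
    exact h3 hb

/-- the residue is covered by the link -/
theorem dom {g : G} (hg : g ∈ P i ⊔ P j) : ∃ x, θ g x := by
  let D : Subgroup G :=
    { carrier := {g | (∀ a x, θ a x → ∃ y, θ (a * g) y) ∧ ∀ a x, θ a x → ∃ y, θ (a * g⁻¹) y}
      mul_mem' := by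
        rintro g g' ⟨h1, h2⟩ ⟨h3, h4⟩
        refine ⟨fun a x hax => ?_, fun a x hax => ?_⟩
        · obtain ⟨y, hy⟩ := h1 a x hax
          obtain ⟨z, hz⟩ := h3 _ y hy
          exact ⟨z, by rwa [← mul_assoc]⟩
        · obtain ⟨y, hy⟩ := h4 a x hax
          obtain ⟨z, hz⟩ := h2 _ y hy
          exact ⟨z, by rwa [mul_inv_rev, ← mul_assoc]⟩
      one_mem' := ⟨fun a x hax => ⟨x, by rwa [mul_one]⟩, fun a x hax => ⟨x, by rwa [inv_one, mul_one]⟩⟩
      inv_mem' := by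
        rintro g ⟨h1, h2⟩
        exact ⟨h2, by rwa [inv_inv]⟩ }
  have hD : ∀ g, g ∈ D ↔ ((∀ a x, θ a x → ∃ y, θ (a * g) y) ∧ ∀ a x, θ a x → ∃ y, θ (a * g⁻¹) y) := fun _ => Iff.rfl
  have hi : P i ≤ D := fun g hg => (hD g).2
    ⟨fun a x hax => h.link.ex i (Or.inl rfl) a x hax g hg,
      fun a x hax => h.link.ex i (Or.inl rfl) a x hax _ (inv_mem hg)⟩
  have hj : P j ≤ D := fun g hg => (hD g).2
    ⟨fun a x hax => h.link.ex j (Or.inr rfl) a x hax g hg,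
      fun a x hax => h.link.ex j (Or.inr rfl) a x hax _ (inv_mem hg)⟩
  obtain ⟨y, hy⟩ := ((hD g).1 ((sup_le hi hj) hg)).1 1 1 h.link.one
  exact ⟨y, by rwa [one_mul] at hy⟩

theorem memB {g : G} {x : E} (hgx : θ g x) : g ∈ B ↔ x ∈ Q.B := by
  have := h.link.memB 1 1 g x h.link.one hgx
  simpa using this

theorem memP {a : I} (ha : a = i ∨ a = j) {g : G} {x : E} (hgx : θ g x) : g ∈ P a ↔ x ∈ P' a := by
  have := h.link.memP a ha 1 1 g x h.link.one hgx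
  simpa using this

theorem exP {a : I} (ha : a = i ∨ a = j) {g : G} (hg : g ∈ P a) : ∃ x ∈ P' a, θ g x := by
  obtain ⟨x, hx⟩ := h.link.ex a ha 1 1 h.link.one g hg
  rw [one_mul] at hx
  exact ⟨x, (h.memP ha hx).1 hg, hx⟩

theorem hP {a : I} (ha : a = i ∨ a = j) : ∃ r ∈ Q.S, P' a = Q.parabolic {r} := by
  rcases ha with rfl | rfl
  · exact ⟨s, h.hs, h.Pi⟩
  · exact ⟨t, h.ht, h.Pj⟩

theorem acts_mul {u u' : G} {v v' : E} (h1 : Acts B θ u v) (h2 : Acts B θ u' v') : Acts B θ (u * u') (v * v') :=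
  h1.mul h.link.sur h2

theorem acts_one : Acts B θ 1 (1 : E) := by
  apply h.link.acts_of
  intro g x h1
  rwa [one_mul, one_mul]

theorem acts_pow {u : G} {v : E} (h1 : Acts B θ u v) (n : ℕ) : Acts B θ (u ^ n) (v ^ n) := by
  induction n with
  | zero => rw [pow_zero, pow_zero]; exact h.acts_one
  | succ n ih => rw [pow_succ, pow_succ]; exact h.acts_mul ih h1

/-- `g⁻¹ u g ∈ B` in terms of the link -/
theorem conj_iff {u : G} {v : E} (huv : Acts B θ u v) {g : G} {x : E} (hgx : θ g x) :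
    g⁻¹ * u * g ∈ B ↔ x⁻¹ * v * x ∈ Q.B := by
  obtain ⟨g', hg'⟩ := h.link.sur (v * x)
  have h1 := huv _ _ _ hgx hg'
  have h2 := h.link.memB _ _ _ _ hgx hg'
  rw [← mul_assoc] at h2
  rw [← h2]
  constructor
  · intro h3
    have := mul_mem h3 h1
    have e : g⁻¹ * u * g * ((u * g)⁻¹ * g') = g⁻¹ * g' := by group
    rwa [e] at this
  · intro h3
    have := mul_mem h3 (inv_mem h1)
    have e : g⁻¹ * g' * ((u * g)⁻¹ * g')⁻¹ = g⁻¹ * u * g := by group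
    rwa [e] at this

/-- elements inducing elements of the Borel subgroup lie in `B` -/
theorem acts_mem_B {u : G} {v : E} (huv : Acts B θ u v) : u ∈ B ↔ v ∈ Q.B := by
  have := h.conj_iff huv h.link.one
  simpa using this

/-- uniqueness of the induced element -/
theorem acts_unique {u : G} {v v' : E} (h1 : Acts B θ u v) (h2 : Acts B θ u v') : v = v' := by
  have h3 : v⁻¹ * v' ∈ Q.B.normalCore := by
    intro x
    obtain ⟨g, hg⟩ := h.link.sur x⁻¹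
    have h4 := h.conj_iff (h.acts_mul h1.inv h2) hg
    rw [inv_inv] at h4
    rw [← h4, inv_mul_cancel, mul_one, inv_mul_cancel]
    exact one_mem _
  rw [h.split.core, mem_bot, inv_mul_eq_one] at h3
  exact h3

/-- elements inducing the same element -/
theorem acts_same {u x : G} {e : E} (h1 : Acts B θ u e) (h2 : Acts B θ x e) : x⁻¹ * u ∈ Qk B (P i ⊔ P j) := by
  intro g hg
  obtain ⟨y, hy⟩ := h.dom hg
  have h3 := h.conj_iff (h.acts_mul h2.inv h1) hy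
  rw [inv_mul_cancel, mul_one, inv_mul_cancel] at h3
  exact h3.2 (one_mem _)

/-- an element of `P_s \ B` is `v s b`, `v ∈ U_E` -/
theorem form {r e : E} (hr : r ∈ Q.S) (he : e ∈ Q.parabolic {r}) (heB : e ∉ Q.B) : ∃ v ∈ UE, ∃ b ∈ Q.B, e = v * r * b := by
  rcases Cfsg.Agent.Schreier.BNSch.mem_parabolic_singleton Q hr he with h1 | ⟨b, hb, b', hb', rfl⟩
  · exact absurd h1 heB
  · obtain ⟨v, hv, y, hy, rfl⟩ := h.split.cover' hb
    refine ⟨v, hv, r⁻¹ * y * r * b', mul_mem ?_ hb', by group⟩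
    exact conj_mem_inv (P := Q) (mem_N hr) (mem_inf.1 hy).1 (mem_inf.1 hy).2

/-- **The field `ptr`**: `U` is transitive on the panels. -/
theorem ptr {a : I} (ha : a = i ∨ a = j) : Hall.HallData.PTr B U (P a) := by
  obtain ⟨r, hr, hPr⟩ := h.hP ha
  intro g hg hgB g' hg' hgB'
  obtain ⟨e, he, hge⟩ := h.exP ha hg
  obtain ⟨e', he', hge'⟩ := h.exP ha hg'
  rw [hPr] at he he'
  obtain ⟨v, hv, b, hb, rfl⟩ := h.form hr he (fun h1 => hgB ((h.memB hge).2 h1))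
  obtain ⟨v', hv', b', hb', rfl⟩ := h.form hr he' (fun h1 => hgB' ((h.memB hge').2 h1))
  obtain ⟨u, hu, h1⟩ := h.U_of (v' * v⁻¹) (mul_mem hv' (inv_mem hv))
  refine ⟨u, hu, (u * g)⁻¹ * g', ?_, by group⟩
  obtain ⟨g1, hg1⟩ := h.link.sur (v' * v⁻¹ * (v * r * b))
  have h2 := h1 _ _ _ hge hg1
  have h3 : g1⁻¹ * g' ∈ B := by
    rw [h.link.memB _ _ _ _ hg1 hge']
    have e1 : (v' * v⁻¹ * (v * r * b))⁻¹ * (v' * r * b') = b⁻¹ * b' := by group
    rw [e1]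
    exact mul_mem (inv_mem hb) hb'
  have h4 := mul_mem h2 h3
  have e2 : (u * g)⁻¹ * g1 * (g1⁻¹ * g') = (u * g)⁻¹ * g' := by group
  rwa [e2] at h4

/-- **The field `three`**: the panels have at least three chambers. -/
theorem three {a : I} (ha : a = i ∨ a = j) : ∃ x ∈ P a, ∃ y ∈ P a, x ∉ B ∧ y ∉ B ∧ x⁻¹ * y ∉ B := by
  obtain ⟨r, hr, hPr⟩ := h.hP ha
  have hrB := Cfsg.Agent.Schreier.BNSch.not_mem_B Q hr
  obtain ⟨V, hV⟩ := h.split.node r hr
  obtain ⟨v, hv, hvV⟩ := hV.ne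
  obtain ⟨g, hg⟩ := h.link.sur r
  obtain ⟨g', hg'⟩ := h.link.sur (v * r)
  have hr' : r ∈ P' a := hPr ▸ Cfsg.Agent.Schreier.BNSch.mem_parabolic_self Q r
  have hgP : g ∈ P a := (h.memP ha hg).2 hr'
  have hgB : g ∉ B := fun h1 => hrB ((h.memB hg).1 h1)
  have hvP : v ∈ P' a := hPr ▸ Cfsg.Agent.Schreier.BNSch.B_le_parabolic Q {r} (h.split.le hv)
  refine ⟨g, hgP, g', (h.memP ha hg').2 (mul_mem hvP hr'), hgB, fun h1 => ?_, fun h1 => ?_⟩
  · have h2 := (h.memB hg').1 h1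
    apply hrB
    have := mul_mem (inv_mem (h.split.le hv)) h2
    rwa [inv_mul_cancel_left] at this
  · rw [h.link.memB _ _ _ _ hg hg', ← mul_assoc] at h1
    exact hvV (hV.stab v hv h1)

/-- **The field `reg`**: `u ∈ U`, `g⁻¹ u g ∈ B` for one `g ∈ P a` outside `B` implies it for all `g ∈ P a`. -/
theorem reg [Finite E] {a : I} (ha : a = i ∨ a = j) {u g : G} (hu : u ∈ U) (hg : g ∈ P a) (hgB : g ∉ B)
    (hug : g⁻¹ * u * g ∈ B) : u ∈ Qk B (P a) := by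
  obtain ⟨r, hr, hPr⟩ := h.hP ha
  obtain ⟨V, hV⟩ := h.split.node r hr
  obtain ⟨v, hv, huv⟩ := h.U_to u hu
  have hvV : v ∈ V := by
    obtain ⟨e, he, hge⟩ := h.exP ha hg
    have h2 := (h.conj_iff huv hge).1 hug
    rw [hPr] at he
    obtain ⟨w, hw, b, hb, rfl⟩ := h.form hr he (fun h1 => hgB ((h.memB hge).2 h1))
    have h4 := mul_mem (mul_mem hb h2) (inv_mem hb)
    have e5 : b * ((w * r * b)⁻¹ * v * (w * r * b)) * b⁻¹ = r⁻¹ * (w⁻¹ * v * w) * r := by group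
    rw [e5] at h4
    have h7 := hV.conj_B w (h.split.le hw) _ (hV.stab _ (mul_mem (mul_mem (inv_mem hw) hv) hw) h4)
    have e8 : w * (w⁻¹ * v * w) * w⁻¹ = v := by group
    rwa [e8] at h7
  intro x hx
  obtain ⟨e, he, hxe⟩ := h.exP ha hx
  rw [h.conj_iff huv hxe]
  exact h.split.le (hV.le (hV.conj_mem (hPr ▸ he) hvV))

/-- `u ∈ Q_i` in terms of the link -/
theorem mem_Qk_iff [Finite E] {a : I} (ha : a = i ∨ a = j) {r : E} (hr : r ∈ Q.S) (hPr : P' a = Q.parabolic {r})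
    {u : G} (hu : u ∈ U) {v : E} (huv : Acts B θ u v) : u ∈ Qk B (P a) ↔ r⁻¹ * v * r ∈ Q.B := by
  have hrB := Cfsg.Agent.Schreier.BNSch.not_mem_B Q hr
  obtain ⟨g, hg⟩ := h.link.sur r
  have hgP : g ∈ P a := (h.memP ha hg).2 (hPr ▸ Cfsg.Agent.Schreier.BNSch.mem_parabolic_self Q r)
  have hgB : g ∉ B := fun h1 => hrB ((h.memB hg).1 h1)
  rw [← h.conj_iff huv hg]
  exact ⟨fun h1 => h1 g hgP, fun h1 => h.reg ha hu hgP hgB h1⟩

/-- **The field `frat`** from the fact (F1). -/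
theorem frat [Finite E]
    (hF : FOne Q UE s t) {T : Subgroup G} (hT : T ≤ U)
    (hTU : ∀ u ∈ U, ∃ x ∈ T, x⁻¹ * u ∈ Qk B (P i) ∧ x⁻¹ * u ∈ Qk B (P j)) :
    ∀ u ∈ U, ∃ x ∈ T, x⁻¹ * u ∈ Qk B (P i ⊔ P j) := by
  -- the subgroup of `E` corresponding to `T`
  let TE : Subgroup E :=
    { carrier := {e | ∃ x ∈ T, Acts B θ x e}
      mul_mem' := by
        rintro e e' ⟨x, hx, h1⟩ ⟨x', hx', h2⟩
        exact ⟨x * x', mul_mem hx hx', h.acts_mul h1 h2⟩
      one_mem' := ⟨1, one_mem _, h.acts_one⟩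
      inv_mem' := by
        rintro e ⟨x, hx, h1⟩
        exact ⟨x⁻¹, inv_mem hx, h1.inv⟩ }
  have hTE : ∀ e, e ∈ TE ↔ ∃ x ∈ T, Acts B θ x e := fun e => Iff.rfl
  have hTEle : TE ≤ UE := by
    intro e he
    obtain ⟨x, hx, h1⟩ := (hTE e).1 he
    obtain ⟨e', he', h2⟩ := h.U_to x (hT hx)
    rw [h.acts_unique h1 h2]; exact he'
  have hle : UE ≤ TE := by
    apply hF TE hTEle
    intro e he
    obtain ⟨u, hu, h1⟩ := h.U_of e he
    obtain ⟨x, hx, hxi, hxj⟩ := hTU u hu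
    obtain ⟨v, hv, h2⟩ := h.U_to x (hT hx)
    have h4 := h.acts_mul h2.inv h1
    have hxu : x⁻¹ * u ∈ U := mul_mem (inv_mem (hT hx)) hu
    exact ⟨v, (hTE v).2 ⟨x, hx, h2⟩, (h.mem_Qk_iff (Or.inl rfl) h.hs h.Pi hxu h4).1 hxi,
      (h.mem_Qk_iff (Or.inr rfl) h.ht h.Pj hxu h4).1 hxj⟩
  intro u hu
  obtain ⟨e, he, h1⟩ := h.U_to u hu
  obtain ⟨x, hx, h2⟩ := (hTE e).1 (hle he)
  exact ⟨x, hx, h.acts_same h1 h2⟩

/-! ### The torus -/

/-- `p'`-elements of `E` normalising `U_E` are induced by elements of `H`, up to conjugation under `U_E`. -/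
theorem exists_acts_H [Finite G] [Fact p.Prime] {H : Subgroup G} (D : Hall.HallData p B U H) {e : E} (he : e ∈ Q.B)
    {n : ℕ} (hn : ¬ p ∣ n) (hen : e ^ n = 1) : ∃ x ∈ H, ∃ v ∈ UE, Acts B θ x (v * e * v⁻¹) := by
  obtain ⟨u, hu⟩ := h.link.exists_acts e
  have huB : u ∈ B := (h.acts_mem_B hu).2 he
  -- the `p'`-part
  have hp : p.Prime := Fact.out
  obtain ⟨a, m, hm, hum⟩ := Nat.exists_eq_pow_mul_and_not_dvd (orderOf_pos u).ne' p hp.ne_one
  have hcop : Nat.Coprime (p ^ a) (n * m) :=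
    Nat.Coprime.pow_left _ ((Nat.Prime.coprime_iff_not_dvd hp).2 (fun h1 =>
      (hp.dvd_mul.1 h1).elim hn hm))
  obtain ⟨k, hk1, hk2⟩ := Nat.chineseRemainder hcop 0 1
  have hk3 : Nat.ModEq n k 1 := hk2.of_mul_right m
  have hxe : Acts B θ (u ^ k) e := by
    have := h.acts_pow hu k
    have h3 : e ^ k = e := by
      have h4 : orderOf e ∣ n := orderOf_dvd_of_pow_eq_one hen
      have h5 : Nat.ModEq (orderOf e) k 1 := hk3.of_dvd h4
      have h6 := pow_eq_pow_iff_modEq.2 h5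
      rwa [pow_one] at h6
    rwa [h3] at this
  have hcard : p.Coprime (Nat.card (Subgroup.zpowers (u ^ k))) := by
    rw [Nat.card_zpowers]
    have h4 : (u ^ k) ^ m = 1 := by
      obtain ⟨c, hc⟩ := (Nat.modEq_zero_iff_dvd.1 hk1)
      rw [hc, ← pow_mul, mul_right_comm, ← hum, pow_mul, pow_orderOf_eq_one, one_pow]
    rw [Nat.Prime.coprime_iff_not_dvd hp]
    intro h5
    exact hm (h5.trans (orderOf_dvd_of_pow_eq_one h4))
  have hle : Subgroup.zpowers (u ^ k) ≤ B := by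
    rw [Subgroup.zpowers_le]; exact pow_mem huB k
  -- conjugation into `H`
  have hcc : (Nat.card (Subgroup.zpowers (u ^ k))).Coprime (Nat.card U) := by
    obtain ⟨r, hr⟩ := (IsPGroup.iff_card (p := p)).mp D.U_pgroup
    rw [hr]
    exact (hcard.pow_left r).symm
  obtain ⟨w, hw, h1⟩ := Solvable.Glauberman.exists_smul_fixed (Subgroup.zpowers (u ^ k)) U (hle.trans D.U_norm) hcc
    (Or.inr D.U_solvable) (X := G ⧸ H) ((1 : G) : G ⧸ H) (by
      intro a ha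
      have h2 := D.le_sup hle hcard ha
      rw [sup_comm] at h2
      obtain ⟨y, hy, b, hb, rfl⟩ := Solvable.Glauberman.exists_mul_of_mem_sup H U D.H_norm_U h2
      refine ⟨y, hy, ?_⟩
      change (((y * b) * 1 : G) : G ⧸ H) = ((y * 1 : G) : G ⧸ H)
      rw [QuotientGroup.eq, mul_one, mul_one]
      have e1 : (y * b)⁻¹ * y = b⁻¹ := by group
      rw [e1]
      exact inv_mem hb)
  have h2 := h1 (u ^ k) (Subgroup.mem_zpowers _)
  change ((u ^ k * (w * 1) : G) : G ⧸ H) = ((w * 1 : G) : G ⧸ H) at h2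
  rw [QuotientGroup.eq, mul_one] at h2
  have h3 : w⁻¹ * u ^ k * w ∈ H := by
    have := inv_mem h2
    have e1 : ((u ^ k * w)⁻¹ * w)⁻¹ = w⁻¹ * u ^ k * w := by group
    rwa [e1] at this
  obtain ⟨v, hv, hwv⟩ := h.U_to w hw
  refine ⟨_, h3, v⁻¹, inv_mem hv, ?_⟩
  have := h.acts_mul (h.acts_mul hwv.inv hxe) hwv
  rwa [inv_inv]

/-- the subgroup `V_r = U_E ∩ U_E^r` -/
theorem exists_V {r : E} (hr : r ∈ Q.S) : ∃ V : Subgroup E, (∀ w ∈ UE, r⁻¹ * w * r ∈ Q.B ↔ w ∈ V) ∧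
    ∀ b ∈ Q.B, ∀ v ∈ V, b * v * b⁻¹ ∈ V := by
  obtain ⟨V, hV⟩ := h.split.node r hr
  exact ⟨V, fun w hw => ⟨hV.stab w hw, fun h1 => h.split.le (hV.le (hV.conj_s w h1))⟩, hV.conj_B⟩

/-- commutators with `v e v⁻¹` -/
theorem comm_conj {r e v u : E} (hr : r ∈ Q.S) (he : e ∈ Q.B) (hv : v ∈ UE) (hu : u ∈ UE) :
    r⁻¹ * (v * e * v⁻¹ * u * (v * e * v⁻¹)⁻¹ * u⁻¹) * r ∈ Q.B ↔
      r⁻¹ * (e * (v⁻¹ * u * v) * e⁻¹ * (v⁻¹ * u * v)⁻¹) * r ∈ Q.B := by
  obtain ⟨V, hV, hVB⟩ := h.exists_V hr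
  have h1 : v⁻¹ * u * v ∈ UE := mul_mem (mul_mem (inv_mem hv) hu) hv
  have h2 : e * (v⁻¹ * u * v) * e⁻¹ * (v⁻¹ * u * v)⁻¹ ∈ UE := mul_mem (h.split.norm e he _ h1) (inv_mem h1)
  have e1 : v * e * v⁻¹ * u * (v * e * v⁻¹)⁻¹ * u⁻¹ =
      v * (e * (v⁻¹ * u * v) * e⁻¹ * (v⁻¹ * u * v)⁻¹) * v⁻¹ := by group
  rw [e1, hV _ h2, hV _ (mul_mem (mul_mem hv h2) (inv_mem hv))]
  constructor
  · intro h3
    have h4 := hVB v⁻¹ (inv_mem (h.split.le hv)) _ h3
    have e2 : v⁻¹ * (v * (e * (v⁻¹ * u * v) * e⁻¹ * (v⁻¹ * u * v)⁻¹) * v⁻¹) * v⁻¹⁻¹ =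
        e * (v⁻¹ * u * v) * e⁻¹ * (v⁻¹ * u * v)⁻¹ := by group
    rwa [e2] at h4
  · exact hVB v (h.split.le hv) _

theorem conj_V_iff {r v u : E} (hr : r ∈ Q.S) (hv : v ∈ UE) (hu : u ∈ UE) :
    r⁻¹ * (v⁻¹ * u * v) * r ∈ Q.B ↔ r⁻¹ * u * r ∈ Q.B := by
  obtain ⟨V, hV, hVB⟩ := h.exists_V hr
  rw [hV _ hu, hV _ (mul_mem (mul_mem (inv_mem hv) hu) hv)]
  constructor
  · intro h3
    have h4 := hVB v (h.split.le hv) _ h3
    have e2 : v * (v⁻¹ * u * v) * v⁻¹ = u := by group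
    rwa [e2] at h4
  · intro h3
    have h4 := hVB v⁻¹ (inv_mem (h.split.le hv)) _ h3
    rwa [inv_inv] at h4

/-- torus elements of `E` are induced by elements of `H`, up to conjugation under `U_E`. -/
theorem exists_acts_torus [Finite G] [Fact p.Prime] {H : Subgroup G} (D : Hall.HallData p B U H) {e : E}
    (he : e ∈ Q.B ⊓ Q.N) : ∃ x ∈ H, ∃ v ∈ UE, Acts B θ x (v * e * v⁻¹) := by
  obtain ⟨n, hn, hh⟩ := h.split.tor
  exact h.exists_acts_H D (mem_inf.1 he).1 hn (hh e (mem_inf.1 he).1 (mem_inf.1 he).2)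

/-- **The field `torus`** from the fact (T2). -/
theorem sep [Finite G] [Finite E] [Fact p.Prime] {H : Subgroup G} (D : Hall.HallData p B U H)
    (hS : SepE Q UE s t) : Sep B U H (P i) (P j) := by
  obtain ⟨e, he, h1, h2⟩ := hS
  obtain ⟨x, hx, v, hv, hxv⟩ := h.exists_acts_torus D he
  have heB := (mem_inf.1 he).1
  have hcU : ∀ u ∈ U, x * u * x⁻¹ * u⁻¹ ∈ U := fun u hu =>
    mul_mem ((Subgroup.mem_normalizer_iff.mp (D.H_norm_U hx) u).mp hu) (inv_mem hu)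
  have hact : ∀ u w, Acts B θ u w → Acts B θ (x * u * x⁻¹ * u⁻¹) (v * e * v⁻¹ * w * (v * e * v⁻¹)⁻¹ * w⁻¹) :=
    fun u w huw => h.acts_mul (h.acts_mul (h.acts_mul hxv huw) hxv.inv) huw.inv
  refine ⟨x, hx, fun u hu => ?_, fun u hu h3 => ?_⟩
  · obtain ⟨w, hw, huw⟩ := h.U_to u hu
    rw [h.mem_Qk_iff (Or.inl rfl) h.hs h.Pi (hcU u hu) (hact u w huw), h.comm_conj h.hs heB hv hw]
    exact h1 _ (mul_mem (mul_mem (inv_mem hv) hw) hv)
  · obtain ⟨w, hw, huw⟩ := h.U_to u hu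
    rw [h.mem_Qk_iff (Or.inr rfl) h.ht h.Pj (hcU u hu) (hact u w huw), h.comm_conj h.ht heB hv hw] at h3
    have h4 := h2 _ (mul_mem (mul_mem (inv_mem hv) hw) hv) h3
    rw [h.conj_V_iff h.ht hv hw] at h4
    rwa [h.mem_Qk_iff (Or.inr rfl) h.ht h.Pj hu huw]

/-- **The field `fix`** from the fact (T3). -/
theorem fix [Finite G] [Finite E] [Fact p.Prime] {H : Subgroup G} (D : Hall.HallData p B U H)
    (hS : FpfE Q UE s) : ∀ c ∈ U, c ∈ centralizer (H : Set G) → c ∈ Qk B (P i) := by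
  obtain ⟨e, he, h1⟩ := hS
  obtain ⟨x, hx, v, hv, hxv⟩ := h.exists_acts_torus D he
  have heB := (mem_inf.1 he).1
  intro c hc hcC
  obtain ⟨w, hw, hcw⟩ := h.U_to c hc
  have h2 : x * c * x⁻¹ * c⁻¹ = 1 := by
    rw [Subgroup.mem_centralizer_iff] at hcC
    rw [hcC x hx]; group
  have h3 : Acts B θ (x * c * x⁻¹ * c⁻¹) (v * e * v⁻¹ * w * (v * e * v⁻¹)⁻¹ * w⁻¹) :=
    h.acts_mul (h.acts_mul (h.acts_mul hxv hcw) hxv.inv) hcw.inv
  rw [h2] at h3
  have h4 := h.acts_unique h3 h.acts_one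
  have h5 := (h.comm_conj h.hs heB hv hw).1 (by
    rw [h4, mul_one, inv_mul_cancel]; exact one_mem _)
  have h6 := h1 _ (mul_mem (mul_mem (inv_mem hv) hw) hv) h5
  rw [h.conj_V_iff h.hs hv hw] at h6
  rwa [h.mem_Qk_iff (Or.inl rfl) h.hs h.Pi hc hcw]

end LinkPair

end Cfsg.Agent.ParSys
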