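import Cfsg.Agent.ParSys.Central

/-!
# Overgroups of the unipotent group in rank two

`KPair.over`: in a simple group `F` with a split (B,N)-pair of rank two the subgroups generated by the conjugates of
`U` which contain `U` are `U`, the two rank one groups `⟨U, U^s⟩`, `⟨U, U^t⟩`, and `F` (Tits' lemma).
-/

set_option autoImplicit false
set_option maxHeartbeats 400000

namespace Cfsg.Agent.ParSys

open Subgroup
open Cfsg.Agent.LieExceptional.BNPairCore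

variable {F : Type*} [Group F] {p : ℕ} {Q : Cfsg.BNPair F} {U : Subgroup F}

namespace Over

/-- the torus meets the unipotent group trivially -/
theorem inf_torus [Fact p.Prime] (h : FixBN.Split Q p U) {x : F} (hU : x ∈ U) (hN : x ∈ Q.N) : x = 1 := by
  obtain ⟨k, hk, h1⟩ := h.tor
  have h2 := h1 x (h.le hU) hN
  obtain ⟨a, ha⟩ := h.isP ⟨x, hU⟩
  have h3 : x ^ p ^ a = 1 := by simpa using congrArg Subtype.val ha
  have h4 := Hall.mem_of_pow_mem_of_coprime (K := (⊥ : Subgroup F)) (x := x) (a := p ^ a) (b := k)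
    (by rw [h3]; exact one_mem _) (by rw [h2]; exact one_mem _)
    (((Nat.Prime.coprime_iff_not_dvd Fact.out).2 hk).pow_left a)
  exact Subgroup.mem_bot.1 h4

theorem mem_U_of_conj [Fact p.Prime] (h : FixBN.Split Q p U) {x g : F} (hx : x ∈ U) (hg : g * x * g⁻¹ ∈ Q.B) :
    g * x * g⁻¹ ∈ U := by
  obtain ⟨a, ha⟩ := h.isP ⟨x, hx⟩
  have h3 : x ^ p ^ a = 1 := by simpa using congrArg Subtype.val ha
  exact h.mem_of_pow hg (n := a) (by rw [conj_pow, h3, mul_one, mul_inv_cancel])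

/-- the decomposition `U = (U ∩ U^r) (U ∩ m U m⁻¹)` if `r m` is longer than `m` -/
theorem decomp [Fact p.Prime] (h : FixBN.Split Q p U) {r m : F} (hr : r ∈ Q.S) (hm : m ∈ Q.N)
    (hlen : len Q m ≤ len Q (r * m)) {u : F} (hu : u ∈ U) :
    ∃ v ∈ U, r⁻¹ * v * r ∈ Q.B ∧ ∃ x ∈ U, m⁻¹ * x * m ∈ U ∧ u = v * x := by
  have hrN := mem_N hr
  obtain ⟨b₁, hb₁, b₂, hb₂, h1⟩ := mem_C.1 (mul_mem_C_of_le hr hm (h.le hu) hlen)
  -- `r u m = b₁ (r m) b₂`, `y = m b₂ m⁻¹`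
  set y : F := m * b₂ * m⁻¹ with hy
  have h2 : u = r⁻¹ * b₁ * r * y := by
    have h3 : u = r⁻¹ * (r * u * m) * m⁻¹ := by group
    rw [h3, h1, hy]; group
  have hyP : y ∈ Q.parabolic {r} := by
    have hrP : r ∈ Q.parabolic {r} := Cfsg.Agent.Schreier.BNSch.mem_parabolic_self Q r
    have hle := Cfsg.Agent.Schreier.BNSch.B_le_parabolic Q {r}
    have h3 : y = (r⁻¹ * b₁ * r)⁻¹ * u := by rw [h2]; group
    rw [h3]
    exact mul_mem (inv_mem (mul_mem (mul_mem (inv_mem hrP) (hle hb₁)) hrP)) (hle (h.le hu))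
  have hyB : y ∈ Q.B := by
    rcases Cfsg.Agent.Schreier.BNSch.mem_parabolic_singleton Q hr hyP with h3 | ⟨c, hc, c', hc', h3⟩
    · exact h3
    · exfalso
      have h4 : m * b₂ ∈ C Q (r * m) := by
        have h5 : m * b₂ = c * (r * c' * m) := by
          have : m * b₂ = y * m := by rw [hy]; group
          rw [this, h3]; group
        rw [h5]
        exact mul_mem_C_left hc (mul_mem_C_of_le hr hm hc' hlen)
      exact not_C_mul_left_eq hr hm (C_eq_of_mem_mem h4 (mul_mem_C_right hb₂ (self_mem_C m)))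
  have hv'B : r⁻¹ * b₁ * r ∈ Q.B := by
    have : r⁻¹ * b₁ * r = u * y⁻¹ := by rw [h2]; group
    rw [this]; exact mul_mem (h.le hu) (inv_mem hyB)
  obtain ⟨v, hv, t, ht, hvt⟩ := h.cover' hv'B
  obtain ⟨x, hx, t', ht', hxt⟩ := h.cover' hyB
  rw [mem_inf] at ht ht'
  have hx' : t * x * t⁻¹ ∈ U := h.norm t ht.1 x hx
  have h3 : u = v * (t * x * t⁻¹) * (t * t') := by rw [h2, hvt, hxt]; group
  have h4 : t * t' = 1 := by
    apply inf_torus h _ (mul_mem ht.2 ht'.2)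
    have : t * t' = (v * (t * x * t⁻¹))⁻¹ * u := by rw [h3]; group
    rw [this]
    exact mul_mem (inv_mem (mul_mem hv hx')) hu
  rw [h4, mul_one] at h3
  refine ⟨v, hv, ?_, _, hx', ?_, h3⟩
  · -- `r⁻¹ v r`, `v = (r⁻¹ b₁ r) t⁻¹`
    have h5 : r⁻¹ * v * r = (r * r)⁻¹ * b₁ * (r * r) * (r⁻¹ * t⁻¹ * r) := by
      have : v = r⁻¹ * b₁ * r * t⁻¹ := by rw [hvt]; group
      rw [this]; group
    rw [h5]
    have h6 := Q.sq_mem r hr
    exact mul_mem (mul_mem (mul_mem (inv_mem h6) hb₁) h6) (conj_mem_inv hrN (inv_mem ht.1) (inv_mem ht.2))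
  · have h5 : m⁻¹ * x * m ∈ Q.B := by
      have : m⁻¹ * x * m = b₂ * (m⁻¹ * t'⁻¹ * m) := by
        have h6 : x = y * t'⁻¹ := by rw [hxt]; group
        rw [h6, hy]; group
      rw [this]
      exact mul_mem hb₂ (conj_mem_inv hm (inv_mem ht'.1) (inv_mem ht'.2))
    have h6 : m⁻¹ * (t * x * t⁻¹) * m = (m⁻¹ * t * m) * (m⁻¹ * x * m) * (m⁻¹ * t * m)⁻¹ := by group
    have h7 : m⁻¹ * t * m ∈ Q.B := conj_mem_inv hm ht.1 ht.2
    have h8 : m⁻¹ * (t * x * t⁻¹) * m ∈ Q.B := by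
      rw [h6]; exact mul_mem (mul_mem h7 h5) (inv_mem h7)
    have h9 := mem_U_of_conj h (g := m⁻¹) hx' (by rw [inv_inv]; exact h8)
    rwa [inv_inv] at h9

/-- `P_r = B ∪ U r B` -/
theorem form (h : FixBN.Split Q p U) {r e : F} (hr : r ∈ Q.S) (he : e ∈ Q.parabolic {r}) (heB : e ∉ Q.B) :
    ∃ v ∈ U, ∃ τ ∈ Q.B ⊓ Q.N, ∃ w ∈ U, e = v * (r * τ) * w := by
  obtain ⟨c, hc, d, hd, rfl⟩ := mem_C.1 (mem_C_of_parabolic hr he heB)
  obtain ⟨v, hv, τ, hτ, rfl⟩ := h.cover' hc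
  obtain ⟨w, hw, σ, hσ, rfl⟩ := h.cover' hd
  rw [mem_inf] at hτ hσ
  have h1 : r⁻¹ * τ * r ∈ Q.B := conj_mem_inv (mem_N hr) hτ.1 hτ.2
  have h1' : r⁻¹ * τ * r ∈ Q.N := mul_mem (mul_mem (inv_mem (mem_N hr)) hτ.2) (mem_N hr)
  -- `τ r w σ = r (r⁻¹ τ r) σ (σ⁻¹ w σ)`
  refine ⟨v, hv, r⁻¹ * τ * r * σ, mem_inf.2 ⟨mul_mem h1 hσ.1, mul_mem h1' hσ.2⟩, σ⁻¹ * w * σ, ?_, by group⟩
  have := h.norm σ⁻¹ (inv_mem hσ.1) w hw
  rwa [inv_inv] at this

variable {E : Subgroup F}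

/-- an element of `E ∩ (P_r \ B)` gives an element `r τ` -/
theorem exists_of_parabolic (h : FixBN.Split Q p U) (hE : U ≤ E) {r e : F} (hr : r ∈ Q.S) (he : e ∈ Q.parabolic {r})
    (heB : e ∉ Q.B) (heE : e ∈ E) : ∃ τ ∈ Q.B ⊓ Q.N, r * τ ∈ E := by
  obtain ⟨v, hv, τ, hτ, w, hw, rfl⟩ := form h hr he heB
  refine ⟨τ, hτ, ?_⟩
  have := mul_mem (mul_mem (inv_mem (hE hv)) heE) (inv_mem (hE hw))
  have e1 : v⁻¹ * (v * (r * τ) * w) * w⁻¹ = r * τ := by group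
  rwa [e1] at this

/-- if `E` contains `r m τ`, `r m` longer than `m`, then `E` contains some `r τ'` -/
theorem exists_first [Fact p.Prime] (h : FixBN.Split Q p U) (hE : U ≤ E) {r m τ : F} (hr : r ∈ Q.S) (hm : m ∈ Q.N)
    (hlen : len Q m ≤ len Q (r * m)) (hτ : τ ∈ Q.B ⊓ Q.N) (hg : r * m * τ ∈ E) : ∃ τ' ∈ Q.B ⊓ Q.N, r * τ' ∈ E := by
  obtain ⟨V, hV⟩ := h.node r hr
  obtain ⟨u, hu, huV⟩ := hV.ne
  obtain ⟨v, hv, hvB, x, hx, hxm, rfl⟩ := decomp h hr hm hlen hu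
  have hxV : r⁻¹ * x * r ∉ Q.B := by
    intro h1
    exact huV (mul_mem (hV.stab v hv hvB) (hV.stab x hx h1))
  have hτB := (mem_inf.1 hτ).1
  -- `r x r⁻¹ ∈ E`
  have h1 : r * x * r⁻¹ ∈ E := by
    have h2 : τ⁻¹ * (m⁻¹ * x * m) * τ ∈ U := by
      have := h.norm τ⁻¹ (inv_mem hτB) _ hxm
      rwa [inv_inv] at this
    have h3 := mul_mem (mul_mem hg (hE h2)) (inv_mem hg)
    have e1 : r * m * τ * (τ⁻¹ * (m⁻¹ * x * m) * τ) * (r * m * τ)⁻¹ = r * x * r⁻¹ := by group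
    rwa [e1] at h3
  have hrP : r ∈ Q.parabolic {r} := Cfsg.Agent.Schreier.BNSch.mem_parabolic_self Q r
  have h2 : r * x * r⁻¹ ∈ Q.parabolic {r} := mul_mem (mul_mem hrP
    (Cfsg.Agent.Schreier.BNSch.B_le_parabolic Q {r} (h.le hx))) (inv_mem hrP)
  have h3 : r * x * r⁻¹ ∉ Q.B := by
    intro h4
    apply hxV
    have h6 := Q.sq_mem r hr
    have e1 : r⁻¹ * x * r = (r * r)⁻¹ * (r * x * r⁻¹) * (r * r) := by group
    rw [e1]
    exact mul_mem (mul_mem (inv_mem h6) h4) h6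
  exact exists_of_parabolic h hE hr h2 h3 h1

/-- elements of `E` outside `B` -/
theorem exists_form (h : FixBN.Split Q p U) (hE : U ≤ E) {e : F} (he : e ∈ E) :
    ∃ v ∈ U, ∃ n ∈ Q.N, ∃ w ∈ U, e = v * n * w ∧ n ∈ E := by
  obtain ⟨n, hn, hC⟩ := bruhat (P := Q) e
  obtain ⟨c, hc, d, hd, rfl⟩ := mem_C.1 hC
  obtain ⟨v, hv, τ, hτ, rfl⟩ := h.cover' hc
  obtain ⟨w, hw, σ, hσ, rfl⟩ := h.cover' hd
  rw [mem_inf] at hτ hσ
  have h1 : σ⁻¹ * w * σ ∈ U := by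
    have := h.norm σ⁻¹ (inv_mem hσ.1) w hw
    rwa [inv_inv] at this
  have h2 : v * τ * n * (w * σ) = v * (τ * n * σ) * (σ⁻¹ * w * σ) := by group
  refine ⟨v, hv, τ * n * σ, mul_mem (mul_mem hτ.2 hn) hσ.2, σ⁻¹ * w * σ, h1, h2, ?_⟩
  rw [h2] at he
  have := mul_mem (mul_mem (inv_mem (hE hv)) he) (inv_mem (hE h1))
  have e1 : v⁻¹ * (v * (τ * n * σ) * (σ⁻¹ * w * σ)) * (σ⁻¹ * w * σ)⁻¹ = τ * n * σ := by group
  rwa [e1] at this

/-- an element of `E ∩ N` outside `B` starts with a generator `r` with `r τ ∈ E` -/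
theorem exists_start [Fact p.Prime] (h : FixBN.Split Q p U) (hE : U ≤ E) {n : F} (hn : n ∈ Q.N) (hnE : n ∈ E)
    (hnB : n ∉ Q.B) : ∃ r ∈ Q.S, ∃ m ∈ Q.N, ∃ τ ∈ Q.B ⊓ Q.N, ∃ τ' ∈ Q.B ⊓ Q.N, r * τ' ∈ E ∧ n = r * m * τ ∧
      len Q n = len Q m + 1 := by
  obtain ⟨l, hl, hlS, hrel⟩ := exists_reduced (P := Q) hn
  match l, hl, hlS, hrel with
  | [], hl, _, _ =>
    exfalso
    have h0 : len Q n = 0 := by rw [← hl]; rfl
    exact hnB ((len_eq_zero_iff hn).1 h0)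
  | r :: l, hl, hlS, hrel =>
    have hr : r ∈ Q.S := hlS r (by simp)
    have hlS' : ∀ s ∈ l, s ∈ Q.S := fun s hs => hlS s (by simp [hs])
    have hm : l.prod ∈ Q.N := prod_mem_N hlS'
    have hτB : (r * l.prod)⁻¹ * n ∈ Q.B := by rwa [List.prod_cons] at hrel
    have hτN : (r * l.prod)⁻¹ * n ∈ Q.N := mul_mem (inv_mem (mul_mem (mem_N hr) hm)) hn
    have hlen1 : len Q (r * l.prod) = len Q n := len_congr hτB
    have hlen2 : len Q l.prod ≤ l.length := len_prod_le hlS'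
    have hlen3 : len Q n = l.length + 1 := by rw [← hl]; rfl
    have hlen4 := len_mul_left_cases (P := Q) hr hm
    have hlen5 : len Q n = len Q l.prod + 1 := by omega
    have e1 : n = r * l.prod * ((r * l.prod)⁻¹ * n) := by group
    obtain ⟨τ', hτ', h1⟩ := exists_first h hE hr hm (by omega) (mem_inf.2 ⟨hτB, hτN⟩) (by rw [← e1]; exact hnE)
    exact ⟨r, hr, l.prod, hm, _, mem_inf.2 ⟨hτB, hτN⟩, τ', hτ', h1, e1, hlen5⟩

/-- `Rone U r ≤ E` if `r τ ∈ E` -/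
theorem Rone_le (h : FixBN.Split Q p U) (hE : U ≤ E) {r τ : F} (hτ : τ ∈ Q.B ⊓ Q.N) (hr : r * τ ∈ E) :
    Rone U r ≤ E := by
  apply sup_le hE
  rintro _ ⟨w, hw, rfl⟩
  have h1 : τ⁻¹ * w * τ ∈ U := by
    have := h.norm τ⁻¹ (inv_mem (mem_inf.1 hτ).1) w hw
    rwa [inv_inv] at this
  have h2 := mul_mem (mul_mem hr (hE h1)) (inv_mem hr)
  show r * w * r⁻¹ ∈ E
  have e1 : r * τ * (τ⁻¹ * w * τ) * (r * τ)⁻¹ = r * w * r⁻¹ := by group
  rwa [e1] at h2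

/-- `Rone U r` contains some `r τ` -/
theorem exists_mem_Rone (h : FixBN.Split Q p U) {r : F} (hr : r ∈ Q.S) : ∃ τ ∈ Q.B ⊓ Q.N, r * τ ∈ Rone U r := by
  obtain ⟨V, hV⟩ := h.node r hr
  obtain ⟨u, hu, huV⟩ := hV.ne
  have hrP : r ∈ Q.parabolic {r} := Cfsg.Agent.Schreier.BNSch.mem_parabolic_self Q r
  have h2 : r * u * r⁻¹ ∈ Q.parabolic {r} := mul_mem (mul_mem hrP
    (Cfsg.Agent.Schreier.BNSch.B_le_parabolic Q {r} (h.le hu))) (inv_mem hrP)
  have h3 : r * u * r⁻¹ ∉ Q.B := by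
    intro h4
    apply huV
    apply hV.stab u hu
    have h6 := Q.sq_mem r hr
    have e1 : r⁻¹ * u * r = (r * r)⁻¹ * (r * u * r⁻¹) * (r * r) := by group
    rw [e1]
    exact mul_mem (mul_mem (inv_mem h6) h4) h6
  exact exists_of_parabolic h (le_sup_left : U ≤ Rone U r) hr h2 h3
    ((le_sup_right : U.map (MulAut.conj r).toMonoidHom ≤ _) ⟨u, hu, rfl⟩)

/-- the two rank one groups generate a simple group -/
theorem sup_Rone_eq_top [IsSimpleGroup F] (h : FixBN.Split Q p U) {s t : F} (hS : Q.S = {s, t}) :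
    Rone U s ⊔ Rone U t = ⊤ := by
  have hs : s ∈ Q.S := by rw [hS]; simp
  have ht : t ∈ Q.S := by rw [hS]; simp
  set E : Subgroup F := Rone U s ⊔ Rone U t with hEdef
  have hUE : U ≤ E := (le_sup_left : U ≤ Rone U s).trans le_sup_left
  -- normalised by the torus
  have hconj : ∀ r ∈ Q.S, ∀ b ∈ Q.B ⊓ Q.N, ∀ x ∈ Rone U r, b * x * b⁻¹ ∈ Rone U r := by
    intro r hr b hb x hx
    have h1 : Rone U r ≤ (Rone U r).comap (MulAut.conj b).toMonoidHom := by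
      apply sup_le
      · intro w hw
        exact (le_sup_left : U ≤ Rone U r) (h.norm b (mem_inf.1 hb).1 w hw)
      · rintro _ ⟨w, hw, rfl⟩
        show b * (r * w * r⁻¹) * b⁻¹ ∈ Rone U r
        have h2 : r⁻¹ * b * r ∈ Q.B := conj_mem_inv (mem_N hr) (mem_inf.1 hb).1 (mem_inf.1 hb).2
        have e1 : b * (r * w * r⁻¹) * b⁻¹ = r * ((r⁻¹ * b * r) * w * (r⁻¹ * b * r)⁻¹) * r⁻¹ := by group
        rw [e1]
        exact (le_sup_right : U.map (MulAut.conj r).toMonoidHom ≤ Rone U r) ⟨_, h.norm _ h2 w hw, rfl⟩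
    exact h1 hx
  have hT : ∀ b ∈ Q.B ⊓ Q.N, b ∈ normalizer (E : Set F) := by
    have key : ∀ b ∈ Q.B ⊓ Q.N, ∀ x ∈ E, b * x * b⁻¹ ∈ E := by
      intro b hb x hx
      have h1 : E ≤ E.comap (MulAut.conj b).toMonoidHom := by
        apply sup_le
        · intro y hy
          exact (le_sup_left : Rone U s ≤ E) (hconj s hs b hb y hy)
        · intro y hy
          exact (le_sup_right : Rone U t ≤ E) (hconj t ht b hb y hy)
      exact h1 hx
    intro b hb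
    rw [mem_normalizer_iff]
    intro x
    refine ⟨key b hb x, fun hx => ?_⟩
    have := key b⁻¹ (inv_mem hb) _ hx
    have e1 : b⁻¹ * (b * x * b⁻¹) * b⁻¹⁻¹ = x := by group
    rwa [e1] at this
  have hB : Q.B ≤ normalizer (E : Set F) := by
    intro b hb
    obtain ⟨u, hu, τ, hτ, rfl⟩ := h.cover' hb
    exact mul_mem (Subgroup.le_normalizer (hUE hu)) (hT τ hτ)
  have hgen : ∀ r ∈ Q.S, Rone U r ≤ E → r ∈ normalizer (E : Set F) := by
    intro r hr hle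
    obtain ⟨τ, hτ, h1⟩ := exists_mem_Rone h hr
    have h2 := mul_mem (Subgroup.le_normalizer (hle h1)) (inv_mem (hT τ hτ))
    rwa [mul_inv_cancel_right] at h2
  have h1 := eq_parabolic hB
  have h2 : Q.S ∩ (normalizer (E : Set F)) = Q.S := by
    rw [Set.inter_eq_left, hS]
    rintro y (rfl | rfl)
    · exact hgen _ hs le_sup_left
    · exact hgen _ ht le_sup_right
  rw [h2, parabolic_S_eq_top] at h1
  have h3 : E.Normal := normalizer_eq_top_iff.mp h1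
  rcases h3.eq_bot_or_eq_top with h4 | h4
  · exfalso
    obtain ⟨τ, hτ, h5⟩ := exists_mem_Rone h hs
    have h6 : s * τ ∈ E := (le_sup_left : Rone U s ≤ E) h5
    rw [h4, mem_bot] at h6
    have h7 : s = τ⁻¹ := by rw [← mul_one s, ← mul_inv_cancel τ, ← mul_assoc, h6, one_mul]
    apply Cfsg.Agent.Schreier.BNSch.not_mem_B Q hs
    rw [h7]; exact inv_mem (mem_inf.1 hτ).1
  · exact h4

end Over

open Over in
/-- **Tits' lemma in rank two**: the overgroups of `U` generated by their conjugates of `U`. -/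
theorem KPair.over [Fact p.Prime] [IsSimpleGroup F] {s t : F} (K : KPair p Q U s t) {E : Subgroup F} (hE : U ≤ E)
    (hgen : ∀ N : Subgroup F, (∀ e ∈ E, ∀ u ∈ U, e * u * e⁻¹ ∈ N) → E ≤ N) :
    E = U ∨ E = Rone U s ∨ E = Rone U t ∨ E = ⊤ := by
  have h := K.split
  -- only one generator
  have key : ∀ r ∈ Q.S, (∀ r' ∈ Q.S, ∀ τ ∈ Q.B ⊓ Q.N, r' * τ ∈ E → r' = r) → (∃ τ ∈ Q.B ⊓ Q.N, r * τ ∈ E) →
      E = Rone U r := by
    intro r hr honly hex
    obtain ⟨τ₀, hτ₀, h0⟩ := hex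
    apply le_antisymm _ (Rone_le h hE hτ₀ h0)
    have hrP : r ∈ Q.parabolic {r} := Cfsg.Agent.Schreier.BNSch.mem_parabolic_self Q r
    have hle := Cfsg.Agent.Schreier.BNSch.B_le_parabolic Q {r}
    have hEP : E ≤ Q.parabolic {r} := by
      intro e he
      obtain ⟨v, hv, n, hn, w, hw, rfl, hnE⟩ := exists_form h hE he
      refine mul_mem (mul_mem (hle (h.le hv)) ?_) (hle (h.le hw))
      by_cases hnB : n ∈ Q.B
      · exact hle hnB
      obtain ⟨r₁, hr₁, m, hm, τ, hτ, τ', hτ', h1, rfl, hlen⟩ := exists_start h hE hn hnE hnB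
      obtain rfl := honly r₁ hr₁ τ' hτ' h1
      -- `m τ'' ∈ E`
      have h2 : τ'⁻¹ * m * τ ∈ E := by
        have := mul_mem (inv_mem h1) hnE
        have e1 : (r₁ * τ')⁻¹ * (r₁ * m * τ) = τ'⁻¹ * m * τ := by group
        rwa [e1] at this
      rw [mem_inf] at hτ hτ'
      have h2N : τ'⁻¹ * m * τ ∈ Q.N := mul_mem (mul_mem (inv_mem hτ'.2) hm) hτ.2
      refine mul_mem (mul_mem hrP ?_) (hle hτ.1)
      by_cases h2B : τ'⁻¹ * m * τ ∈ Q.B
      · have : m = τ' * (τ'⁻¹ * m * τ) * τ⁻¹ := by group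
        rw [this]
        exact hle (mul_mem (mul_mem hτ'.1 h2B) (inv_mem hτ.1))
      · exfalso
        obtain ⟨r₂, hr₂, m', hm', σ, hσ, σ', hσ', h3, h4, hlen'⟩ := exists_start h hE h2N h2 h2B
        obtain rfl := honly r₂ hr₂ σ' hσ' h3
        -- `n = r₂ r₂ m'` modulo the torus
        have e1 : len Q (r₂ * m * τ) = len Q m' := by
          have h5 : (r₂ * m * τ)⁻¹ * m' ∈ Q.B := by
            have hmm : m = τ' * (r₂ * m' * σ) * τ⁻¹ := by rw [← h4]; group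
            have h6 : (r₂ * m * τ)⁻¹ * m' = σ⁻¹ * (m'⁻¹ * (r₂ * τ' * r₂)⁻¹ * m') := by
              rw [hmm]; group
            rw [h6]
            rw [mem_inf] at hσ
            have h7 : r₂⁻¹ * τ' * r₂ ∈ Q.B := conj_mem_inv (mem_N hr₂) hτ'.1 hτ'.2
            have h8 : r₂ * τ' * r₂ ∈ Q.B := by
              have e2 : r₂ * τ' * r₂ = (r₂ * r₂) * (r₂⁻¹ * τ' * r₂) := by group
              rw [e2]; exact mul_mem (Q.sq_mem r₂ hr₂) h7
            have h8N : r₂ * τ' * r₂ ∈ Q.N := mul_mem (mul_mem (mem_N hr₂) hτ'.2) (mem_N hr₂)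
            exact mul_mem (inv_mem hσ.1) (conj_mem_inv hm' (inv_mem h8) (inv_mem h8N))
          exact len_congr h5
        have e2 : len Q m = len Q (τ'⁻¹ * m * τ) := by
          have h5 : len Q (τ'⁻¹ * m) = len Q (τ'⁻¹ * m * τ) := len_congr (by
            have : (τ'⁻¹ * m)⁻¹ * (τ'⁻¹ * m * τ) = τ := by group
            rw [this]; exact hτ.1)
          have h6 : len Q m = len Q (τ'⁻¹ * m) := len_congr (by
            have : m⁻¹ * (τ'⁻¹ * m) = m⁻¹ * τ'⁻¹ * m := by group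
            rw [this]
            exact conj_mem_inv hm (inv_mem hτ'.1) (inv_mem hτ'.2))
          rw [h6, h5]
        omega
    exact hgen _ fun e he u hu => K.conj_Rone_gen hr (hEP he) hu
  by_cases hs : ∃ τ ∈ Q.B ⊓ Q.N, s * τ ∈ E
  · by_cases ht : ∃ τ ∈ Q.B ⊓ Q.N, t * τ ∈ E
    · obtain ⟨τ, hτ, h1⟩ := hs
      obtain ⟨τ', hτ', h2⟩ := ht
      refine Or.inr (Or.inr (Or.inr ?_))
      rw [eq_top_iff, ← sup_Rone_eq_top h K.S]
      exact sup_le (Rone_le h hE hτ h1) (Rone_le h hE hτ' h2)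
    · refine Or.inr (Or.inl (key s K.hs ?_ hs))
      intro r' hr' τ hτ h1
      rw [K.S] at hr'
      rcases hr' with rfl | rfl
      · rfl
      · exact absurd ⟨τ, hτ, h1⟩ ht
  · by_cases ht : ∃ τ ∈ Q.B ⊓ Q.N, t * τ ∈ E
    · refine Or.inr (Or.inr (Or.inl (key t K.ht ?_ ht)))
      intro r' hr' τ hτ h1
      rw [K.S] at hr'
      rcases hr' with rfl | rfl
      · exact absurd ⟨τ, hτ, h1⟩ hs
      · rfl
    · left
      apply le_antisymm _ hE
      have hEB : E ≤ Q.B := by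
        intro e he
        obtain ⟨v, hv, n, hn, w, hw, rfl, hnE⟩ := exists_form h hE he
        refine mul_mem (mul_mem (h.le hv) ?_) (h.le hw)
        by_contra hnB
        obtain ⟨r₁, hr₁, m, hm, τ, hτ, τ', hτ', h1, -, -⟩ := exists_start h hE hn hnE hnB
        rw [K.S] at hr₁
        rcases hr₁ with rfl | rfl
        · exact hs ⟨τ', hτ', h1⟩
        · exact ht ⟨τ', hτ', h1⟩
      exact hgen _ fun e he u hu => h.norm e (hEB he) u hu

end Cfsg.Agent.ParSys
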