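import Cfsg.Agent.ParSys.PSys
import Cfsg.Agent.ParSys.Over
import Cfsg.Agent.ParSys.Fam.Transport

/-!
# THEOREM PAR: Lie pairs from the structure of the residue

`Quasi U Ei Ej O f`: `X = Ei ⊔ Ej` maps onto a simple group `F` with kernel `O` times a group of odd order, central
modulo `O`; `U` is a Sylow 2-subgroup of `X`; `Ei`, `Ej` are generated by the conjugates of `U` and proper.  If `F`
satisfies `HasKPair 2` then `Ei`, `Ej` is a Lie pair (`Quasi.lieP`, `Quasi.lieS`, `Quasi.lieF`).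
-/

set_option autoImplicit false
set_option maxHeartbeats 400000
set_option linter.unusedSectionVars false

universe u v

namespace Cfsg.Agent.ParSys

open Subgroup
open Cfsg.Agent.LieExceptional.BNPairCore

/-- `UF` is a Sylow subgroup -/
theorem split_eq_sylow {E : Type*} [Group E] [Finite E] {p : ℕ} [hp : Fact p.Prime] {Q : Cfsg.BNPair E}
    {UE : Subgroup E} (h : FixBN.Split Q p UE) {P : Sylow p E} (hP : UE ≤ P) : UE = P := by
  by_contra hne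
  have : Group.IsNilpotent ↥(P : Subgroup E) := P.2.isNilpotent
  have h1 : UE.subgroupOf P < ⊤ := by
    rw [lt_top_iff_ne_top]
    intro h2
    rw [Subgroup.subgroupOf_eq_top] at h2
    exact hne (le_antisymm hP h2)
  have h2 := Group.normalizerCondition_of_isNilpotent (G := ↥(P : Subgroup E)) (UE.subgroupOf P) h1
  obtain ⟨x, hx, hxU⟩ := Set.exists_of_ssubset h2
  have h3 : (x : E) ∈ normalizer (UE : Set E) := by
    rw [Subgroup.mem_normalizer_iff]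
    intro u
    have h4 := Subgroup.mem_normalizer_iff.1 hx
    constructor
    · intro hu
      have := (h4 ⟨u, hP hu⟩).1 hu
      exact this
    · intro hu
      have h5 : u ∈ P := by
        have h6 : (x : E) * u * (x : E)⁻¹ ∈ (P : Subgroup E) := hP hu
        have h7 := mul_mem (mul_mem (inv_mem x.2) h6) x.2
        have e : (x : E)⁻¹ * ((x : E) * u * (x : E)⁻¹) * x = u := by group
        rw [e] at h7
        exact h7
      exact (h4 ⟨u, h5⟩).2 hu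
  rw [h.normalizer_eq] at h3
  obtain ⟨n, hn⟩ := P.2 x
  have h4 : (x : E) ^ p ^ n = 1 := by
    have := congrArg Subtype.val hn
    simpa using this
  exact hxU (h.mem_of_pow h3 h4)

/-- The residue `X = Ei ⊔ Ej` is quasi-simple modulo the 2-group `O`, with simple quotient `F`. -/
structure Quasi {G : Type*} [Group G] {F : Type*} [Group F] (U Ei Ej O : Subgroup G) (f : ↥(Ei ⊔ Ej) →* F) :
    Prop where
  surj : Function.Surjective f
  Ui : U ≤ Ei
  Uj : U ≤ Ej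
  isP : IsPGroup 2 U
  /-- `U` is a Sylow 2-subgroup of `X` -/
  syl : ¬ 2 ∣ U.relIndex (Ei ⊔ Ej)
  O_le : O ≤ U
  O_norm : Ei ⊔ Ej ≤ normalizer (O : Set G)
  O_ker : ∀ x : ↥(Ei ⊔ Ej), (x : G) ∈ O → f x = 1
  central : ∀ z : ↥(Ei ⊔ Ej), f z = 1 → ∀ x : ↥(Ei ⊔ Ej), (z : G) * x * (z : G)⁻¹ * (x : G)⁻¹ ∈ O
  cop : ∀ z : ↥(Ei ⊔ Ej), f z = 1 → ∃ k : ℕ, Nat.Coprime 2 k ∧ (z : G) ^ k ∈ O
  geni : ∀ N : Subgroup G, (∀ e ∈ Ei, ∀ u ∈ U, e * u * e⁻¹ ∈ N) → Ei ≤ N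
  genj : ∀ N : Subgroup G, (∀ e ∈ Ej, ∀ u ∈ U, e * u * e⁻¹ ∈ N) → Ej ≤ N
  noti : ¬ Ei ≤ normalizer (U : Set G)
  notj : ¬ Ej ≤ normalizer (U : Set G)
  nei : Ei ≠ Ei ⊔ Ej
  nej : Ej ≠ Ei ⊔ Ej

namespace Quasi

variable {G : Type*} [Group G] {F : Type*} [Group F] {U Ei Ej O : Subgroup G} {f : ↥(Ei ⊔ Ej) →* F}

/-- change of the homomorphism by an isomorphism -/
theorem comp {F' : Type*} [Group F'] (D : Quasi U Ei Ej O f) (e : F ≃* F') : Quasi U Ei Ej O (e.toMonoidHom.comp f) where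
  surj := e.surjective.comp D.surj
  Ui := D.Ui
  Uj := D.Uj
  isP := D.isP
  syl := D.syl
  O_le := D.O_le
  O_norm := D.O_norm
  O_ker := fun x hx => by
    show e (f x) = 1
    rw [D.O_ker x hx, map_one]
  central := fun z hz => D.central z ((map_eq_one_iff e e.injective).1 hz)
  cop := fun z hz => D.cop z ((map_eq_one_iff e e.injective).1 hz)
  geni := D.geni
  genj := D.genj
  noti := D.noti
  notj := D.notj
  nei := D.nei
  nej := D.nej

theorem symm (D : Quasi U Ei Ej O f) : Quasi U Ej Ei O (f.comp (Subgroup.inclusion (sup_comm Ej Ei).le)) where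
  surj := fun e => by
    obtain ⟨x, rfl⟩ := D.surj e
    exact ⟨⟨x, (sup_comm Ei Ej).le x.2⟩, rfl⟩
  Ui := D.Uj
  Uj := D.Ui
  isP := D.isP
  syl := by rw [sup_comm]; exact D.syl
  O_le := D.O_le
  O_norm := by rw [sup_comm]; exact D.O_norm
  O_ker := fun x hx => D.O_ker _ hx
  central := fun z hz x => D.central _ hz (Subgroup.inclusion (sup_comm Ej Ei).le x)
  cop := fun z hz => D.cop _ hz
  geni := D.genj
  genj := D.geni
  noti := D.notj
  notj := D.noti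
  nei := by rw [sup_comm]; exact D.nej
  nej := by rw [sup_comm]; exact D.nei

/-- powers modulo `O` -/
theorem mul_pow_mem (D : Quasi U Ei Ej O f) {u k : ↥(Ei ⊔ Ej)} (hk : f k = 1) (n : ℕ) :
    (((u * k) ^ n * (u ^ n * k ^ n)⁻¹ : ↥(Ei ⊔ Ej)) : G) ∈ O := by
  induction n with
  | zero => simp
  | succ n ih =>
    have h1 : (((u * k) ^ (n + 1) * (u ^ (n + 1) * k ^ (n + 1))⁻¹ : ↥(Ei ⊔ Ej)) : G) =
        (((u * k) ^ n * (u ^ n * k ^ n)⁻¹ : ↥(Ei ⊔ Ej)) : G) *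
          (((u ^ n : ↥(Ei ⊔ Ej)) : G) * ((k ^ n : ↥(Ei ⊔ Ej)) * u * ((k ^ n : ↥(Ei ⊔ Ej)) : G)⁻¹ * (u : G)⁻¹) *
            ((u ^ n : ↥(Ei ⊔ Ej)) : G)⁻¹) := by
      push_cast
      rw [pow_succ, pow_succ, pow_succ]
      group
    rw [h1]
    have hkn : f (k ^ n) = 1 := by rw [map_pow, hk, one_pow]
    exact mul_mem ih (conj_mem_of_normalizer (D.O_norm (u ^ n).2) (D.central _ hkn u))

/-- 2-elements of `U ker f` lie in `U` -/
theorem mem_of_pow (D : Quasi U Ei Ej O f) {x u : ↥(Ei ⊔ Ej)} (hu : (u : G) ∈ U) (hx : f x = f u) {a : ℕ}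
    (ha : (x : G) ^ 2 ^ a = 1) : (x : G) ∈ U := by
  set k := u⁻¹ * x with hk
  have hk1 : f k = 1 := by rw [hk, map_mul, map_inv, hx, inv_mul_cancel]
  have hxk : x = u * k := by rw [hk]; group
  obtain ⟨b, hb⟩ := D.isP ⟨u, hu⟩
  have hb' : (u : G) ^ 2 ^ b = 1 := by simpa using congrArg Subtype.val hb
  have h1 := D.mul_pow_mem (u := u) hk1 (2 ^ (a + b))
  have hx1 : x ^ 2 ^ (a + b) = 1 := by
    apply Subtype.ext
    push_cast
    rw [pow_add, pow_mul, ha, one_pow]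
  have hu1 : u ^ 2 ^ (a + b) = 1 := by
    apply Subtype.ext
    push_cast
    rw [add_comm, pow_add, pow_mul, hb', one_pow]
  rw [← hxk, hx1, hu1, one_mul, one_mul] at h1
  have h2 : (k : G) ^ 2 ^ (a + b) ∈ O := by
    have := inv_mem h1
    push_cast at this
    rwa [inv_inv] at this
  obtain ⟨m, hm, h3⟩ := D.cop k hk1
  have h4 : (k : G) ∈ O := Hall.mem_of_pow_mem_of_coprime h2 h3 (hm.pow_left _)
  rw [hxk]
  push_cast
  exact mul_mem hu (D.O_le h4)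

/-- the images of the elements of `U` form a Sylow subgroup -/
theorem index_map (D : Quasi U Ei Ej O f) : ¬ 2 ∣ ((U.subgroupOf (Ei ⊔ Ej)).map f).index := by
  intro h
  exact D.syl (h.trans (Subgroup.index_map_dvd _ D.surj))

theorem isP_map (D : Quasi U Ei Ej O f) : IsPGroup 2 ((U.subgroupOf (Ei ⊔ Ej)).map f) := by
  apply IsPGroup.map
  rintro ⟨x, hx⟩
  obtain ⟨k, hk⟩ := D.isP ⟨x, hx⟩
  refine ⟨k, ?_⟩
  have h2 : (x : G) ^ 2 ^ k = 1 := by simpa using congrArg Subtype.val hk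
  apply Subtype.ext
  apply Subtype.ext
  simpa using h2

/-- after conjugation `U` maps onto `UF` -/
theorem exists_conj [Finite G] [Finite F] (D : Quasi U Ei Ej O f) {Q : Cfsg.BNPair F} {UF : Subgroup F}
    (h : FixBN.Split Q 2 UF) : ∃ ψ : ↥(Ei ⊔ Ej) →* F, Quasi U Ei Ej O ψ ∧
      ∀ e, e ∈ UF ↔ ∃ u : ↥(Ei ⊔ Ej), (u : G) ∈ U ∧ ψ u = e := by
  have : Fact (Nat.Prime 2) := ⟨Nat.prime_two⟩
  obtain ⟨P₀, hP₀⟩ := h.isP.exists_le_sylow
  have h1 := split_eq_sylow h hP₀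
  obtain ⟨g, hg⟩ := MulAction.exists_smul_eq F (D.isP_map.toSylow D.index_map) P₀
  have h2 : ((U.subgroupOf (Ei ⊔ Ej)).map f).map (MulAut.conj g).toMonoidHom = UF := by
    rw [h1, ← hg, Sylow.coe_subgroup_smul]
    rfl
  refine ⟨_, D.comp (MulAut.conj g), fun e => ?_⟩
  rw [← h2]
  constructor
  · rintro ⟨_, ⟨u, hu, rfl⟩, rfl⟩
    exact ⟨u, hu, rfl⟩
  · rintro ⟨u, hu, rfl⟩
    exact ⟨_, ⟨u, hu, rfl⟩, rfl⟩

section main

variable [Finite G] [Finite F] {Q : Cfsg.BNPair F} {UF : Subgroup F} {s t : F}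
  (D : Quasi U Ei Ej O f) (split : FixBN.Split Q 2 UF)
  (img : ∀ e, e ∈ UF ↔ ∃ u : ↥(Ei ⊔ Ej), (u : G) ∈ U ∧ f u = e)

include D split img

/-- `N_X(U) = f⁻¹(Q.B)` -/
theorem mem_iff (x : ↥(Ei ⊔ Ej)) : (x : G) ∈ normalizer (U : Set G) ↔ f x ∈ Q.B := by
  rw [← split.normalizer_eq]
  constructor
  · intro hx
    have key : ∀ y : ↥(Ei ⊔ Ej), (y : G) ∈ normalizer (U : Set G) → ∀ e ∈ UF, f y * e * (f y)⁻¹ ∈ UF := by
      intro y hy e he
      obtain ⟨u, hu, rfl⟩ := (img e).1 he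
      rw [img]
      refine ⟨y * u * y⁻¹, ?_, by rw [map_mul, map_mul, map_inv]⟩
      push_cast
      exact conj_mem_of_normalizer hy hu
    rw [Subgroup.mem_normalizer_iff]
    intro e
    refine ⟨key x hx e, fun he => ?_⟩
    have := key x⁻¹ (inv_mem hx) _ he
    rw [map_inv] at this
    have e1 : (f x)⁻¹ * (f x * e * (f x)⁻¹) * (f x)⁻¹⁻¹ = e := by group
    rwa [e1] at this
  · intro hx
    have key : ∀ y : ↥(Ei ⊔ Ej), f y ∈ normalizer (UF : Set F) → ∀ u ∈ U, (y : G) * u * (y : G)⁻¹ ∈ U := by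
      intro y hy u hu
      have huX : u ∈ Ei ⊔ Ej := (le_sup_left : Ei ≤ _) (D.Ui hu)
      have h1 : f (y * ⟨u, huX⟩ * y⁻¹) ∈ UF := by
        rw [map_mul, map_mul, map_inv]
        exact conj_mem_of_normalizer hy ((img _).2 ⟨⟨u, huX⟩, hu, rfl⟩)
      obtain ⟨w, hw, h2⟩ := (img _).1 h1
      obtain ⟨a, ha⟩ := D.isP ⟨u, hu⟩
      have ha' : u ^ 2 ^ a = 1 := by simpa using congrArg Subtype.val ha
      have h3 := D.mem_of_pow hw h2.symm (a := a) (by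
        push_cast
        rw [conj_pow, ha', mul_one, mul_inv_cancel])
      simpa using h3
    rw [Subgroup.mem_normalizer_iff]
    intro u
    refine ⟨key x hx u, fun hu => ?_⟩
    have := key x⁻¹ (by rw [map_inv]; exact inv_mem hx) _ hu
    push_cast at this
    have e1 : (x : G)⁻¹ * ((x : G) * u * (x : G)⁻¹) * (x : G)⁻¹⁻¹ = u := by group
    rwa [e1] at this

omit [Finite G] [Finite F] split img in
/-- if the image of `Ei` is everything then `Ei = X` -/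
theorem map_ne_top : (Ei.subgroupOf (Ei ⊔ Ej)).map f ≠ ⊤ := by
  intro h
  apply D.nei
  have key : ∀ x : ↥(Ei ⊔ Ej), ∀ e ∈ Ei, (x : G) * e * (x : G)⁻¹ ∈ Ei := by
    intro x e he
    have h1 : f x ∈ (Ei.subgroupOf (Ei ⊔ Ej)).map f := by rw [h]; trivial
    obtain ⟨y, hy, h2⟩ := h1
    have hy : (y : G) ∈ Ei := hy
    set k := y⁻¹ * x with hk
    have hk1 : f k = 1 := by rw [hk, map_mul, map_inv, h2, inv_mul_cancel]
    have heX : e ∈ Ei ⊔ Ej := (le_sup_left : Ei ≤ _) he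
    have h3 := D.Ui (D.O_le (D.central k hk1 ⟨e, heX⟩))
    have e1 : (x : G) * e * (x : G)⁻¹ = (y : G) * ((k : G) * e * (k : G)⁻¹ * e⁻¹ * e) * (y : G)⁻¹ := by
      rw [hk]; push_cast; group
    rw [e1]
    exact mul_mem (mul_mem hy (mul_mem h3 he)) (inv_mem hy)
  apply le_antisymm le_sup_left
  refine sup_le le_rfl (D.genj _ fun e he u hu => ?_)
  exact key ⟨e, (le_sup_right : Ej ≤ _) he⟩ u (D.Ui hu)

omit split in
/-- the image of `Ei` lies in one of the two maximal parabolic subgroups -/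
theorem map_le [IsSimpleGroup F] (K : KPair 2 Q UF s t) :
    ((∀ x : ↥(Ei ⊔ Ej), (x : G) ∈ Ei → f x ∈ Q.parabolic {s}) ∨
      ∀ x : ↥(Ei ⊔ Ej), (x : G) ∈ Ei → f x ∈ Q.parabolic {t}) ∧
        ∃ x : ↥(Ei ⊔ Ej), (x : G) ∈ Ei ∧ f x ∉ Q.B := by
  have : Fact (Nat.Prime 2) := ⟨Nat.prime_two⟩
  set A : Subgroup F := (Ei.subgroupOf (Ei ⊔ Ej)).map f with hA
  have hmem : ∀ x : ↥(Ei ⊔ Ej), (x : G) ∈ Ei → f x ∈ A := fun x hx => ⟨x, hx, rfl⟩
  obtain ⟨x₀, hx₀, hx₀U⟩ := Set.not_subset.1 D.noti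
  have hx₀X : x₀ ∈ Ei ⊔ Ej := (le_sup_left : Ei ≤ _) hx₀
  have hx₀B : f ⟨x₀, hx₀X⟩ ∉ Q.B := fun h => hx₀U ((D.mem_iff K.split img ⟨x₀, hx₀X⟩).2 h)
  refine ⟨?_, ⟨x₀, hx₀X⟩, hx₀, hx₀B⟩
  have hUA : UF ≤ A := by
    intro e he
    obtain ⟨u, hu, rfl⟩ := (img e).1 he
    exact hmem u (D.Ui hu)
  have hgen : ∀ N : Subgroup F, (∀ e ∈ A, ∀ u ∈ UF, e * u * e⁻¹ ∈ N) → A ≤ N := by
    intro N hN
    have h1 : Ei ≤ (N.comap f).map (Ei ⊔ Ej).subtype := by
      apply D.geni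
      intro e he u hu
      have heX : e ∈ Ei ⊔ Ej := (le_sup_left : Ei ≤ _) he
      have huX : u ∈ Ei ⊔ Ej := (le_sup_left : Ei ≤ _) (D.Ui hu)
      refine ⟨⟨e, heX⟩ * ⟨u, huX⟩ * ⟨e, heX⟩⁻¹, ?_, rfl⟩
      show f (⟨e, heX⟩ * ⟨u, huX⟩ * ⟨e, heX⟩⁻¹) ∈ N
      rw [map_mul, map_mul, map_inv]
      exact hN _ (hmem _ he) _ ((img _).2 ⟨_, hu, rfl⟩)
    rintro _ ⟨x, hx, rfl⟩
    obtain ⟨y, hy, h2⟩ := h1 hx
    have h3 : y = x := Subtype.ext h2
    rw [← h3]; exact hy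
  have hRP : ∀ r ∈ Q.S, Rone UF r ≤ Q.parabolic {r} := by
    intro r _
    have hrP : r ∈ Q.parabolic {r} := Cfsg.Agent.Schreier.BNSch.mem_parabolic_self Q r
    have hle := Cfsg.Agent.Schreier.BNSch.B_le_parabolic Q {r}
    apply sup_le (K.split.le.trans hle)
    rintro _ ⟨w, hw, rfl⟩
    exact mul_mem (mul_mem hrP (hle (K.split.le hw))) (inv_mem hrP)
  rcases K.over hUA hgen with h | h | h | h
  · exfalso
    apply hx₀B
    apply K.split.le
    rw [← h]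
    exact hmem _ hx₀
  · exact Or.inl fun x hx => hRP s K.hs (h ▸ hmem x hx)
  · exact Or.inr fun x hx => hRP t K.ht (h ▸ hmem x hx)
  · exact (D.map_ne_top h).elim

end main

/-- both images cannot lie in the same parabolic subgroup -/
theorem not_both (D : Quasi U Ei Ej O f) {P : Subgroup F} (hP : P ≠ ⊤)
    (h1 : ∀ x : ↥(Ei ⊔ Ej), (x : G) ∈ Ei → f x ∈ P) (h2 : ∀ x : ↥(Ei ⊔ Ej), (x : G) ∈ Ej → f x ∈ P) : False := by
  apply hP
  rw [eq_top_iff]
  rintro e -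
  obtain ⟨x, rfl⟩ := D.surj e
  have h3 : Ei ⊔ Ej ≤ (P.comap f).map (Ei ⊔ Ej).subtype :=
    sup_le (fun y hy => ⟨⟨y, (le_sup_left : Ei ≤ _) hy⟩, h1 _ hy, rfl⟩)
      (fun y hy => ⟨⟨y, (le_sup_right : Ej ≤ _) hy⟩, h2 _ hy, rfl⟩)
  obtain ⟨y, hy, h4⟩ := h3 x.2
  have h5 : y = x := Subtype.ext h4
  rw [← h5]; exact hy

/-- **The Lie pair.** -/
theorem exists_gext [Finite G] [Finite F] [IsSimpleGroup F] (D : Quasi U Ei Ej O f) {Q : Cfsg.BNPair F}
    {UF : Subgroup F} {s t : F} (K : KPair 2 Q UF s t) (T : KTor Q UF s t) :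
    ∃ ψ : ↥(Ei ⊔ Ej) →* F, GExt U Ei Ej O ψ Q UF s t ∨ GExt U Ei Ej O ψ Q UF t s := by
  obtain ⟨ψ, D', img⟩ := D.exists_conj K.split
  have hs : s ∈ Q.S := by rw [K.S]; simp
  have ht : t ∈ Q.S := by rw [K.S]; simp
  obtain ⟨hi, hni⟩ := D'.map_le (img := img) K
  obtain ⟨hj, y, hy, hyB⟩ := D'.symm.map_le (img := by
    intro e
    rw [img]
    constructor
    · rintro ⟨u, hu, rfl⟩
      exact ⟨⟨u, (sup_comm Ei Ej).le u.2⟩, hu, rfl⟩
    · rintro ⟨u, hu, rfl⟩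
      exact ⟨_, hu, rfl⟩) K
  have hnj : ∃ x : ↥(Ei ⊔ Ej), (x : G) ∈ Ej ∧ ψ x ∉ Q.B := ⟨⟨y, (sup_comm Ej Ei).le y.2⟩, hy, hyB⟩
  have hj' : (∀ x : ↥(Ei ⊔ Ej), (x : G) ∈ Ej → ψ x ∈ Q.parabolic {s}) ∨
      ∀ x : ↥(Ei ⊔ Ej), (x : G) ∈ Ej → ψ x ∈ Q.parabolic {t} :=
    hj.imp (fun h x hx => h ⟨x, (sup_comm Ei Ej).le x.2⟩ hx) (fun h x hx => h ⟨x, (sup_comm Ei Ej).le x.2⟩ hx)
  -- the two maximal parabolics are proper
  have hPs : Q.parabolic {s} ≠ ⊤ := by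
    intro h
    have h1 := (Cfsg.Agent.Schreier.BNSch.parabolic_le_iff Q (Set.singleton_subset_iff.2 ht)
      (Set.singleton_subset_iff.2 hs)).1 (by rw [h]; exact le_top)
    exact K.ne (Set.mem_singleton_iff.1 (h1 rfl)).symm
  have hPt : Q.parabolic {t} ≠ ⊤ := by
    intro h
    have h1 := (Cfsg.Agent.Schreier.BNSch.parabolic_le_iff Q (Set.singleton_subset_iff.2 hs)
      (Set.singleton_subset_iff.2 ht)).1 (by rw [h]; exact le_top)
    exact K.ne (Set.mem_singleton_iff.1 (h1 rfl))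
  refine ⟨ψ, ?_⟩
  rcases hi with hi | hi <;> rcases hj' with hj | hj
  · exact (D'.not_both hPs hi hj).elim
  · exact Or.inl {
      K := K, T := T, surj := D'.surj, Ui := D'.Ui, Uj := D'.Uj, isP := D'.isP, O_le := D'.O_le, O_norm := D'.O_norm
      O_ker := D'.O_ker, central := D'.central, cop := D'.cop, img := img, geni := D'.geni, genj := D'.genj
      imi := hi, imj := hj, noti := hni, notj := hnj }
  · exact Or.inr {
      K := K.symm, T := T.symm, surj := D'.surj, Ui := D'.Ui, Uj := D'.Uj, isP := D'.isP, O_le := D'.O_le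
      O_norm := D'.O_norm, O_ker := D'.O_ker, central := D'.central, cop := D'.cop, img := img, geni := D'.geni
      genj := D'.genj, imi := hi, imj := hj, noti := hni, notj := hnj }
  · exact (D'.not_both hPt hi hj).elim

end Quasi

section lie

variable {G : Type u} [Group G] {F : Type v} [Group F] {U Ei Ej O : Subgroup G} {f : ↥(Ei ⊔ Ej) →* F}

/-- the general form: any symmetric additional property -/
theorem Quasi.lieX [Finite G] {F : Type u} [Group F] [Finite F] [IsSimpleGroup F] {f : ↥(Ei ⊔ Ej) →* F}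
    (D : Quasi U Ei Ej O f)
    {X : ∀ (F : Type u) [Group F] (_ : Cfsg.BNPair F) (_ : Subgroup F) (_ _ : F), Prop}
    (h : ∃ (Q : Cfsg.BNPair F) (UF : Subgroup F) (s t : F), KPair 2 Q UF s t ∧ KTor Q UF s t ∧ X F Q UF s t ∧
      X F Q UF t s) : LieX X U Ei Ej := by
  obtain ⟨Q, UF, s, t, K, T, h1, h2⟩ := h
  obtain ⟨ψ, hψ | hψ⟩ := D.exists_gext K T
  · exact ⟨O, F, inferInstance, inferInstance, ψ, Q, UF, s, t, hψ, h1⟩
  · exact ⟨O, F, inferInstance, inferInstance, ψ, Q, UF, t, s, hψ, h2⟩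

/-- the quotient by the kernel, in the universe of `G` -/
theorem Quasi.quot (D : Quasi U Ei Ej O f) : Quasi U Ei Ej O (QuotientGroup.mk' f.ker) where
  surj := QuotientGroup.mk'_surjective _
  Ui := D.Ui
  Uj := D.Uj
  isP := D.isP
  syl := D.syl
  O_le := D.O_le
  O_norm := D.O_norm
  O_ker := fun x hx => (QuotientGroup.eq_one_iff x).2 (D.O_ker x hx)
  central := fun z hz => D.central z ((QuotientGroup.eq_one_iff z).1 hz)
  cop := fun z hz => D.cop z ((QuotientGroup.eq_one_iff z).1 hz)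
  geni := D.geni
  genj := D.genj
  noti := D.noti
  notj := D.notj
  nei := D.nei
  nej := D.nej

/-- **A residue with simple quotient satisfying `HasKPair` is a Lie pair.** -/
theorem Quasi.lieP [Finite G] [IsSimpleGroup F] (D : Quasi U Ei Ej O f) (h : HasKPair 2 F) : LieP U Ei Ej := by
  have e := QuotientGroup.quotientKerEquivOfSurjective f D.surj
  have : Nontrivial (↥(Ei ⊔ Ej) ⧸ f.ker) := e.toEquiv.nontrivial
  have : IsSimpleGroup (↥(Ei ⊔ Ej) ⧸ f.ker) :=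
    IsSimpleGroup.isSimpleGroup_of_surjective e.symm.toMonoidHom e.symm.surjective
  obtain ⟨Q, UF, s, t, K, T⟩ := Fam.hasKPair_congr e.symm h
  exact D.quot.lieX ⟨Q, UF, s, t, K, T, trivial, trivial⟩

/-- **The same with the separating torus.** -/
theorem Quasi.lieS [Finite G] [IsSimpleGroup F] (D : Quasi U Ei Ej O f) (h : HasKPairSep 2 F) : LieS U Ei Ej := by
  have e := QuotientGroup.quotientKerEquivOfSurjective f D.surj
  have : Nontrivial (↥(Ei ⊔ Ej) ⧸ f.ker) := e.toEquiv.nontrivial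
  have : IsSimpleGroup (↥(Ei ⊔ Ej) ⧸ f.ker) :=
    IsSimpleGroup.isSimpleGroup_of_surjective e.symm.toMonoidHom e.symm.surjective
  obtain ⟨Q, UF, s, t, K, T, hS⟩ := Fam.hasKPairSep_congr e.symm h
  exact D.quot.lieX ⟨Q, UF, s, t, K, T, hS, hS.symm⟩

/-- `HasKPair` with (T4) in both orders. -/
def HasKPairF (p : ℕ) (F : Type*) [Group F] : Prop :=
  ∃ (Q : Cfsg.BNPair F) (UE : Subgroup F) (s t : F), KPair p Q UE s t ∧ KTor Q UE s t ∧ FpfR Q UE s t ∧ FpfR Q UE t s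

theorem fpfR_map {F L : Type*} [Group F] [Group L] (e : F ≃* L) {Q : Cfsg.BNPair F} {UE : Subgroup F} {s t : F}
    (h : FpfR Q UE s t) : FpfR (FixBN.Transport.mapBN e Q) (UE.map e.toMonoidHom) (e s) (e t) := by
  obtain ⟨b, hbR, hb, h1⟩ := h
  rw [mem_inf] at hb
  refine ⟨e b, ?_, mem_inf.2 ⟨(Fam.mem_mapB e).2 hb.1, (Fam.mem_mapN e).2 hb.2⟩, ?_⟩
  · have h2 : Rone UE t ≤ (Rone (UE.map e.toMonoidHom) (e t)).comap e.toMonoidHom := by
      apply sup_le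
      · intro w hw
        exact (le_sup_left : UE.map e.toMonoidHom ≤ _) ⟨w, hw, rfl⟩
      · rintro _ ⟨w, hw, rfl⟩
        refine (le_sup_right : (UE.map e.toMonoidHom).map (MulAut.conj (e t)).toMonoidHom ≤ _) ⟨e w, ⟨w, hw, rfl⟩, ?_⟩
        show e t * e w * (e t)⁻¹ = e (t * w * t⁻¹)
        rw [map_mul, map_mul, map_inv]
    exact h2 hbR
  · rintro _ ⟨u, hu, rfl⟩ h2
    have e1 : (e s)⁻¹ * (e b * e u * (e b)⁻¹ * (e u)⁻¹) * e s = e (s⁻¹ * (b * u * b⁻¹ * u⁻¹) * s) := by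
      simp only [map_mul, map_inv]
    have e2 : (e s)⁻¹ * e u * e s = e (s⁻¹ * u * s) := by simp only [map_mul, map_inv]
    have h2' : (e s)⁻¹ * (e b * e u * (e b)⁻¹ * (e u)⁻¹) * e s ∈ (FixBN.Transport.mapBN e Q).B := h2
    show (e s)⁻¹ * e u * e s ∈ (FixBN.Transport.mapBN e Q).B
    rw [e1, Fam.mem_mapB] at h2'
    rw [e2, Fam.mem_mapB]
    exact h1 u hu h2'

theorem Fam.hasKPairF_congr {p : ℕ} {F L : Type*} [Group F] [Group L] (e : F ≃* L) (h : HasKPairF p F) :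
    HasKPairF p L := by
  obtain ⟨Q, UE, s, t, K, T, h1, h2⟩ := h
  exact ⟨_, _, _, _, Fam.kPair_map e K, Fam.kTor_map e T, fpfR_map e h1, fpfR_map e h2⟩

/-- **The same with (T4).** -/
theorem Quasi.lieF [Finite G] [IsSimpleGroup F] (D : Quasi U Ei Ej O f) (h : HasKPairF 2 F) : LieF U Ei Ej := by
  have e := QuotientGroup.quotientKerEquivOfSurjective f D.surj
  have : Nontrivial (↥(Ei ⊔ Ej) ⧸ f.ker) := e.toEquiv.nontrivial
  have : IsSimpleGroup (↥(Ei ⊔ Ej) ⧸ f.ker) :=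
    IsSimpleGroup.isSimpleGroup_of_surjective e.symm.toMonoidHom e.symm.surjective
  obtain ⟨Q, UF, s, t, K, T, h1, h2⟩ := Fam.hasKPairF_congr e.symm h
  exact D.quot.lieX ⟨Q, UF, s, t, K, T, h1, h2⟩

end lie

end Cfsg.Agent.ParSys
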