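import Cfsg.Agent.Tits.ExtTr

/-!
# A group acting Weyl-transitively on a thick spherical building has a (B,N)-pair

No torus is needed: `N` is the stabiliser of the apartment of a pair of opposite chambers.
-/

set_option autoImplicit false

namespace Cfsg.Agent.ParSys.AptBN

open Cfsg.Agent.Tits.Core Cfsg.Agent.Tits.Core.Bldg Cfsg.Agent.Tits.Exchange Cfsg.Agent.Tits.Ext

variable {I : Type*} {M : CoxeterMatrix I} {W : Type*} [Group W] {cs : CoxeterSystem M W}
  {C : Type*}

/-- `G` acts by isometries, transitively on the pairs of chambers with a given distance. -/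
structure Act (Δ : Bldg cs C) (G : Type*) [Group G] [MulAction G C] : Prop where
  iso : ∀ (g : G) x y, Δ.δ (g • x) (g • y) = Δ.δ x y
  trans : ∀ x y x' y', Δ.δ x y = Δ.δ x' y' → ∃ g : G, g • x = x' ∧ g • y = y'

variable {Δ : Bldg cs C} {G : Type*} [Group G] [MulAction G C] (A : Act Δ G)
  [Finite W] [Finite I] {c d : C} (hcd : Δ.Opp c d)

/-- `g` induces the left multiplication by `w` on the apartment of `c, d` -/
def Ind (Δ : Bldg cs C) (c d : C) (g : G) (w : W) : Prop :=
  ∀ v, g • apt Δ c d v = apt Δ c d (w * v)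

include A hcd in
theorem ind_iff (g : G) (w : W) :
    Ind Δ c d g w ↔ g • c = apt Δ c d w ∧ g • d = apt Δ c d (w * w0 cs) := by
  constructor
  · intro h
    have h1 := h 1
    have h2 := h (w0 cs)
    rw [apt_one Δ hcd, mul_one] at h1
    rw [apt_w0 Δ hcd] at h2
    exact ⟨h1, h2⟩
  · rintro ⟨h1, h2⟩ v
    have e1 : Δ.δ (apt Δ c d w) (g • apt Δ c d v) = v := by
      rw [← h1, A.iso, δ_apt Δ hcd]
    have e2 : Δ.δ (g • apt Δ c d v) (apt Δ c d (w * w0 cs)) = v⁻¹ * w0 cs := by
      rw [← h2, A.iso, (apt_spec Δ hcd v).2]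
    have e3 : Δ.δ (apt Δ c d w) (apt Δ c d (w * v)) = v := apt_δ_mul Δ hcd w v
    have e4 : Δ.δ (apt Δ c d (w * v)) (apt Δ c d (w * w0 cs)) = v⁻¹ * w0 cs := by
      rw [apt_δ Δ hcd]; group
    refine Δ.between_unique ?_ e1 e2 e3 e4
    rw [mul_inv_cancel_left]
    have := length_inv_mul_w0 (cs := cs) v
    omega

include A hcd in
theorem exists_ind (w : W) : ∃ g : G, Ind Δ c d g w := by
  obtain ⟨g, h1, h2⟩ := A.trans c d (apt Δ c d w) (apt Δ c d (w * w0 cs)) (by
    rw [apt_δ_mul Δ hcd, hcd])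
  exact ⟨g, (ind_iff A hcd g w).2 ⟨h1, h2⟩⟩

omit [Finite W] [Finite I] in
theorem Ind.mul {g h : G} {v w : W} (hg : Ind Δ c d g v) (hh : Ind Δ c d h w) :
    Ind Δ c d (g * h) (v * w) := fun u => by
  rw [mul_smul, hh, hg, mul_assoc]

omit [Finite W] [Finite I] in
theorem ind_one : Ind Δ c d (1 : G) 1 := fun u => by rw [one_smul, one_mul]

omit [Finite W] [Finite I] in
theorem Ind.inv {g : G} {v : W} (hg : Ind Δ c d g v) : Ind Δ c d g⁻¹ v⁻¹ := fun u => by
  have := hg (v⁻¹ * u)
  rw [mul_inv_cancel_left] at this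
  rw [← this, inv_smul_smul]

include hcd in
theorem Ind.smul_c {g : G} {v : W} (hg : Ind Δ c d g v) : g • c = apt Δ c d v := by
  have := hg 1
  rwa [apt_one Δ hcd, mul_one] at this

include hcd in
theorem Ind.δ_c {g : G} {v : W} (hg : Ind Δ c d g v) : Δ.δ c (g • c) = v := by
  rw [hg.smul_c hcd, δ_apt Δ hcd]

include hcd in
theorem Ind.unique {g : G} {v w : W} (hg : Ind Δ c d g v) (hh : Ind Δ c d g w) : v = w := by
  rw [← hg.δ_c hcd, hh.δ_c hcd]

/-- the stabiliser of the apartment -/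
def N (Δ : Bldg cs C) (G : Type*) [Group G] [MulAction G C] (c d : C) : Subgroup G where
  carrier := {g | ∃ w, Ind Δ c d g w}
  mul_mem' := by rintro a b ⟨v, hv⟩ ⟨w, hw⟩; exact ⟨_, hv.mul hw⟩
  one_mem' := ⟨1, ind_one⟩
  inv_mem' := by rintro a ⟨v, hv⟩; exact ⟨_, hv.inv⟩

omit [Finite W] [Finite I] in
theorem mem_N {g : G} : g ∈ N Δ G c d ↔ ∃ w, Ind Δ c d g w := Iff.rfl

/-- the representative of `w` in `N` -/
noncomputable def rep (w : W) : G := (exists_ind A hcd w).choose

theorem ind_rep (w : W) : Ind Δ c d (rep A hcd w) w := (exists_ind A hcd w).choose_spec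

theorem rep_mem (w : W) : rep A hcd w ∈ N Δ G c d := ⟨w, ind_rep A hcd w⟩

omit [Finite W] [Finite I] in
include A in
theorem mem_double_iff {g h : G} :
    g ∈ DoubleCoset.doubleCoset h (MulAction.stabilizer G c : Set G) (MulAction.stabilizer G c) ↔
      Δ.δ c (g • c) = Δ.δ c (h • c) := by
  rw [DoubleCoset.mem_doubleCoset]
  constructor
  · rintro ⟨a, ha, b, hb, rfl⟩
    have ha' : a • c = c := ha
    have hb' : b • c = c := hb
    rw [mul_smul, mul_smul, hb']
    nth_rw 1 [← ha']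
    rw [A.iso]
  · intro hgh
    obtain ⟨a, h1, h2⟩ := A.trans c (h • c) c (g • c) hgh.symm
    refine ⟨a, h1, (a * h)⁻¹ * g, ?_, by group⟩
    show ((a * h)⁻¹ * g) • c = c
    rw [mul_smul, inv_smul_eq_iff, mul_smul, h2]

/-- the (B,N)-pair -/
noncomputable def bnPair (hth : Δ.Thick) : Cfsg.BNPair G where
  B := MulAction.stabilizer G c
  N := N Δ G c d
  S := Set.range fun i : I => rep A hcd (cs.simple i)
  sup_eq_top := by
    rw [eq_top_iff]
    intro g _
    have h1 : Δ.δ c (g • c) = Δ.δ c (rep A hcd (Δ.δ c (g • c)) • c) := by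
      rw [(ind_rep A hcd _).δ_c hcd]
    rw [← mem_double_iff A, DoubleCoset.mem_doubleCoset] at h1
    obtain ⟨a, ha, b, hb, e⟩ := h1
    rw [e]
    have l1 : MulAction.stabilizer G c ≤ MulAction.stabilizer G c ⊔ N Δ G c d := le_sup_left
    have l2 : N Δ G c d ≤ MulAction.stabilizer G c ⊔ N Δ G c d := le_sup_right
    exact mul_mem (mul_mem (l1 ha) (l2 (rep_mem A hcd _))) (l1 hb)
  conj_mem := by
    rintro n ⟨w, hw⟩ t ⟨htB, v, hv⟩
    have hv1 : v = 1 := by
      rw [← hv.δ_c hcd, show t • c = c from htB, Δ.δ_self]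
    subst hv1
    have := ((hw.mul hv).mul hw.inv).smul_c hcd
    rw [mul_one, mul_inv_cancel, apt_one Δ hcd] at this
    exact this
  subset := by rintro _ ⟨i, rfl⟩; exact rep_mem A hcd _
  sq_mem := by
    rintro _ ⟨i, rfl⟩
    have := ((ind_rep A hcd (cs.simple i)).mul (ind_rep A hcd (cs.simple i))).smul_c hcd
    rw [cs.simple_mul_simple_self, apt_one Δ hcd] at this
    exact this
  inj := by
    rintro _ ⟨i, rfl⟩ _ ⟨j, rfl⟩ h
    have h1 := ((ind_rep A hcd (cs.simple i)).inv.mul (ind_rep A hcd (cs.simple j))).δ_c hcd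
    rw [show ((rep A hcd (cs.simple i))⁻¹ * rep A hcd (cs.simple j)) • c = c from h, Δ.δ_self] at h1
    have h2 : cs.simple j = cs.simple i := by
      rw [← one_mul (cs.simple j), ← mul_inv_cancel (cs.simple i), mul_assoc, ← h1, mul_one]
    show rep A hcd (cs.simple i) = rep A hcd (cs.simple j)
    rw [h2]
  closure_sup := by
    apply le_antisymm
    · rw [sup_le_iff, Subgroup.closure_le]
      exact ⟨by rintro _ ⟨i, rfl⟩; exact rep_mem A hcd _, inf_le_right⟩
    · rintro g ⟨w, hw⟩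
      have key : ∀ ω : List I, ∃ k ∈ Subgroup.closure (Set.range fun i : I => rep A hcd (cs.simple i)),
          Ind Δ c d k (cs.wordProd ω) := by
        intro ω
        induction ω with
        | nil => exact ⟨1, one_mem _, by rw [cs.wordProd_nil]; exact ind_one⟩
        | cons i ω ih =>
          obtain ⟨k, hk, h⟩ := ih
          refine ⟨rep A hcd (cs.simple i) * k, mul_mem (Subgroup.subset_closure ⟨i, rfl⟩) hk, ?_⟩
          rw [cs.wordProd_cons]
          exact (ind_rep A hcd _).mul h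
      obtain ⟨ω, rfl⟩ := cs.wordProd_surjective w
      obtain ⟨k, hk, h⟩ := key ω
      have h1 := h.inv.mul hw
      rw [inv_mul_cancel] at h1
      have h2 : k⁻¹ * g ∈ MulAction.stabilizer G c ⊓ N Δ G c d := by
        refine ⟨?_, 1, h1⟩
        have := h1.smul_c hcd
        rw [apt_one Δ hcd] at this
        exact this
      have : g = k * (k⁻¹ * g) := by group
      rw [this]
      exact mul_mem ((le_sup_left : Subgroup.closure _ ≤ _) hk)
        ((le_sup_right : MulAction.stabilizer G c ⊓ N Δ G c d ≤ _) h2)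
  mul_mem_union := by
    rintro _ ⟨i, rfl⟩ n ⟨w, hn⟩ b hb
    have hbc : b • c = c := hb
    set s := rep A hcd (cs.simple i) with hs
    have hi := ind_rep A hcd (cs.simple i)
    rw [← hs] at hi
    have h0 : Δ.δ c (n • c) = w := hn.δ_c hcd
    have h1 : Δ.δ c ((s * n) • c) = cs.simple i * w := (hi.mul hn).δ_c hcd
    have h2 : Δ.δ (s⁻¹ • c) c = cs.simple i := by
      rw [← A.iso s, smul_inv_smul, hi.δ_c hcd]
    have h3 : Δ.δ c ((b * n) • c) = w := by
      rw [mul_smul]
      nth_rw 1 [← hbc]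
      rw [A.iso, h0]
    have h4 : Δ.δ c ((s * b * n) • c) = Δ.δ (s⁻¹ • c) ((b * n) • c) := by
      rw [← A.iso s⁻¹, ← mul_smul]
      congr 2
      group
    rcases Δ.step_left h2 (z := (b * n) • c) with h | h
    · left
      rw [mem_double_iff A, h1, h4, h, h3]
    · right
      rw [mem_double_iff A, h0, h4, h, h3]
  conj_ne := by
    rintro _ ⟨i, rfl⟩ h
    set s := rep A hcd (cs.simple i) with hs
    have hi := ind_rep A hcd (cs.simple i)
    rw [← hs] at hi
    obtain ⟨y, z, hyz, hy, hz⟩ := hth c i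
    have key : ∀ y, Δ.δ c y = cs.simple i → y = s • c := by
      intro y hy
      obtain ⟨b, h1, h2⟩ := A.trans c (s • c) c y (by rw [hi.δ_c hcd, hy])
      have h3 : s * b * s ∈ (MulAction.stabilizer G c : Set G) := by
        rw [← h]; exact ⟨b, h1, rfl⟩
      have h4 : (s * b * s) • c = c := h3
      have h5 : s⁻¹ • c = s • c := by
        have := (hi.mul hi).smul_c hcd
        rw [cs.simple_mul_simple_self, apt_one Δ hcd, mul_smul] at this
        rw [inv_smul_eq_iff, this]
      rw [mul_smul, mul_smul, h2] at h4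
      rw [← h5, ← h4, inv_smul_smul]
    exact hyz ((key y hy).trans (key z hz).symm)

theorem bnPair_B (hth : Δ.Thick) : (bnPair A hcd hth).B = MulAction.stabilizer G c := rfl

theorem rep_simple_injective : Function.Injective fun i : I => rep A hcd (cs.simple i) := by
  intro i j h
  have h' : rep A hcd (cs.simple i) = rep A hcd (cs.simple j) := h
  have h1 := ind_rep A hcd (cs.simple i)
  rw [h'] at h1
  exact simple_injective (cs := cs) (h1.unique hcd (ind_rep A hcd (cs.simple j)))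

theorem rank_bnPair (hth : Δ.Thick) : (bnPair A hcd hth).rank = Nat.card I :=
  Nat.card_congr (Equiv.ofInjective _ (rep_simple_injective A hcd)).symm

/-- the type of the pair -/
theorem bnPair_irreducible (hth : Δ.Thick)
    (hconn : ∀ J : Set I, J.Nonempty → Jᶜ.Nonempty → ∃ i ∈ J, ∃ j ∈ Jᶜ, M i j ≠ 2) :
    (bnPair A hcd hth).Irreducible := by
  intro J hJ hne hne'
  obtain ⟨i, hi, j, hj, hij⟩ := hconn {i | rep A hcd (cs.simple i) ∈ J}
    (by
      obtain ⟨s, hs⟩ := hne
      obtain ⟨i, rfl⟩ := hJ hs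
      exact ⟨i, hs⟩)
    (by
      obtain ⟨s, hs, hs'⟩ := hne'
      obtain ⟨i, rfl⟩ := hs
      exact ⟨i, hs'⟩)
  refine ⟨_, hi, _, ⟨⟨j, rfl⟩, hj⟩, fun h => hij ?_⟩
  have e1 := ind_rep A hcd (cs.simple i)
  have e2 := ind_rep A hcd (cs.simple j)
  have h1 := (((e1.mul e2).mul e1.inv).mul e2.inv).δ_c hcd
  have h2 : ((rep A hcd (cs.simple i)) * (rep A hcd (cs.simple j)) * (rep A hcd (cs.simple i))⁻¹ *
    (rep A hcd (cs.simple j))⁻¹) • c = c := h
  have hne1 : i ≠ j := by rintro rfl; exact hj hi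
  rw [h2, Δ.δ_self, cs.inv_simple, cs.inv_simple] at h1
  have h3 : (cs.simple i * cs.simple j) ^ 2 = 1 := by rw [pow_two, ← mul_assoc]; exact h1.symm
  have h4 := orderOf_dvd_of_pow_eq_one h3
  rw [Cfsg.Agent.Tits.Generic.orderOf_eq] at h4
  have h5 : M i j ≠ 1 := M.off_diagonal i j hne1
  exact ((Nat.dvd_prime Nat.prime_two).1 h4).resolve_left h5

end Cfsg.Agent.ParSys.AptBN
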