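import Cfsg.Agent.ParSys.BruhatType
import Cfsg.Agent.S1143

/-!
# A simple group with a spherical coset system of rank at least three is of Lie type
-/

set_option autoImplicit false

namespace Cfsg.Agent.ParSys.BruhatLie

open Cfsg.Agent.ParSys.Bruhat

variable {I : Type*} {M : CoxeterMatrix I} {W : Type*} [Group W] {G : Type*} [Group G]
  {cs : CoxeterSystem M W} {B : Subgroup G} {P : I → Subgroup G} {D : W → Set G}

theorem isLie [Finite G] [IsSimpleGroup G] (h : Cosets cs B P D) [Finite W] [Finite I]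
    (h3 : 3 ≤ Nat.card I)
    (hconn : ∀ J : Set I, J.Nonempty → Jᶜ.Nonempty → ∃ i ∈ J, ∃ j ∈ Jᶜ, M i j ≠ 2) :
    Cfsg.IsPSL G ∨ Cfsg.IsPSp G ∨ Cfsg.IsPSU G ∨ Cfsg.IsPOmegaOdd G ∨ Cfsg.IsPOmegaPlus G ∨ Cfsg.IsPOmegaMinus G ∨
      Cfsg.IsExceptionalLieType G := by
  obtain ⟨Q, -, hr, -, hirr⟩ := h.exists_bnPair
  exact Cfsg.Agent.S1143.result Q (hr ▸ h3) (hirr hconn)

end Cfsg.Agent.ParSys.BruhatLie
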