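import Cfsg.Agent.ParSys.Bruhat

/-!
# The type of the (B,N)-pair of `ParSys/Bruhat.lean`
-/

set_option autoImplicit false

namespace Cfsg.Agent.ParSys.BruhatType

open Cfsg.Agent.Tits.Core Cfsg.Agent.Tits.Core.Bldg Cfsg.Agent.Tits.Exchange Cfsg.Agent.Tits.Ext
open Cfsg.Agent.ParSys.AptBN

section

variable {I : Type*} {M : CoxeterMatrix I} {W : Type*} [Group W] {cs : CoxeterSystem M W}
  {C : Type*} {Δ : Bldg cs C} {G : Type*} [Group G] [MulAction G C] (A : Act Δ G)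
  [Finite W] [Finite I] {c d : C} (hcd : Δ.Opp c d)

theorem bnPair_N (hth : Δ.Thick) : (bnPair A hcd hth).N = N Δ G c d := rfl

theorem mem_bnPair_N (hth : Δ.Thick) (g : G) : g ∈ (bnPair A hcd hth).N ↔ ∃ w, Ind Δ c d g w := Iff.rfl

theorem mem_bnPair_B (hth : Δ.Thick) (g : G) : g ∈ (bnPair A hcd hth).B ↔ g • c = c := Iff.rfl

/-- the action of `N` on the apartment -/
noncomputable def toW (hth : Δ.Thick) : (bnPair A hcd hth).N →* W where
  toFun g := Δ.δ c ((g : G) • c)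
  map_one' := by rw [OneMemClass.coe_one, one_smul, Δ.δ_self]
  map_mul' g h := by
    obtain ⟨v, hg⟩ := (mem_bnPair_N A hcd hth g).1 g.2
    obtain ⟨w, hh⟩ := (mem_bnPair_N A hcd hth h).1 h.2
    rw [Subgroup.coe_mul, (hg.mul hh).δ_c hcd, hg.δ_c hcd, hh.δ_c hcd]

theorem toW_apply (hth : Δ.Thick) (g : (bnPair A hcd hth).N) :
    toW A hcd hth g = Δ.δ c ((g : G) • c) := rfl

theorem toW_surjective (hth : Δ.Thick) : Function.Surjective (toW A hcd hth) := fun w =>
  ⟨⟨rep A hcd w, rep_mem A hcd w⟩, (ind_rep A hcd w).δ_c hcd⟩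

theorem bnType (hth : Δ.Thick) :
    BNType (bnPair A hcd hth) M (Equiv.ofInjective _ (rep_simple_injective A hcd)) := by
  have hker : (((bnPair A hcd hth).B ⊓ (bnPair A hcd hth).N).subgroupOf (bnPair A hcd hth).N) =
      (toW A hcd hth).ker := by
    ext g
    rw [Subgroup.mem_subgroupOf, MonoidHom.mem_ker, toW_apply, Δ.eq_one, Subgroup.mem_inf,
      mem_bnPair_B]
    exact ⟨fun h => h.1.symm, fun h => ⟨h.symm, g.2⟩⟩
  have hn : (((bnPair A hcd hth).B ⊓ (bnPair A hcd hth).N).subgroupOf (bnPair A hcd hth).N).Normal := by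
    rw [hker]; exact MonoidHom.normal_ker _
  have hn' : (toW A hcd hth).ker.Normal := MonoidHom.normal_ker _
  refine ⟨hn, cs.map ((QuotientGroup.quotientMulEquivOfEq hker).trans
    (QuotientGroup.quotientKerEquivOfSurjective _ (toW_surjective A hcd hth))).symm, fun i => ?_⟩
  rw [CoxeterSystem.map_simple, MulEquiv.symm_apply_eq]
  exact ((ind_rep A hcd (cs.simple i)).δ_c hcd).symm

end

section

open Cfsg.Agent.ParSys.Bruhat

variable {I : Type*} {M : CoxeterMatrix I} {W : Type*} [Group W] {G : Type*} [Group G]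
  {cs : CoxeterSystem M W} {B : Subgroup G} {P : I → Subgroup G} {D : W → Set G}

/-- THE (B,N)-PAIR with its type. -/
theorem exists_bnPair (h : Cosets cs B P D) [Finite W] [Finite I] :
    ∃ Q : Cfsg.BNPair G, Q.B = B ∧ Q.rank = Nat.card I ∧
      (∃ e : I ≃ Q.S, (∀ i, (e i : G) ∈ P i) ∧ BNType Q M e) ∧
      ((∀ J : Set I, J.Nonempty → Jᶜ.Nonempty → ∃ i ∈ J, ∃ j ∈ Jᶜ, M i j ≠ 2) → Q.Irreducible) := by
  obtain ⟨d, hd⟩ := h.bldg.exists_δ (QuotientGroup.mk 1 : G ⧸ B) (w0 cs)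
  have hcd : h.bldg.Opp (QuotientGroup.mk 1 : G ⧸ B) d := hd
  refine ⟨AptBN.bnPair h.act hcd h.thick, ?_, AptBN.rank_bnPair h.act hcd h.thick,
    ⟨Equiv.ofInjective _ (AptBN.rep_simple_injective h.act hcd), fun i => ?_, bnType h.act hcd h.thick⟩,
    AptBN.bnPair_irreducible h.act hcd h.thick⟩
  · rw [AptBN.bnPair_B]
    exact MulAction.stabilizer_quotient B
  · have h1 := (AptBN.ind_rep h.act hcd (cs.simple i)).δ_c hcd
    have h2 : h.bldg.δ (QuotientGroup.mk 1 : G ⧸ B)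
      (QuotientGroup.mk (AptBN.rep h.act hcd (cs.simple i) * 1)) = cs.simple i := h1
    rw [h.bldg_δ, inv_one, one_mul, mul_one] at h2
    exact (h.mem_simple_iff.1 h2).1

end

end Cfsg.Agent.ParSys.BruhatType
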