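import Cfsg.Agent.ParSys.KFact
import Cfsg.Agent.ParSys.Hall

/-!
# Central extensions of the groups of Lie type of rank two

`CExt`: `ψ : M → F` is surjective with central kernel of odd order, `M = ⟨Es, Et⟩`, `Es` and `Et` are generated by the
conjugates of the 2-group `U` under `Es`, `Et`, `ψ(U) = UF`.  If `F` satisfies `KPair 2` then

* `CExt.mem_iff`: `ψ⁻¹(Q.B) = N(U)`;
* `CExt.gen`: `N(U) = ⟨N_{Es}(U), N_{Et}(U)⟩` (in particular the kernel lies in this group);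
* `CExt.comm`: `N(U) / U` is abelian (with `KTor`).
-/

set_option autoImplicit false

namespace Cfsg.Agent.ParSys

open Subgroup
open Cfsg.Agent.Schreier.BNSch (Node)
open Cfsg.Agent.LieExceptional.BNPairCore

variable {M F : Type*} [Group M] [Group F]

/-- A central extension of odd order of a group of Lie type of rank two. -/
structure CExt (ψ : M →* F) (U Es Et : Subgroup M) (Q : Cfsg.BNPair F) (UF : Subgroup F) (s t : F) : Prop where
  K : KPair 2 Q UF s t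
  surj : Function.Surjective ψ
  top : Es ⊔ Et = ⊤
  Us : U ≤ Es
  Ut : U ≤ Et
  isP : IsPGroup 2 U
  central : ∀ z, ψ z = 1 → ∀ x, z * x = x * z
  cop : ∀ z, ψ z = 1 → ∃ k : ℕ, Nat.Coprime 2 k ∧ z ^ k = 1
  img : ∀ e, e ∈ UF ↔ ∃ u ∈ U, ψ u = e
  gens : ∀ N : Subgroup M, (∀ e ∈ Es, ∀ u ∈ U, e * u * e⁻¹ ∈ N) → Es ≤ N
  gent : ∀ N : Subgroup M, (∀ e ∈ Et, ∀ u ∈ U, e * u * e⁻¹ ∈ N) → Et ≤ N
  ims : ∀ e ∈ Es, ψ e ∈ Q.parabolic {s}
  imt : ∀ e ∈ Et, ψ e ∈ Q.parabolic {t}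
  nots : ∃ e ∈ Es, ψ e ∉ Q.B
  nott : ∃ e ∈ Et, ψ e ∉ Q.B

theorem FOne.symm {Q : Cfsg.BNPair F} {UE : Subgroup F} {s t : F} (h : FOne Q UE s t) : FOne Q UE t s :=
  fun T hT h1 => h T hT fun e he => by
    obtain ⟨x, hx, h2, h3⟩ := h1 e he
    exact ⟨x, hx, h3, h2⟩

theorem KPair.symm {p : ℕ} {Q : Cfsg.BNPair F} {UE : Subgroup F} {s t : F} (h : KPair p Q UE s t) :
    KPair p Q UE t s where
  split := h.split
  S := by rw [h.S, Set.pair_comm]
  ne := h.ne.symm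
  irr := fun h1 => h.irr (by
    have := inv_mem h1
    have e : (t * s * t⁻¹ * s⁻¹)⁻¹ = s * t * s⁻¹ * t⁻¹ := by group
    rwa [e] at this)
  one := h.one.symm
  gen := by rw [sup_comm]; exact h.gen
  fpfs := h.fpft
  fpft := h.fpfs
  comm := h.comm

theorem KTor.symm {Q : Cfsg.BNPair F} {UE : Subgroup F} {s t : F} (h : KTor Q UE s t) : KTor Q UE t s where
  cycs := h.cyct
  cyct := h.cycs
  inv := h.inv.symm

namespace KPair

variable {p : ℕ} {Q : Cfsg.BNPair F} {UE : Subgroup F} {s t : F} (h : KPair p Q UE s t)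

include h

theorem hs : s ∈ Q.S := by rw [h.S]; simp

theorem ht : t ∈ Q.S := by rw [h.S]; simp

/-- `P_s = B ∪ U s B` -/
theorem form {r e : F} (hr : r ∈ Q.S) (he : e ∈ Q.parabolic {r}) (heB : e ∉ Q.B) :
    ∃ v ∈ UE, ∃ b ∈ Q.B, e = v * r * b := by
  obtain ⟨c, hc, d, hd, rfl⟩ := mem_C.1 (mem_C_of_parabolic hr he heB)
  obtain ⟨v, hv, τ, hτ, rfl⟩ := h.split.cover' hc
  refine ⟨v, hv, r⁻¹ * τ * r * d, mul_mem ?_ hd, by group⟩
  have := conj_mem_inv (mem_N hr) (mem_inf.1 hτ).1 (mem_inf.1 hτ).2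
  exact this

omit h in
theorem map_le_Rone {r : F} : UE ≤ Rone UE r := le_sup_left

omit h in
theorem conj_mem_Rone {r w : F} (hw : w ∈ UE) : r * w * r⁻¹ ∈ Rone UE r :=
  (le_sup_right : UE.map (MulAut.conj r).toMonoidHom ≤ _) ⟨w, hw, rfl⟩

/-- `Rone` is normalised by the parabolic -/
theorem conj_Rone_gen {r e w : F} (hr : r ∈ Q.S) (he : e ∈ Q.parabolic {r}) (hw : w ∈ UE) :
    e * w * e⁻¹ ∈ Rone UE r := by
  by_cases heB : e ∈ Q.B
  · exact map_le_Rone (h.split.norm e heB w hw)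
  · obtain ⟨v, hv, b, hb, rfl⟩ := h.form hr he heB
    have h1 := conj_mem_Rone (r := r) (h.split.norm b hb w hw)
    have hv' := map_le_Rone (r := r) hv
    have e1 : v * r * b * w * (v * r * b)⁻¹ = v * (r * (b * w * b⁻¹) * r⁻¹) * v⁻¹ := by group
    rw [e1]
    exact mul_mem (mul_mem hv' h1) (inv_mem hv')

theorem conj_Rone {r e x : F} (hr : r ∈ Q.S) (he : e ∈ Q.parabolic {r}) (hx : x ∈ Rone UE r) :
    e * x * e⁻¹ ∈ Rone UE r := by
  have h1 : Rone UE r ≤ (Rone UE r).comap (MulAut.conj e).toMonoidHom := by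
    apply sup_le
    · intro w hw
      exact h.conj_Rone_gen hr he hw
    · rintro _ ⟨w, hw, rfl⟩
      have h2 := h.conj_Rone_gen hr (mul_mem he
        ((le_sup_right : closure {r} ≤ Q.parabolic {r}) (subset_closure rfl))) hw
      show e * (r * w * r⁻¹) * e⁻¹ ∈ Rone UE r
      have e1 : e * (r * w * r⁻¹) * e⁻¹ = e * r * w * (e * r)⁻¹ := by group
      rw [e1]; exact h2
  exact h1 hx

/-- the torus meets the unipotent group trivially -/
theorem inf_torus [Fact p.Prime] {x : F} (hU : x ∈ UE) (hN : x ∈ Q.N) : x = 1 := by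
  obtain ⟨k, hk, h1⟩ := h.split.tor
  have h2 := h1 x (h.split.le hU) hN
  obtain ⟨a, ha⟩ := h.split.isP ⟨x, hU⟩
  have h3 : x ^ p ^ a = 1 := by simpa using congrArg Subtype.val ha
  have h4 := Hall.mem_of_pow_mem_of_coprime (K := (⊥ : Subgroup F)) (x := x) (a := p ^ a) (b := k)
    (by rw [h3]; exact one_mem _) (by rw [h2]; exact one_mem _)
    (((Nat.Prime.coprime_iff_not_dvd Fact.out).2 hk).pow_left a)
  exact Subgroup.mem_bot.1 h4

end KPair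

namespace CExt

variable {ψ : M →* F} {U Es Et : Subgroup M} {Q : Cfsg.BNPair F} {UF : Subgroup F} {s t : F}
  (C : CExt ψ U Es Et Q UF s t)

include C

theorem symm : CExt ψ U Et Es Q UF t s where
  K := C.K.symm
  surj := C.surj
  top := by rw [sup_comm]; exact C.top
  Us := C.Ut
  Ut := C.Us
  isP := C.isP
  central := C.central
  cop := C.cop
  img := C.img
  gens := C.gent
  gent := C.gens
  ims := C.imt
  imt := C.ims
  nots := C.nott
  nott := C.nots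

theorem mem_UF {u : M} (hu : u ∈ U) : ψ u ∈ UF := (C.img _).2 ⟨u, hu, rfl⟩

/-- 2-elements over `UF` lie in `U` -/
theorem mem_of_pow {x : M} (hx : ψ x ∈ UF) {a : ℕ} (ha : x ^ 2 ^ a = 1) : x ∈ U := by
  obtain ⟨u, hu, h1⟩ := (C.img _).1 hx
  have hz : ψ (u⁻¹ * x) = 1 := by rw [map_mul, map_inv, h1, inv_mul_cancel]
  obtain ⟨k, hk, h2⟩ := C.cop _ hz
  have hc : Commute u (u⁻¹ * x) := ((C.central _ hz u)).symm
  have h3 : x ^ k ∈ U := by
    have e : x = u * (u⁻¹ * x) := by group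
    rw [e, hc.mul_pow, h2, mul_one]
    exact pow_mem hu k
  exact Hall.mem_of_pow_mem_of_coprime (a := 2 ^ a) (b := k) (by rw [ha]; exact one_mem _) h3 (hk.pow_left a)

theorem conj_mem_U {x u : M} (hx : ψ x ∈ Q.B) (hu : u ∈ U) : x * u * x⁻¹ ∈ U := by
  obtain ⟨a, ha⟩ := C.isP ⟨u, hu⟩
  have h1 : u ^ 2 ^ a = 1 := by simpa using congrArg Subtype.val ha
  refine C.mem_of_pow (a := a) ?_ ?_
  · rw [map_mul, map_mul, map_inv]
    exact C.K.split.norm _ hx _ (C.mem_UF hu)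
  · rw [conj_pow, h1, mul_one, mul_inv_cancel]

/-- **`N(U) = ψ⁻¹(Q.B)`** -/
theorem mem_iff {x : M} : x ∈ normalizer (U : Set M) ↔ ψ x ∈ Q.B := by
  constructor
  · intro hx
    rw [← C.K.split.normalizer_eq, Subgroup.mem_normalizer_iff]
    intro e
    constructor
    · intro he
      obtain ⟨u, hu, rfl⟩ := (C.img _).1 he
      rw [← map_mul, ← map_inv, ← map_mul]
      exact C.mem_UF ((Subgroup.mem_normalizer_iff.mp hx u).mp hu)
    · intro he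
      obtain ⟨u, hu, h1⟩ := (C.img _).1 he
      have h2 : e = ψ (x⁻¹ * u * x) := by
        rw [map_mul, map_mul, map_inv, h1]; group
      rw [h2]
      have h3 := (Subgroup.mem_normalizer_iff.mp (inv_mem hx) u).mp hu
      rw [inv_inv] at h3
      exact C.mem_UF h3
  · intro hx
    rw [Subgroup.mem_normalizer_iff]
    intro u
    refine ⟨fun hu => C.conj_mem_U hx hu, fun hu => ?_⟩
    have h1 : ψ x⁻¹ ∈ Q.B := by rw [map_inv]; exact inv_mem hx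
    have := C.conj_mem_U h1 hu
    have e : x⁻¹ * (x * u * x⁻¹) * x⁻¹⁻¹ = u := by group
    rwa [e] at this

/-- `ψ(Es) = Rone UF s` -/
theorem map_Es {e : M} (he : e ∈ Es) : ψ e ∈ Rone UF s := by
  have h1 : Es ≤ (Rone UF s).comap ψ := C.gens _ fun e he u hu => by
    rw [Subgroup.mem_comap, map_mul, map_mul, map_inv]
    exact C.K.conj_Rone_gen C.K.hs (C.ims e he) (C.mem_UF hu)
  exact h1 he

/-- an element `n ∈ Es` over `s T` -/
theorem exists_ns : ∃ n ∈ Es, ∃ h ∈ Q.B ⊓ Q.N, ψ n = s * h := by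
  obtain ⟨e, he, heB⟩ := C.nots
  obtain ⟨v, hv, b, hb, h1⟩ := C.K.form C.K.hs (C.ims e he) heB
  obtain ⟨u, hu, rfl⟩ := (C.img _).1 hv
  obtain ⟨w, hw, τ, hτ, rfl⟩ := C.K.split.cover' hb
  have h2 := C.K.split.norm τ⁻¹ (inv_mem (mem_inf.1 hτ).1) w hw
  rw [inv_inv] at h2
  obtain ⟨u2, hu2, h3⟩ := (C.img _).1 h2
  refine ⟨u⁻¹ * e * u2⁻¹, mul_mem (mul_mem (inv_mem (C.Us hu)) he) (inv_mem (C.Us hu2)), τ, hτ, ?_⟩
  rw [map_mul, map_mul, map_inv, map_inv, h1, h3]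
  group

theorem exists_lift {e : F} (he : e ∈ Rone UF s) : ∃ x ∈ Es, ψ x = e := by
  have h1 : Rone UF s ≤ Es.map ψ := by
    apply sup_le
    · intro w hw
      obtain ⟨u, hu, rfl⟩ := (C.img _).1 hw
      exact ⟨u, C.Us hu, rfl⟩
    · rintro _ ⟨w, hw, rfl⟩
      obtain ⟨n, hn, h, hh, h1⟩ := C.exists_ns
      have h2 := C.K.split.norm h⁻¹ (inv_mem (mem_inf.1 hh).1) w hw
      rw [inv_inv] at h2
      obtain ⟨u, hu, h3⟩ := (C.img _).1 h2
      refine ⟨n * u * n⁻¹, mul_mem (mul_mem hn (C.Us hu)) (inv_mem hn), ?_⟩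
      rw [map_mul, map_mul, map_inv, h1, h3]
      show s * h * (h⁻¹ * w * h) * (s * h)⁻¹ = s * w * s⁻¹
      group
  exact h1 he

/-- `N(U)` normalises `Es` -/
theorem conj_Es {x e : M} (hx : ψ x ∈ Q.B) (he : e ∈ Es) : x * e * x⁻¹ ∈ Es := by
  have h1 : Es ≤ Es.comap (MulAut.conj x).toMonoidHom := C.gens _ fun e he u hu => by
    show x * (e * u * e⁻¹) * x⁻¹ ∈ Es
    have h2 : ψ (x * e * x⁻¹) ∈ Rone UF s := by
      rw [map_mul, map_mul, map_inv]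
      exact C.K.conj_Rone C.K.hs ((le_sup_left : Q.B ≤ Q.parabolic {s}) hx) (C.map_Es he)
    obtain ⟨e', he', h3⟩ := C.exists_lift h2
    have hz : ψ (e'⁻¹ * (x * e * x⁻¹)) = 1 := by rw [map_mul, map_inv, h3, inv_mul_cancel]
    set z := e'⁻¹ * (x * e * x⁻¹) with hzdef
    have h4 : x * e * x⁻¹ = e' * z := by rw [hzdef]; group
    have h5 := C.conj_mem_U hx hu
    have e1 : x * (e * u * e⁻¹) * x⁻¹ = (x * e * x⁻¹) * (x * u * x⁻¹) * (x * e * x⁻¹)⁻¹ := by group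
    rw [e1, h4]
    have h6 := C.central z hz (x * u * x⁻¹)
    have e2 : e' * z * (x * u * x⁻¹) * (e' * z)⁻¹ = e' * (z * (x * u * x⁻¹)) * z⁻¹ * e'⁻¹ := by group
    rw [e2, h6]
    have e3 : e' * (x * u * x⁻¹ * z) * z⁻¹ * e'⁻¹ = e' * (x * u * x⁻¹) * e'⁻¹ := by group
    rw [e3]
    exact mul_mem (mul_mem he' (C.Us h5)) (inv_mem he')
  exact h1 he

end CExt

/-- the subgroup generated by the local Borel subgroups -/
def B2 (ψ : M →* F) (Es Et : Subgroup M) (Q : Cfsg.BNPair F) : Subgroup M :=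
  (Es ⊓ Q.B.comap ψ) ⊔ (Et ⊓ Q.B.comap ψ)

theorem B2_le (ψ : M →* F) (Es Et : Subgroup M) (Q : Cfsg.BNPair F) : B2 ψ Es Et Q ≤ Q.B.comap ψ :=
  sup_le inf_le_right inf_le_right

theorem B2_comm (ψ : M →* F) (Es Et : Subgroup M) (Q : Cfsg.BNPair F) : B2 ψ Es Et Q = B2 ψ Et Es Q := sup_comm _ _

namespace CExt

variable {ψ : M →* F} {U Es Et : Subgroup M} {Q : Cfsg.BNPair F} {UF : Subgroup F} {s t : F}
  (C : CExt ψ U Es Et Q UF s t)

include C

theorem U_le_B2 : U ≤ B2 ψ Es Et Q :=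
  (le_inf C.Us fun _ hu => C.K.split.le (C.mem_UF hu)).trans le_sup_left

/-- `ψ(B2) = Q.B` -/
theorem exists_B2 {e : F} (he : e ∈ Q.B) : ∃ b ∈ B2 ψ Es Et Q, ψ b = e := by
  have h1 : (Rone UF s ⊓ Q.B) ⊔ (Rone UF t ⊓ Q.B) ≤ (B2 ψ Es Et Q).map ψ := by
    apply sup_le
    · rintro e ⟨he, heB⟩
      obtain ⟨x, hx, rfl⟩ := C.exists_lift he
      exact ⟨x, Subgroup.mem_sup_left ⟨hx, heB⟩, rfl⟩
    · rintro e ⟨he, heB⟩
      obtain ⟨x, hx, rfl⟩ := C.symm.exists_lift he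
      exact ⟨x, Subgroup.mem_sup_right ⟨hx, heB⟩, rfl⟩
  exact h1 (C.K.gen he)

theorem mem_Ps {x : M} (hx : x ∈ B2 ψ Es Et Q ⊔ Es) : ∃ e ∈ Es, ∃ b ∈ B2 ψ Es Et Q, x = e * b := by
  refine Solvable.Glauberman.exists_mul_of_mem_sup (B2 ψ Es Et Q) Es ?_ hx
  intro b hb
  have hb' := B2_le ψ Es Et Q hb
  rw [Subgroup.mem_normalizer_iff]
  intro x
  refine ⟨fun h => C.conj_Es hb' h, fun h => ?_⟩
  have h1 : ψ b⁻¹ ∈ Q.B := by rw [map_inv]; exact inv_mem hb'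
  have := C.conj_Es h1 h
  have e : b⁻¹ * (b * x * b⁻¹) * b⁻¹⁻¹ = x := by group
  rwa [e] at this

theorem inf_Ps {x : M} (hx : x ∈ B2 ψ Es Et Q ⊔ Es) (hB : ψ x ∈ Q.B) : x ∈ B2 ψ Es Et Q := by
  obtain ⟨e, he, b, hb, rfl⟩ := C.mem_Ps hx
  refine mul_mem (Subgroup.mem_sup_left ⟨he, ?_⟩) hb
  show ψ e ∈ Q.B
  have h1 := B2_le ψ Es Et Q hb
  rw [Subgroup.mem_comap] at h1
  rw [map_mul] at hB
  have := mul_mem hB (inv_mem h1)
  rwa [mul_inv_cancel_right] at this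

theorem im_Ps {x : M} (hx : x ∈ B2 ψ Es Et Q ⊔ Es) : ψ x ∈ Q.parabolic {s} := by
  obtain ⟨e, he, b, hb, rfl⟩ := C.mem_Ps hx
  rw [map_mul]
  exact mul_mem (C.ims e he) ((le_sup_left : Q.B ≤ Q.parabolic {s}) (B2_le ψ Es Et Q hb))

end CExt

end Cfsg.Agent.ParSys
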