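import Cfsg.Agent.ParSys.Par

/-!
# THEOREM PAR, front end: globalisation of the Borel subgroup

`U` a `p`-subgroup of `G`, `U ≤ E i`, `T i := N_{E i}(U)`.  If `T j` normalises `E i` and the `T i / U` are commuting
`p'`-groups then `Bo := ⟨T i⟩ = U H` with `Bo / U` an abelian `p'`-group, and the `P i := E i Bo` are subgroups with
`E i ∩ Bo = T i`.  `Front.link` : the chamber system of `P i ⊔ P j` over `Bo` is the one of the rank two group `F`, when
`ψ : E i ⊔ E j → F` is surjective with `ψ⁻¹ (Borel) = N(U)`.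
-/

set_option autoImplicit false

namespace Cfsg.Agent.ParSys

open Subgroup

variable {G : Type*} [Group G] {I : Type*}

/-- The local Borel subgroup `N_E(U)`. -/
def Tn (U E : Subgroup G) : Subgroup G := E ⊓ normalizer (U : Set G)

theorem mem_Tn {U E : Subgroup G} {x : G} : x ∈ Tn U E ↔ x ∈ E ∧ x ∈ normalizer (U : Set G) := Iff.rfl

/-- The global Borel subgroup. -/
def Bo (U : Subgroup G) (E : I → Subgroup G) : Subgroup G := ⨆ i, Tn U (E i)

/-- The minimal parabolic subgroups. -/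
def Pa (U : Subgroup G) (E : I → Subgroup G) (i : I) : Subgroup G := Bo U E ⊔ E i

/-- The hypotheses for the globalisation of the Borel subgroup. -/
structure Front (p : ℕ) (U : Subgroup G) (E : I → Subgroup G) : Prop where
  le : ∀ i, U ≤ E i
  isP : IsPGroup p U
  /-- `N_{E i}(U) / U` is a `p'`-group -/
  cop : ∀ i, ∀ x ∈ Tn U (E i), ∃ k : ℕ, p.Coprime k ∧ x ^ k ∈ U
  norm : ∀ i j, ∀ x ∈ Tn U (E j), x ∈ normalizer (E i : Set G)
  comm : ∀ i j, ∀ x ∈ Tn U (E i), ∀ y ∈ Tn U (E j), x * y * x⁻¹ * y⁻¹ ∈ U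

theorem conj_mem_of_normalizer {K : Subgroup G} {x y : G} (hx : x ∈ normalizer (K : Set G)) (hy : y ∈ K) :
    x * y * x⁻¹ ∈ K := (Subgroup.mem_normalizer_iff.mp hx y).mp hy

theorem conj_mem_of_normalizer' {K : Subgroup G} {x y : G} (hx : x ∈ normalizer (K : Set G)) (hy : y ∈ K) :
    x⁻¹ * y * x ∈ K := by
  have := conj_mem_of_normalizer (inv_mem hx) hy
  rwa [inv_inv] at this

/-- the elements of `N(U)` which commute with `y` modulo `U` -/
def CenU (U : Subgroup G) (y : G) : Subgroup G where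
  carrier := {x | x ∈ normalizer (U : Set G) ∧ x * y * x⁻¹ * y⁻¹ ∈ U}
  one_mem' := ⟨one_mem _, by simp⟩
  mul_mem' := by
    rintro a b ⟨ha, ha'⟩ ⟨hb, hb'⟩
    refine ⟨mul_mem ha hb, ?_⟩
    have h1 := conj_mem_of_normalizer ha hb'
    have e : a * b * y * (a * b)⁻¹ * y⁻¹ = a * (b * y * b⁻¹ * y⁻¹) * a⁻¹ * (a * y * a⁻¹ * y⁻¹) := by group
    rw [e]
    exact mul_mem h1 ha'
  inv_mem' := by
    rintro a ⟨ha, ha'⟩
    refine ⟨inv_mem ha, ?_⟩
    have h1 := conj_mem_of_normalizer' ha (inv_mem ha')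
    have e : a⁻¹ * (a * y * a⁻¹ * y⁻¹)⁻¹ * a = a⁻¹ * y * a⁻¹⁻¹ * y⁻¹ := by group
    rwa [e] at h1

theorem comm_symm {U : Subgroup G} {x y : G} (h : x * y * x⁻¹ * y⁻¹ ∈ U) : y * x * y⁻¹ * x⁻¹ ∈ U := by
  have := inv_mem h
  have e : (x * y * x⁻¹ * y⁻¹)⁻¹ = y * x * y⁻¹ * x⁻¹ := by group
  rwa [e] at this

namespace Front

variable {p : ℕ} {U : Subgroup G} {E : I → Subgroup G} (D : Front p U E)

theorem Tn_le (i : I) : Tn U (E i) ≤ Bo U E := le_iSup (fun i => Tn U (E i)) i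

theorem Bo_le_norm : Bo U E ≤ normalizer (U : Set G) := iSup_le fun _ => inf_le_right

theorem Bo_le_Pa (i : I) : Bo U E ≤ Pa U E i := le_sup_left

theorem E_le_Pa (i : I) : E i ≤ Pa U E i := le_sup_right

include D

theorem U_le_Tn (i : I) : U ≤ Tn U (E i) := le_inf (D.le i) Subgroup.le_normalizer

theorem U_le_Bo [Nonempty I] : U ≤ Bo U E :=
  (D.U_le_Tn (Classical.arbitrary I)).trans (Tn_le _)

theorem Bo_norm (i : I) : Bo U E ≤ normalizer (E i : Set G) := iSup_le fun j x hx => D.norm i j x hx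

/-- `Bo / U` is abelian -/
theorem comm_mem {x y : G} (hx : x ∈ Bo U E) (hy : y ∈ Bo U E) : x * y * x⁻¹ * y⁻¹ ∈ U := by
  have h1 : ∀ j, ∀ y, (hy : y ∈ Tn U (E j)) → Bo U E ≤ CenU U y := fun j y hy =>
    iSup_le fun i x hx => ⟨hx.2, D.comm i j x hx y hy⟩
  have h2 : Bo U E ≤ CenU U x := iSup_le fun j y hy =>
    ⟨hy.2, comm_symm (h1 j y hy hx).2⟩
  exact comm_symm (h2 hy).2

theorem exists_pow {x : G} (hx : x ∈ Bo U E) : ∃ k : ℕ, p.Coprime k ∧ x ^ k ∈ U := by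
  have hU : ∀ {x : G}, x ∈ Bo U E → ∀ {u : G}, u ∈ U → ∀ k : ℕ, (x * u) ^ k * (x ^ k)⁻¹ ∈ U := by
    intro x hx u hu k
    have hxN := Bo_le_norm hx
    induction k with
    | zero => simp
    | succ k ih =>
      have e : (x * u) ^ (k + 1) * (x ^ (k + 1))⁻¹ =
          (x * u) ^ k * (x ^ k)⁻¹ * (x ^ k * (x * u * x⁻¹) * (x ^ k)⁻¹) := by
        rw [pow_succ, pow_succ]; group
      rw [e]
      exact mul_mem ih (conj_mem_of_normalizer (pow_mem hxN k) (conj_mem_of_normalizer hxN hu))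
  have hmul : ∀ {x y : G}, x ∈ Bo U E → y ∈ Bo U E → ∀ k : ℕ, (x * y) ^ k * (x ^ k * y ^ k)⁻¹ ∈ U := by
    intro x y hx hy k
    induction k with
    | zero => simp
    | succ k ih =>
      have hc := D.comm_mem (pow_mem hy k) hx
      have e : (x * y) ^ (k + 1) * (x ^ (k + 1) * y ^ (k + 1))⁻¹ =
          (x * y) ^ k * (x ^ k * y ^ k)⁻¹ *
            (x ^ k * (y ^ k * x * (y ^ k)⁻¹ * x⁻¹) * (x ^ k)⁻¹) := by
        rw [pow_succ, pow_succ, pow_succ]; group
      rw [e]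
      exact mul_mem ih (conj_mem_of_normalizer (pow_mem (Bo_le_norm hx) k) hc)
  unfold Bo at hx
  induction hx using Subgroup.iSup_induction' with
  | hp i x hx => exact D.cop i x hx
  | h1 => exact ⟨1, Nat.coprime_one_right p, by simp⟩
  | hmul x y hx hy ihx ihy =>
    obtain ⟨k, hk, hxk⟩ := ihx
    obtain ⟨l, hl, hyl⟩ := ihy
    refine ⟨k * l, Nat.Coprime.mul_right hk hl, ?_⟩
    have h1 := hmul hx hy (k * l)
    have h2 : x ^ (k * l) * y ^ (k * l) ∈ U := by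
      rw [pow_mul, mul_comm k l, pow_mul]
      exact mul_mem (pow_mem hxk l) (pow_mem hyl k)
    have h3 := mul_mem h1 h2
    rwa [inv_mul_cancel_right] at h3

theorem mem_of_pow {x : G} (hx : x ∈ Bo U E) {a : ℕ} (ha : x ^ p ^ a = 1) : x ∈ U := by
  obtain ⟨k, hk, hxk⟩ := D.exists_pow hx
  exact Hall.mem_of_pow_mem_of_coprime (a := p ^ a) (b := k) (by rw [ha]; exact one_mem _) hxk (hk.pow_left a)

/-- **The Hall complement.** -/
theorem exists_hall [Nonempty I] [Finite G] [hp : Fact p.Prime] :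
    ∃ H : Subgroup G, Hall.HallData p (Bo U E) U H ∧ U ⊔ H = Bo U E := by
  have hUB := D.U_le_Bo
  have hn : (U.subgroupOf (Bo U E)).Normal :=
    Subgroup.normal_subgroupOf_of_le_normalizer Bo_le_norm
  have hcop : (Nat.card (U.subgroupOf (Bo U E))).Coprime (U.subgroupOf (Bo U E)).index := by
    have h1 : Nat.card (U.subgroupOf (Bo U E)) = Nat.card U :=
      Nat.card_congr (Subgroup.subgroupOfEquivOfLe hUB).toEquiv
    obtain ⟨a, ha⟩ := (IsPGroup.iff_card (p := p)).mp D.isP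
    rw [h1, ha]
    apply Nat.Coprime.pow_left
    rw [Nat.Prime.coprime_iff_not_dvd hp.out]
    intro hd
    rw [Subgroup.index_eq_card] at hd
    obtain ⟨z, hz⟩ := exists_prime_orderOf_dvd_card' (G := Bo U E ⧸ U.subgroupOf (Bo U E)) p hd
    obtain ⟨x, rfl⟩ := QuotientGroup.mk'_surjective (U.subgroupOf (Bo U E)) z
    obtain ⟨k, hk, hxk⟩ := D.exists_pow x.2
    have h2 : (QuotientGroup.mk' (U.subgroupOf (Bo U E)) x) ^ k = 1 := by
      rw [← map_pow, QuotientGroup.mk'_apply, QuotientGroup.eq_one_iff, Subgroup.mem_subgroupOf]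
      simpa using hxk
    have h3 := orderOf_dvd_of_pow_eq_one h2
    rw [hz] at h3
    exact (Nat.Prime.coprime_iff_not_dvd hp.out).1 hk h3
  obtain ⟨H', hH'⟩ := Subgroup.exists_right_complement'_of_coprime hcop
  set H : Subgroup G := H'.map (Bo U E).subtype with hH
  have hHB : H ≤ Bo U E := by
    rintro _ ⟨x, -, rfl⟩
    exact x.2
  have hsup : U ⊔ H = Bo U E := by
    apply le_antisymm (sup_le hUB hHB)
    intro x hx
    have h1 := hH'.sup_eq_top
    have h2 : (⟨x, hx⟩ : Bo U E) ∈ U.subgroupOf (Bo U E) ⊔ H' := by rw [h1]; trivial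
    have h3 := Subgroup.mem_map_of_mem (Bo U E).subtype h2
    rw [Subgroup.map_sup, Subgroup.subgroupOf_map_subtype] at h3
    have h4 : U ⊓ Bo U E ⊔ H'.map (Bo U E).subtype ≤ U ⊔ H := sup_le_sup_right inf_le_left _
    exact h4 h3
  refine ⟨H, ?_, hsup⟩
  exact {
    U_le := hUB
    H_le := hHB
    U_norm := Bo_le_norm
    U_pgroup := D.isP
    H_cop := by
      have h1 : Nat.card H = Nat.card H' := Nat.card_congr
        (Subgroup.equivMapOfInjective H' _ (Bo U E).subtype_injective).symm.toEquiv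
      have h2 : Nat.card H' = (U.subgroupOf (Bo U E)).index := by
        rw [← hH'.symm.index_eq_card]
      rw [Nat.Prime.coprime_iff_not_dvd hp.out, h1, h2, Subgroup.index_eq_card]
      intro hd
      obtain ⟨z, hz⟩ := exists_prime_orderOf_dvd_card' (G := Bo U E ⧸ U.subgroupOf (Bo U E)) p hd
      obtain ⟨x, rfl⟩ := QuotientGroup.mk'_surjective (U.subgroupOf (Bo U E)) z
      obtain ⟨k, hk, hxk⟩ := D.exists_pow x.2
      have h2 : (QuotientGroup.mk' (U.subgroupOf (Bo U E)) x) ^ k = 1 := by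
        rw [← map_pow, QuotientGroup.mk'_apply, QuotientGroup.eq_one_iff, Subgroup.mem_subgroupOf]
        simpa using hxk
      have h3 := orderOf_dvd_of_pow_eq_one h2
      rw [hz] at h3
      exact (Nat.Prime.coprime_iff_not_dvd hp.out).1 hk h3
    UH_norm := by rw [hsup]; exact Subgroup.le_normalizer
    index := ⟨0, by rw [hsup, Subgroup.relIndex_self, pow_zero]⟩
    core := by
      intro T hTB hT _ x hx
      obtain ⟨a, ha⟩ := hT ⟨x, hx⟩
      exact D.mem_of_pow (hTB hx) (a := a) (by simpa using congrArg Subtype.val ha) }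

theorem mem_Pa {i : I} {x : G} (hx : x ∈ Pa U E i) : ∃ e ∈ E i, ∃ b ∈ Bo U E, x = e * b :=
  Solvable.Glauberman.exists_mul_of_mem_sup (Bo U E) (E i) (D.Bo_norm i) hx

omit D in
theorem inf_Bo {i : I} {x : G} (hx : x ∈ E i) : x ∈ Bo U E ↔ x ∈ Tn U (E i) :=
  ⟨fun h => ⟨hx, Bo_le_norm h⟩, fun h => Tn_le i h⟩

theorem Bo_norm_sup (i j : I) : Bo U E ≤ normalizer ((E i ⊔ E j : Subgroup G) : Set G) := by
  intro b hb
  have h : ∀ c ∈ Bo U E, ∀ x ∈ E i ⊔ E j, c * x * c⁻¹ ∈ E i ⊔ E j := by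
    intro c hc x hx
    have h1 : (E i ⊔ E j) ≤ (E i ⊔ E j).comap (MulAut.conj c).toMonoidHom := by
      rw [sup_le_iff]
      constructor
      · intro y hy
        exact (le_sup_left : E i ≤ _) (conj_mem_of_normalizer (D.Bo_norm i hc) hy)
      · intro y hy
        exact (le_sup_right : E j ≤ _) (conj_mem_of_normalizer (D.Bo_norm j hc) hy)
    exact h1 hx
  rw [Subgroup.mem_normalizer_iff]
  intro x
  refine ⟨h b hb x, fun hx => ?_⟩
  have := h b⁻¹ (inv_mem hb) _ hx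
  have e : b⁻¹ * (b * x * b⁻¹) * b⁻¹⁻¹ = x := by group
  rwa [e] at this

omit D in
theorem sup_Pa (i j : I) : Pa U E i ⊔ Pa U E j = Bo U E ⊔ (E i ⊔ E j) := by
  unfold Pa
  apply le_antisymm
  · exact sup_le (sup_le_sup_left le_sup_left _) (sup_le_sup_left le_sup_right _)
  · exact sup_le (le_sup_left.trans le_sup_left) (sup_le (le_sup_right.trans le_sup_left)
      (le_sup_right.trans le_sup_right))

theorem mem_sup_Pa {i j : I} {x : G} (hx : x ∈ Pa U E i ⊔ Pa U E j) :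
    ∃ e ∈ E i ⊔ E j, ∃ b ∈ Bo U E, x = e * b := by
  rw [sup_Pa] at hx
  exact Solvable.Glauberman.exists_mul_of_mem_sup (Bo U E) (E i ⊔ E j) (D.Bo_norm_sup i j) hx

/-- **The link** between the residue of type `{i, j}` and a group `F` of rank two. -/
theorem link {i j : I} {F : Type*} [Group F] {B' : Subgroup F} {P' : I → Subgroup F}
    (hgen' : (E i ⊔ E j) ⊓ normalizer (U : Set G) ≤ Bo U E)
    (ψ : ↥(E i ⊔ E j) →* F) (hψ : Function.Surjective ψ)
    (hB : ∀ x : ↥(E i ⊔ E j), (x : G) ∈ normalizer (U : Set G) ↔ ψ x ∈ B')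
    (hP : ∀ k, k = i ∨ k = j → ∀ x : ↥(E i ⊔ E j), (x : G) ∈ Pa U E k ↔ ψ x ∈ P' k) :
    Link (Bo U E) (Pa U E) i j B' P' (fun g e => ∃ y : ↥(E i ⊔ E j), ψ y = e ∧ (y : G)⁻¹ * g ∈ Bo U E) := by
  have hB' : ∀ x : ↥(E i ⊔ E j), (x : G) ∈ Bo U E ↔ ψ x ∈ B' := fun x =>
    ⟨fun h => (hB x).1 (Bo_le_norm h), fun h => hgen' ⟨x.2, (hB x).2 h⟩⟩
  exact {
    one := ⟨1, map_one ψ, by simp⟩
    memB := by
      rintro g e g' e' ⟨y, rfl, hy⟩ ⟨y', rfl, hy'⟩
      rw [← map_inv, ← map_mul, ← hB']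
      have e1 : g⁻¹ * g' = ((y : G)⁻¹ * g)⁻¹ * ((y : G)⁻¹ * y') * ((y' : G)⁻¹ * g') := by group
      rw [e1]
      constructor
      · intro h
        have := mul_mem (mul_mem hy h) (inv_mem hy')
        have e2 : (y : G)⁻¹ * g * (((y : G)⁻¹ * g)⁻¹ * ((y : G)⁻¹ * y') * ((y' : G)⁻¹ * g')) *
            ((y' : G)⁻¹ * g')⁻¹ = ((y⁻¹ * y' : ↥(E i ⊔ E j)) : G) := by push_cast; group
        rwa [e2] at this
      · intro h
        exact mul_mem (mul_mem (inv_mem hy) h) hy'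
    memP := by
      rintro k hk g e g' e' ⟨y, rfl, hy⟩ ⟨y', rfl, hy'⟩
      have hy := Bo_le_Pa k hy
      have hy' := Bo_le_Pa k hy'
      rw [← map_inv, ← map_mul, ← hP k hk]
      have e1 : g⁻¹ * g' = ((y : G)⁻¹ * g)⁻¹ * ((y : G)⁻¹ * y') * ((y' : G)⁻¹ * g') := by group
      rw [e1]
      constructor
      · intro h
        have := mul_mem (mul_mem hy h) (inv_mem hy')
        have e2 : (y : G)⁻¹ * g * (((y : G)⁻¹ * g)⁻¹ * ((y : G)⁻¹ * y') * ((y' : G)⁻¹ * g')) *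
            ((y' : G)⁻¹ * g')⁻¹ = ((y⁻¹ * y' : ↥(E i ⊔ E j)) : G) := by push_cast; group
        rwa [e2] at this
      · intro h
        exact mul_mem (mul_mem (inv_mem hy) h) hy'
    ex := by
      rintro k hk g e ⟨y, rfl, hy⟩ x hx
      obtain ⟨c, hc, b, hb, h1⟩ := D.mem_Pa (i := k) (mul_mem (Bo_le_Pa k hy) hx)
      have hc' : c ∈ E i ⊔ E j := by
        rcases hk with rfl | rfl
        · exact (le_sup_left : E _ ≤ _) hc
        · exact (le_sup_right : E _ ≤ _) hc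
      refine ⟨ψ (y * ⟨c, hc'⟩), y * ⟨c, hc'⟩, rfl, ?_⟩
      have e1 : ((y * ⟨c, hc'⟩ : ↥(E i ⊔ E j)) : G)⁻¹ * (g * x) = c⁻¹ * ((y : G)⁻¹ * g * x) := by
        push_cast; group
      rw [e1, h1, inv_mul_cancel_left]
      exact hb
    sur := by
      intro e
      obtain ⟨y, rfl⟩ := hψ e
      exact ⟨y, y, rfl, by simp⟩
    act := by
      intro z
      obtain ⟨w, rfl⟩ := hψ z
      refine ⟨w, ?_⟩
      rintro g e ⟨y, rfl, hy⟩
      refine ⟨w * y, map_mul ψ w y, ?_⟩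
      have e1 : ((w * y : ↥(E i ⊔ E j)) : G)⁻¹ * (w * g) = (y : G)⁻¹ * g := by push_cast; group
      rwa [e1] }

end Front

end Cfsg.Agent.ParSys
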