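import Cfsg.Agent.ParSys.CentralGen
import Cfsg.Agent.ParSys.Front

/-!
# Central extensions of the groups of Lie type of rank two: the torus is abelian

`CExt.comm : ψ x ∈ Q.B → ψ y ∈ Q.B → x y x⁻¹ y⁻¹ ∈ U`.
-/

set_option autoImplicit false

namespace Cfsg.Agent.ParSys

open Subgroup
open Cfsg.Agent.LieExceptional.BNPairCore

variable {M F : Type*} [Group M] [Group F]

namespace CExt

variable {ψ : M →* F} {U Es Et : Subgroup M} {Q : Cfsg.BNPair F} {UF : Subgroup F} {s t : F}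
  (C : CExt ψ U Es Et Q UF s t)

include C

theorem ker_comm {z : M} (hz : ψ z = 1) (x : M) : x * z * x⁻¹ = z := by
  rw [← C.central z hz x, mul_inv_cancel_right]

/-- for elements over the torus the commutator lies in the kernel -/
theorem comm_ker {x y : M} (hx : ψ x ∈ Q.B ⊓ Q.N) (hy : ψ y ∈ Q.B ⊓ Q.N) : ψ (x * y * x⁻¹ * y⁻¹) = 1 := by
  have h1 := C.K.comm _ (mem_inf.1 hx).1 _ (mem_inf.1 hy).1
  have e : ψ (x * y * x⁻¹ * y⁻¹) = ψ x * ψ y * (ψ x)⁻¹ * (ψ y)⁻¹ := by simp only [map_mul, map_inv]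
  rw [e]
  exact C.K.inf_torus h1 (mul_mem (mul_mem (mul_mem (mem_inf.1 hx).2 (mem_inf.1 hy).2)
    (inv_mem (mem_inf.1 hx).2)) (inv_mem (mem_inf.1 hy).2))

/-- the part of the torus in `Es` is abelian -/
theorem comm_Es (hc : ∃ c ∈ Rone UF s, c ∈ Q.B ∧ ∀ x ∈ Rone UF s, x ∈ Q.B → ∃ k : ℤ, x * c ^ k ∈ UF) {x y : M}
    (hx : x ∈ Es) (hxT : ψ x ∈ Q.B ⊓ Q.N) (hy : y ∈ Es) (hyT : ψ y ∈ Q.B ⊓ Q.N) : x * y = y * x := by
  obtain ⟨c, hc, hcB, h⟩ := hc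
  obtain ⟨v, hv, τ, hτ, rfl⟩ := C.K.split.cover' hcB
  have hvR : v ∈ Rone UF s := KPair.map_le_Rone hv
  have hτR : τ ∈ Rone UF s := by
    have := mul_mem (inv_mem hvR) hc
    rwa [inv_mul_cancel_left] at this
  obtain ⟨g, hg, rfl⟩ := C.exists_lift hτR
  -- `(v τ) ^ k ∈ UF τ ^ k`
  have hpow : ∀ k : ℤ, (v * ψ g) ^ k * ((ψ g) ^ k)⁻¹ ∈ UF := by
    have hnat : ∀ k : ℕ, (v * ψ g) ^ k * ((ψ g) ^ k)⁻¹ ∈ UF := by
      intro k
      induction k with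
      | zero => simp
      | succ k ih =>
        have h1 := C.K.split.norm _ (pow_mem (mem_inf.1 hτ).1 k) v hv
        have e : (v * ψ g) ^ (k + 1) * ((ψ g) ^ (k + 1))⁻¹ =
            (v * ψ g) ^ k * ((ψ g) ^ k)⁻¹ * (ψ g ^ k * v * (ψ g ^ k)⁻¹) := by
          rw [pow_succ, pow_succ]; group
        rw [e]
        exact mul_mem ih h1
    intro k
    obtain ⟨k, rfl | rfl⟩ := k.eq_nat_or_neg
    · rw [zpow_natCast, zpow_natCast]; exact hnat k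
    · rw [zpow_neg, zpow_neg, zpow_natCast, zpow_natCast, inv_inv]
      have h1 := inv_mem (hnat k)
      have h2 := C.K.split.norm _ (inv_mem (pow_mem (mem_inf.1 hτ).1 k)) _ h1
      have e : ((ψ g) ^ k)⁻¹ * ((v * ψ g) ^ k * ((ψ g) ^ k)⁻¹)⁻¹ * ((ψ g) ^ k)⁻¹⁻¹ =
        ((v * ψ g) ^ k)⁻¹ * ψ g ^ k := by group
      rwa [e] at h2
  have key : ∀ {x : M}, x ∈ Es → ψ x ∈ Q.B ⊓ Q.N → ∃ k : ℤ, ψ (x * g ^ k) = 1 := by
    intro x hx hxT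
    obtain ⟨k, hk⟩ := h _ (C.map_Es hx) (mem_inf.1 hxT).1
    refine ⟨k, C.K.inf_torus ?_ ?_⟩
    · have h1 := mul_mem hk (inv_mem (hpow k))
      have e : ψ x * (v * ψ g) ^ k * ((v * ψ g) ^ k * (ψ g ^ k)⁻¹)⁻¹ = ψ x * ((v * ψ g) ^ k * ψ g ^ k *
        ((v * ψ g) ^ k)⁻¹) := by group
      rw [e] at h1
      -- conjugation of `ψ g ^ k` by `(v ψ g) ^ k`: use the abelian quotient
      have h2 := C.K.comm _ (zpow_mem (mul_mem (C.K.split.le hv) (mem_inf.1 hτ).1) k) _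
        (zpow_mem (mem_inf.1 hτ).1 k)
      have h3 := C.K.split.norm _ (mem_inf.1 hxT).1 _ (inv_mem h2)
      have h4 := mul_mem h3 h1
      have e2 : ψ x * ((v * ψ g) ^ k * ψ g ^ k * ((v * ψ g) ^ k)⁻¹ * (ψ g ^ k)⁻¹)⁻¹ * (ψ x)⁻¹ *
          (ψ x * ((v * ψ g) ^ k * ψ g ^ k * ((v * ψ g) ^ k)⁻¹)) = ψ x * ψ g ^ k := by group
      rw [e2] at h4
      rwa [map_mul, map_zpow]
    · rw [map_mul, map_zpow]
      exact mul_mem (mem_inf.1 hxT).2 (zpow_mem (mem_inf.1 hτ).2 k)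
  obtain ⟨k, hk⟩ := key hx hxT
  obtain ⟨l, hl⟩ := key hy hyT
  -- `x = z g^-k`, `y = w g^-l`
  have hzc := C.central _ hk
  have hwc := C.central _ hl
  set z := x * g ^ k with hz
  set w := y * g ^ l with hw
  have ex : x = z * g ^ (-k) := by rw [hz, zpow_neg]; group
  have ey : y = w * g ^ (-l) := by rw [hw, zpow_neg]; group
  have hg' : g ^ (-k) * g ^ (-l) = g ^ (-l) * g ^ (-k) := by rw [← zpow_add, ← zpow_add, add_comm]
  rw [ex, ey]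
  calc z * g ^ (-k) * (w * g ^ (-l)) = z * (g ^ (-k) * w) * g ^ (-l) := by group
    _ = z * (w * g ^ (-k)) * g ^ (-l) := by rw [hwc]
    _ = z * w * (g ^ (-k) * g ^ (-l)) := by group
    _ = w * z * (g ^ (-l) * g ^ (-k)) := by rw [hg', hzc w]
    _ = w * (z * g ^ (-l)) * g ^ (-k) := by group
    _ = w * (g ^ (-l) * z) * g ^ (-k) := by rw [hzc]
    _ = w * g ^ (-l) * (z * g ^ (-k)) := by group

/-- the two parts of the torus commute, if the torus at `s` is inverted -/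
theorem comm_st (hc : ∃ c ∈ Rone UF s, c ∈ Q.B ∧ ∀ x ∈ Rone UF s, x ∈ Q.B → ∃ k : ℤ, x * c ^ k ∈ UF)
    (hi : ∀ x ∈ Rone UF s, x ∈ Q.B → x ∈ Q.N → s * x * s⁻¹ * x = 1) {x y : M}
    (hx : x ∈ Es) (hxT : ψ x ∈ Q.B ⊓ Q.N) (hyT : ψ y ∈ Q.B ⊓ Q.N) : x * y = y * x := by
  obtain ⟨n, hn, h, hh, h1⟩ := C.exists_ns
  have hnN : ψ n ∈ Q.N := by rw [h1]; exact mul_mem (mem_N C.K.hs) (mem_inf.1 hh).2
  have hconj : ∀ {w : M}, ψ w ∈ Q.B ⊓ Q.N → ψ (n * w * n⁻¹) ∈ Q.B ⊓ Q.N := by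
    intro w hw
    rw [map_mul, map_mul, map_inv]
    exact mem_inf.2 ⟨conj_mem' hnN (mem_inf.1 hw).1 (mem_inf.1 hw).2,
      mul_mem (mul_mem hnN (mem_inf.1 hw).2) (inv_mem hnN)⟩
  -- `n x n⁻¹ = z x⁻¹`
  have hz : ψ (n * x * n⁻¹ * x) = 1 := by
    have h2 := C.K.comm _ (mem_inf.1 hh).1 _ (mem_inf.1 hxT).1
    have h3 := C.K.inf_torus h2 (mul_mem (mul_mem (mul_mem (mem_inf.1 hh).2 (mem_inf.1 hxT).2)
      (inv_mem (mem_inf.1 hh).2)) (inv_mem (mem_inf.1 hxT).2))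
    have h4 : h * ψ x * h⁻¹ = ψ x := mul_inv_eq_one.1 h3
    have h5 := hi _ (C.map_Es hx) (mem_inf.1 hxT).1 (mem_inf.1 hxT).2
    have e : ψ (n * x * n⁻¹ * x) = s * (h * ψ x * h⁻¹) * s⁻¹ * ψ x := by
      simp only [map_mul, map_inv, h1]; group
    rw [e, h4, h5]
  set z := n * x * n⁻¹ * x with hzdef
  have hzc := C.central z hz
  have e1 : n * x * n⁻¹ = z * x⁻¹ := by rw [hzdef]; group
  -- `n y n⁻¹ = a y`
  set a := n * y * n⁻¹ * y⁻¹ with ha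
  have haE : a ∈ Es := by
    have h2 := C.conj_Es (mem_inf.1 hyT).1 (inv_mem hn)
    have e : a = n * (y * n⁻¹ * y⁻¹) := by rw [ha]; group
    rw [e]
    exact mul_mem hn h2
  have haT : ψ a ∈ Q.B ⊓ Q.N := by
    rw [ha, map_mul, map_inv]
    exact mul_mem (hconj hyT) (inv_mem hyT)
  have e2 : n * y * n⁻¹ = a * y := by rw [ha]; group
  have hxi : ψ x⁻¹ ∈ Q.B ⊓ Q.N := by rw [map_inv]; exact inv_mem hxT
  have hax : x⁻¹ * a = a * x⁻¹ := C.comm_Es hc (inv_mem hx) hxi haE haT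
  -- the commutator `κ`
  set κ := x * y * x⁻¹ * y⁻¹ with hκ
  have hκ1 : ψ κ = 1 := C.comm_ker hxT hyT
  have hκc := C.central κ hκ1
  have h6 : n * κ * n⁻¹ = κ := C.ker_comm hκ1 n
  have hinv : ∀ w, z⁻¹ * w = w * z⁻¹ := fun w => by
    have := hzc w
    rw [inv_mul_eq_iff_eq_mul, ← mul_assoc, this, mul_inv_cancel_right]
  have h7 : n * κ * n⁻¹ = κ⁻¹ := by
    have e3 : n * κ * n⁻¹ = (n * x * n⁻¹) * (n * y * n⁻¹) * (n * x * n⁻¹)⁻¹ * (n * y * n⁻¹)⁻¹ := by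
      rw [hκ]; group
    rw [e3, e1, e2]
    have e4 : z * x⁻¹ * (a * y) * (z * x⁻¹)⁻¹ * (a * y)⁻¹ = z * (x⁻¹ * a * y * x) * z⁻¹ * (a * y)⁻¹ := by group
    rw [e4, hzc]
    have e5 : x⁻¹ * a * y * x * z * z⁻¹ * (a * y)⁻¹ = x⁻¹ * a * (y * x * y⁻¹ * x⁻¹) * x * a⁻¹ := by group
    rw [e5]
    have e6 : y * x * y⁻¹ * x⁻¹ = κ⁻¹ := by rw [hκ]; group
    have hκic : ∀ w, κ⁻¹ * w = w * κ⁻¹ := fun w => by
      have := hκc w
      rw [inv_mul_eq_iff_eq_mul, ← mul_assoc, this, mul_inv_cancel_right]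
    rw [e6, hax]
    have e7 : a * x⁻¹ * κ⁻¹ * x * a⁻¹ = a * x⁻¹ * (κ⁻¹ * (x * a⁻¹)) := by group
    rw [e7, hκic]; group
  have h8 : κ ^ 2 = 1 := by
    rw [h6] at h7
    rw [pow_two]
    nth_rewrite 1 [h7]
    exact inv_mul_cancel κ
  obtain ⟨k, hk, h9⟩ := C.cop κ hκ1
  have h10 := Hall.mem_of_pow_mem_of_coprime (K := (⊥ : Subgroup M)) (x := κ) (a := 2) (b := k)
    (by rw [h8]; exact one_mem _) (by rw [h9]; exact one_mem _) hk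
  rw [Subgroup.mem_bot] at h10
  have : x * y = κ * (y * x) := by rw [hκ]; group
  rw [this, h10, one_mul]

/-- **`N(U) / U` is abelian** -/
theorem comm [Finite F] (T : KTor Q UF s t) {x y : M} (hx : ψ x ∈ Q.B) (hy : ψ y ∈ Q.B) :
    x * y * x⁻¹ * y⁻¹ ∈ U := by
  -- every element of the local Borel subgroups is `u` times an element over the torus
  have hdec : ∀ {x : M}, ψ x ∈ Q.B → ∃ u ∈ U, ψ (u⁻¹ * x) ∈ Q.B ⊓ Q.N := by
    intro x hx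
    obtain ⟨v, hv, τ, hτ, h1⟩ := C.K.split.cover' hx
    obtain ⟨u, hu, rfl⟩ := (C.img _).1 hv
    refine ⟨u, hu, ?_⟩
    rw [map_mul, map_inv, h1, inv_mul_cancel_left]
    exact hτ
  have hnU : ∀ {x : M}, ψ x ∈ Q.B → x ∈ normalizer (U : Set M) := fun h => C.mem_iff.2 h
  -- torus elements of `Es`, `Et`
  have hss : ∀ x y : M, x ∈ Es → ψ x ∈ Q.B ⊓ Q.N → y ∈ Es → ψ y ∈ Q.B ⊓ Q.N → x * y = y * x :=
    fun x y hx hx' hy hy' => C.comm_Es T.cycs hx hx' hy hy'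
  have htt : ∀ x y : M, x ∈ Et → ψ x ∈ Q.B ⊓ Q.N → y ∈ Et → ψ y ∈ Q.B ⊓ Q.N → x * y = y * x :=
    fun x y hx hx' hy hy' => C.symm.comm_Es T.cyct hx hx' hy hy'
  have hst : ∀ x y : M, x ∈ Es → ψ x ∈ Q.B ⊓ Q.N → y ∈ Et → ψ y ∈ Q.B ⊓ Q.N → x * y = y * x := by
    intro x y hx hx' hy hy'
    rcases T.inv with h | h
    · exact C.comm_st T.cycs h hx hx' hy'
    · exact (C.symm.comm_st T.cyct h hy hy' hx').symm
  have hts : ∀ x y : M, x ∈ Et → ψ x ∈ Q.B ⊓ Q.N → y ∈ Es → ψ y ∈ Q.B ⊓ Q.N → x * y = y * x :=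
    fun x y hx hx' hy hy' => (hst y x hy hy' hx hx').symm
  -- elements of the local Borel subgroups
  have hcc : ∀ (E1 E2 : Subgroup M), U ≤ E1 → U ≤ E2 →
      (∀ x y : M, x ∈ E1 → ψ x ∈ Q.B ⊓ Q.N → y ∈ E2 → ψ y ∈ Q.B ⊓ Q.N → x * y = y * x) →
      ∀ x y : M, x ∈ E1 → ψ x ∈ Q.B → y ∈ E2 → ψ y ∈ Q.B → x * y * x⁻¹ * y⁻¹ ∈ U := by
    intro E1 E2 hU1 hU2 h x y hx hxB hy hyB
    obtain ⟨u, hu, hu'⟩ := hdec hxB
    obtain ⟨v, hv, hv'⟩ := hdec hyB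
    set a := u⁻¹ * x with ha
    set b := v⁻¹ * y with hb
    have hab := h a b (mul_mem (inv_mem (hU1 hu)) hx) hu' (mul_mem (inv_mem (hU2 hv)) hy) hv'
    have haN := hnU (mem_inf.1 hu').1
    have hbN := hnU (mem_inf.1 hv').1
    have ex : x = u * a := by rw [ha]; group
    have ey : y = v * b := by rw [hb]; group
    have e : x * y * x⁻¹ * y⁻¹ = u * (a * v * a⁻¹) * (b * u * b⁻¹)⁻¹ * v⁻¹ := by
      rw [ex, ey]
      calc u * a * (v * b) * (u * a)⁻¹ * (v * b)⁻¹ = u * (a * v * a⁻¹) * (a * b) * a⁻¹ * u⁻¹ * b⁻¹ * v⁻¹ := by group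
        _ = u * (a * v * a⁻¹) * (b * a) * a⁻¹ * u⁻¹ * b⁻¹ * v⁻¹ := by rw [hab]
        _ = _ := by group
    rw [e]
    exact mul_mem (mul_mem (mul_mem hu (conj_mem_of_normalizer haN hv))
      (inv_mem (conj_mem_of_normalizer hbN hu))) (inv_mem hv)
  have h1 : ∀ y, ψ y ∈ Q.B → y ∈ Es ∨ y ∈ Et → B2 ψ Es Et Q ≤ CenU U y := by
    intro y hy hy'
    unfold B2
    apply sup_le
    · rintro x ⟨hx, hxB⟩
      rcases hy' with h | h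
      · exact ⟨hnU hxB, hcc Es Es C.Us C.Us hss x y hx hxB h hy⟩
      · exact ⟨hnU hxB, hcc Es Et C.Us C.Ut hst x y hx hxB h hy⟩
    · rintro x ⟨hx, hxB⟩
      rcases hy' with h | h
      · exact ⟨hnU hxB, hcc Et Es C.Ut C.Us hts x y hx hxB h hy⟩
      · exact ⟨hnU hxB, hcc Et Et C.Ut C.Ut htt x y hx hxB h hy⟩
  have h2 : B2 ψ Es Et Q ≤ CenU U x := by
    unfold B2
    apply sup_le
    · rintro y ⟨hy, hyB⟩
      exact ⟨hnU hyB, comm_symm (h1 y hyB (Or.inl hy) (C.gen hx)).2⟩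
    · rintro y ⟨hy, hyB⟩
      exact ⟨hnU hyB, comm_symm (h1 y hyB (Or.inr hy) (C.gen hx)).2⟩
  exact comm_symm (h2 (C.gen hy)).2

end CExt

end Cfsg.Agent.ParSys
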