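import Cfsg.Agent.ParSys.Hall

/-!
# The common Borel subgroup of a family of rank one parabolics

`S` is a `p`-group contained in `M i ≤ P i` (`M i` = preimage of a Borel subgroup of the rank one group
`P i / O_p(P i)`), `U i` is a normal `p`-subgroup of `M i`, `H i` a `p'`-subgroup of `M i` (a torus of the node `i`),
`M i = U i · H i · S`.  The rank two information is: for `i ≠ j` the group `M i ⊔ M j` normalises `U i ⊓ U j`, the two
tori lie in a normal subgroup `Y` of `M i ⊔ M j` with `Y / (U i ⊓ U j)` an abelian `p'`-group, and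
`P i · (M i ⊔ M j)` is a group.

Then all the tori fit together: `B = ⨆ M i` normalises `U = ⨅ U i`, there is `H` with `HallData p B U H`
(`exists_hallData`), and every `P i · B` is a group (`mul_mem_PB`).  Nothing is assumed on `N_G(S)`.
-/

set_option autoImplicit false

namespace Cfsg.Agent.ParSys

open Subgroup Hall
open scoped commutatorElement

variable {G : Type*} [Group G] {I : Type*}

/-- The data of the common Borel lemma. -/
structure CB (p : ℕ) (S : Subgroup G) (P M U H : I → Subgroup G) : Prop where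
  pS : IsPGroup p S
  SM : ∀ i, S ≤ M i
  MP : ∀ i, M i ≤ P i
  US : ∀ i, U i ≤ S
  Un : ∀ i, M i ≤ normalizer (U i : Set G)
  HM : ∀ i, H i ≤ M i
  Hcop : ∀ i, p.Coprime (Nat.card (H i))
  gen : ∀ i, M i ≤ (U i ⊔ H i) ⊔ S
  UHn : ∀ i, S ≤ normalizer ((U i ⊔ H i : Subgroup G) : Set G)
  pair : ∀ i j, i ≠ j → M i ≤ normalizer ((U i ⊓ U j : Subgroup G) : Set G)
  tor : ∀ i j, i ≠ j → ∃ Y : Subgroup G, Y ≤ M i ⊔ M j ∧ U i ⊓ U j ≤ Y ∧ H i ≤ Y ∧ H j ≤ Y ∧
    M i ⊔ M j ≤ normalizer (Y : Set G) ∧ ⁅Y, Y⁆ ≤ U i ⊓ U j ∧ p.Coprime ((U i ⊓ U j).relIndex Y)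
  perm : ∀ i j, i ≠ j → ∀ m ∈ M j, ∀ x ∈ P i, ∃ y ∈ P i, ∃ b ∈ M i ⊔ M j, m * x = y * b
  faith : ∀ i, ∀ s ∈ S, (∀ h ∈ H i, ⁅s, h⁆ ∈ U i) → s ∈ U i

namespace CB

variable {p : ℕ} {S : Subgroup G} {P M U H : I → Subgroup G}

/-- a `p`-element of `Y` lies in `D` if `D` is normalised by `Y` and `[Y : D]` is prime to `p` -/
theorem mem_of_pgroup {D Y T : Subgroup G} (hD : Y ≤ normalizer (D : Set G))
    (hc : p.Coprime (D.relIndex Y)) (hT : IsPGroup p T) {x : G} (hx : x ∈ T) (hxY : x ∈ Y) : x ∈ D := by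
  obtain ⟨k, hk⟩ := hT ⟨x, hx⟩
  have h1 : x ^ (p ^ k) = 1 := congrArg Subtype.val hk
  exact mem_of_pow_mem_of_coprime (K := D) (a := p ^ k) (b := D.relIndex Y)
    (by rw [h1]; exact D.one_mem) (pow_relIndex_mem hD hxY) (hc.pow_left k)

theorem pU (C : CB p S P M U H) (i : I) : IsPGroup p (U i) := C.pS.to_le (C.US i)

theorem pairM (C : CB p S P M U H) {i j : I} (hij : i ≠ j) :
    M i ⊔ M j ≤ normalizer ((U i ⊓ U j : Subgroup G) : Set G) :=
  sup_le (C.pair i j hij) (by rw [inf_comm]; exact C.pair j i hij.symm)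

/-- `[U_i, H_i] ≤ U_j` -/
theorem comm_le (C : CB p S P M U H) {i : I} (j : I) {u h : G} (hu : u ∈ U i) (hh : h ∈ H i) :
    ⁅u, h⁆ ∈ U j := by
  have hi : ⁅u, h⁆ ∈ U i := by
    rw [commutatorElement_def]
    have h1 : h * u⁻¹ * h⁻¹ ∈ U i :=
      (mem_normalizer_iff.mp (C.Un i (C.HM i hh)) _).mp ((U i).inv_mem hu)
    have h2 := (U i).mul_mem hu h1
    simpa [mul_assoc] using h2
  rcases eq_or_ne i j with rfl | hij
  · exact hi
  obtain ⟨Y, hYM, hDY, hiY, hjY, hYn, hYY, hc⟩ := C.tor i j hij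
  have hY : ⁅u, h⁆ ∈ Y := by
    rw [commutatorElement_def]
    have huM : u ∈ M i ⊔ M j := le_sup_left (a := M i) (C.SM i (C.US i hu))
    exact Y.mul_mem ((mem_normalizer_iff.mp (hYn huM) _).mp (hiY hh)) (Y.inv_mem (hiY hh))
  exact (mem_of_pgroup (hYM.trans (C.pairM hij)) hc (C.pU i) hi hY).2

theorem comm_mem (C : CB p S P M U H) {i : I} {u h : G} (hu : u ∈ U i) (hh : h ∈ H i) :
    ⁅u, h⁆ ∈ ⨅ j, U j := by
  rw [mem_iInf]
  exact fun j => C.comm_le j hu hh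

/-- `M i` normalises `⨅ U j` -/
theorem M_le_normalizer (C : CB p S P M U H) (i : I) :
    M i ≤ normalizer ((⨅ j, U j : Subgroup G) : Set G) := by
  have key : ∀ m ∈ M i, ∀ u ∈ ⨅ j, U j, m * u * m⁻¹ ∈ ⨅ j, U j := by
    intro m hm u hu
    rw [mem_iInf] at hu ⊢
    intro j
    rcases eq_or_ne i j with rfl | hij
    · exact (mem_normalizer_iff.mp (C.Un i hm) _).mp (hu i)
    · exact ((mem_normalizer_iff.mp (C.pair i j hij hm) _).mp ⟨hu i, hu j⟩).2
  intro m hm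
  rw [mem_normalizer_iff]
  intro u
  refine ⟨key m hm u, fun h => ?_⟩
  have := key m⁻¹ ((M i).inv_mem hm) _ h
  simpa [mul_assoc] using this

theorem B_le_normalizer (C : CB p S P M U H) :
    (⨆ i, M i) ≤ normalizer ((⨅ j, U j : Subgroup G) : Set G) :=
  iSup_le C.M_le_normalizer

/-- the panels are `B`-invariant -/
theorem perm_B (C : CB p S P M U H) (i : I) {b x : G} (hb : b ∈ ⨆ j, M j) (hx : x ∈ P i) :
    ∃ y ∈ P i, ∃ c ∈ ⨆ j, M j, b * x = y * c := by
  have hM : ∀ j, M j ≤ ⨆ j, M j := le_iSup M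
  revert x
  induction hb using Subgroup.iSup_induction' with
  | hp j m hm =>
    intro x hx
    rcases eq_or_ne i j with rfl | hij
    · exact ⟨m * x, (P i).mul_mem (C.MP i hm) hx, 1, one_mem _, by simp⟩
    · obtain ⟨y, hy, c, hc, e⟩ := C.perm i j hij m hm x hx
      exact ⟨y, hy, c, sup_le (hM i) (hM j) hc, e⟩
  | h1 => intro x hx; exact ⟨x, hx, 1, one_mem _, by simp⟩
  | hmul b b' _ _ ih ih' =>
    intro x hx
    obtain ⟨y, hy, c, hc, e⟩ := ih' hx
    obtain ⟨y', hy', c', hc', e'⟩ := ih hy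
    exact ⟨y', hy', c' * c, mul_mem hc' hc, by rw [mul_assoc, e, ← mul_assoc, e', mul_assoc]⟩

/-- `P i · B` is a group. -/
theorem mem_PB (C : CB p S P M U H) (i : I) {x : G} (hx : x ∈ P i ⊔ ⨆ j, M j) :
    ∃ y ∈ P i, ∃ c ∈ ⨆ j, M j, x = y * c := by
  let K : Subgroup G :=
    { carrier := {x | ∃ y ∈ P i, ∃ c ∈ ⨆ j, M j, x = y * c}
      one_mem' := ⟨1, one_mem _, 1, one_mem _, by simp⟩
      mul_mem' := by
        rintro _ _ ⟨y, hy, c, hc, rfl⟩ ⟨y', hy', c', hc', rfl⟩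
        obtain ⟨y'', hy'', c'', hc'', e⟩ := C.perm_B i hc hy'
        refine ⟨y * y'', mul_mem hy hy'', c'' * c', mul_mem hc'' hc', ?_⟩
        calc y * c * (y' * c') = y * (c * y') * c' := by group
          _ = _ := by rw [e]; group
      inv_mem' := by
        rintro _ ⟨y, hy, c, hc, rfl⟩
        obtain ⟨y', hy', c', hc', e⟩ := C.perm_B i (inv_mem hc) (inv_mem hy)
        exact ⟨y', hy', c', hc', by rw [mul_inv_rev, e]⟩ }
  have h1 : P i ⊔ ⨆ j, M j ≤ K :=
    sup_le (fun y hy => ⟨y, hy, 1, one_mem _, by simp⟩) (fun c hc => ⟨1, one_mem _, c, hc, by simp⟩)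
  exact h1 hx

/-! ### The tori generate an abelian `p'`-group modulo `⨅ U j` -/

section quot

variable (p S P M U H)

/-- `x * y * x⁻¹ = z * y` and `z` commutes with `x`: `z ^ n = 1` if `x ^ n = 1`. -/
theorem pow_of_comm {Q : Type*} [Group Q] {x y z : Q} (h : x * y * x⁻¹ = z * y) (hz : x * z = z * x) {n : ℕ}
    (hn : x ^ n = 1) : z ^ n = 1 := by
  have key : ∀ k : ℕ, x ^ k * y * (x ^ k)⁻¹ = z ^ k * y := by
    intro k
    induction k with
    | zero => simp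
    | succ k ih =>
      have hzk : x * z ^ k = z ^ k * x := (Commute.pow_right (show Commute x z from hz) k).eq
      have e1 : x ^ (k + 1) * y * (x ^ (k + 1))⁻¹ = x * (x ^ k * y * (x ^ k)⁻¹) * x⁻¹ := by
        rw [pow_succ']; group
      rw [e1, ih]
      calc x * (z ^ k * y) * x⁻¹ = (x * z ^ k) * y * x⁻¹ := by group
        _ = z ^ k * (x * y * x⁻¹) := by rw [hzk]; group
        _ = z ^ (k + 1) * y := by rw [h, pow_succ]; group
  have := key n
  rw [hn] at this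
  simpa using this.symm

end quot

theorem N_le_B [Nonempty I] (C : CB p S P M U H) : (⨅ j, U j) ≤ ⨆ i, M i :=
  let i := Classical.arbitrary I
  (iInf_le U i).trans ((C.US i).trans ((C.SM i).trans (le_iSup M i)))

theorem S_le_B [Nonempty I] (C : CB p S P M U H) : S ≤ ⨆ i, M i :=
  let i := Classical.arbitrary I
  (C.SM i).trans (le_iSup M i)

theorem normal_N (C : CB p S P M U H) : ((⨅ j, U j : Subgroup G).subgroupOf (⨆ i, M i)).Normal := by
  constructor
  intro n hn g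
  rw [mem_subgroupOf] at hn ⊢
  have := (mem_normalizer_iff.mp (C.B_le_normalizer g.2) (n : G)).mp hn
  simpa using this

theorem exists_hallData [Finite G] [hp : Fact p.Prime] [Nontrivial I] (C : CB p S P M U H) :
    ∃ Hh : Subgroup G, Hall.HallData p (⨆ i, M i) (⨅ j, U j) Hh := by
  classical
  have : Nonempty I := inferInstance
  set B : Subgroup G := ⨆ i, M i with hB
  set N : Subgroup G := ⨅ j, U j with hN
  have hNB : N ≤ B := C.N_le_B
  have hSB : S ≤ B := C.S_le_B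
  have hMB : ∀ i, M i ≤ B := le_iSup M
  have hHB : ∀ i, H i ≤ B := fun i => (C.HM i).trans (hMB i)
  have hUB : ∀ i, U i ≤ B := fun i => (C.US i).trans hSB
  have hNn : (N.subgroupOf B).Normal := C.normal_N
  let π : B →* B ⧸ N.subgroupOf B := QuotientGroup.mk' _
  have hπ : ∀ x : B, π x = 1 ↔ (x : G) ∈ N := fun x => by
    rw [← mem_subgroupOf, ← QuotientGroup.eq_one_iff]; rfl
  have hπs : Function.Surjective π := QuotientGroup.mk'_surjective _
  -- bars
  let T : I → Subgroup (B ⧸ N.subgroupOf B) := fun i => ((H i).subgroupOf B).map π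
  let Sb : Subgroup (B ⧸ N.subgroupOf B) := (S.subgroupOf B).map π
  have hTmem : ∀ i {h : G} (hh : h ∈ H i), π ⟨h, hHB i hh⟩ ∈ T i := fun i h hh =>
    ⟨⟨h, hHB i hh⟩, mem_subgroupOf.mpr hh, rfl⟩
  have hTex : ∀ i {x}, x ∈ T i → ∃ h, ∃ hh : h ∈ H i, x = π ⟨h, hHB i hh⟩ := by
    rintro i x ⟨⟨h, hB'⟩, hh, rfl⟩
    exact ⟨h, mem_subgroupOf.mp hh, rfl⟩
  have hSbp : IsPGroup p Sb := (C.pS.comap_subtype (K := B)).map π
  -- a `p`-element and a `p'`-element
  have hcopel : ∀ {x : B ⧸ N.subgroupOf B} {a b : ℕ}, x ^ (p ^ a) = 1 → x ^ b = 1 → p.Coprime b → x = 1 := by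
    intro x a b ha hb hab
    have := Hall.mem_of_pow_mem_of_coprime (K := (⊥ : Subgroup (B ⧸ N.subgroupOf B))) (x := x)
      (a := p ^ a) (b := b) (by rw [ha]; exact one_mem _) (by rw [hb]; exact one_mem _) (hab.pow_left a)
    exact mem_bot.mp this
  have hSpow : ∀ {s : G} (hs : s ∈ S), ∃ k : ℕ, (π ⟨s, hSB hs⟩) ^ (p ^ k) = 1 := by
    intro s hs
    obtain ⟨k, hk⟩ := C.pS ⟨s, hs⟩
    refine ⟨k, ?_⟩
    have h1 : s ^ (p ^ k) = 1 := congrArg Subtype.val hk
    rw [← map_pow]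
    have h2 : (⟨s, hSB hs⟩ : B) ^ (p ^ k) = 1 := Subtype.ext (by simpa using h1)
    rw [h2, map_one]
  have hHpow : ∀ i {h : G} (hh : h ∈ H i), (π ⟨h, hHB i hh⟩) ^ (Nat.card (H i)) = 1 := by
    intro i h hh
    rw [← map_pow]
    have h2 : (⟨h, hHB i hh⟩ : B) ^ (Nat.card (H i)) = 1 :=
      Subtype.ext (by simpa using Hall.pow_card_of_mem hh)
    rw [h2, map_one]
  -- `U_i` centralises `T_i`
  have hUT : ∀ i {u h : G} (hu : u ∈ U i) (hh : h ∈ H i),
      π ⟨u, hUB i hu⟩ * π ⟨h, hHB i hh⟩ = π ⟨h, hHB i hh⟩ * π ⟨u, hUB i hu⟩ := by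
    intro i u h hu hh
    have h1 : ⁅π ⟨u, hUB i hu⟩, π ⟨h, hHB i hh⟩⁆ = 1 := by
      rw [← map_commutatorElement, hπ]
      exact C.comm_mem hu hh
    exact commutatorElement_eq_one_iff_mul_comm.mp h1
  -- `S` normalises `T_i`
  have hST : ∀ i {s h : G} (hs : s ∈ S) (hh : h ∈ H i),
      π ⟨s, hSB hs⟩ * π ⟨h, hHB i hh⟩ * (π ⟨s, hSB hs⟩)⁻¹ ∈ T i := by
    intro i s h hs hh
    have h1 : s * h * s⁻¹ ∈ U i ⊔ H i :=
      (mem_normalizer_iff.mp (C.UHn i hs) _).mp (le_sup_right (a := U i) hh)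
    have h2 : H i ≤ normalizer (U i : Set G) := (C.HM i).trans (C.Un i)
    obtain ⟨u, hu, h', hh', e⟩ :=
      Solvable.Glauberman.exists_mul_of_mem_sup (H i) (U i) h2 (by rw [sup_comm]; exact h1)
    have e1 : π ⟨s, hSB hs⟩ * π ⟨h, hHB i hh⟩ * (π ⟨s, hSB hs⟩)⁻¹ = π ⟨u, hUB i hu⟩ * π ⟨h', hHB i hh'⟩ := by
      rw [← map_mul, ← map_inv, ← map_mul, ← map_mul]
      congr 1
      exact Subtype.ext e
    have e2 : (π ⟨u, hUB i hu⟩) ^ (Nat.card (H i)) = 1 := by
      have h3 : (π ⟨u, hUB i hu⟩ * π ⟨h', hHB i hh'⟩) ^ (Nat.card (H i)) = 1 := by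
        rw [← e1, conj_pow, hHpow i hh]; simp
      rw [(show Commute _ _ from hUT i hu hh').mul_pow, hHpow i hh', mul_one] at h3
      exact h3
    obtain ⟨k, hk⟩ := hSpow (C.US i hu)
    have e3 : π ⟨u, hUB i hu⟩ = 1 := hcopel hk e2 (C.Hcop i)
    rw [e1, e3, one_mul]
    exact hTmem i hh'
  -- the tori commute
  have hTT : ∀ i j {a b : G} (ha : a ∈ H i) (hb : b ∈ H j),
      π ⟨a, hHB i ha⟩ * π ⟨b, hHB j hb⟩ = π ⟨b, hHB j hb⟩ * π ⟨a, hHB i ha⟩ := by
    intro i j a b ha hb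
    rcases eq_or_ne i j with rfl | hij
    · obtain ⟨k, hk⟩ := exists_ne i
      obtain ⟨Y, -, -, hiY, -, -, hYY, -⟩ := C.tor i k hk.symm
      have h1 : ⁅a, b⁆ ∈ U i := (hYY (commutator_mem_commutator (hiY ha) (hiY hb))).1
      have h2 : ⁅a, b⁆ ∈ H i := by
        rw [commutatorElement_def]
        exact mul_mem (mul_mem (mul_mem ha hb) (inv_mem ha)) (inv_mem hb)
      obtain ⟨m, hm⟩ := hSpow (C.US i h1)
      have h3 := hcopel hm (hHpow i h2) (C.Hcop i)
      rw [← commutatorElement_eq_one_iff_mul_comm, ← map_commutatorElement]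
      exact h3
    · obtain ⟨Y, -, -, hiY, hjY, -, hYY, -⟩ := C.tor i j hij
      have h1 : ⁅a, b⁆ ∈ U i := (hYY (commutator_mem_commutator (hiY ha) (hjY hb))).1
      have e1 : π ⟨a, hHB i ha⟩ * π ⟨b, hHB j hb⟩ * (π ⟨a, hHB i ha⟩)⁻¹ =
          π ⟨⁅a, b⁆, hUB i h1⟩ * π ⟨b, hHB j hb⟩ := by
        rw [← map_mul, ← map_inv, ← map_mul, ← map_mul]
        congr 1
        apply Subtype.ext
        change a * b * a⁻¹ = ⁅a, b⁆ * b
        rw [commutatorElement_def]
        group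
      obtain ⟨m, hm⟩ := hSpow (C.US i h1)
      have h3 := hcopel hm (pow_of_comm e1 (hUT i h1 ha).symm (hHpow i ha)) (C.Hcop i)
      rw [← commutatorElement_eq_one_iff_mul_comm, ← map_commutatorElement]
      exact h3
  set TT : Subgroup (B ⧸ N.subgroupOf B) := ⨆ i, T i with hTTdef
  have hTle : ∀ i, T i ≤ TT := le_iSup T
  have hTcomm : ∀ x ∈ TT, ∀ y ∈ TT, x * y = y * x := by
    have h1 : ∀ i, TT ≤ centralizer (T i : Set _) := by
      intro i
      refine iSup_le fun j x hx => ?_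
      rw [mem_centralizer_iff]
      intro y hy
      obtain ⟨a, ha, rfl⟩ := hTex i hy
      obtain ⟨b, hb, rfl⟩ := hTex j hx
      exact hTT i j ha hb
    have h2 : TT ≤ centralizer (TT : Set _) := by
      refine iSup_le fun i x hx => ?_
      rw [mem_centralizer_iff]
      intro y hy
      exact ((mem_centralizer_iff.mp (h1 i hy)) x hx).symm
    intro x hx y hy
    exact ((mem_centralizer_iff.mp (h2 hx)) y hy).symm
  have hTpow : ∀ x ∈ TT, ∃ m : ℕ, p.Coprime m ∧ x ^ m = 1 := by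
    intro x hx
    have hx' : x ∈ TT := hx
    rw [hTTdef] at hx
    induction hx using Subgroup.iSup_induction' with
    | hp i y hy =>
      obtain ⟨h, hh, rfl⟩ := hTex i hy
      exact ⟨_, C.Hcop i, hHpow i hh⟩
    | h1 => exact ⟨1, Nat.coprime_one_right p, by simp⟩
    | hmul y z hy hz ihy ihz =>
      obtain ⟨m, hm, e⟩ := ihy hy
      obtain ⟨n, hn, e'⟩ := ihz hz
      refine ⟨m * n, hm.mul_right hn, ?_⟩
      rw [(show Commute y z from hTcomm y hy z hz).mul_pow, pow_mul, e, one_pow, one_mul, mul_comm m n, pow_mul,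
        e', one_pow]
  have hTp : ∀ x ∈ TT, ∀ k : ℕ, x ^ (p ^ k) = 1 → x = 1 := by
    intro x hx k hk
    obtain ⟨m, hm, e⟩ := hTpow x hx
    exact hcopel hk e hm
  -- generation
  have hMgen : ∀ L : Subgroup (B ⧸ N.subgroupOf B), TT ≤ L → Sb ≤ L → ∀ x, x ∈ L := by
    intro L hL1 hL2
    have h1 : B ≤ (L.comap π).map B.subtype := by
      refine iSup_le fun i => (C.gen i).trans (sup_le (sup_le ?_ ?_) ?_)
      · intro u hu
        exact ⟨⟨u, hUB i hu⟩, hL2 ⟨⟨u, hUB i hu⟩, mem_subgroupOf.mpr (C.US i hu), rfl⟩, rfl⟩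
      · intro u hu
        exact ⟨⟨u, hHB i hu⟩, hL1 (hTle i (hTmem i hu)), rfl⟩
      · intro u hu
        exact ⟨⟨u, hSB hu⟩, hL2 ⟨⟨u, hSB hu⟩, mem_subgroupOf.mpr hu, rfl⟩, rfl⟩
    intro x
    obtain ⟨b, rfl⟩ := hπs x
    obtain ⟨c, hc, e⟩ := h1 b.2
    have : c = b := Subtype.ext e
    rw [← this]
    exact hc
  have hSTT : ∀ {s : G} (hs : s ∈ S), ∀ x ∈ TT, π ⟨s, hSB hs⟩ * x * (π ⟨s, hSB hs⟩)⁻¹ ∈ TT := by
    intro s hs
    have h1 : TT ≤ TT.comap (MulAut.conj (π ⟨s, hSB hs⟩)).toMonoidHom := by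
      refine iSup_le fun i x hx => ?_
      obtain ⟨h, hh, rfl⟩ := hTex i hx
      exact hTle i (hST i hs hh)
    exact fun x hx => h1 hx
  have hTn : TT.Normal := by
    have h1 : ∀ x, x ∈ normalizer (TT : Set (B ⧸ N.subgroupOf B)) := by
      refine hMgen _ le_normalizer ?_
      rintro _ ⟨⟨s, hs'⟩, hs, rfl⟩
      have hs1 : s ∈ S := mem_subgroupOf.mp hs
      rw [mem_normalizer_iff]
      intro x
      refine ⟨hSTT hs1 x, fun hx => ?_⟩
      have h2 := hSTT (inv_mem hs1) _ hx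
      have e : π ⟨s⁻¹, hSB (inv_mem hs1)⟩ = (π ⟨s, hs'⟩)⁻¹ := by rw [← map_inv]; rfl
      rw [e] at h2
      simpa [mul_assoc] using h2
    exact normalizer_eq_top_iff.mp (eq_top_iff.mpr fun x _ => h1 x)
  -- `|TT|` is prime to `p`
  have hcardT : p.Coprime (Nat.card TT) := by
    rw [Nat.Prime.coprime_iff_not_dvd hp.out]
    intro hdvd
    obtain ⟨x, hx⟩ := exists_prime_orderOf_dvd_card' p hdvd
    have h1 : (x : B ⧸ N.subgroupOf B) ^ (p ^ 1) = 1 := by
      rw [pow_one]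
      have := pow_orderOf_eq_one x
      rw [hx] at this
      exact congrArg Subtype.val this
    have h2 := hTp _ x.2 1 h1
    have h3 : x = 1 := Subtype.ext h2
    rw [h3, orderOf_one] at hx
    exact hp.out.one_lt.ne hx
  -- the complement
  let K : Subgroup B := TT.comap π
  have hKn : K.Normal := inferInstance
  have hNK : N.subgroupOf B ≤ K := by
    intro x hx
    change π x ∈ TT
    rw [(hπ x).mpr (mem_subgroupOf.mp hx)]
    exact one_mem _
  have hNS : N ≤ S := (iInf_le U (Classical.arbitrary I)).trans (C.US _)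
  have hNp : IsPGroup p N := C.pS.to_le hNS
  let φ : K →* TT := π.subgroupComap TT
  have hφs : Function.Surjective φ := MonoidHom.subgroupComap_surjective_of_surjective _ _ hπs
  have hφk : ∀ x : K, x ∈ φ.ker ↔ ((x : B) : G) ∈ N := by
    intro x
    rw [MonoidHom.mem_ker, ← hπ]
    exact ⟨fun h => congrArg Subtype.val h, fun h => Subtype.ext h⟩
  have hkp : IsPGroup p φ.ker := by
    intro x
    obtain ⟨k, hk⟩ := hNp ⟨_, (hφk x).mp x.2⟩
    exact ⟨k, Subtype.ext (Subtype.ext (Subtype.ext (by simpa using congrArg Subtype.val hk)))⟩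
  have hkidx : φ.ker.index = Nat.card TT := by
    rw [index_ker, MonoidHom.range_eq_top.mpr hφs, card_top]
  have hcop : (Nat.card φ.ker).Coprime φ.ker.index := by
    obtain ⟨k, hk⟩ := (IsPGroup.iff_card (p := p)).mp hkp
    rw [hk, hkidx]
    exact hcardT.pow_left k
  obtain ⟨X, hX⟩ := exists_right_complement'_of_coprime hcop
  have hXcard : Nat.card X = Nat.card TT := by rw [← hkidx, hX.symm.index_eq_card]
  let Hh : Subgroup G := (X.map K.subtype).map B.subtype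
  have hHcard : Nat.card Hh = Nat.card TT := by
    rw [← hXcard]
    exact (Nat.card_congr ((X.equivMapOfInjective K.subtype K.subtype_injective).trans
      ((X.map K.subtype).equivMapOfInjective B.subtype B.subtype_injective)).toEquiv).symm
  have hHleB : Hh ≤ B := by
    rintro _ ⟨x, -, rfl⟩
    exact x.2
  have hsup : N ⊔ Hh = K.map B.subtype := by
    apply le_antisymm
    · refine sup_le ?_ (Subgroup.map_mono ?_)
      · intro x hx
        exact ⟨⟨x, hNB hx⟩, hNK (mem_subgroupOf.mpr hx), rfl⟩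
      · rintro _ ⟨x, -, rfl⟩
        exact x.2
    · rintro _ ⟨x, hx, rfl⟩
      have h1 : (⟨x, hx⟩ : K) ∈ φ.ker ⊔ X := by rw [hX.sup_eq_top]; trivial
      obtain ⟨a, ha, b, hb, e⟩ := Subgroup.mem_sup_of_normal_left.mp h1
      have e1 : B.subtype x = ((a : B) : G) * ((b : B) : G) := by
        exact (congrArg (fun t : K => ((t : B) : G)) e).symm
      rw [e1]
      exact mul_mem (le_sup_left (a := N) ((hφk a).mp ha))
        (le_sup_right (a := N) ⟨b, ⟨b, hb, rfl⟩, rfl⟩)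
  have hSbTT : ∀ x : B ⧸ N.subgroupOf B, ∃ t ∈ TT, ∃ s ∈ Sb, x = t * s := by
    intro x
    have h1 := hMgen (TT ⊔ Sb) le_sup_left le_sup_right x
    obtain ⟨t, ht, s, hs, e⟩ := Subgroup.mem_sup_of_normal_left.mp h1
    exact ⟨t, ht, s, hs, e.symm⟩
  have hQp : IsPGroup p ((B ⧸ N.subgroupOf B) ⧸ TT) := by
    intro y
    obtain ⟨x, rfl⟩ := QuotientGroup.mk_surjective y
    obtain ⟨t, ht, s, hs, rfl⟩ := hSbTT x
    obtain ⟨k, hk⟩ := hSbp ⟨s, hs⟩
    refine ⟨k, ?_⟩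
    have h1 : s ^ (p ^ k) = 1 := congrArg Subtype.val hk
    have h2 : ((t * s : B ⧸ N.subgroupOf B) : (B ⧸ N.subgroupOf B) ⧸ TT) = (s : (B ⧸ N.subgroupOf B) ⧸ TT) := by
      rw [QuotientGroup.mk_mul, (QuotientGroup.eq_one_iff t).mpr ht, one_mul]
    rw [h2, ← QuotientGroup.mk_pow, h1, QuotientGroup.mk_one]
  have hKidx : ∃ k : ℕ, K.index = p ^ k := by
    have h1 : K.index = TT.index := index_comap_of_surjective TT hπs
    rw [h1]
    exact (IsPGroup.iff_card (p := p)).mp hQp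
  refine ⟨Hh, ?_⟩
  constructor
  · exact hNB
  · exact hHleB
  · exact C.B_le_normalizer
  · exact hNp
  · rw [hHcard]; exact hcardT
  · rw [hsup]
    intro b hb
    rw [mem_normalizer_iff]
    intro x
    have key : ∀ b ∈ B, ∀ x ∈ K.map B.subtype, b * x * b⁻¹ ∈ K.map B.subtype := by
      rintro b hb _ ⟨x, hx, rfl⟩
      exact ⟨⟨b, hb⟩ * x * ⟨b, hb⟩⁻¹, hKn.conj_mem x hx ⟨b, hb⟩, rfl⟩
    refine ⟨key b hb x, fun h => ?_⟩
    have := key b⁻¹ (inv_mem hb) _ h
    simpa [mul_assoc] using this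
  · rw [hsup]
    obtain ⟨k, hk⟩ := hKidx
    refine ⟨k, ?_⟩
    rw [← hk, relIndex]
    congr 1
    exact Subgroup.comap_map_eq_self_of_injective B.subtype_injective K
  · intro V hVB hV hVn
    -- the image of `V`
    let Vb : Subgroup (B ⧸ N.subgroupOf B) := (V.subgroupOf B).map π
    have hVbp : IsPGroup p Vb := (hV.comap_subtype (K := B)).map π
    have hVbn : Vb.Normal := by
      constructor
      rintro _ ⟨v, hv, rfl⟩ g
      obtain ⟨g, rfl⟩ := hπs g
      refine ⟨g * v * g⁻¹, ?_, by simp⟩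
      have := (mem_normalizer_iff.mp (hVn g.2) (v : G)).mp (mem_subgroupOf.mp hv)
      exact mem_subgroupOf.mpr this
    have hVS : V ≤ S := by
      intro v hv
      obtain ⟨t, ht, s, hs, e⟩ := hSbTT (π ⟨v, hVB hv⟩)
      have h1 : t ∈ Vb ⊔ Sb := by
        have : t = π ⟨v, hVB hv⟩ * s⁻¹ := by rw [e]; group
        rw [this]
        exact mul_mem (le_sup_left (a := Vb) ⟨⟨v, hVB hv⟩, mem_subgroupOf.mpr hv, rfl⟩)
          (le_sup_right (a := Vb) (inv_mem hs))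
      have h2 : IsPGroup p (Vb ⊔ Sb : Subgroup _) := hVbp.to_sup_of_normal_left hSbp
      obtain ⟨k, hk⟩ := h2 ⟨t, h1⟩
      have h3 := hTp t ht k (congrArg Subtype.val hk)
      rw [h3, one_mul] at e
      obtain ⟨s', hs', rfl⟩ := hs
      have h4 : π (s'⁻¹ * ⟨v, hVB hv⟩) = 1 := by rw [map_mul, e, map_inv, inv_mul_cancel]
      rw [hπ] at h4
      have h5 : v = (s' : G) * ((s' : G)⁻¹ * v) := by group
      rw [h5]
      exact mul_mem (mem_subgroupOf.mp hs') (hNS h4)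
    intro v hv
    rw [mem_iInf]
    intro i
    refine C.faith i v (hVS hv) fun h hh => ?_
    have h1 : ⁅π ⟨v, hVB hv⟩, π ⟨h, hHB i hh⟩⁆ ∈ TT := by
      rw [commutatorElement_def]
      exact mul_mem (hTn.conj_mem _ (hTle i (hTmem i hh)) _) (inv_mem (hTle i (hTmem i hh)))
    have h2 : ⁅π ⟨v, hVB hv⟩, π ⟨h, hHB i hh⟩⁆ ∈ Vb := by
      rw [commutatorElement_def, mul_assoc, mul_assoc]
      have h3 : π ⟨v, hVB hv⟩ ∈ Vb := ⟨⟨v, hVB hv⟩, mem_subgroupOf.mpr hv, rfl⟩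
      refine mul_mem h3 ?_
      rw [← mul_assoc]
      exact hVbn.conj_mem _ (inv_mem h3) _
    obtain ⟨k, hk⟩ := hVbp ⟨_, h2⟩
    have h3 := hTp _ h1 k (congrArg Subtype.val hk)
    rw [← map_commutatorElement, hπ] at h3
    exact (mem_iInf.mp h3) i

/-! ### Panels -/

theorem commutator_le_N (C : CB p S P M U H) (i : I) : ⁅U i, H i⁆ ≤ ⨅ j, U j := by
  rw [commutator_le]
  exact fun u hu h hh => C.comm_mem hu hh

/-- `P i` is not contained in `B`: the torus `H i` does not centralise `U i` modulo the largest normal subgroup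
`R` of `P i` below `U i`. -/
theorem not_le_B (C : CB p S P M U H) {i : I} {R : Subgroup G}
    (hR : ∀ V : Subgroup G, V ≤ U i → P i ≤ normalizer (V : Set G) → V ≤ R) (h : ¬ ⁅U i, H i⁆ ≤ R) :
    ¬ P i ≤ ⨆ j, M j := fun h1 =>
  h ((C.commutator_le_N i).trans (hR _ (iInf_le U i) (h1.trans C.B_le_normalizer)))

theorem inf_B_eq (C : CB p S P M U H) {i : I} (hmax : ∀ K : Subgroup G, M i ≤ K → K ≤ P i → K = M i ∨ K = P i)
    (h : ¬ P i ≤ ⨆ j, M j) : P i ⊓ (⨆ j, M j) = M i := by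
  rcases hmax (P i ⊓ ⨆ j, M j) (le_inf (C.MP i) (le_iSup M i)) inf_le_left with h1 | h1
  · exact h1
  · exact absurd (h1 ▸ inf_le_right) h

/-- `U` is transitive on the chambers `≠ B` of the panel `P i · B`. -/
theorem ptr (C : CB p S P M U H) {i : I} {R : Subgroup G} (hRM : R ≤ M i) (hRP : P i ≤ normalizer (R : Set G))
    (hU : U i ≤ ⁅U i, H i⁆ ⊔ R)
    (htr : ∀ g ∈ P i, g ∉ M i → ∀ g' ∈ P i, g' ∉ M i → ∃ u ∈ U i, ∃ b ∈ M i, g' = u * g * b) :
    Hall.HallData.PTr (⨆ j, M j) (⨅ j, U j) (P i ⊔ ⨆ j, M j) := by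
  have hMB : M i ≤ ⨆ j, M j := le_iSup M i
  have hNR : (⨅ j, U j) ≤ normalizer (R : Set G) := by
    refine (iInf_le U i).trans (le_trans ?_ hRP)
    exact (C.US i).trans ((C.SM i).trans (C.MP i))
  have hU' : U i ≤ (⨅ j, U j) ⊔ R := hU.trans (sup_le_sup_right (C.commutator_le_N i) R)
  intro g hg hgB g' hg' hgB'
  obtain ⟨y, hy, c, hc, rfl⟩ := C.mem_PB i hg
  obtain ⟨y', hy', c', hc', rfl⟩ := C.mem_PB i hg'
  have h1 : y ∉ M i := fun h => hgB (mul_mem (hMB h) hc)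
  have h2 : y' ∉ M i := fun h => hgB' (mul_mem (hMB h) hc')
  obtain ⟨u, hu, b, hb, e⟩ := htr y hy h1 y' hy' h2
  obtain ⟨r, hr, n, hn, e'⟩ := Solvable.Glauberman.exists_mul_of_mem_sup (⨅ j, U j) R hNR (hU' hu)
  -- `u = r n`; write it as `n (n⁻¹ r n)`
  have hr' : n⁻¹ * r * n ∈ R := by
    have := (mem_normalizer_iff.mp (inv_mem (hNR hn)) r).mp hr
    simpa using this
  have hr'' : y⁻¹ * (n⁻¹ * r * n) * y ∈ R := by
    have := (mem_normalizer_iff.mp (inv_mem (hRP hy)) (n⁻¹ * r * n)).mp hr'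
    simpa using this
  refine ⟨n, hn, c⁻¹ * (y⁻¹ * (n⁻¹ * r * n) * y) * b * c', ?_, ?_⟩
  · exact mul_mem (mul_mem (mul_mem (inv_mem hc) (hMB (hRM hr''))) (hMB hb)) hc'
  · rw [e, e']
    group

end CB

end Cfsg.Agent.ParSys
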