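import Cfsg.Agent.ParSys.OfQuasi
import Cfsg.Agent.MinSimple.VModule

/-!
# Residues as central extensions modulo `O₂`

`Cov X F`: `X / O₂(X)` is a central extension of `F`.

* `quasi_of_cov`: the input `Quasi` of the Lie pairs;
* `perf_of_cov`: `E ≤ [O²(E), O²(E)] O₂(E)` if `E` is generated by 2-elements and `E / O₂(E)` is a central extension of a
  nonabelian simple group;
* `sup_oddGen`: `E = O²(E) U`.
-/

set_option autoImplicit false
set_option maxHeartbeats 400000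
set_option linter.unusedSectionVars false

namespace Cfsg.Agent.ParSys

open Subgroup Cfsg
open Cfsg.Agent.ZN (o2)
open Cfsg.Agent.MinSimple.VModule (o2_le o2_isPGroup le_normalizer_o2 le_o2 o2_le_of_sylow oddGen oddGen_le
  mem_oddGen le_normalizer_oddGen normalizer_le_normalizer_oddGen)

open scoped commutatorElement

variable {G : Type*} [Group G]

/-- no nontrivial normal 2-subgroup -/
def NoTwo (F : Type*) [Group F] : Prop := ∀ N : Subgroup F, N.Normal → IsPGroup 2 N → N = ⊥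

/-- nonabelian simple -/
def NS (F : Type*) [Group F] : Prop := IsSimpleGroup F ∧ ∃ a b : F, a * b ≠ b * a

/-- `X / O₂(X)` is a central extension of `F`. -/
def Cov (X : Subgroup G) (F : Type*) [Group F] : Prop :=
  ∃ f : ↥X →* F, Function.Surjective f ∧
    ∀ z : ↥X, f z = 1 → ∀ x : ↥X, (z : G) * x * (z : G)⁻¹ * (x : G)⁻¹ ∈ o2 X

theorem Cov.congr {X : Subgroup G} {F F' : Type*} [Group F] [Group F'] (h : Cov X F) (e : F ≃* F') : Cov X F' := by
  obtain ⟨f, hf, hk⟩ := h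
  exact ⟨e.toMonoidHom.comp f, e.surjective.comp hf, fun z hz => hk z ((map_eq_one_iff e e.injective).1 hz)⟩

theorem Cov.finite [Finite G] {X : Subgroup G} {F : Type*} [Group F] (h : Cov X F) : Finite F := by
  obtain ⟨f, hf, -⟩ := h
  exact Finite.of_surjective f hf

theorem NS.noTwo {F : Type*} [Group F] [Finite F] (h : NS F) : NoTwo F := by
  obtain ⟨hs, a, b, hab⟩ := h
  intro N hN hp
  have : Fact (Nat.Prime 2) := ⟨Nat.prime_two⟩
  rcases hN.eq_bot_or_eq_top with h1 | h1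
  · exact h1
  · exfalso
    subst h1
    have hp' : IsPGroup 2 F := hp.of_equiv topEquiv
    have hc : Nontrivial (center F) := hp'.center_nontrivial
    rcases (inferInstance : (center F).Normal).eq_bot_or_eq_top with h2 | h2
    · rw [h2] at hc
      exact not_subsingleton _ (inferInstance : Subsingleton (⊥ : Subgroup F))
    · have h3 : a ∈ center F := by rw [h2]; trivial
      exact hab (mem_center_iff.1 h3 b).symm

theorem NS.perfect {F : Type*} [Group F] (h : NS F) : ⁅(⊤ : Subgroup F), (⊤ : Subgroup F)⁆ = ⊤ := by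
  obtain ⟨hs, a, b, hab⟩ := h
  rcases (inferInstance : (⁅(⊤ : Subgroup F), (⊤ : Subgroup F)⁆).Normal).eq_bot_or_eq_top with h1 | h1
  · exfalso
    apply hab
    have h2 : ⁅a, b⁆ ∈ ⁅(⊤ : Subgroup F), (⊤ : Subgroup F)⁆ := commutator_mem_commutator (mem_top a) (mem_top b)
    rw [h1, mem_bot, commutatorElement_eq_one_iff_mul_comm] at h2
    exact h2
  · exact h1

theorem NS.congr {F F' : Type*} [Group F] [Group F'] (h : NS F) (e : F ≃* F') : NS F' := by
  obtain ⟨hs, a, b, hab⟩ := h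
  have : Nontrivial F' := e.symm.toEquiv.nontrivial
  refine ⟨IsSimpleGroup.isSimpleGroup_of_surjective e.toMonoidHom e.surjective, e a, e b, fun h1 => hab ?_⟩
  apply e.injective
  rw [map_mul, map_mul, h1]

theorem NoTwo.prod {A B : Type*} [Group A] [Group B] (hA : NoTwo A) (hB : NoTwo B) : NoTwo (A × B) := by
  intro N hN hp
  have h1 := hA (N.map (MonoidHom.fst A B)) (hN.map _ Prod.fst_surjective) (hp.map _)
  have h2 := hB (N.map (MonoidHom.snd A B)) (hN.map _ Prod.snd_surjective) (hp.map _)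
  rw [eq_bot_iff]
  intro x hx
  have h3 : x.1 ∈ N.map (MonoidHom.fst A B) := ⟨x, hx, rfl⟩
  have h4 : x.2 ∈ N.map (MonoidHom.snd A B) := ⟨x, hx, rfl⟩
  rw [h1, mem_bot] at h3
  rw [h2, mem_bot] at h4
  rw [mem_bot]
  exact Prod.ext h3 h4

theorem KPair.noTwo {F : Type*} [Group F] [Finite F] {Q : Cfsg.BNPair F} {UF : Subgroup F} {s t : F}
    (h : KPair 2 Q UF s t) : NoTwo F := by
  have : Fact (Nat.Prime 2) := ⟨Nat.prime_two⟩
  intro N hN hp
  obtain ⟨P₀, hP₀⟩ := h.split.isP.exists_le_sylow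
  have h1 := split_eq_sylow h.split hP₀
  have h2 : N ≤ (P₀ : Subgroup F) := hp.le_sylow_of_normal P₀
  rw [eq_bot_iff, ← h.split.core]
  exact (Subgroup.normal_le_normalCore).2 ((h2.trans h1.ge).trans h.split.le)

/-! ### `O₂` -/

/-- central elements modulo `O₂(X)` of 2-power order lie in `O₂(X)` -/
theorem mem_o2_of_central {X : Subgroup G} {w : G} (hw : w ∈ X)
    (hc : ∀ x ∈ X, w * x * w⁻¹ * x⁻¹ ∈ o2 X) {a : ℕ} (ha : w ^ 2 ^ a ∈ o2 X) : w ∈ o2 X := by
  have : Fact (Nat.Prime 2) := ⟨Nat.prime_two⟩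
  obtain ⟨b, hb⟩ := o2_isPGroup X ⟨_, ha⟩
  have hb' : w ^ 2 ^ (a + b) = 1 := by
    have : (w ^ 2 ^ a) ^ 2 ^ b = 1 := by simpa using congrArg Subtype.val hb
    rw [pow_add, pow_mul, this]
  have hz : IsPGroup 2 (zpowers w) := by
    rintro ⟨_, k, rfl⟩
    refine ⟨a + b, Subtype.ext ?_⟩
    show (w ^ k) ^ 2 ^ (a + b) = 1
    rw [← zpow_natCast, ← zpow_mul, mul_comm, zpow_mul, zpow_natCast, hb', one_zpow]
  have hn : zpowers w ≤ normalizer (o2 X : Set G) := by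
    rw [zpowers_le]; exact le_normalizer_o2 X hw
  have hN : IsPGroup 2 (zpowers w ⊔ o2 X : Subgroup G) := IsPGroup.to_sup_of_normal_right' hz (o2_isPGroup X) hn
  have hmem : w ∈ zpowers w ⊔ o2 X := mem_sup_left (mem_zpowers w)
  have hX : X ≤ normalizer ((zpowers w ⊔ o2 X : Subgroup G) : Set G) := by
    have key : ∀ x ∈ X, ∀ y ∈ zpowers w ⊔ o2 X, x * y * x⁻¹ ∈ zpowers w ⊔ o2 X := by
      intro x hx y hy
      have h1 : zpowers w ⊔ o2 X ≤ (zpowers w ⊔ o2 X).comap (MulAut.conj x).toMonoidHom := by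
        apply sup_le
        · rw [zpowers_le]
          show x * w * x⁻¹ ∈ zpowers w ⊔ o2 X
          have e1 : x * w * x⁻¹ = (w * x * w⁻¹ * x⁻¹)⁻¹ * w := by group
          rw [e1]
          exact mul_mem (inv_mem (mem_sup_right (hc x hx))) hmem
        · intro y hy
          exact mem_sup_right (conj_mem_of_normalizer (le_normalizer_o2 X hx) hy)
      exact h1 hy
    intro x hx
    rw [mem_normalizer_iff]
    intro y
    refine ⟨key x hx y, fun hy => ?_⟩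
    have := key x⁻¹ (inv_mem hx) _ hy
    have e1 : x⁻¹ * (x * y * x⁻¹) * x⁻¹⁻¹ = y := by group
    rwa [e1] at this
  exact le_o2 (sup_le (by rw [zpowers_le]; exact hw) (o2_le X)) hN hX hmem

section cov

variable [Finite G] {X : Subgroup G} {F : Type*} [Group F] {f : ↥X →* F}

/-- `O₂(X)` lies in the kernel -/
theorem cov_O_ker (hf : Function.Surjective f) (hF : NoTwo F) {x : ↥X} (hx : (x : G) ∈ o2 X) : f x = 1 := by
  have hn : ((o2 X).subgroupOf X).Normal := normal_subgroupOf_of_le_normalizer (le_normalizer_o2 X)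
  have h1 : IsPGroup 2 ((o2 X).subgroupOf X) := (o2_isPGroup X).comap_of_injective _ X.subtype_injective
  have h2 := hF _ (hn.map f hf) (h1.map f)
  have h3 : f x ∈ ((o2 X).subgroupOf X).map f := ⟨x, hx, rfl⟩
  rw [h2] at h3
  exact mem_bot.1 h3

/-- the kernel has odd order modulo `O₂(X)` -/
theorem cov_cop (hk : ∀ z : ↥X, f z = 1 → ∀ x : ↥X, (z : G) * x * (z : G)⁻¹ * (x : G)⁻¹ ∈ o2 X) {z : ↥X}
    (hz : f z = 1) : ∃ k : ℕ, Nat.Coprime 2 k ∧ (z : G) ^ k ∈ o2 X := by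
  obtain ⟨a, m, hm, hum⟩ := Nat.exists_eq_pow_mul_and_not_dvd (orderOf_pos (z : G)).ne' 2 (by norm_num)
  refine ⟨m, (Nat.Prime.coprime_iff_not_dvd Nat.prime_two).2 hm, ?_⟩
  have hz' : f (z ^ m) = 1 := by rw [map_pow, hz, one_pow]
  apply mem_o2_of_central (a := a) (pow_mem z.2 m)
  · intro x hx
    have := hk (z ^ m) hz' ⟨x, hx⟩
    push_cast at this
    exact this
  · rw [← pow_mul, mul_comm, ← hum, pow_orderOf_eq_one]
    exact one_mem _

end cov

/-- **`Quasi` from the structure of `X / O₂(X)`.** -/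
theorem quasi_of_cov [Finite G] {U Ei Ej : Subgroup G} {F : Type*} [Group F] (hF : NoTwo F)
    (Ui : U ≤ Ei) (Uj : U ≤ Ej) (isP : IsPGroup 2 U) (syl : ¬ 2 ∣ U.relIndex (Ei ⊔ Ej))
    (geni : ∀ N : Subgroup G, (∀ e ∈ Ei, ∀ u ∈ U, e * u * e⁻¹ ∈ N) → Ei ≤ N)
    (genj : ∀ N : Subgroup G, (∀ e ∈ Ej, ∀ u ∈ U, e * u * e⁻¹ ∈ N) → Ej ≤ N)
    (noti : ¬ Ei ≤ normalizer (U : Set G)) (notj : ¬ Ej ≤ normalizer (U : Set G))
    (nei : ¬ Ej ≤ Ei) (nej : ¬ Ei ≤ Ej) (h : Cov (Ei ⊔ Ej) F) :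
    ∃ f : ↥(Ei ⊔ Ej) →* F, Quasi U Ei Ej (o2 (Ei ⊔ Ej)) f := by
  obtain ⟨f, hf, hk⟩ := h
  exact ⟨f, {
    surj := hf
    Ui := Ui
    Uj := Uj
    isP := isP
    syl := syl
    O_le := o2_le_of_sylow isP syl
    O_norm := le_normalizer_o2 _
    O_ker := fun x hx => cov_O_ker hf hF hx
    central := hk
    cop := fun z hz => cov_cop hk hz
    geni := geni
    genj := genj
    noti := noti
    notj := notj
    nei := fun h => nei (by rw [h]; exact le_sup_right)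
    nej := fun h => nej (by rw [h]; exact le_sup_left) }⟩

/-! ### One node -/

/-- `E = O²(E) U` -/
theorem sup_oddGen [Finite G] {E U : Subgroup G} (hU : U ≤ E) (hP : IsPGroup 2 U) (hS : ¬ 2 ∣ U.relIndex E) :
    oddGen E ⊔ U = E := by
  have : Fact (Nat.Prime 2) := ⟨Nat.prime_two⟩
  apply le_antisymm (sup_le (oddGen_le E) hU)
  have hN : ((oddGen E).subgroupOf E).Normal := normal_subgroupOf_of_le_normalizer (le_normalizer_oddGen E)
  have h1 : IsPGroup 2 (E ⧸ (oddGen E).subgroupOf E) := by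
    intro q
    obtain ⟨x, rfl⟩ := QuotientGroup.mk_surjective q
    obtain ⟨a, m, hm, ha⟩ := Nat.exists_eq_pow_mul_and_not_dvd (orderOf_pos (x : G)).ne' 2 (by norm_num)
    refine ⟨a, ?_⟩
    rw [← QuotientGroup.mk_pow, QuotientGroup.eq_one_iff, mem_subgroupOf]
    refine mem_oddGen (E.pow_mem x.2 _) ?_
    have hm0 : 0 < m := Nat.pos_of_ne_zero (by rintro rfl; simp at hm)
    have h2 : orderOf ((x : G) ^ 2 ^ a) = m := by
      rw [orderOf_pow_of_dvd (by positivity) (ha ▸ Dvd.intro _ rfl), ha, Nat.mul_div_cancel_left _ (by positivity)]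
    rw [coe_pow, h2]
    exact Nat.not_even_iff_odd.1 fun h => hm h.two_dvd
  obtain ⟨k, hk⟩ := IsPGroup.iff_card.1 h1
  have h2 : (oddGen E ⊔ U).relIndex E ∣ 2 ^ k := by
    have h3 : (oddGen E ⊔ U).relIndex E ∣ (oddGen E).relIndex E := relIndex_dvd_of_le_left _ le_sup_left
    have h4 : (oddGen E).relIndex E = 2 ^ k := by
      rw [← hk, relIndex, index_eq_card]
    rwa [h4] at h3
  have h3 : (oddGen E ⊔ U).relIndex E ∣ U.relIndex E := relIndex_dvd_of_le_left _ le_sup_right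
  have h4 : (oddGen E ⊔ U).relIndex E = 1 := by
    obtain ⟨j, -, hj⟩ := (Nat.dvd_prime_pow Nat.prime_two).1 h2
    rcases Nat.eq_zero_or_pos j with h0 | h0
    · rw [hj, h0, pow_zero]
    · exact absurd (dvd_trans (dvd_pow_self 2 h0.ne') (hj ▸ h3)) hS
  exact relIndex_eq_one.1 h4

/-- `E ≤ [E, E] O₂(E)` -/
theorem le_commutator_of_cov [Finite G] {E U : Subgroup G} {A : Type*} [Group A] (hA : NS A) (hU : U ≤ E)
    (hP : IsPGroup 2 U)
    (gen : ∀ N : Subgroup G, (∀ e ∈ E, ∀ u ∈ U, e * u * e⁻¹ ∈ N) → E ≤ N) (h : Cov E A) :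
    E ≤ ⁅E, E⁆ ⊔ o2 E := by
  obtain ⟨f, hf, hk⟩ := h
  have hcD : ∀ x ∈ E, ∀ y ∈ E, x * y * x⁻¹ * y⁻¹ ∈ ⁅E, E⁆ := fun x hx y hy => commutator_mem_commutator hx hy
  have hDE : ⁅E, E⁆ ⊔ o2 E ≤ E := sup_le (commutator_le_self E) (o2_le E)
  -- the image of the commutator subgroup
  have h1 : ∀ a : A, ∃ d : ↥E, (d : G) ∈ ⁅E, E⁆ ∧ f d = a := by
    have h2 : (⊤ : Subgroup A) ≤ (⁅E, E⁆.subgroupOf E).map f := by
      rw [← hA.perfect, commutator_le]
      intro a _ b _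
      obtain ⟨x, rfl⟩ := hf a
      obtain ⟨y, rfl⟩ := hf b
      exact ⟨⁅x, y⁆, commutator_mem_commutator x.2 y.2, map_commutatorElement f x y⟩
    intro a
    obtain ⟨d, hd, h3⟩ := h2 (mem_top a)
    exact ⟨d, hd, h3⟩
  apply gen
  -- it is enough to have `U ≤ D`
  have hUD : ∀ u ∈ U, u ∈ ⁅E, E⁆ ⊔ o2 E := by
    intro u hu
    obtain ⟨d, hd, h2⟩ := h1 (f ⟨u, hU hu⟩)
    set k := d⁻¹ * ⟨u, hU hu⟩ with hkdef
    have hk1 : f k = 1 := by rw [hkdef, map_mul, map_inv, h2, inv_mul_cancel]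
    obtain ⟨m, hm, h3⟩ := cov_cop hk hk1
    have huk : u = (d : G) * k := by rw [hkdef]; push_cast; group
    obtain ⟨a, ha⟩ := hP ⟨u, hu⟩
    have ha' : u ^ 2 ^ a = 1 := by simpa using congrArg Subtype.val ha
    -- `(d k) ^ n ∈ D k ^ n`
    have h4 : ∀ n : ℕ, ((d : G) * k) ^ n * ((k : G) ^ n)⁻¹ ∈ ⁅E, E⁆ := by
      intro n
      induction n with
      | zero => simp
      | succ n ih =>
        have e1 : ((d : G) * k) ^ (n + 1) * ((k : G) ^ (n + 1))⁻¹ =
            (((d : G) * k) ^ n * ((k : G) ^ n)⁻¹) * ((k : G) ^ n * d * ((k : G) ^ n)⁻¹ * (d : G)⁻¹ * d) := by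
          rw [pow_succ, pow_succ]; group
        rw [e1]
        exact mul_mem ih (mul_mem (hcD _ (pow_mem k.2 n) _ d.2) hd)
    have h5 : u ^ m ∈ ⁅E, E⁆ ⊔ o2 E := by
      have h6 := mul_mem (mem_sup_left (h4 m) : _ ∈ ⁅E, E⁆ ⊔ o2 E) (mem_sup_right h3 : _ ∈ ⁅E, E⁆ ⊔ o2 E)
      rw [inv_mul_cancel_right] at h6
      rw [huk]
      exact h6
    exact Hall.mem_of_pow_mem_of_coprime (a := m) (b := 2 ^ a) h5 (by rw [ha']; exact one_mem _)
      (hm.symm.pow_right a)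
  intro e he u hu
  have e1 : e * u * e⁻¹ = e * u * e⁻¹ * u⁻¹ * u := by group
  rw [e1]
  exact mul_mem (mem_sup_left (hcD e he u (hU hu))) (hUD u hu)

/-- `E ≤ O²(E) O₂(E)` -/
theorem le_oddGen_of_le [Finite G] {E U : Subgroup G} (hU : U ≤ E) (hP : IsPGroup 2 U) (hS : ¬ 2 ∣ U.relIndex E)
    (h : E ≤ ⁅E, E⁆ ⊔ o2 E) : E ≤ oddGen E ⊔ o2 E := by
  have : Fact (Nat.Prime 2) := ⟨Nat.prime_two⟩
  set D : Subgroup G := oddGen E ⊔ o2 E with hD
  have hDE : D ≤ E := sup_le (oddGen_le E) (o2_le E)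
  have hnD : E ≤ normalizer (D : Set G) := by
    have key : ∀ x ∈ E, ∀ y ∈ D, x * y * x⁻¹ ∈ D := by
      intro x hx y hy
      have h1 : D ≤ D.comap (MulAut.conj x).toMonoidHom := by
        apply sup_le
        · intro y hy
          exact (mem_sup_left (conj_mem_of_normalizer (le_normalizer_oddGen E hx) hy) : _ ∈ oddGen E ⊔ o2 E)
        · intro y hy
          exact (mem_sup_right (conj_mem_of_normalizer (le_normalizer_o2 E hx) hy) : _ ∈ oddGen E ⊔ o2 E)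
      exact h1 hy
    intro x hx
    rw [mem_normalizer_iff]
    intro y
    refine ⟨key x hx y, fun hy => ?_⟩
    have := key x⁻¹ (inv_mem hx) _ hy
    have e1 : x⁻¹ * (x * y * x⁻¹) * x⁻¹⁻¹ = y := by group
    rwa [e1] at this
  have hN : (D.subgroupOf E).Normal := normal_subgroupOf_of_le_normalizer hnD
  -- the quotient is a 2-group
  have h1 : IsPGroup 2 (E ⧸ D.subgroupOf E) := by
    have h2 : ∀ q : E ⧸ D.subgroupOf E, ∃ u : ↥E, (u : G) ∈ U ∧ (QuotientGroup.mk u : E ⧸ D.subgroupOf E) = q := by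
      intro q
      obtain ⟨x, rfl⟩ := QuotientGroup.mk_surjective q
      have h3 : (x : G) ∈ U ⊔ oddGen E := by rw [sup_comm, sup_oddGen hU hP hS]; exact x.2
      obtain ⟨l, hl, u, hu, h4⟩ := Solvable.Glauberman.exists_mul_of_mem_sup U (oddGen E)
        (hU.trans (le_normalizer_oddGen E)) h3
      refine ⟨⟨u, hU hu⟩, hu, ?_⟩
      rw [QuotientGroup.eq, mem_subgroupOf]
      show u⁻¹ * (x : G) ∈ D
      rw [h4]
      have e1 : u⁻¹ * (l * u) = u⁻¹ * l * u⁻¹⁻¹ := by group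
      rw [e1]
      exact conj_mem_of_normalizer (inv_mem (hnD (hU hu))) (mem_sup_left hl : _ ∈ oddGen E ⊔ o2 E)
    intro q
    obtain ⟨u, hu, rfl⟩ := h2 q
    obtain ⟨a, ha⟩ := hP ⟨u, hu⟩
    refine ⟨a, ?_⟩
    have : u ^ 2 ^ a = 1 := Subtype.ext (by simpa using congrArg Subtype.val ha)
    rw [← QuotientGroup.mk_pow, this]
    rfl
  -- and perfect
  by_contra hcon
  have hnt : Nontrivial (E ⧸ D.subgroupOf E) := by
    rw [QuotientGroup.nontrivial_iff, Ne, subgroupOf_eq_top]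
    exact hcon
  have hsol : Group.IsSolvable (E ⧸ D.subgroupOf E) := by
    have := h1.isNilpotent
    infer_instance
  have h2 := Group.IsSolvable.commutator_lt_top_of_nontrivial (E ⧸ D.subgroupOf E)
  apply h2.ne
  rw [eq_top_iff]
  rintro q -
  obtain ⟨x, rfl⟩ := QuotientGroup.mk'_surjective (D.subgroupOf E) q
  have hle : ⁅E, E⁆ ⊔ o2 E ≤ ((commutator (E ⧸ D.subgroupOf E)).comap (QuotientGroup.mk' (D.subgroupOf E))).map
      E.subtype := by
    apply sup_le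
    · rw [commutator_le]
      intro a ha b hb
      refine ⟨⁅(⟨a, ha⟩ : ↥E), (⟨b, hb⟩ : ↥E)⁆, ?_, rfl⟩
      show QuotientGroup.mk' (D.subgroupOf E) ⁅(⟨a, ha⟩ : ↥E), (⟨b, hb⟩ : ↥E)⁆ ∈ commutator (E ⧸ D.subgroupOf E)
      rw [map_commutatorElement]
      exact commutator_mem_commutator (mem_top _) (mem_top _)
    · intro a ha
      refine ⟨⟨a, o2_le E ha⟩, ?_, rfl⟩
      show QuotientGroup.mk' (D.subgroupOf E) ⟨a, o2_le E ha⟩ ∈ commutator (E ⧸ D.subgroupOf E)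
      have h3 : QuotientGroup.mk' (D.subgroupOf E) ⟨a, o2_le E ha⟩ = 1 := by
        rw [QuotientGroup.mk'_apply, QuotientGroup.eq_one_iff, mem_subgroupOf]
        exact (mem_sup_right ha : _ ∈ oddGen E ⊔ o2 E)
      rw [h3]; exact one_mem _
  obtain ⟨y, hy, h3⟩ := hle (h x.2)
  have h4 : y = x := Subtype.ext h3
  rw [← h4]; exact hy

/-- `E ≤ [O²(E), O²(E)] O₂(E)` -/
theorem le_commutator_oddGen [Finite G] {E U : Subgroup G} (hU : U ≤ E) (hP : IsPGroup 2 U)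
    (hS : ¬ 2 ∣ U.relIndex E) (h : E ≤ ⁅E, E⁆ ⊔ o2 E) : E ≤ ⁅oddGen E, oddGen E⁆ ⊔ o2 E := by
  have h1 := le_oddGen_of_le hU hP hS h
  set L := oddGen E with hL
  set M : Subgroup G := ⁅L, L⁆ ⊔ o2 E with hM
  have hLE : L ≤ E := oddGen_le E
  have hLn : E ≤ normalizer (L : Set G) := le_normalizer_oddGen E
  have hMn : ∀ x ∈ E, ∀ y ∈ M, x * y * x⁻¹ ∈ M := by
    intro x hx y hy
    have h2 : M ≤ M.comap (MulAut.conj x).toMonoidHom := by
      apply sup_le
      · rw [commutator_le]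
        intro a ha b hb
        show x * ⁅a, b⁆ * x⁻¹ ∈ M
        have e1 : x * ⁅a, b⁆ * x⁻¹ = ⁅x * a * x⁻¹, x * b * x⁻¹⁆ := by
          rw [commutatorElement_def, commutatorElement_def]; group
        rw [e1]
        exact mem_sup_left (commutator_mem_commutator (conj_mem_of_normalizer (hLn hx) ha)
          (conj_mem_of_normalizer (hLn hx) hb))
      · intro y hy
        exact (mem_sup_right (conj_mem_of_normalizer (le_normalizer_o2 E hx) hy) : _ ∈ ⁅L, L⁆ ⊔ o2 E)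
    exact h2 hy
  refine h.trans (sup_le ?_ le_sup_right)
  rw [commutator_le]
  intro x hx y hy
  have hdec : ∀ z ∈ E, ∃ l ∈ L, ∃ r ∈ o2 E, z = l * r := by
    intro z hz
    obtain ⟨r, hr, l, hl, h2⟩ := Solvable.Glauberman.exists_mul_of_mem_sup L (o2 E)
      (hLE.trans (le_normalizer_o2 E)) (h1 hz)
    refine ⟨l, hl, l⁻¹ * r * l, ?_, by rw [h2]; group⟩
    exact conj_mem_of_normalizer' (le_normalizer_o2 E (hLE hl)) hr
  obtain ⟨l, hl, r, hr, rfl⟩ := hdec x hx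
  obtain ⟨l', hl', r', hr', rfl⟩ := hdec y hy
  have hrM : ∀ r ∈ o2 E, r ∈ M := fun r hr => (mem_sup_right hr : _ ∈ ⁅L, L⁆ ⊔ o2 E)
  have e1 : ⁅l * r, l' * r'⁆ = (l * r * l⁻¹) * ((l * l') * (r' * r⁻¹) * (l * l')⁻¹) * ⁅l, l'⁆ * (l' * r'⁻¹ * l'⁻¹) := by
    rw [commutatorElement_def, commutatorElement_def]; group
  rw [e1]
  exact mul_mem (mul_mem (mul_mem (hMn l (hLE hl) _ (hrM r hr))
    (hMn _ (mul_mem (hLE hl) (hLE hl')) _ (mul_mem (hrM r' hr') (inv_mem (hrM r hr)))))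
    (mem_sup_left (commutator_mem_commutator hl hl') : _ ∈ ⁅L, L⁆ ⊔ o2 E)) (hMn l' (hLE hl') _ (inv_mem (hrM r' hr')))

/-- **The field `perf` of `PSys`.** -/
theorem perf_of_cov [Finite G] {E U : Subgroup G} {A : Type*} [Group A] (hA : NS A) (hU : U ≤ E)
    (hP : IsPGroup 2 U) (hS : ¬ 2 ∣ U.relIndex E)
    (gen : ∀ N : Subgroup G, (∀ e ∈ E, ∀ u ∈ U, e * u * e⁻¹ ∈ N) → E ≤ N) (h : Cov E A) :
    E ≤ ⁅oddGen E, oddGen E⁆ ⊔ o2 E :=
  le_commutator_oddGen hU hP hS (le_commutator_of_cov hA hU hP gen h)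

end Cfsg.Agent.ParSys
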