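import Cfsg.Agent.ParSys.PSysMain
import Cfsg.Agent.S1143

/-!
# THEOREM PAR for simple groups

A finite simple group with a parabolic system `PSys` of rank at least three and connected diagram is of Lie type.
-/

set_option autoImplicit false

universe u

namespace Cfsg.Agent.ParSys

open Subgroup

variable {G : Type u} [Group G] {I : Type*}

/-- **THEOREM PAR for simple groups.** -/
theorem PSys.isLieType [Finite G] [IsSimpleGroup G] {U : Subgroup G} {E L R : I → Subgroup G} (D : PSys U E L R)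
    (h3 : 3 ≤ Nat.card I)
    (hconn : ∀ J : Set I, J.Nonempty → Jᶜ.Nonempty → ∃ i ∈ J, ∃ j ∈ Jᶜ, LieP U (E i) (E j)) :
    Cfsg.IsPSL G ∨ Cfsg.IsPSp G ∨ Cfsg.IsPSU G ∨ Cfsg.IsPOmegaOdd G ∨ Cfsg.IsPOmegaPlus G ∨ Cfsg.IsPOmegaMinus G ∨
      Cfsg.IsExceptionalLieType G := by
  have : Nonempty I := by
    by_contra h
    rw [not_nonempty_iff] at h
    rw [Nat.card_of_isEmpty] at h3
    omega
  obtain ⟨Q, -, hr, hirr⟩ := D.exists_bnPair
  exact Cfsg.Agent.S1143.result Q (by rw [hr]; exact h3) (hirr hconn)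

/-- The same from a system `Sys`. -/
theorem Sys.isLieType [Finite G] [IsSimpleGroup G] {p : ℕ} [Fact p.Prime] {B U H : Subgroup G} {P : I → Subgroup G}
    {m : I → I → ℕ} (S : Sys p B U H P m) (h3 : 3 ≤ Nat.card I)
    (hconn : ∀ J : Set I, J.Nonempty → Jᶜ.Nonempty → ∃ i ∈ J, ∃ j ∈ Jᶜ, 3 ≤ m i j) :
    Cfsg.IsPSL G ∨ Cfsg.IsPSp G ∨ Cfsg.IsPSU G ∨ Cfsg.IsPOmegaOdd G ∨ Cfsg.IsPOmegaPlus G ∨ Cfsg.IsPOmegaMinus G ∨
      Cfsg.IsExceptionalLieType G := by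
  obtain ⟨Q, -, hr, hirr⟩ := S.exists_bnPair
  exact Cfsg.Agent.S1143.result Q (by rw [hr]; exact h3) (hirr hconn)

end Cfsg.Agent.ParSys
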