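import Cfsg.Agent.ParSys.CentralComm

/-!
# The pair `E i`, `E j` inside `G`: reduction to `CExt`

`GExt U Ei Ej O ψ Q UF s t`: `ψ : Ei ⊔ Ej → F` is surjective, its kernel is `O` (a normal 2-subgroup) times a group of odd
order, central modulo `O`; `Ei`, `Ej` are generated by the conjugates of `U`.
-/

set_option autoImplicit false

namespace Cfsg.Agent.ParSys

open Subgroup
open Cfsg.Agent.LieExceptional.BNPairCore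

variable {G F : Type*} [Group G] [Group F]

/-- A pair whose residue is quasi-simple of Lie type of rank two modulo `O`. -/
structure GExt (U Ei Ej O : Subgroup G) (ψ : ↥(Ei ⊔ Ej) →* F) (Q : Cfsg.BNPair F) (UF : Subgroup F) (s t : F) :
    Prop where
  K : KPair 2 Q UF s t
  T : KTor Q UF s t
  surj : Function.Surjective ψ
  Ui : U ≤ Ei
  Uj : U ≤ Ej
  isP : IsPGroup 2 U
  O_le : O ≤ U
  O_norm : Ei ⊔ Ej ≤ normalizer (O : Set G)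
  O_ker : ∀ x : ↥(Ei ⊔ Ej), (x : G) ∈ O → ψ x = 1
  central : ∀ z : ↥(Ei ⊔ Ej), ψ z = 1 → ∀ x : ↥(Ei ⊔ Ej), (z : G) * x * (z : G)⁻¹ * (x : G)⁻¹ ∈ O
  cop : ∀ z : ↥(Ei ⊔ Ej), ψ z = 1 → ∃ k : ℕ, Nat.Coprime 2 k ∧ (z : G) ^ k ∈ O
  img : ∀ e, e ∈ UF ↔ ∃ u : ↥(Ei ⊔ Ej), (u : G) ∈ U ∧ ψ u = e
  geni : ∀ N : Subgroup G, (∀ e ∈ Ei, ∀ u ∈ U, e * u * e⁻¹ ∈ N) → Ei ≤ N
  genj : ∀ N : Subgroup G, (∀ e ∈ Ej, ∀ u ∈ U, e * u * e⁻¹ ∈ N) → Ej ≤ N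
  imi : ∀ x : ↥(Ei ⊔ Ej), (x : G) ∈ Ei → ψ x ∈ Q.parabolic {s}
  imj : ∀ x : ↥(Ei ⊔ Ej), (x : G) ∈ Ej → ψ x ∈ Q.parabolic {t}
  noti : ∃ x : ↥(Ei ⊔ Ej), (x : G) ∈ Ei ∧ ψ x ∉ Q.B
  notj : ∃ x : ↥(Ei ⊔ Ej), (x : G) ∈ Ej ∧ ψ x ∉ Q.B

namespace GExt

variable {U Ei Ej O : Subgroup G} {ψ : ↥(Ei ⊔ Ej) →* F} {Q : Cfsg.BNPair F} {UF : Subgroup F} {s t : F}
  (D : GExt U Ei Ej O ψ Q UF s t)

include D

theorem O_normal : (O.subgroupOf (Ei ⊔ Ej)).Normal := Subgroup.normal_subgroupOf_of_le_normalizer D.O_norm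

omit D in
theorem mem_map_iff {A M0 O : Subgroup G} [hO : (O.subgroupOf M0).Normal] (hA : O ≤ A) (x : M0) :
    QuotientGroup.mk' (O.subgroupOf M0) x ∈ (A.subgroupOf M0).map (QuotientGroup.mk' (O.subgroupOf M0)) ↔
      (x : G) ∈ A := by
  constructor
  · rintro ⟨y, hy, h⟩
    have h1 : (y : M0 ⧸ O.subgroupOf M0) = x := h
    rw [QuotientGroup.eq, Subgroup.mem_subgroupOf] at h1
    have hy : (y : G) ∈ A := hy
    have h2 := mul_mem hy (hA h1)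
    have e : (y : G) * ((y⁻¹ * x : M0) : G) = x := by push_cast; group
    rwa [e] at h2
  · intro hx
    exact ⟨x, hx, rfl⟩

/-- the reduction modulo `O` -/
theorem cext [hO : (O.subgroupOf (Ei ⊔ Ej)).Normal] :
    CExt (QuotientGroup.lift (O.subgroupOf (Ei ⊔ Ej)) ψ (fun x hx => D.O_ker x hx))
      ((U.subgroupOf (Ei ⊔ Ej)).map (QuotientGroup.mk' (O.subgroupOf (Ei ⊔ Ej))))
      ((Ei.subgroupOf (Ei ⊔ Ej)).map (QuotientGroup.mk' (O.subgroupOf (Ei ⊔ Ej))))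
      ((Ej.subgroupOf (Ei ⊔ Ej)).map (QuotientGroup.mk' (O.subgroupOf (Ei ⊔ Ej)))) Q UF s t where
  K := D.K
  surj := by
    intro e
    obtain ⟨x, rfl⟩ := D.surj e
    exact ⟨(x : ↥(Ei ⊔ Ej) ⧸ O.subgroupOf (Ei ⊔ Ej)), rfl⟩
  top := by
    rw [← Subgroup.map_sup, ← Subgroup.subgroupOf_sup le_sup_left le_sup_right, Subgroup.subgroupOf_self,
      ← MonoidHom.range_eq_map, MonoidHom.range_eq_top]
    exact QuotientGroup.mk'_surjective _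
  Us := Subgroup.map_mono fun _ hx => D.Ui hx
  Ut := Subgroup.map_mono fun _ hx => D.Uj hx
  isP := by
    have h1 : IsPGroup 2 (U.subgroupOf (Ei ⊔ Ej)) := by
      rintro ⟨x, hx⟩
      obtain ⟨k, hk⟩ := D.isP ⟨x, hx⟩
      refine ⟨k, ?_⟩
      have h2 : (x : G) ^ 2 ^ k = 1 := by simpa using congrArg Subtype.val hk
      apply Subtype.ext
      apply Subtype.ext
      simpa using h2
    exact h1.map _
  central := by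
    intro z hz x
    obtain ⟨z, rfl⟩ := QuotientGroup.mk'_surjective _ z
    obtain ⟨x, rfl⟩ := QuotientGroup.mk'_surjective _ x
    have hz' : ψ z = 1 := hz
    have h1 := D.central z hz' x
    rw [← map_mul, ← map_mul]
    show ((z * x : ↥(Ei ⊔ Ej)) : ↥(Ei ⊔ Ej) ⧸ O.subgroupOf (Ei ⊔ Ej)) = (x * z : ↥(Ei ⊔ Ej))
    rw [QuotientGroup.eq, Subgroup.mem_subgroupOf]
    have h2 := conj_mem_of_normalizer' (D.O_norm (z * x).2) h1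
    have e : ((z * x : ↥(Ei ⊔ Ej)) : G)⁻¹ * ((z : G) * x * (z : G)⁻¹ * (x : G)⁻¹) * ((z * x : ↥(Ei ⊔ Ej)) : G) =
        (((z * x)⁻¹ * (x * z) : ↥(Ei ⊔ Ej)) : G)⁻¹ := by push_cast; group
    rw [e] at h2
    simpa using inv_mem h2
  cop := by
    intro z hz
    obtain ⟨z, rfl⟩ := QuotientGroup.mk'_surjective _ z
    obtain ⟨k, hk, h1⟩ := D.cop z hz
    refine ⟨k, hk, ?_⟩
    rw [← map_pow, QuotientGroup.mk'_apply, QuotientGroup.eq_one_iff, Subgroup.mem_subgroupOf]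
    simpa using h1
  img := by
    intro e
    rw [D.img]
    constructor
    · rintro ⟨u, hu, rfl⟩
      exact ⟨_, ⟨u, hu, rfl⟩, rfl⟩
    · rintro ⟨_, ⟨u, hu, rfl⟩, rfl⟩
      exact ⟨u, hu, rfl⟩
  gens := by
    intro N hN
    rintro _ ⟨x, hx, rfl⟩
    have h1 : Ei ≤ (N.comap (QuotientGroup.mk' (O.subgroupOf (Ei ⊔ Ej)))).map (Ei ⊔ Ej).subtype := by
      apply D.geni
      intro e he u hu
      refine ⟨⟨e * u * e⁻¹, mul_mem (mul_mem ((le_sup_left : Ei ≤ _) he) ((le_sup_left : Ei ≤ _) (D.Ui hu)))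
        (inv_mem ((le_sup_left : Ei ≤ _) he))⟩, ?_, rfl⟩
      have h2 := hN _ ⟨⟨e, (le_sup_left : Ei ≤ Ei ⊔ Ej) he⟩, he, rfl⟩ _
        ⟨⟨u, (le_sup_left : Ei ≤ Ei ⊔ Ej) (D.Ui hu)⟩, hu, rfl⟩
      exact h2
    obtain ⟨y, hy, h2⟩ := h1 hx
    have h3 : y = x := Subtype.ext h2
    subst h3
    exact hy
  gent := by
    intro N hN
    rintro _ ⟨x, hx, rfl⟩
    have h1 : Ej ≤ (N.comap (QuotientGroup.mk' (O.subgroupOf (Ei ⊔ Ej)))).map (Ei ⊔ Ej).subtype := by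
      apply D.genj
      intro e he u hu
      refine ⟨⟨e * u * e⁻¹, mul_mem (mul_mem ((le_sup_right : Ej ≤ _) he) ((le_sup_right : Ej ≤ _) (D.Uj hu)))
        (inv_mem ((le_sup_right : Ej ≤ _) he))⟩, ?_, rfl⟩
      have h2 := hN _ ⟨⟨e, (le_sup_right : Ej ≤ Ei ⊔ Ej) he⟩, he, rfl⟩ _
        ⟨⟨u, (le_sup_right : Ej ≤ Ei ⊔ Ej) (D.Uj hu)⟩, hu, rfl⟩
      exact h2
    obtain ⟨y, hy, h2⟩ := h1 hx
    have h3 : y = x := Subtype.ext h2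
    subst h3
    exact hy
  ims := by
    rintro _ ⟨x, hx, rfl⟩
    exact D.imi x hx
  imt := by
    rintro _ ⟨x, hx, rfl⟩
    exact D.imj x hx
  nots := by
    obtain ⟨x, hx, h⟩ := D.noti
    exact ⟨_, ⟨x, hx, rfl⟩, h⟩
  nott := by
    obtain ⟨x, hx, h⟩ := D.notj
    exact ⟨_, ⟨x, hx, rfl⟩, h⟩

/-- `N(U) ∩ (Ei ⊔ Ej) = ψ⁻¹(Q.B)` -/
theorem mem_iff (x : ↥(Ei ⊔ Ej)) : (x : G) ∈ normalizer (U : Set G) ↔ ψ x ∈ Q.B := by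
  have hO := D.O_normal
  have hUs : U ≤ Ei ⊔ Ej := D.Ui.trans le_sup_left
  have key : ∀ y : ↥(Ei ⊔ Ej), ψ y ∈ Q.B → ∀ u ∈ U, (y : G) * u * (y : G)⁻¹ ∈ U := by
    intro y hy u hu
    have h1 := D.cext.conj_mem_U (x := QuotientGroup.mk' _ y) hy ⟨⟨u, hUs hu⟩, hu, rfl⟩
    rw [← map_mul, ← map_inv, ← map_mul, mem_map_iff D.O_le] at h1
    exact h1
  constructor
  · intro hx
    have h1 : QuotientGroup.mk' (O.subgroupOf (Ei ⊔ Ej)) x ∈ normalizer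
        (((U.subgroupOf (Ei ⊔ Ej)).map (QuotientGroup.mk' (O.subgroupOf (Ei ⊔ Ej))) :
          Subgroup (↥(Ei ⊔ Ej) ⧸ O.subgroupOf (Ei ⊔ Ej))) : Set (↥(Ei ⊔ Ej) ⧸ O.subgroupOf (Ei ⊔ Ej))) := by
      rw [Subgroup.mem_normalizer_iff]
      intro y
      obtain ⟨y, rfl⟩ := QuotientGroup.mk'_surjective _ y
      rw [← map_mul, ← map_inv, ← map_mul, mem_map_iff D.O_le, mem_map_iff D.O_le]
      exact Subgroup.mem_normalizer_iff.mp hx y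
    exact D.cext.mem_iff.1 h1
  · intro hx
    rw [Subgroup.mem_normalizer_iff]
    intro u
    refine ⟨fun hu => key x hx u hu, fun hu => ?_⟩
    have h1 : ψ x⁻¹ ∈ Q.B := by rw [map_inv]; exact inv_mem hx
    have := key x⁻¹ h1 _ hu
    have e : ((x⁻¹ : ↥(Ei ⊔ Ej)) : G) * ((x : G) * u * (x : G)⁻¹) * ((x⁻¹ : ↥(Ei ⊔ Ej)) : G)⁻¹ = u := by
      push_cast; group
    rwa [e] at this

/-- `N(U) ∩ (Ei ⊔ Ej)` normalises `Ei` -/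
theorem norm_i {x : G} (hx : x ∈ Ei ⊔ Ej) (hU : x ∈ normalizer (U : Set G)) : x ∈ normalizer (Ei : Set G) := by
  have hO := D.O_normal
  have hOi : O ≤ Ei := D.O_le.trans D.Ui
  have key : ∀ y : ↥(Ei ⊔ Ej), ψ y ∈ Q.B → ∀ u ∈ Ei, (y : G) * u * (y : G)⁻¹ ∈ Ei := by
    intro y hy u hu
    have h1 := D.cext.conj_Es (x := QuotientGroup.mk' _ y) hy ⟨⟨u, (le_sup_left : Ei ≤ Ei ⊔ Ej) hu⟩, hu, rfl⟩
    rw [← map_mul, ← map_inv, ← map_mul, mem_map_iff hOi] at h1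
    exact h1
  have h0 := (D.mem_iff ⟨x, hx⟩).1 hU
  rw [Subgroup.mem_normalizer_iff]
  intro u
  refine ⟨fun hu => key ⟨x, hx⟩ h0 u hu, fun hu => ?_⟩
  have h1 : ψ (⟨x, hx⟩ : ↥(Ei ⊔ Ej))⁻¹ ∈ Q.B := by rw [map_inv]; exact inv_mem h0
  have := key _ h1 _ hu
  have e : (((⟨x, hx⟩ : ↥(Ei ⊔ Ej))⁻¹ : ↥(Ei ⊔ Ej)) : G) * (x * u * x⁻¹) *
      (((⟨x, hx⟩ : ↥(Ei ⊔ Ej))⁻¹ : ↥(Ei ⊔ Ej)) : G)⁻¹ = u := by push_cast; group
  rwa [e] at this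

/-- `N(U) ∩ (Ei ⊔ Ej)` normalises `Ej` -/
theorem norm_j {x : G} (hx : x ∈ Ei ⊔ Ej) (hU : x ∈ normalizer (U : Set G)) : x ∈ normalizer (Ej : Set G) := by
  have hO := D.O_normal
  have hOj : O ≤ Ej := D.O_le.trans D.Uj
  have key : ∀ y : ↥(Ei ⊔ Ej), ψ y ∈ Q.B → ∀ u ∈ Ej, (y : G) * u * (y : G)⁻¹ ∈ Ej := by
    intro y hy u hu
    have h1 := D.cext.symm.conj_Es (x := QuotientGroup.mk' _ y) hy ⟨⟨u, (le_sup_right : Ej ≤ Ei ⊔ Ej) hu⟩, hu, rfl⟩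
    rw [← map_mul, ← map_inv, ← map_mul, mem_map_iff hOj] at h1
    exact h1
  have h0 := (D.mem_iff ⟨x, hx⟩).1 hU
  rw [Subgroup.mem_normalizer_iff]
  intro u
  refine ⟨fun hu => key ⟨x, hx⟩ h0 u hu, fun hu => ?_⟩
  have h1 : ψ (⟨x, hx⟩ : ↥(Ei ⊔ Ej))⁻¹ ∈ Q.B := by rw [map_inv]; exact inv_mem h0
  have := key _ h1 _ hu
  have e : (((⟨x, hx⟩ : ↥(Ei ⊔ Ej))⁻¹ : ↥(Ei ⊔ Ej)) : G) * (x * u * x⁻¹) *
      (((⟨x, hx⟩ : ↥(Ei ⊔ Ej))⁻¹ : ↥(Ei ⊔ Ej)) : G)⁻¹ = u := by push_cast; group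
  rwa [e] at this

/-- **generation**: `N(U) ∩ (Ei ⊔ Ej) ≤ ⟨N_{Ei}(U), N_{Ej}(U)⟩` -/
theorem gen [Finite F] : (Ei ⊔ Ej) ⊓ normalizer (U : Set G) ≤ Tn U Ei ⊔ Tn U Ej := by
  have hO := D.O_normal
  rintro x ⟨hx, hU⟩
  have h0 := (D.mem_iff ⟨x, hx⟩).1 hU
  have h1 := D.cext.gen (x := QuotientGroup.mk' _ ⟨x, hx⟩) h0
  have hOT : O ≤ Tn U Ei ⊔ Tn U Ej := fun y hy =>
    (le_sup_left : Tn U Ei ≤ _) ⟨D.Ui (D.O_le hy), Subgroup.le_normalizer (D.O_le hy)⟩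
  have h2 : B2 (QuotientGroup.lift (O.subgroupOf (Ei ⊔ Ej)) ψ (fun x hx => D.O_ker x hx))
      ((Ei.subgroupOf (Ei ⊔ Ej)).map (QuotientGroup.mk' (O.subgroupOf (Ei ⊔ Ej))))
      ((Ej.subgroupOf (Ei ⊔ Ej)).map (QuotientGroup.mk' (O.subgroupOf (Ei ⊔ Ej)))) Q ≤
      ((Tn U Ei ⊔ Tn U Ej).subgroupOf (Ei ⊔ Ej)).map (QuotientGroup.mk' (O.subgroupOf (Ei ⊔ Ej))) := by
    unfold B2
    apply sup_le
    · rintro _ ⟨⟨y, hy, rfl⟩, hyB⟩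
      refine ⟨y, (le_sup_left : Tn U Ei ≤ _) ⟨hy, (D.mem_iff y).2 hyB⟩, rfl⟩
    · rintro _ ⟨⟨y, hy, rfl⟩, hyB⟩
      refine ⟨y, (le_sup_right : Tn U Ej ≤ _) ⟨hy, (D.mem_iff y).2 hyB⟩, rfl⟩
  have h3 := h2 h1
  rw [mem_map_iff hOT] at h3
  exact h3

/-- **commutativity** of the torus -/
theorem comm [Finite F] {x y : G} (hx : x ∈ Ei ⊔ Ej) (hxU : x ∈ normalizer (U : Set G)) (hy : y ∈ Ei ⊔ Ej)
    (hyU : y ∈ normalizer (U : Set G)) : x * y * x⁻¹ * y⁻¹ ∈ U := by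
  have hO := D.O_normal
  have h0 := (D.mem_iff ⟨x, hx⟩).1 hxU
  have h0' := (D.mem_iff ⟨y, hy⟩).1 hyU
  have h1 := D.cext.comm D.T (x := QuotientGroup.mk' _ ⟨x, hx⟩) (y := QuotientGroup.mk' _ ⟨y, hy⟩) h0 h0'
  rw [← map_mul, ← map_inv, ← map_mul, ← map_inv, ← map_mul, mem_map_iff D.O_le] at h1
  exact h1

/-- `N(U) / U` has odd order -/
theorem odd {x : G} (hx : x ∈ Ei ⊔ Ej) (hxU : x ∈ normalizer (U : Set G)) :
    ∃ k : ℕ, Nat.Coprime 2 k ∧ x ^ k ∈ U := by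
  have h0 := (D.mem_iff ⟨x, hx⟩).1 hxU
  -- a power of `ψ x` lies in `UF`
  obtain ⟨v, hv, τ, hτ, h1⟩ := D.K.split.cover' h0
  obtain ⟨m, hm, h2⟩ := D.K.split.tor
  have h3 : ∀ k : ℕ, (v * τ) ^ k * (τ ^ k)⁻¹ ∈ UF := by
    intro k
    induction k with
    | zero => simp
    | succ k ih =>
      have h1 := D.K.split.norm _ (pow_mem (mem_inf.1 hτ).1 k) v hv
      have e : (v * τ) ^ (k + 1) * (τ ^ (k + 1))⁻¹ =
          (v * τ) ^ k * (τ ^ k)⁻¹ * (τ ^ k * v * (τ ^ k)⁻¹) := by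
        rw [pow_succ, pow_succ]; group
      rw [e]
      exact mul_mem ih h1
  have h4 : ψ ((⟨x, hx⟩ : ↥(Ei ⊔ Ej)) ^ m) ∈ UF := by
    rw [map_pow, h1]
    have := h3 m
    rwa [h2 τ (mem_inf.1 hτ).1 (mem_inf.1 hτ).2, inv_one, mul_one] at this
  obtain ⟨u, hu, h5⟩ := (D.img _).1 h4
  have h6 : ψ (u⁻¹ * (⟨x, hx⟩ : ↥(Ei ⊔ Ej)) ^ m) = 1 := by rw [map_mul, map_inv, h5, inv_mul_cancel]
  set z := u⁻¹ * (⟨x, hx⟩ : ↥(Ei ⊔ Ej)) ^ m with hz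
  obtain ⟨k, hk, h7⟩ := D.cop z h6
  refine ⟨m * k, Nat.Coprime.mul_right ((Nat.Prime.coprime_iff_not_dvd Nat.prime_two).2 hm) hk, ?_⟩
  have h8 : x ^ m = u * z := by
    have : ((⟨x, hx⟩ : ↥(Ei ⊔ Ej)) ^ m) = u * z := by rw [hz]; group
    have := congrArg Subtype.val this
    simpa using this
  -- `(u z) ^ k ∈ U z ^ k`, as `z` normalises `U`
  have hzN : (z : G) ∈ normalizer (U : Set G) := (D.mem_iff z).2 (by rw [h6]; exact one_mem _)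
  have h9 : ∀ k : ℕ, ((u : G) * z) ^ k * ((z : G) ^ k)⁻¹ ∈ U := by
    intro k
    induction k with
    | zero => simp
    | succ k ih =>
      have h1 := conj_mem_of_normalizer (pow_mem hzN k) hu
      have e : ((u : G) * z) ^ (k + 1) * ((z : G) ^ (k + 1))⁻¹ =
          ((u : G) * z) ^ k * ((z : G) ^ k)⁻¹ * ((z : G) ^ k * u * ((z : G) ^ k)⁻¹) := by
        rw [pow_succ, pow_succ]; group
      rw [e]
      exact mul_mem ih h1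
  rw [pow_mul, h8]
  have := mul_mem (h9 k) (D.O_le h7)
  rwa [inv_mul_cancel_right] at this

end GExt

end Cfsg.Agent.ParSys
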