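import Cfsg.Agent.ParSys.LinkPair

/-!
# The facts about the simple groups of Lie type of rank two which THEOREM PAR uses

`KPair p F Q UE s t`: the group `F` has a split (B,N)-pair `Q` of characteristic `p` and rank two with generators `s`, `t`,
such that

* `irr` : `s`, `t` do not commute modulo `B` (the Weyl group is dihedral of order `2 m`, `m ≥ 3`);
* `one` (F1): the unipotent group is generated by its two fundamental root groups;
* `gen` (T1): the Borel subgroup is generated by the Borel subgroups of the two rank one groups `⟨UE, UE^s⟩`, `⟨UE, UE^t⟩`;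
* `fpfs`, `fpft` (T3): an element of the torus is fixed-point-free on `UE / V_s`, one on `UE / V_t` (`FpfE`);
* `comm`: the torus is abelian.

`SepE Q UE s t` (T2, `LinkPair.lean`): an element of the torus centralises `UE / V_s` and is fixed-point-free on
`UE / V_t`.  True for one of the two orders in every simple group of Lie type of rank two of characteristic two, except `L₃(4)`
(and the groups over `F₂`).
-/

set_option autoImplicit false

namespace Cfsg.Agent.ParSys

open Subgroup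

variable {F : Type*} [Group F]

/-- the rank one group `⟨UE, UE^s⟩` -/
def Rone (UE : Subgroup F) (s : F) : Subgroup F := UE ⊔ UE.map (MulAut.conj s).toMonoidHom

/-- **The facts about a group of Lie type of rank two.** -/
structure KPair (p : ℕ) (Q : Cfsg.BNPair F) (UE : Subgroup F) (s t : F) : Prop where
  split : FixBN.Split Q p UE
  S : Q.S = {s, t}
  ne : s ≠ t
  irr : s * t * s⁻¹ * t⁻¹ ∉ Q.B
  /-- (F1) -/
  one : FOne Q UE s t
  /-- (T1) -/
  gen : Q.B ≤ (Rone UE s ⊓ Q.B) ⊔ (Rone UE t ⊓ Q.B)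
  /-- (T3) -/
  fpfs : FpfE Q UE s
  fpft : FpfE Q UE t
  comm : ∀ x ∈ Q.B, ∀ y ∈ Q.B, x * y * x⁻¹ * y⁻¹ ∈ UE

/-- The torus of the rank one groups: cyclic modulo `UE`, and inverted by `s` (or by `t`) at one of the two nodes.
(At a node of type `L₂(q)` or `Sz(q)` the torus is inverted, at a node of type `U₃(q)` it is not.)  With `KPair` this gives
the same facts for the perfect central `p'`-extensions of `F` (`Central.lean`). -/
structure KTor (Q : Cfsg.BNPair F) (UE : Subgroup F) (s t : F) : Prop where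
  cycs : ∃ c ∈ Rone UE s, c ∈ Q.B ∧ ∀ x ∈ Rone UE s, x ∈ Q.B → ∃ k : ℤ, x * c ^ k ∈ UE
  cyct : ∃ c ∈ Rone UE t, c ∈ Q.B ∧ ∀ x ∈ Rone UE t, x ∈ Q.B → ∃ k : ℤ, x * c ^ k ∈ UE
  inv : (∀ x ∈ Rone UE s, x ∈ Q.B → x ∈ Q.N → s * x * s⁻¹ * x = 1) ∨
    (∀ x ∈ Rone UE t, x ∈ Q.B → x ∈ Q.N → t * x * t⁻¹ * x = 1)

/-- (T4): an element of the torus of the rank one group at `t` is fixed-point-free on `UE / V_s`.  True for both orders in
all families, except one order in `G₂(4)`. -/
def FpfR (Q : Cfsg.BNPair F) (UE : Subgroup F) (s t : F) : Prop :=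
  ∃ h ∈ Rone UE t, h ∈ Q.B ⊓ Q.N ∧ ∀ u ∈ UE, s⁻¹ * (h * u * h⁻¹ * u⁻¹) * s ∈ Q.B → s⁻¹ * u * s ∈ Q.B

/-- What is to be proved for the simple groups `L₃(q)`, `Sp₄(q)`, `U₄(q)`, `U₅(q)`, `G₂(q)`, `³D₄(q)`, `q ≥ 4` even, and
`²F₄(q)`, `q ≥ 8`. -/
def HasKPair (p : ℕ) (F : Type*) [Group F] : Prop :=
  ∃ (Q : Cfsg.BNPair F) (UE : Subgroup F) (s t : F), KPair p Q UE s t ∧ KTor Q UE s t

/-- The same with (T2). -/
def HasKPairSep (p : ℕ) (F : Type*) [Group F] : Prop :=
  ∃ (Q : Cfsg.BNPair F) (UE : Subgroup F) (s t : F), KPair p Q UE s t ∧ KTor Q UE s t ∧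
    (SepE Q UE s t ∨ SepE Q UE t s)

end Cfsg.Agent.ParSys
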