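import Cfsg.Agent.ParSys.TBase
import Cfsg.Agent.ParSys.Par

/-!
# The kernel of the action of a residue is central of odd order modulo a 2-group

`M` is a finite group, `ρ : M → S` surjective, `U` a 2-subgroup of `M` whose conjugates generate `M`, `ρ(U)` a Sylow 2-subgroup
of `S`, `D = U ∩ Ker ρ` normal in `M`, `X ≤ M` with `U ≤ X D`, `[Ker ρ, X] ≤ D`, `t` an element of odd order which normalises `U`, with
`C_{ρ(U)}(ρ(t)) = 1`.  Then `Ker ρ / D` is central in `M / D` and of odd order (`ker_central`, `ker_odd`); the same for the preimage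
of a central subgroup of odd order of `S` (`pre_central`).
-/

set_option autoImplicit false

namespace Cfsg.Agent.ParSys.KerOdd

open Subgroup Cfsg.Agent.ParSys

variable {M S : Type*} [Group M] [Group S]

/-- the hypotheses -/
structure Hyp (ρ : M →* S) (U D X : Subgroup M) (t : M) : Prop where
  surj : Function.Surjective ρ
  isP : IsPGroup 2 U
  idx : ¬ 2 ∣ (U.map ρ).index
  nD : D.Normal
  memD : ∀ d, d ∈ D ↔ d ∈ U ∧ ρ d = 1
  gen : ∀ N : Subgroup M, N.Normal → U ≤ N → N = ⊤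
  UX : ∀ u ∈ U, ∃ x ∈ X, x⁻¹ * u ∈ D
  X : ∀ z, ρ z = 1 → ∀ x ∈ X, z * x * z⁻¹ * x⁻¹ ∈ D
  odd : Nat.Coprime 2 (orderOf t)
  tU : ∀ u ∈ U, t * u * t⁻¹ ∈ U
  fpf : ∀ u ∈ U, ρ (t * u * t⁻¹) = ρ u → ρ u = 1

namespace Hyp

variable {ρ : M →* S} {U D X : Subgroup M} {t : M} (h : Hyp ρ U D X t)

include h

theorem D_le : D ≤ U := fun _ hd => ((h.memD _).1 hd).1

/-- elements commuting with the kernel modulo `D` -/
theorem ker_central {z : M} (hz : ρ z = 1) (x : M) : z * x * z⁻¹ * x⁻¹ ∈ D := by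
  have hD := h.nD
  -- the centraliser of the kernel modulo `D`
  let N : Subgroup M :=
    { carrier := {x | ∀ z, ρ z = 1 → z * x * z⁻¹ * x⁻¹ ∈ D}
      mul_mem' := by
        intro x y hx hy z hz
        have h1 := hx z hz
        have h2 := hD.conj_mem _ (hy z hz) x
        have := mul_mem h1 h2
        have e : z * x * z⁻¹ * x⁻¹ * (x * (z * y * z⁻¹ * y⁻¹) * x⁻¹) = z * (x * y) * z⁻¹ * (x * y)⁻¹ := by group
        rwa [e] at this
      one_mem' := by
        intro z _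
        have e : z * 1 * z⁻¹ * 1⁻¹ = 1 := by group
        rw [e]; exact one_mem _
      inv_mem' := by
        intro x hx z hz
        have h1 := hD.conj_mem _ (inv_mem (hx z hz)) x⁻¹
        have e : x⁻¹ * (z * x * z⁻¹ * x⁻¹)⁻¹ * x⁻¹⁻¹ = z * x⁻¹ * z⁻¹ * x⁻¹⁻¹ := by group
        rwa [e] at h1 }
  have hN : N.Normal := by
    constructor
    intro x hx g z hz
    have hz' : ρ (g⁻¹ * z * g) = 1 := by simp [hz]
    have h1 := hD.conj_mem _ (hx _ hz') g
    have e : g * (g⁻¹ * z * g * x * (g⁻¹ * z * g)⁻¹ * x⁻¹) * g⁻¹ = z * (g * x * g⁻¹) * z⁻¹ * (g * x * g⁻¹)⁻¹ := by group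
    rwa [e] at h1
  have hXN : X ≤ N := fun x hx z hz => h.X z hz x hx
  have hDN : D ≤ N := by
    intro d hd z _
    exact mul_mem (hD.conj_mem _ hd z) (inv_mem hd)
  have hUN : U ≤ N := by
    intro u hu
    obtain ⟨x, hx, h1⟩ := h.UX u hu
    have := mul_mem (hXN hx) (hDN h1)
    rwa [mul_inv_cancel_left] at this
  have := h.gen N hN hUN
  have h1 : x ∈ N := this ▸ Subgroup.mem_top x
  exact h1 z hz

/-- the commutators with `t` cover `U / D` -/
theorem exists_comm [Finite M] {u : M} (hu : u ∈ U) : ∃ v ∈ U, (t * v * t⁻¹ * v⁻¹)⁻¹ * u ∈ D := by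
  have hD := h.nD
  exact cover_comm (Q := D) (T := U) le_rfl h.tU (fun q hq _ => hD.conj_mem _ hq t) (fun v _ q hq => hD.conj_mem _ hq v)
    (fun u hu h1 => (h.memD u).2 ⟨hu, h.fpf u hu (by
      have h2 := ((h.memD _).1 h1).2
      rw [map_mul, map_inv, mul_inv_eq_one] at h2
      exact h2)⟩) (fun u hu => ⟨u, hu, by rw [inv_mul_cancel]; exact one_mem _⟩) u hu

/-- **the kernel is of odd order modulo `D`** -/
theorem ker_odd [Finite M] {z : M} (hz : ρ z = 1) : ∃ k : ℕ, Nat.Coprime 2 k ∧ z ^ k ∈ D := by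
  have : Fact (Nat.Prime 2) := ⟨Nat.prime_two⟩
  have hD := h.nD
  obtain ⟨R, hR⟩ := h.isP.exists_le_sylow
  have : Finite S := Finite.of_surjective ρ h.surj
  -- `ρ(R) = ρ(U)`
  have hRU : ∀ x ∈ (R : Subgroup M), ∃ u ∈ U, ρ u = ρ x := by
    intro x hx
    have h1 : (R : Subgroup M).map ρ = U.map ρ := by
      symm
      apply Subgroup.eq_of_le_of_card_ge (Subgroup.map_mono hR)
      have h2 : IsPGroup 2 ((R : Subgroup M).map ρ) := R.isPGroup'.map ρ
      obtain ⟨T, hT⟩ := h2.exists_le_sylow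
      have h3 : Nat.card ((R : Subgroup M).map ρ) ≤ Nat.card (T : Subgroup S) := Subgroup.card_le_of_le hT
      refine h3.trans (le_of_eq ?_)
      have h4 : IsPGroup 2 (U.map ρ) := h.isP.map ρ
      have h5 : ((h4.toSylow h.idx : Sylow 2 S) : Subgroup S) = U.map ρ := rfl
      rw [← h5]
      exact Nat.card_congr (T.equiv (h4.toSylow h.idx)).toEquiv
    have h2 : ρ x ∈ U.map ρ := h1 ▸ ⟨x, hx, rfl⟩
    obtain ⟨u, hu, h3⟩ := h2
    exact ⟨u, hu, h3⟩
  -- the elements of odd order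
  set C : Set M := {c | Nat.Coprime 2 (orderOf c)} with hC
  have hconj : ∀ c ∈ C, ∀ g : M, g * c * g⁻¹ ∈ C := by
    intro c hc g
    have e : orderOf (g * c * g⁻¹) = orderOf c := by
      have := orderOf_injective (MulAut.conj g).toMonoidHom (MulAut.conj g).injective c
      exact this
    show Nat.Coprime 2 _
    rw [e]; exact hc
  have hCn : (closure C).Normal := by
    constructor
    intro n hn g
    have h1 : closure C ≤ (closure C).comap (MulAut.conj g).toMonoidHom := by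
      rw [closure_le]
      intro c hc
      exact subset_closure (hconj c hc g)
    exact h1 hn
  have hDC : (closure C ⊔ D).Normal := Subgroup.sup_normal _ _
  have htC : t ∈ closure C := subset_closure h.odd
  have hUC : U ≤ closure C ⊔ D := by
    intro u hu
    obtain ⟨v, hv, h1⟩ := h.exists_comm hu
    have h2 : t * v * t⁻¹ * v⁻¹ ∈ closure C := by
      have h3 := hCn.conj_mem _ (inv_mem htC) v
      have e : t * v * t⁻¹ * v⁻¹ = t * (v * t⁻¹ * v⁻¹) := by group
      rw [e]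
      exact mul_mem htC h3
    have := mul_mem (Subgroup.mem_sup_left h2 : _ ∈ closure C ⊔ D) (Subgroup.mem_sup_right h1)
    rwa [mul_inv_cancel_left] at this
  have htop : closure C ⊔ D = ⊤ := h.gen _ hDC hUC
  have hkey : ρ.ker ⊓ (R : Subgroup M) ≤ D := by
    refine TBase.core (R := (R : Subgroup M)) (T := U) (K := ρ.ker) (D := D) (C := C) (p := 2) (fun c hc => hc) hCn
      R.isPGroup' R.not_dvd_index hR (fun d hd => ((h.memD d).1 hd).2) ?_ ?_ ?_ ?_ ?_
    · intro k hk _ x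
      have h1 := inv_mem (h.ker_central hk x)
      have e : (k * x * k⁻¹ * x⁻¹)⁻¹ = x * k * x⁻¹ * k⁻¹ := by group
      rwa [e] at h1
    · intro x hx
      obtain ⟨u, hu, h1⟩ := hRU x hx
      refine ⟨u, hu, u⁻¹ * x, ?_, by group⟩
      rw [MonoidHom.mem_ker, map_mul, map_inv, h1, inv_mul_cancel]
    · intro u hu hk
      exact (h.memD u).2 ⟨hu, hk⟩
    · rw [eq_top_iff, ← htop]
      exact sup_le_sup_right le_sup_left _
    · intro u hu _
      rw [htop]; exact Subgroup.mem_top u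
  -- the 2-part of `z`
  obtain ⟨a, k, hk, hzk⟩ := Nat.exists_eq_pow_mul_and_not_dvd (orderOf_pos z).ne' 2 (by norm_num)
  refine ⟨k, (Nat.Prime.coprime_iff_not_dvd Nat.prime_two).2 hk, ?_⟩
  have hw : (z ^ k) ^ 2 ^ a = 1 := by
    rw [← pow_mul, mul_comm, ← hzk, pow_orderOf_eq_one]
  have hP : IsPGroup 2 (zpowers (z ^ k)) := by
    have h1 : orderOf (z ^ k) ∣ 2 ^ a := orderOf_dvd_of_pow_eq_one hw
    obtain ⟨b, -, hb⟩ := (Nat.dvd_prime_pow Nat.prime_two).1 h1
    exact IsPGroup.of_card (n := b) (by rw [Nat.card_zpowers, hb])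
  obtain ⟨T, hT⟩ := hP.exists_le_sylow
  obtain ⟨g, hg⟩ := MulAction.exists_smul_eq M T R
  have h1 : g * z ^ k * g⁻¹ ∈ (R : Subgroup M) := by
    rw [← hg, Sylow.coe_subgroup_smul, Subgroup.mem_pointwise_smul_iff_inv_smul_mem, ← map_inv, MulAut.smul_def,
      MulAut.conj_apply, inv_inv]
    have e : g⁻¹ * (g * z ^ k * g⁻¹) * g = z ^ k := by group
    rw [e]
    exact hT (mem_zpowers _)
  have h2 : g * z ^ k * g⁻¹ ∈ D := hkey ⟨by
    show ρ (g * z ^ k * g⁻¹) = 1
    rw [map_mul, map_mul, map_pow, hz, map_inv]; simp, h1⟩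
  have h3 := hD.conj_mem _ h2 g⁻¹
  have e : g⁻¹ * (g * z ^ k * g⁻¹) * g⁻¹⁻¹ = z ^ k := by group
  rwa [e] at h3

/-- **elements over the centre of `S` are central modulo `D`** -/
theorem pre_central [Finite M] {z : M} (hz : ∀ s : S, ρ z * s = s * ρ z) (x : M) : z * x * z⁻¹ * x⁻¹ ∈ D := by
  have hD := h.nD
  set c : M → M := fun x => z * x * z⁻¹ * x⁻¹ with hc
  have hck : ∀ x, ρ (c x) = 1 := by
    intro x
    simp only [hc, map_mul, map_inv]
    rw [hz (ρ x)]; group
  -- `c` is a homomorphism modulo `D`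
  have hmul : ∀ x y, (c x * c y)⁻¹ * c (x * y) ∈ D := by
    intro x y
    have h1 := h.ker_central (hck y) x
    have e : (c x * c y)⁻¹ * c (x * y) = (c y)⁻¹ * (c y * x * (c y)⁻¹ * x⁻¹)⁻¹ * (c y)⁻¹⁻¹ := by
      simp only [hc]; group
    rw [e]
    exact hD.conj_mem _ (inv_mem h1) _
  let π : M →* M ⧸ D := QuotientGroup.mk' D
  have hπ : ∀ x, π x = 1 ↔ x ∈ D := fun x => QuotientGroup.eq_one_iff x
  have hm : ∀ x y, π (c (x * y)) = π (c x) * π (c y) := by
    intro x y
    have h1 := (hπ _).2 (hmul x y)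
    rw [map_mul, map_inv, map_mul, inv_mul_eq_one] at h1
    exact h1.symm
  let f : M →* M ⧸ D := MonoidHom.mk' (fun x => π (c x)) hm
  have hf : ∀ x, f x = π (c x) := fun _ => rfl
  have hcc : ∀ x y, f x * f y = f y * f x := by
    intro x y
    have h1 := (hπ _).2 (h.ker_central (hck x) (c y))
    rw [map_mul, map_mul, map_mul, map_inv, map_inv, mul_inv_eq_one, mul_inv_eq_iff_eq_mul] at h1
    exact h1
  have hUf : U ≤ f.ker := by
    intro u hu
    rw [MonoidHom.mem_ker]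
    obtain ⟨a, ha⟩ := h.isP ⟨u, hu⟩
    have h1 : u ^ 2 ^ a = 1 := by simpa using congrArg Subtype.val ha
    obtain ⟨k, hk, h2⟩ := h.ker_odd (hck u)
    have h3 : (f u) ^ 2 ^ a = 1 := by rw [← map_pow, h1, map_one]
    have h4 : (f u) ^ k = 1 := by
      rw [hf, ← map_pow]
      exact (hπ _).2 h2
    have h5 := Hall.mem_of_pow_mem_of_coprime (K := (⊥ : Subgroup (M ⧸ D))) (x := f u) (a := 2 ^ a) (b := k)
      (by rw [h3]; exact one_mem _) (by rw [h4]; exact one_mem _) (hk.pow_left a)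
    exact Subgroup.mem_bot.1 h5
  have h6 : f.ker = ⊤ := h.gen _ inferInstance hUf
  have h7 : x ∈ f.ker := h6 ▸ Subgroup.mem_top x
  exact (hπ _).1 h7

end Hyp

end Cfsg.Agent.ParSys.KerOdd
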