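import Cfsg.Agent.ParSys.Par
import Cfsg.Agent.FixBN.Split

/-!
# Lie pairs: a residue of type `{i, j}` whose quotient is a group with a split (B,N)-pair of rank two

`LiePair`: `φ` is a homomorphism from the residue `P i ⊔ P j` onto `L` with kernel in `B`, `E` is (embedded as) a
subgroup of `L` with a split (B,N)-pair of characteristic 2 and rank two, `L = E φ(B)`, `φ(U)` is the unipotent subgroup.
-/

set_option autoImplicit false

namespace Cfsg.Agent.ParSys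

open Subgroup
open Cfsg.Agent.Schreier.BNSch (Node)
open Cfsg.Agent.LieExceptional.BNPairCore

variable {G : Type*} [Group G] {I : Type*} {L E : Type*} [Group L] [Group E]

/-- The residue of type `{i, j}` is a group of Lie type of rank two (split (B,N)-pair of characteristic `p`) extended by
torus elements and field automorphisms. -/
structure LiePair (p : ℕ) (B U : Subgroup G) (P : I → Subgroup G) (i j : I) (φ : ↥(P i ⊔ P j) →* L) (ε : E →* L)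
    (Q : Cfsg.BNPair E) (UE : Subgroup E) (s t : E) : Prop where
  le : ∀ a, B ≤ P a
  surj : Function.Surjective φ
  ker : ∀ x, φ x = 1 → (x : G) ∈ B
  inj : Function.Injective ε
  split : FixBN.Split Q p UE
  S : Q.S = {s, t}
  ne : s ≠ t
  U_le : U ≤ B
  /-- `φ(U) ≤ ε(U_E)` -/
  U_to : ∀ u : ↥(P i ⊔ P j), (u : G) ∈ U → ∃ e ∈ UE, φ u = ε e
  /-- `ε(U_E) ≤ φ(U)` -/
  U_of : ∀ e ∈ UE, ∃ u : ↥(P i ⊔ P j), (u : G) ∈ U ∧ φ u = ε e
  /-- the Borel subgroup of `E` is contained in `φ(B)` -/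
  B_of : ∀ e ∈ Q.B, ∃ b : ↥(P i ⊔ P j), (b : G) ∈ B ∧ φ b = ε e
  /-- `B` normalises `U` -/
  norm : ∀ b ∈ B, ∀ u ∈ U, b * u * b⁻¹ ∈ U
  /-- `L = E φ(B)` -/
  cov : ∀ y : L, ∃ e : E, ∃ b : ↥(P i ⊔ P j), (b : G) ∈ B ∧ y = ε e * φ b
  /-- `U` is transitive on the panels -/
  ptr : ∀ a, a = i ∨ a = j → Hall.HallData.PTr B U (P a)
  lt : ∀ a, a = i ∨ a = j → ∃ x ∈ P a, x ∉ B
  inf : P i ⊓ P j ≤ B

/-- (F1): `V_s ∩ V_t` consists of non-generators of the unipotent group. -/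
def FOne (Q : Cfsg.BNPair E) (UE : Subgroup E) (s t : E) : Prop :=
  ∀ T : Subgroup E, T ≤ UE →
    (∀ e ∈ UE, ∃ x ∈ T, s⁻¹ * (x⁻¹ * e) * s ∈ Q.B ∧ t⁻¹ * (x⁻¹ * e) * t ∈ Q.B) → UE ≤ T

namespace LiePair

variable {p : ℕ} {B U : Subgroup G} {P : I → Subgroup G} {i j : I} {φ : ↥(P i ⊔ P j) →* L} {ε : E →* L}
  {Q : Cfsg.BNPair E} {UE : Subgroup E} {s t : E}

/-- the image of `B` -/
def BL (φ : ↥(P i ⊔ P j) →* L) (B : Subgroup G) : Subgroup L := (B.subgroupOf (P i ⊔ P j)).map φ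

/-- the subgroups of `E` corresponding to the `P a` -/
def PE (φ : ↥(P i ⊔ P j) →* L) (ε : E →* L) (a : I) : Subgroup E := (BL φ (P a)).comap ε

theorem mem_PE {φ : ↥(P i ⊔ P j) →* L} {ε : E →* L} {a : I} {e : E} : e ∈ PE φ ε a ↔ ε e ∈ BL φ (P a) := Iff.rfl

variable (h : LiePair p B U P i j φ ε Q UE s t)
include h

theorem hs : s ∈ Q.S := by rw [h.S]; simp

theorem ht : t ∈ Q.S := by rw [h.S]; simp

theorem mem_BL {x : ↥(P i ⊔ P j)} : (x : G) ∈ B ↔ φ x ∈ BL φ B := by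
  constructor
  · intro hx
    exact ⟨x, mem_subgroupOf.2 hx, rfl⟩
  · rintro ⟨y, hy, e⟩
    have h1 : φ (y⁻¹ * x) = 1 := by rw [map_mul, map_inv, e, inv_mul_cancel]
    have h2 := h.ker _ h1
    have h3 := mul_mem (mem_subgroupOf.1 hy) h2
    have e2 : (y : G) * ((y⁻¹ * x : ↥(P i ⊔ P j)) : G) = x := by
      rw [coe_mul, coe_inv, mul_inv_cancel_left]
    rwa [e2] at h3

theorem mem_PL (a : I) {x : ↥(P i ⊔ P j)} : (x : G) ∈ P a ↔ φ x ∈ BL φ (P a) := by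
  constructor
  · intro hx
    exact ⟨x, mem_subgroupOf.2 hx, rfl⟩
  · rintro ⟨y, hy, e⟩
    have h1 : φ (y⁻¹ * x) = 1 := by rw [map_mul, map_inv, e, inv_mul_cancel]
    have h2 := h.le a (h.ker _ h1)
    have h3 := mul_mem (mem_subgroupOf.1 hy) h2
    have e2 : (y : G) * ((y⁻¹ * x : ↥(P i ⊔ P j)) : G) = x := by
      rw [coe_mul, coe_inv, mul_inv_cancel_left]
    rwa [e2] at h3

theorem BL_le (a : I) : BL φ B ≤ BL φ (P a) := by
  rintro _ ⟨x, hx, rfl⟩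
  exact ⟨x, mem_subgroupOf.2 (h.le a (mem_subgroupOf.1 hx)), rfl⟩

theorem mem_QB [Finite E] {e : E} : e ∈ Q.B ↔ ε e ∈ BL φ B := by
  constructor
  · intro he
    obtain ⟨b, hb, e1⟩ := h.B_of e he
    exact ⟨b, mem_subgroupOf.2 hb, e1⟩
  · rintro ⟨b, hb, e1⟩
    have hb : (b : G) ∈ B := mem_subgroupOf.1 hb
    rw [← h.split.normalizer_eq]
    have key : ∀ (b : ↥(P i ⊔ P j)) (e : E), (b : G) ∈ B → φ b = ε e → ∀ u ∈ UE, e * u * e⁻¹ ∈ UE := by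
      intro b e hb e1 u hu
      obtain ⟨x, hx, e2⟩ := h.U_of u hu
      obtain ⟨u', hu', e3⟩ := h.U_to (b * x * b⁻¹) (by
        rw [coe_mul, coe_mul, coe_inv]
        exact h.norm _ hb _ hx)
      have e4 : ε (e * u * e⁻¹) = ε u' := by
        rw [← e3]
        simp only [map_mul, map_inv, e1, e2]
      rw [h.inj e4]
      exact hu'
    rw [mem_normalizer_iff]
    intro u
    refine ⟨fun hu => key b e hb e1 u hu, fun hu => ?_⟩
    have h2 := key b⁻¹ e⁻¹ (by rw [coe_inv]; exact inv_mem hb) (by rw [map_inv, map_inv, e1]) _ hu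
    have e5 : e⁻¹ * (e * u * e⁻¹) * e⁻¹⁻¹ = u := by group
    rwa [e5] at h2

theorem QB_le [Finite E] (a : I) : Q.B ≤ PE φ ε a := fun _ he => h.BL_le a (h.mem_QB.1 he)

theorem le_sup (a : I) (ha : a = i ∨ a = j) : P a ≤ P i ⊔ P j := by
  rcases ha with rfl | rfl
  · exact le_sup_left
  · exact le_sup_right

/-- `P a = E_a B` -/
theorem exists_PE {a : I} {y : L} (hy : y ∈ BL φ (P a)) : ∃ e ∈ PE φ ε a, ∃ c ∈ BL φ B, y = ε e * c := by
  obtain ⟨e, b, hb, rfl⟩ := h.cov y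
  have hb' : φ b ∈ BL φ B := ⟨b, mem_subgroupOf.2 hb, rfl⟩
  refine ⟨e, ?_, φ b, hb', rfl⟩
  rw [mem_PE]
  have := mul_mem hy (inv_mem (h.BL_le a hb'))
  rwa [mul_inv_cancel_right] at this

theorem not_both [Finite E] {a : I} (ha : a = i ∨ a = j) (h1 : s ∈ PE φ ε a) (h2 : t ∈ PE φ ε a) : False := by
  obtain ⟨x, hx, e1⟩ := mem_PE.1 h1
  obtain ⟨y, hy, e2⟩ := mem_PE.1 h2
  have hxB : (x : G) ∉ B := fun h3 => Cfsg.Agent.Schreier.BNSch.not_mem_B Q h.hs (h.mem_QB.2 (e1 ▸ h.mem_BL.1 h3))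
  have hyB : (y : G) ∉ B := fun h3 => Cfsg.Agent.Schreier.BNSch.not_mem_B Q h.ht (h.mem_QB.2 (e2 ▸ h.mem_BL.1 h3))
  obtain ⟨u, hu, b, hb, h3⟩ := h.ptr a ha x (mem_subgroupOf.1 hx) hxB y (mem_subgroupOf.1 hy) hyB
  have huM : u ∈ P i ⊔ P j := le_sup_left (a := P i) (h.le i (h.U_le hu))
  obtain ⟨v, hv, e3⟩ := h.U_to ⟨u, huM⟩ hu
  have h4 : φ ((⟨u, huM⟩ * x)⁻¹ * y) ∈ BL φ B := h.mem_BL.1 (by
    rw [coe_mul, coe_inv, coe_mul, h3]
    have e : (u * (x : G))⁻¹ * (u * x * b) = b := by group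
    rw [e]; exact hb)
  have h5 : ε ((v * s)⁻¹ * t) ∈ BL φ B := by
    have e4 : φ ((⟨u, huM⟩ * x)⁻¹ * y) = ε ((v * s)⁻¹ * t) := by
      simp only [map_mul, map_inv, e1, e2, e3]
    rwa [e4] at h4
  have h6 := h.mem_QB.2 h5
  have h7 : t ∈ C Q s := mem_C.2 ⟨v, h.split.le hv, (v * s)⁻¹ * t, h6, by group⟩
  exact h.ne (Q.inj s h.hs t h.ht (rel_of_C_eq (mem_N h.hs) (mem_N h.ht) (C_eq_of_mem h7).symm))

theorem PE_cases [Finite E] {a : I} (ha : a = i ∨ a = j) :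
    (PE φ ε a = Q.parabolic {s} ∧ t ∉ PE φ ε a) ∨ (PE φ ε a = Q.parabolic {t} ∧ s ∉ PE φ ε a) := by
  have h1 := eq_parabolic (h.QB_le a)
  have h2 : Q.S ∩ (PE φ ε a : Set E) ≠ ∅ := by
    intro h3
    obtain ⟨x, hx, hxB⟩ := h.lt a ha
    have hxM := h.le_sup a ha hx
    obtain ⟨e, he, c, hc, e1⟩ := h.exists_PE ((h.mem_PL a (x := ⟨x, hxM⟩)).1 hx)
    rw [h3, Cfsg.Agent.Schreier.BNSch.parabolic_empty] at h1
    rw [h1] at he
    apply hxB
    have h4 : φ ⟨x, hxM⟩ ∈ BL φ B := by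
      rw [e1]
      exact mul_mem (h.mem_QB.1 he) hc
    exact h.mem_BL.2 h4
  by_cases hs : s ∈ PE φ ε a
  · have ht : t ∉ PE φ ε a := fun ht => h.not_both ha hs ht
    left
    refine ⟨?_, ht⟩
    have h3 : Q.S ∩ (PE φ ε a : Set E) = {s} := by
      rw [h.S]
      ext x
      simp only [Set.mem_inter_iff, Set.mem_insert_iff, Set.mem_singleton_iff, SetLike.mem_coe]
      constructor
      · rintro ⟨rfl | rfl, hx⟩
        · rfl
        · exact absurd hx ht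
      · rintro rfl
        exact ⟨Or.inl rfl, hs⟩
    rw [h1, h3]
  · right
    refine ⟨?_, hs⟩
    have h3 : Q.S ∩ (PE φ ε a : Set E) = {t} := by
      rw [h.S]
      ext x
      simp only [Set.mem_inter_iff, Set.mem_insert_iff, Set.mem_singleton_iff, SetLike.mem_coe]
      constructor
      · rintro ⟨rfl | rfl, hx⟩
        · exact absurd hx hs
        · rfl
      · rintro rfl
        refine ⟨Or.inr rfl, ?_⟩
        by_contra ht
        apply h2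
        rw [h.S]
        ext x
        simp only [Set.mem_inter_iff, Set.mem_insert_iff, Set.mem_singleton_iff, SetLike.mem_coe,
          Set.mem_empty_iff_false, iff_false, not_and]
        rintro (rfl | rfl)
        · exact hs
        · exact ht
    rw [h1, h3]

/-- The parabolics of `E` correspond to `P i` and `P j`, in some order. -/
theorem PE_eq [Finite E] : (PE φ ε i = Q.parabolic {s} ∧ PE φ ε j = Q.parabolic {t}) ∨
    (PE φ ε i = Q.parabolic {t} ∧ PE φ ε j = Q.parabolic {s}) := by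
  have key : ∀ x ∈ Q.S, x ∈ PE φ ε i → x ∈ PE φ ε j → False := by
    intro x hx h1 h2
    obtain ⟨y, hy, e1⟩ := mem_PE.1 h1
    have h3 : φ y ∈ BL φ (P j) := by rw [e1]; exact h2
    have h4 : (y : G) ∈ P j := (h.mem_PL j).2 h3
    have h5 : (y : G) ∈ B := h.inf ⟨mem_subgroupOf.1 hy, h4⟩
    exact Cfsg.Agent.Schreier.BNSch.not_mem_B Q hx (h.mem_QB.2 (e1 ▸ h.mem_BL.1 h5))
  rcases h.PE_cases (Or.inl rfl) with ⟨h1, h1'⟩ | ⟨h1, h1'⟩
  · rcases h.PE_cases (Or.inr rfl) with ⟨h2, h2'⟩ | ⟨h2, h2'⟩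
    · exfalso
      exact key s h.hs (h1 ▸ Cfsg.Agent.Schreier.BNSch.mem_parabolic_self Q s)
        (h2 ▸ Cfsg.Agent.Schreier.BNSch.mem_parabolic_self Q s)
    · exact Or.inl ⟨h1, h2⟩
  · rcases h.PE_cases (Or.inr rfl) with ⟨h2, h2'⟩ | ⟨h2, h2'⟩
    · exact Or.inr ⟨h1, h2⟩
    · exfalso
      exact key t h.ht (h1 ▸ Cfsg.Agent.Schreier.BNSch.mem_parabolic_self Q t)
        (h2 ▸ Cfsg.Agent.Schreier.BNSch.mem_parabolic_self Q t)

/-- the link between the residue and the building of `E` -/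
theorem link [Finite E] : Link B P i j Q.B (PE φ ε)
    (fun g e => ∃ h : g ∈ P i ⊔ P j, (φ ⟨g, h⟩)⁻¹ * ε e ∈ BL φ B) :=
  link_of_hom (P i ⊔ P j) φ ε (BL φ B) (fun a => BL φ (P a)) (fun a ha => h.le_sup a ha) (fun _ => h.mem_BL)
    (fun a _ _ => h.mem_PL a) (fun _ => h.mem_QB) (fun _ _ _ => Iff.rfl) (fun a _ => h.BL_le a)
    (fun e => h.surj (ε e))
    (fun a _ y hy => by
      obtain ⟨e, -, c, hc, e1⟩ := h.exists_PE hy
      exact ⟨e, c, hc, e1⟩)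

/-- **The residue is a generalised polygon.** -/
theorem polygon [Finite E] {m : ℕ} (hm : LieRecognition.FeitHigmanGroup.Red Q s t m)
    (hbr : (LieRecognition.FeitHigmanGroup.alt m s t)⁻¹ * LieRecognition.FeitHigmanGroup.alt m t s ∈ Q.B) :
    Polygon B P i j m := by
  apply h.link.polygon
  rcases h.PE_eq with ⟨h1, h2⟩ | ⟨h1, h2⟩
  · exact polygon_of_red h.hs h.ht h1 h2 hm hbr
  · exact (polygon_of_red h.hs h.ht h2 h1 hm hbr).symm

/-- **The field `poly`**, together with `m ≥ 3` iff the node involutions do not commute. -/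
theorem exists_polygon [Finite E] : ∃ m, 2 ≤ m ∧ Polygon B P i j m ∧ (3 ≤ m ↔ s * t * s⁻¹ * t⁻¹ ∉ Q.B) := by
  obtain ⟨m, h2, hr, hb, hlt⟩ := LieRecognition.FeitHigmanGroup.exists_max_red h.S h.ne
  refine ⟨m, h2, h.polygon hr hb, ?_⟩
  have e : (LieRecognition.FeitHigmanGroup.alt 2 s t)⁻¹ * LieRecognition.FeitHigmanGroup.alt 2 t s =
      t⁻¹ * s⁻¹ * t * s := by
    simp only [LieRecognition.FeitHigmanGroup.alt_succ, LieRecognition.FeitHigmanGroup.alt_zero, mul_one]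
    group
  have hst : s * t ∈ Q.N := mul_mem (mem_N h.hs) (mem_N h.ht)
  have hts : t * s ∈ Q.N := mul_mem (mem_N h.ht) (mem_N h.hs)
  have key : s * t * s⁻¹ * t⁻¹ ∈ Q.B ↔ t⁻¹ * s⁻¹ * t * s ∈ Q.B := by
    constructor
    · intro h1
      have h3 : s * t * s⁻¹ * t⁻¹ ∈ Q.N := mul_mem (mul_mem hst (inv_mem (mem_N h.hs))) (inv_mem (mem_N h.ht))
      have h4 := conj_mem_inv (P := Q) hts h1 h3
      have h5 := inv_mem h4
      have e1 : ((t * s)⁻¹ * (s * t * s⁻¹ * t⁻¹) * (t * s))⁻¹ = t⁻¹ * s⁻¹ * t * s := by group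
      rwa [e1] at h5
    · intro h1
      have h3 : t⁻¹ * s⁻¹ * t * s ∈ Q.N := mul_mem (mul_mem (mul_mem (inv_mem (mem_N h.ht)) (inv_mem (mem_N h.hs)))
        (mem_N h.ht)) (mem_N h.hs)
      have h4 := conj_mem' (P := Q) hts h1 h3
      have h5 := inv_mem h4
      have e1 : (t * s * (t⁻¹ * s⁻¹ * t * s) * (t * s)⁻¹)⁻¹ = s * t * s⁻¹ * t⁻¹ := by group
      rwa [e1] at h5
  rw [key]
  constructor
  · intro h3 h4
    exact hlt 2 (by omega) (by omega) (by rw [e]; exact h4)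
  · intro h3
    by_contra h4
    obtain rfl : m = 2 := by omega
    rw [e] at hb
    exact h3 hb

/-! ### The fields `reg` and `frat` -/

/-- `u ∈ U`, `g⁻¹ u g ∈ B` for one `g ∈ P a` outside `B` implies it for all `g ∈ P a`. -/
theorem reg [Finite E] {a : I} (ha : a = i ∨ a = j) {u g : G} (hu : u ∈ U) (hg : g ∈ P a) (hgB : g ∉ B)
    (hug : g⁻¹ * u * g ∈ B) : u ∈ Qk B (P a) := by
  have hPe : ∃ r ∈ Q.S, PE φ ε a = Q.parabolic {r} := by
    rcases h.PE_cases ha with ⟨h1, -⟩ | ⟨h1, -⟩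
    · exact ⟨s, h.hs, h1⟩
    · exact ⟨t, h.ht, h1⟩
  obtain ⟨r, hr, hPr⟩ := hPe
  obtain ⟨V, hV⟩ := h.split.node r hr
  have huM : u ∈ P i ⊔ P j := le_sup_left (a := P i) (h.le i (h.U_le hu))
  obtain ⟨v, hv, e1⟩ := h.U_to ⟨u, huM⟩ hu
  have hdec : ∀ x ∈ P a, ∃ (hx : x ∈ P i ⊔ P j) (e : E) (c : L), e ∈ Q.parabolic {r} ∧ c ∈ BL φ B ∧
      φ ⟨x, hx⟩ = ε e * c := by
    intro x hx
    have hxM := h.le_sup a ha hx
    obtain ⟨e, he, c, hc, e2⟩ := h.exists_PE ((h.mem_PL a (x := ⟨x, hxM⟩)).1 hx)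
    exact ⟨hxM, e, c, hPr ▸ he, hc, e2⟩
  -- conjugation and `B`
  have hconj : ∀ (x : G) (hx : x ∈ P i ⊔ P j) (e : E) (c : L), c ∈ BL φ B → φ ⟨x, hx⟩ = ε e * c →
      (x⁻¹ * u * x ∈ B ↔ e⁻¹ * v * e ∈ Q.B) := by
    intro x hx e c hc e2
    have h1 : x⁻¹ * u * x ∈ B ↔ φ (⟨x, hx⟩⁻¹ * ⟨u, huM⟩ * ⟨x, hx⟩) ∈ BL φ B := by
      rw [← h.mem_BL, coe_mul, coe_mul, coe_inv]
    rw [h1, h.mem_QB, map_mul, map_mul, map_inv, e1, e2]
    have e3 : (ε e * c)⁻¹ * ε v * (ε e * c) = c⁻¹ * ε (e⁻¹ * v * e) * c := by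
      simp only [map_mul, map_inv]; group
    rw [e3]
    constructor
    · intro h2
      have := mul_mem (mul_mem hc h2) (inv_mem hc)
      have e4 : c * (c⁻¹ * ε (e⁻¹ * v * e) * c) * c⁻¹ = ε (e⁻¹ * v * e) := by group
      rwa [e4] at this
    · intro h2
      exact mul_mem (mul_mem (inv_mem hc) h2) hc
  -- `v ∈ V`
  have hvV : v ∈ V := by
    obtain ⟨hgM, e, c, he, hc, e2⟩ := hdec g hg
    have h2 := (hconj g hgM e c hc e2).1 hug
    have heB : e ∉ Q.B := by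
      intro h3
      apply hgB
      have h4 : φ ⟨g, hgM⟩ ∈ BL φ B := by rw [e2]; exact mul_mem (h.mem_QB.1 h3) hc
      exact h.mem_BL.2 h4
    rcases Cfsg.Agent.Schreier.BNSch.mem_parabolic_singleton Q hr he with h3 | ⟨b, hb, b', hb', rfl⟩
    · exact absurd h3 heB
    · have h4 := mul_mem (mul_mem hb' h2) (inv_mem hb')
      have e5 : b' * ((b * r * b')⁻¹ * v * (b * r * b')) * b'⁻¹ = r⁻¹ * (b⁻¹ * v * b) * r := by group
      rw [e5] at h4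
      have h6 : b⁻¹ * v * b ∈ UE := by
        have := h.split.norm b⁻¹ (inv_mem hb) v hv
        rwa [inv_inv] at this
      have h7 := hV.conj_B b hb _ (hV.stab _ h6 h4)
      have e8 : b * (b⁻¹ * v * b) * b⁻¹ = v := by group
      rwa [e8] at h7
  intro x hx
  obtain ⟨hxM, e, c, he, hc, e2⟩ := hdec x hx
  rw [hconj x hxM e c hc e2]
  exact h.split.le (hV.le (hV.conj_mem he hvV))

/-- **The field `frat`** from the fact (F1): `T ≤ U_E` with `U_E = T (V_s ∩ V_t)` is `U_E`. -/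
theorem frat [Finite E]
    (hF : FOne Q UE s t) {T : Subgroup G} (hT : T ≤ U)
    (hTU : ∀ u ∈ U, ∃ x ∈ T, x⁻¹ * u ∈ Qk B (P i) ∧ x⁻¹ * u ∈ Qk B (P j)) :
    ∀ u ∈ U, ∃ x ∈ T, x⁻¹ * u ∈ Qk B (P i ⊔ P j) := by
  have hUM : U ≤ P i ⊔ P j := fun u hu => le_sup_left (a := P i) (h.le i (h.U_le hu))
  -- the subgroup of `E` corresponding to `T`
  let TE : Subgroup E := ((T.subgroupOf (P i ⊔ P j)).map φ).comap ε
  have hTE : ∀ e, e ∈ TE ↔ ∃ x : ↥(P i ⊔ P j), (x : G) ∈ T ∧ φ x = ε e := by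
    intro e
    constructor
    · rintro ⟨x, hx, e1⟩
      exact ⟨x, mem_subgroupOf.1 hx, e1⟩
    · rintro ⟨x, hx, e1⟩
      exact ⟨x, mem_subgroupOf.2 hx, e1⟩
  have hTEle : TE ≤ UE := by
    intro e he
    obtain ⟨x, hx, e1⟩ := (hTE e).1 he
    obtain ⟨e', he', e2⟩ := h.U_to x (hT hx)
    have e3 : e = e' := h.inj (e1.symm.trans e2)
    rw [e3]; exact he'
  -- conjugation by `r`
  have hr : ∀ r ∈ Q.S, ∀ a, a = i ∨ a = j → r ∈ PE φ ε a → ∀ (y : ↥(P i ⊔ P j)) (e : E), φ y = ε e →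
      (∀ g ∈ P a, g⁻¹ * (y : G) * g ∈ B) → r⁻¹ * e * r ∈ Q.B := by
    intro r _ a ha hra y e e1 hy
    obtain ⟨z, hz, e2⟩ := mem_PE.1 hra
    have h1 := hy z (mem_subgroupOf.1 hz)
    rw [h.mem_QB]
    have h2 : φ (z⁻¹ * y * z) ∈ BL φ B := h.mem_BL.1 (by rw [coe_mul, coe_mul, coe_inv]; exact h1)
    have e3 : φ (z⁻¹ * y * z) = ε (r⁻¹ * e * r) := by simp only [map_mul, map_inv, e1, e2]
    rwa [e3] at h2
  have hs' : ∃ a b, (a = i ∨ a = j) ∧ (b = i ∨ b = j) ∧ s ∈ PE φ ε a ∧ t ∈ PE φ ε b := by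
    rcases h.PE_eq with ⟨h1, h2⟩ | ⟨h1, h2⟩
    · exact ⟨i, j, Or.inl rfl, Or.inr rfl, h1 ▸ Cfsg.Agent.Schreier.BNSch.mem_parabolic_self Q s,
        h2 ▸ Cfsg.Agent.Schreier.BNSch.mem_parabolic_self Q t⟩
    · exact ⟨j, i, Or.inr rfl, Or.inl rfl, h2 ▸ Cfsg.Agent.Schreier.BNSch.mem_parabolic_self Q s,
        h1 ▸ Cfsg.Agent.Schreier.BNSch.mem_parabolic_self Q t⟩
  obtain ⟨a, b, ha, hb, hsa, htb⟩ := hs'
  have hle : UE ≤ TE := by
    apply hF TE hTEle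
    intro e he
    obtain ⟨u, hu, e1⟩ := h.U_of e he
    obtain ⟨x, hx, hxi, hxj⟩ := hTU u hu
    have hxM := hUM (hT hx)
    obtain ⟨v, hv, e2⟩ := h.U_to ⟨x, hxM⟩ (hT hx)
    have hxa : ∀ a, a = i ∨ a = j → ∀ g ∈ P a, g⁻¹ * (((⟨x, hxM⟩⁻¹ * u : ↥(P i ⊔ P j)) : G)) * g ∈ B := by
      rintro a (rfl | rfl) g hg
      · rw [coe_mul, coe_inv]; exact hxi g hg
      · rw [coe_mul, coe_inv]; exact hxj g hg
    have e3 : φ (⟨x, hxM⟩⁻¹ * u) = ε (v⁻¹ * e) := by simp only [map_mul, map_inv, e1, e2]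
    exact ⟨v, (hTE v).2 ⟨⟨x, hxM⟩, hx, e2⟩, hr s h.hs a ha hsa _ _ e3 (hxa a ha),
      hr t h.ht b hb htb _ _ e3 (hxa b hb)⟩
  intro u hu
  obtain ⟨e, he, e1⟩ := h.U_to ⟨u, hUM hu⟩ hu
  obtain ⟨x, hx, e2⟩ := (hTE e).1 (hle he)
  refine ⟨x, hx, fun g hg => ?_⟩
  have e3 : φ (⟨g, hg⟩⁻¹ * (x⁻¹ * ⟨u, hUM hu⟩) * ⟨g, hg⟩) = 1 := by
    simp only [map_mul, map_inv, e1, e2]; group
  have h4 := h.ker _ e3
  rw [coe_mul, coe_mul, coe_mul, coe_inv, coe_inv] at h4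
  exact h4

end LiePair

end Cfsg.Agent.ParSys
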