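import Cfsg.Agent.ParSys.Good

/-!
# A parabolic system with tori is a BN-pair
-/

set_option autoImplicit false

namespace Cfsg.Agent.ParSys

open Subgroup

variable {G : Type*} [Group G] {I : Type*}

namespace Data

variable {B : Subgroup G} {P : I → Subgroup G} {n : I → G} {H U : Subgroup G} {m : I → I → ℕ}
  {Adm : Subgroup G → Prop} (D : Data B P n H U m Adm)

include D

/-- `x = n_f h` with `f` good and `h ∈ H` -/
def InN (_ : Data B P n H U m Adm) (x : G) : Prop := ∃ f, Tr B P n U f ∧ ∃ h ∈ H, x = nw n f * h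

theorem inN_mul_n {x : G} (hx : D.InN x) (i : I) : D.InN (x * n i) := by
  obtain ⟨f, hf, h, hh, rfl⟩ := hx
  have hh' := D.conj' i h hh
  rcases D.good_or f hf i with h1 | ⟨g, hg⟩
  · refine ⟨f ++ [i], h1, _, hh', ?_⟩
    rw [nw_append]
    simp only [nw_cons, nw_nil, mul_one]
    group
  · have h2 := D.tr_br D.adm_U hg hf
    rw [Tr_append] at h2
    have h3 := D.nw_br hg
    set k := (nw n f)⁻¹ * nw n (g ++ [i]) with hk
    have e : nw n f = nw n g * n i * k⁻¹ := by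
      rw [hk, nw_append]
      simp only [nw_cons, nw_nil, mul_one]
      group
    refine ⟨g, h2.1, (n i * n i) * ((n i)⁻¹ * (k⁻¹ * h) * n i), mul_mem (D.sq i)
      (D.conj' i _ (mul_mem (inv_mem h3) hh)), ?_⟩
    rw [e]; group

/-- the subgroup `N` -/
def N (_ : Data B P n H U m Adm) : Subgroup G := closure (H ∪ Set.range n)

theorem H_le_N : H ≤ D.N := fun _ hx => subset_closure (Or.inl hx)

theorem n_mem_N (i : I) : n i ∈ D.N := subset_closure (Or.inr ⟨i, rfl⟩)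

theorem nw_mem_N (f : List I) : nw n f ∈ D.N := by
  induction f with
  | nil => exact one_mem _
  | cons i f ih => rw [nw_cons]; exact mul_mem (D.n_mem_N i) ih

theorem inN_of_mem {x : G} (hx : x ∈ D.N) : D.InN x := by
  induction hx using Subgroup.closure_induction_right with
  | one => exact ⟨[], trivial, 1, one_mem _, by simp⟩
  | mul_right x hx y hy ih =>
    rcases hy with hy | ⟨i, rfl⟩
    · obtain ⟨f, hf, h, hh, rfl⟩ := ih
      exact ⟨f, hf, h * y, mul_mem hh hy, by group⟩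
    · exact D.inN_mul_n ih i
  | mul_inv_cancel x hx y hy ih =>
    rcases hy with hy | ⟨i, rfl⟩
    · obtain ⟨f, hf, h, hh, rfl⟩ := ih
      exact ⟨f, hf, h * y⁻¹, mul_mem hh (inv_mem hy), by group⟩
    · obtain ⟨f, hf, h, hh, e⟩ := D.inN_mul_n ih i
      refine ⟨f, hf, h * (n i * n i)⁻¹, mul_mem hh (inv_mem (D.sq i)), ?_⟩
      have : x = nw n f * h * (n i)⁻¹ := by rw [← e]; group
      rw [this]; group

theorem conj_N {x : G} (hx : x ∈ D.N) {h : G} (hh : h ∈ H) : x * h * x⁻¹ ∈ H := by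
  obtain ⟨f, -, k, hk, rfl⟩ := D.inN_of_mem hx
  have := D.conj_nw f _ (mul_mem (mul_mem hk hh) (inv_mem hk))
  have e : nw n f * k * h * (nw n f * k)⁻¹ = nw n f * (k * h * k⁻¹) * (nw n f)⁻¹ := by group
  rw [e]; exact this

/-- the last step of a gallery -/
theorem last_step {f : List I} {i : I} (hf : Tr B P n U (f ++ [i])) {x : G} (hx : x ∈ P i) (hxB : x ∉ B) :
    ∃ u ∈ U, (u * (nw n f * n i))⁻¹ * (nw n f * x) ∈ B := by
  rw [tr_iff D.le D.n_mem D.n_not U D.U_le] at hf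
  have hg : GalE B P (f ++ [i]) (f.map n ++ [x]) :=
    galE_append (galE_std D.n_mem D.n_not f) ⟨⟨hx, hxB⟩, trivial⟩
  obtain ⟨u, hu, hA⟩ := hf _ hg
  have := Ag_end hg hA
  refine ⟨u, hu, ?_⟩
  simpa [nw_append, nw] using this

/-- a good nonempty word does not represent an element of `B` -/
theorem nw_not_mem {f : List I} (hf : Tr B P n U f) (hne : f ≠ []) : nw n f ∉ B := by
  intro hB
  rcases List.eq_nil_or_concat f with rfl | ⟨g, i, rfl⟩
  · exact hne rfl
  rw [List.concat_eq_append] at *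
  obtain ⟨x, hx, hxB, hx2⟩ := D.three i
  obtain ⟨u, hu, h⟩ := D.last_step hf hx hxB
  rw [nw_append] at hB
  simp only [nw_cons, nw_nil, mul_one] at hB
  apply hx2
  have h1 := mul_mem (mul_mem (D.U_le hu) hB) h
  have e : u * (nw n g * n i) * ((u * (nw n g * n i))⁻¹ * (nw n g * x)) = nw n g * x := by group
  rw [e] at h1
  have h2 := mul_mem (inv_mem hB) h1
  have e2 : (nw n g * n i)⁻¹ * (nw n g * x) = (n i)⁻¹ * x := by group
  rwa [e2] at h2

theorem N_inf_B {x : G} (hx : x ∈ D.N) (hB : x ∈ B) : x ∈ H := by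
  obtain ⟨f, hf, h, hh, rfl⟩ := D.inN_of_mem hx
  have h1 : nw n f ∈ B := by
    have := mul_mem hB (inv_mem (D.H_le hh))
    rwa [mul_inv_cancel_right] at this
  rcases eq_or_ne f [] with rfl | hne
  · simpa using hh
  · exact absurd h1 (D.nw_not_mem hf hne)

theorem inf_eq : B ⊓ D.N = H :=
  le_antisymm (fun _ hx => D.N_inf_B hx.2 hx.1) (le_inf D.H_le D.H_le_N)

theorem good_alt {i j : I} (hij : i ≠ j) {k : ℕ} (hk : k ≤ m i j) : Tr B P n U (alt i j k) := by
  have h := D.g1 i j hij U D.adm_U (D.pan i) (D.pan j)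
  obtain ⟨v, hv⟩ := alt_prefix i j hk
  rw [hv, Tr_append] at h
  exact h.1

theorem inj {i j : I} (h : (n i)⁻¹ * n j ∈ B) : i = j := by
  by_contra hij
  apply D.nw_not_mem (D.good_alt hij (D.m_two i j hij)) (by simp [alt_cons])
  have e : nw n (alt i j 2) = (n i * n i) * ((n i)⁻¹ * n j) := by
    simp only [alt_cons, alt_zero, nw_cons, nw_nil, mul_one]; group
  rw [e]
  exact mul_mem (D.H_le (D.sq i)) h

theorem P_inf {i j : I} (hij : i ≠ j) {x : G} (hi : x ∈ P i) (hj : x ∈ P j) : x ∈ B := by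
  by_contra hx
  have hg := D.good_alt hij (D.m_two i j hij)
  have h1 : Tr B P n U [i, j] := hg
  rw [tr_iff D.le D.n_mem D.n_not U D.U_le] at h1
  have hG : GalE B P [i, j] [x, x⁻¹] := ⟨⟨hi, hx⟩, ⟨inv_mem hj, fun h => hx (by simpa using inv_mem h)⟩, trivial⟩
  obtain ⟨u, hu, hA⟩ := h1 _ hG
  have h2 := Ag_end hG hA
  apply D.nw_not_mem hg (by simp [alt_cons])
  have e : (u * nw n [i, j])⁻¹ * (1 * [x, x⁻¹].prod) = (nw n [i, j])⁻¹ * u⁻¹ := by simp
  rw [e] at h2
  have h3 := inv_mem (mul_mem h2 (D.U_le hu))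
  rw [inv_mul_cancel_right, inv_inv] at h3
  exact h3

theorem mem_panel {i : I} {x : G} (hx : x ∈ P i) : x ∈ B ∨ ∃ u ∈ U, ∃ b ∈ B, x = u * n i * b := by
  by_cases h : x ∈ B
  · exact Or.inl h
  · obtain ⟨u, hu, h1⟩ := D.pan i x hx h
    exact Or.inr ⟨u, hu, _, h1, by group⟩

theorem sup_eq_top : B ⊔ D.N = ⊤ := by
  rw [eq_top_iff, ← D.gen, iSup_le_iff]
  intro i x hx
  have hB : B ≤ B ⊔ D.N := le_sup_left
  rcases D.mem_panel hx with h | ⟨u, hu, b, hb, rfl⟩
  · exact hB h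
  · exact mul_mem (mul_mem (hB (D.U_le hu)) ((le_sup_right : D.N ≤ _) (D.n_mem_N i))) (hB hb)

/-- the double coset condition, on the right -/
theorem right_mem {x : G} (hx : x ∈ D.N) {b : G} (hb : b ∈ B) (i : I) :
    (∃ c ∈ B, ∃ d ∈ B, x * b * n i = c * (x * n i) * d) ∨ ∃ c ∈ B, ∃ d ∈ B, x * b * n i = c * x * d := by
  obtain ⟨f, hf, h, hh, rfl⟩ := D.inN_of_mem hx
  have hhB := D.H_le hh
  have hh' := D.H_le (D.conj' i h hh)
  rcases D.good_or f hf i with h1 | ⟨g, hg⟩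
  · left
    have hx1 : h * b * n i ∈ P i := mul_mem (D.le i (mul_mem hhB hb)) (D.n_mem i)
    have hx2 : h * b * n i ∉ B := fun h2 => D.n_not i (by
      have := mul_mem (inv_mem (mul_mem hhB hb)) h2
      rwa [inv_mul_cancel_left] at this)
    obtain ⟨u, hu, h3⟩ := D.last_step h1 hx1 hx2
    refine ⟨u, D.U_le hu, ((n i)⁻¹ * h * n i)⁻¹ * ((u * (nw n f * n i))⁻¹ * (nw n f * (h * b * n i))),
      mul_mem (inv_mem hh') h3, ?_⟩
    group
  · have h2 := D.tr_br D.adm_U hg hf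
    have h3 := D.nw_br hg
    set k := (nw n f)⁻¹ * nw n (g ++ [i]) with hk
    have hkB := D.H_le h3
    have e : nw n f = nw n g * n i * k⁻¹ := by
      rw [hk, nw_append]
      simp only [nw_cons, nw_nil, mul_one]
      group
    set y := n i * (k⁻¹ * h * b) * n i with hy
    have hyP : y ∈ P i :=
      mul_mem (mul_mem (D.n_mem i) (D.le i (mul_mem (mul_mem (inv_mem hkB) hhB) hb))) (D.n_mem i)
    have exy : nw n f * h * b * n i = nw n g * y := by rw [e, hy]; group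
    by_cases hyB : y ∈ B
    · left
      -- `n_f h n_i ∈ n_g B`
      have h5 : (n i * n i) * ((n i)⁻¹ * (k⁻¹ * h) * n i) ∈ H :=
        mul_mem (D.sq i) (D.conj' i _ (mul_mem (inv_mem h3) hh))
      refine ⟨1, one_mem _, ((n i * n i) * ((n i)⁻¹ * (k⁻¹ * h) * n i))⁻¹ * y,
        mul_mem (inv_mem (D.H_le h5)) hyB, ?_⟩
      rw [exy, e]; group
    · right
      obtain ⟨u, hu, h6⟩ := D.last_step h2 hyP hyB
      refine ⟨u, D.U_le hu, (k⁻¹ * h)⁻¹ * ((u * (nw n g * n i))⁻¹ * (nw n g * y)),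
        mul_mem (inv_mem (mul_mem (inv_mem hkB) hhB)) h6, ?_⟩
      rw [exy, e]; group

/-- the BN-pair -/
def bnPair : Cfsg.BNPair G where
  B := B
  N := D.N
  S := Set.range n
  sup_eq_top := D.sup_eq_top
  conj_mem := by
    intro x hx t ht
    exact D.H_le (D.conj_N hx (D.N_inf_B ht.2 ht.1))
  subset := by rintro _ ⟨i, rfl⟩; exact D.n_mem_N i
  sq_mem := by rintro _ ⟨i, rfl⟩; exact D.H_le (D.sq i)
  inj := by rintro _ ⟨i, rfl⟩ _ ⟨j, rfl⟩ h; rw [D.inj h]
  closure_sup := by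
    rw [D.inf_eq]
    apply le_antisymm
    · rw [sup_le_iff, closure_le]
      exact ⟨by rintro _ ⟨i, rfl⟩; exact D.n_mem_N i, D.H_le_N⟩
    · show Subgroup.closure _ ≤ _
      rw [closure_le]
      rintro x (hx | hx)
      · exact (le_sup_right : H ≤ _) hx
      · exact (le_sup_left : closure (Set.range n) ≤ _) (subset_closure hx)
  mul_mem_union := by
    rintro _ ⟨i, rfl⟩ x hx b hb
    have hs := D.H_le (D.sq i)
    have h := D.right_mem (inv_mem hx) (mul_mem (inv_mem hb) (inv_mem hs)) i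
    have e : x⁻¹ * (b⁻¹ * (n i * n i)⁻¹) * n i = (n i * b * x)⁻¹ := by group
    rw [e] at h
    rcases h with ⟨c, hc, d, hd, h⟩ | ⟨c, hc, d, hd, h⟩
    · left
      rw [DoubleCoset.mem_doubleCoset]
      refine ⟨d⁻¹ * (n i * n i)⁻¹, mul_mem (inv_mem hd) (inv_mem hs), c⁻¹, inv_mem hc, ?_⟩
      have h1 := congrArg (·⁻¹) h
      simp only [inv_inv] at h1
      rw [h1]; group
    · right
      rw [DoubleCoset.mem_doubleCoset]
      refine ⟨d⁻¹, inv_mem hd, c⁻¹, inv_mem hc, ?_⟩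
      have h1 := congrArg (·⁻¹) h
      simp only [inv_inv] at h1
      rw [h1]; group
  conj_ne := by
    rintro _ ⟨i, rfl⟩ h
    obtain ⟨x, hx, hxB, hx2⟩ := D.three i
    obtain ⟨u, hu, h1⟩ := D.pan i x hx hxB
    apply hx2
    have h2 : n i * u * n i ∈ (B : Set G) := by
      rw [← h]; exact ⟨u, D.U_le hu, rfl⟩
    have h3 : n i * u * n i ∈ B := h2
    have h4 := mul_mem (mul_mem (inv_mem (D.H_le (D.sq i))) h3) h1
    have e : (n i * n i)⁻¹ * (n i * u * n i) * ((u * n i)⁻¹ * x) = (n i)⁻¹ * x := by group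
    rwa [e] at h4

theorem n_injective : Function.Injective n := fun i j h => D.inj (by rw [h]; simp [one_mem])

theorem rank_bnPair : D.bnPair.rank = Nat.card I := by
  show Nat.card (Set.range n) = Nat.card I
  exact Nat.card_range_of_injective D.n_injective

/-- nodes with `3 ≤ m i j` do not commute -/
theorem comm_not_mem {i j : I} (hij : i ≠ j) (h3 : 3 ≤ m i j) : n i * n j * (n i)⁻¹ * (n j)⁻¹ ∉ B := by
  intro hB
  have hN : n i * n j * (n i)⁻¹ * (n j)⁻¹ ∈ D.N :=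
    mul_mem (mul_mem (mul_mem (D.n_mem_N i) (D.n_mem_N j)) (inv_mem (D.n_mem_N i))) (inv_mem (D.n_mem_N j))
  have hH := D.N_inf_B hN hB
  -- the word `i j i`
  have hg : Tr B P n U (alt i j 3) := D.good_alt hij h3
  have hg' : Tr B P n U ([i, j] ++ [i]) := hg
  obtain ⟨x, hx, hxB, hx2⟩ := D.three i
  -- the end of the gallery `n i, n j, y` lies in `P j` for every `y ∈ P i - B`
  have key : ∀ y ∈ P i, y ∉ B → nw n [i, j] * y ∈ P j := by
    intro y hy hyB
    obtain ⟨u, hu, h⟩ := D.last_step hg' hy hyB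
    have e1 : nw n [i, j] * n i ∈ P j := by
      have e : nw n [i, j] * n i = (n i * n j * (n i)⁻¹ * (n j)⁻¹) * n j * (n i * n i) := by
        simp only [nw_cons, nw_nil, mul_one]; group
      rw [e]
      exact mul_mem (mul_mem (D.le j hB) (D.n_mem j)) (D.le j (D.H_le (D.sq i)))
    have h1 := mul_mem (mul_mem (D.le j (D.U_le hu)) e1) (D.le j h)
    have e2 : u * (nw n [i, j] * n i) * ((u * (nw n [i, j] * n i))⁻¹ * (nw n [i, j] * y)) = nw n [i, j] * y := by
      group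
    rwa [e2] at h1
  have h1 := key (n i) (D.n_mem i) (D.n_not i)
  have h2 := key x hx hxB
  have h4 := mul_mem (inv_mem h1) h2
  have e : (nw n [i, j] * n i)⁻¹ * (nw n [i, j] * x) = (n i)⁻¹ * x := by group
  rw [e] at h4
  exact hx2 (D.P_inf hij (mul_mem (inv_mem (D.n_mem i)) hx) h4)

theorem irreducible (hconn : ∀ J : Set I, J.Nonempty → Jᶜ.Nonempty → ∃ i ∈ J, ∃ j ∈ Jᶜ, 3 ≤ m i j) :
    D.bnPair.Irreducible := by
  intro J hJ hne hne'
  have hJ' : J ⊆ Set.range n := hJ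
  obtain ⟨s, hs⟩ := hne
  obtain ⟨i0, hi0⟩ := hJ' hs
  obtain ⟨s', hs', hs2⟩ := hne'
  obtain ⟨j0, hj0⟩ := hs'
  obtain ⟨i, hi, j, hj, h3⟩ := hconn {i | n i ∈ J} ⟨i0, show n i0 ∈ J by rw [hi0]; exact hs⟩
    ⟨j0, show n j0 ∉ J by rw [hj0]; exact hs2⟩
  have hij : i ≠ j := by rintro rfl; exact hj hi
  exact ⟨n i, hi, n j, ⟨⟨j, rfl⟩, hj⟩, D.comm_not_mem hij h3⟩

end Data

end Cfsg.Agent.ParSys
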