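import Cfsg.Agent.ParSys.ProdRes
import Cfsg.Agent.ParSys.Fam.Unitary
import Cfsg.Agent.RuRed.SzRelMore
import Cfsg.Agent.ThreePrime.SzDataExists
import Cfsg.Agent.LieClassical.SLTwoUnipotent
import Cfsg.Agent.TwoFusion.SLTwoFacts

/-!
# The groups `L₂(q)`, `Sz(q)`, `U₃(q)`, `q ≥ 4` even, as nodes

`TwoGen A` (two different Sylow 2-subgroups generate `A`) and `NS A` (nonabelian simple) for the three families:
`node_psl2`, `node_sz`, `node_psu3`, `node_of_list` (the conclusion of S0222).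
-/

set_option autoImplicit false
set_option maxHeartbeats 400000
set_option linter.unusedSectionVars false

namespace Cfsg.Agent.ParSys

open Subgroup Cfsg
open Cfsg.Agent.LieExceptional.BNPairCore

open scoped commutatorElement

theorem TwoGen.of_surjective {A B : Type*} [Group A] [Group B] [Finite A] (h : TwoGen A) {f : A →* B}
    (hf : Function.Surjective f) : TwoGen B := by
  have : Fact (Nat.Prime 2) := ⟨Nat.prime_two⟩
  have : Finite B := Finite.of_surjective f hf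
  intro P Q hPQ
  have hex : ∀ P : Sylow 2 B, ∃ P' : Sylow 2 A, P'.mapSurjective hf = P := by
    intro P
    obtain ⟨P₀⟩ : Nonempty (Sylow 2 A) := inferInstance
    obtain ⟨b, hb⟩ := MulAction.exists_smul_eq B (P₀.mapSurjective hf) P
    obtain ⟨a, rfl⟩ := hf b
    refine ⟨a • P₀, ?_⟩
    rw [← hb]
    apply Sylow.ext
    rw [Sylow.coe_mapSurjective, Sylow.coe_subgroup_smul, Sylow.coe_subgroup_smul, Sylow.coe_mapSurjective]
    ext x
    constructor
    · rintro ⟨_, ⟨y, hy, rfl⟩, rfl⟩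
      refine ⟨f y, ⟨y, hy, rfl⟩, ?_⟩
      show f a * f y * (f a)⁻¹ = f (a * y * a⁻¹)
      rw [map_mul, map_mul, map_inv]
    · rintro ⟨_, ⟨y, hy, rfl⟩, rfl⟩
      refine ⟨a * y * a⁻¹, ⟨y, hy, rfl⟩, ?_⟩
      show f (a * y * a⁻¹) = f a * f y * (f a)⁻¹
      rw [map_mul, map_mul, map_inv]
  obtain ⟨P', rfl⟩ := hex P
  obtain ⟨Q', rfl⟩ := hex Q
  have h1 := h P' Q' (fun h => hPQ (by rw [h]))
  rw [Sylow.coe_mapSurjective, Sylow.coe_mapSurjective, ← Subgroup.map_sup, h1]
  rw [← MonoidHom.range_eq_map, MonoidHom.range_eq_top]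
  exact hf

/-- `T` is transitive on the other Sylow 2-subgroups and `A` is simple -/
theorem twoGen_of_form {A : Type*} [Group A] [Finite A] [IsSimpleGroup A] (T : Sylow 2 A) (w : A)
    (h : ∀ g ∉ normalizer ((T : Subgroup A) : Set A), ∃ a ∈ (T : Subgroup A),
      ∃ b ∈ normalizer ((T : Subgroup A) : Set A), g = a * w * b) : TwoGen A := by
  have : Fact (Nat.Prime 2) := ⟨Nat.prime_two⟩
  rw [twoGen_iff]
  -- the conjugates
  set C : A → Subgroup A := fun g => (T : Subgroup A).map (MulAut.conj g).toMonoidHom with hC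
  have hmemC : ∀ g x, x ∈ C g ↔ g⁻¹ * x * g ∈ (T : Subgroup A) := by
    intro g x
    constructor
    · rintro ⟨t, ht, rfl⟩
      show g⁻¹ * (g * t * g⁻¹) * g ∈ (T : Subgroup A)
      have e1 : g⁻¹ * (g * t * g⁻¹) * g = t := by group
      rw [e1]; exact ht
    · intro hx
      refine ⟨_, hx, ?_⟩
      show g * (g⁻¹ * x * g) * g⁻¹ = x
      group
  set L : Subgroup A := (T : Subgroup A) ⊔ C w with hL
  have hTL : (T : Subgroup A) ≤ L := le_sup_left
  -- all conjugates of `T` lie in `L`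
  have hall : ∀ g, C g ≤ L := by
    intro g
    by_cases hg : g ∈ normalizer ((T : Subgroup A) : Set A)
    · intro x hx
      rw [hmemC] at hx
      apply hTL
      have := conj_mem_of_normalizer hg hx
      have e1 : g * (g⁻¹ * x * g) * g⁻¹ = x := by group
      rwa [e1] at this
    · obtain ⟨a, ha, b, hb, rfl⟩ := h g hg
      intro x hx
      rw [hmemC] at hx
      have h1 : w⁻¹ * (a⁻¹ * x * a) * w ∈ (T : Subgroup A) := by
        have := conj_mem_of_normalizer hb hx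
        have e1 : b * ((a * w * b)⁻¹ * x * (a * w * b)) * b⁻¹ = w⁻¹ * (a⁻¹ * x * a) * w := by group
        rwa [e1] at this
      have h2 : a⁻¹ * x * a ∈ L := (le_sup_right : C w ≤ L) ((hmemC _ _).2 h1)
      have h3 := mul_mem (mul_mem (hTL ha) h2) (inv_mem (hTL ha))
      have e1 : a * (a⁻¹ * x * a) * a⁻¹ = x := by group
      rwa [e1] at h3
  intro P a ha
  obtain ⟨g, rfl⟩ := MulAction.exists_smul_eq A T P
  -- `T ≠ ⊥`
  have hT1 : (T : Subgroup A) ≠ ⊥ := by
    intro h1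
    apply ha
    have h2 : ((g • T : Sylow 2 A) : Subgroup A) = ⊥ := by
      rw [Sylow.coe_subgroup_smul, h1]
      exact map_bot _
    rw [h2]
    exact (normalizer_eq_top (H := (⊥ : Subgroup A))).ge (mem_top a)
  have hLtop : L = ⊤ := by
    have hn : L.Normal := by
      constructor
      intro x hx g
      have h1 : L ≤ L.comap (MulAut.conj g).toMonoidHom := by
        apply sup_le
        · intro t ht
          exact hall g ⟨t, ht, rfl⟩
        · rintro _ ⟨t, ht, rfl⟩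
          show g * (w * t * w⁻¹) * g⁻¹ ∈ L
          have e1 : g * (w * t * w⁻¹) * g⁻¹ = (g * w) * t * (g * w)⁻¹ := by group
          rw [e1]
          exact hall (g * w) ⟨t, ht, rfl⟩
      exact h1 hx
    rcases hn.eq_bot_or_eq_top with h1 | h1
    · exfalso
      apply hT1
      rw [eq_bot_iff, ← h1]
      exact hTL
    · exact h1
  -- reduce to `T`
  set c := g⁻¹ * a * g with hc
  have hcN : c ∉ normalizer ((T : Subgroup A) : Set A) := by
    intro h1
    have h1' : c • T = T := Sylow.smul_eq_iff_mem_normalizer.2 h1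
    apply ha
    apply Sylow.smul_eq_iff_mem_normalizer.1
    have h2 : a • g • T = g • c • T := by rw [hc, smul_smul, smul_smul]; congr 1; group
    rw [h2, h1']
  obtain ⟨x, hx, b, hb, hcx⟩ := h c hcN
  -- `⟨T, T ^ c⟩ = x ⟨T, T ^ w⟩ x⁻¹`
  have key : ∀ M : Subgroup A, (T : Subgroup A) ≤ M → C c ≤ M → M = ⊤ := by
    intro M h1 h2
    rw [eq_top_iff, ← hLtop]
    apply sup_le h1
    intro y hy
    rw [hmemC] at hy
    have h3 : x * y * x⁻¹ ∈ C c := by
      rw [hmemC, hcx]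
      have e1 : (x * w * b)⁻¹ * (x * y * x⁻¹) * (x * w * b) = b⁻¹ * (w⁻¹ * y * w) * b⁻¹⁻¹ := by group
      rw [e1]
      exact conj_mem_of_normalizer (inv_mem hb) hy
    have h4 := mul_mem (mul_mem (inv_mem (h1 hx)) (h2 h3)) (h1 hx)
    have e1 : x⁻¹ * (x * y * x⁻¹) * x = y := by group
    rwa [e1] at h4
  set N : Subgroup A := ((g • T : Sylow 2 A) : Subgroup A) ⊔
    ((g • T : Sylow 2 A) : Subgroup A).map (MulAut.conj a).toMonoidHom with hN
  have h1 := key (N.comap (MulAut.conj g).toMonoidHom) (by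
    intro t ht
    show g * t * g⁻¹ ∈ N
    exact mem_sup_left ⟨t, ht, rfl⟩) (by
    rintro _ ⟨t, ht, rfl⟩
    show g * (c * t * c⁻¹) * g⁻¹ ∈ N
    have e1 : g * (c * t * c⁻¹) * g⁻¹ = a * (g * t * g⁻¹) * a⁻¹ := by rw [hc]; group
    rw [e1]
    exact mem_sup_right ⟨g * t * g⁻¹, ⟨t, ht, rfl⟩, rfl⟩)
  rw [eq_top_iff]
  intro y _
  have h2 : g⁻¹ * y * g ∈ N.comap (MulAut.conj g).toMonoidHom := by rw [h1]; exact mem_top _
  have h3 : g * (g⁻¹ * y * g) * g⁻¹ ∈ N := h2
  have e1 : g * (g⁻¹ * y * g) * g⁻¹ = y := by group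
  rwa [e1] at h3

/-- a split (B,N)-pair of rank one -/
theorem twoGen_of_split {A : Type*} [Group A] [Finite A] [IsSimpleGroup A] {Q : Cfsg.BNPair A} {U : Subgroup A}
    {s : A} (h : FixBN.Split Q 2 U) (hS : Q.S = {s}) : TwoGen A := by
  have : Fact (Nat.Prime 2) := ⟨Nat.prime_two⟩
  obtain ⟨P₀, hP₀⟩ := h.isP.exists_le_sylow
  have h1 := split_eq_sylow h hP₀
  have hs : s ∈ Q.S := by rw [hS]; rfl
  refine twoGen_of_form P₀ s fun g hg => ?_
  rw [← h1, h.normalizer_eq] at hg ⊢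
  obtain ⟨v, hv, τ, hτ, u, hu, e⟩ := Over.form h hs (e := g) (by
    rw [← hS, parabolic_S_eq_top]
    exact mem_top g) hg
  exact ⟨v, hv, τ * u, mul_mem hτ.1 (h.le hu), by rw [e]; group⟩

theorem ns_of_sylow {A : Type*} [Group A] [Finite A] [hs : IsSimpleGroup A] (T : Sylow 2 A) {w : A}
    (hw : w ∉ normalizer ((T : Subgroup A) : Set A)) : NS A := by
  refine ⟨hs, ?_⟩
  by_contra hcon
  push Not at hcon
  apply hw
  rw [mem_normalizer_iff]
  intro x
  rw [hcon w x, mul_inv_cancel_right]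

/-! ### `L₂(q)` -/

theorem twoGen_sl2 {F : Type*} [Field F] [Finite F] [CharP F 2] : TwoGen (Matrix.SpecialLinearGroup (Fin 2) F) := by
  classical
  have : Fact (Nat.Prime 2) := ⟨Nat.prime_two⟩
  have : Fintype F := Fintype.ofFinite F
  intro P Q h
  exact LieClassical.SLTwoUnipotent.sylow_sup_eq_top 2 P Q h

theorem twoGen_psl2 {F : Type*} [Field F] [Finite F] [CharP F 2] :
    TwoGen (Matrix.ProjectiveSpecialLinearGroup (Fin 2) F) :=
  have : Finite (Matrix.SpecialLinearGroup (Fin 2) F) := inferInstance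
  twoGen_sl2.of_surjective (QuotientGroup.mk'_surjective (Subgroup.center (Matrix.SpecialLinearGroup (Fin 2) F)))

theorem ns_of_commutator {A : Type*} [Group A] [hs : IsSimpleGroup A] (h : commutator A = ⊤) : NS A := by
  refine ⟨hs, ?_⟩
  by_contra hcon
  push Not at hcon
  have h1 : commutator A = ⊥ := by
    rw [eq_bot_iff, commutator_def, commutator_le]
    intro a _ b _
    rw [mem_bot, commutatorElement_eq_one_iff_mul_comm]
    exact hcon a b
  rw [h1] at h
  exact bot_ne_top h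

theorem ns_psl2 {F : Type*} [Field F] [Finite F] (hF : 4 ≤ Nat.card F) :
    NS (Matrix.ProjectiveSpecialLinearGroup (Fin 2) F) := by
  classical
  have : Fintype F := Fintype.ofFinite F
  rw [Nat.card_eq_fintype_card] at hF
  have hs : IsSimpleGroup (Matrix.ProjectiveSpecialLinearGroup (Fin 2) F) :=
    TwoFusion.SLTwoFacts.isSimpleGroup_psl (by omega)
  apply ns_of_commutator
  have h1 := TwoFusion.SLTwoFacts.commutator_eq_top (F := F) (by omega)
  have h2 := Subgroup.map_commutator (⊤ : Subgroup (Matrix.SpecialLinearGroup (Fin 2) F)) ⊤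
    (QuotientGroup.mk' (Subgroup.center (Matrix.SpecialLinearGroup (Fin 2) F)))
  rw [← commutator_def, h1] at h2
  have h3 : (⊤ : Subgroup (Matrix.SpecialLinearGroup (Fin 2) F)).map
      (QuotientGroup.mk' (Subgroup.center (Matrix.SpecialLinearGroup (Fin 2) F))) = ⊤ := by
    rw [← MonoidHom.range_eq_map, MonoidHom.range_eq_top]
    exact QuotientGroup.mk'_surjective _
  rw [h3] at h2
  exact h2.symm

/-! ### `Sz(q)` -/

theorem exists_sz {A : Type*} [Group A] [Finite A] (h : Cfsg.Lie.IsoSuzuki A) : ∃ (T : Sylow 2 A) (w : A),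
    w ∉ normalizer ((T : Subgroup A) : Set A) ∧
      ∀ g ∉ normalizer ((T : Subgroup A) : Set A), ∃ a ∈ (T : Subgroup A),
        ∃ b ∈ normalizer ((T : Subgroup A) : Set A), g = a * w * b := by
  obtain ⟨F, iF, iFin, m, hm, hF, ⟨R⟩⟩ := ThreePrime.SzRel.exists_rel h
  obtain ⟨P, hP⟩ := R.exists_sylow_eq hm hF
  refine ⟨P, R.w, ?_, ?_⟩
  · rw [hP]; exact R.w_not_mem_normalizer
  · intro g hg
    rw [hP] at hg ⊢
    rcases R.bruhat g with ⟨a, b, k, h1⟩ | ⟨a, b, c, e, k, h1⟩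
    · exact absurd (by rw [h1]; exact R.ud_mem_normalizer a b k) hg
    · exact ⟨R.u a b, R.u_mem a b, R.u c e * R.d k, R.ud_mem_normalizer c e k, h1⟩

theorem twoGen_sz {A : Type*} [Group A] [Finite A] [IsSimpleGroup A] (h : Cfsg.Lie.IsoSuzuki A) : TwoGen A := by
  obtain ⟨T, w, -, h1⟩ := exists_sz h
  exact twoGen_of_form T w h1

theorem ns_sz {A : Type*} [Group A] [Finite A] [IsSimpleGroup A] (h : Cfsg.Lie.IsoSuzuki A) : NS A := by
  obtain ⟨T, w, h1, -⟩ := exists_sz h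
  exact ns_of_sylow T h1

/-! ### `U₃(q)` -/

section psu

open Cfsg.Agent.LieClassical.HermBasic
open Cfsg.Agent.ChevalleyStructure.CoxeterGeom Cfsg.Agent.Tits.Roots Cfsg.Agent.Nodes.TypeC
open Cfsg.Agent.Nodes.Comb Cfsg.Agent.Nodes.Reps Cfsg.Agent.Nodes.BNOf Cfsg.Agent.Nodes.RGDLib
open Cfsg.Agent.Nodes.WittRoot Cfsg.Agent.Nodes.WittU
open Cfsg.Agent.TitsThree Cfsg.Agent.TitsThree.Siegel Cfsg.Agent.TitsThree.SiegelGen
  Cfsg.Agent.TitsThree.WittFrame Cfsg.Agent.TitsThree.WBridge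
  Cfsg.Agent.TitsThree.FrameCN Cfsg.Agent.TitsThree.KSideU Cfsg.Agent.TitsThree.KSideUDesc

variable {F : Type*} [Field F] [Fintype F] {q : ℕ} (hF : Fintype.card F = q ^ 2)

include hF in
theorem isSimple_psu3 (hq : 3 ≤ q) : IsSimpleGroup (PSU 3 F q) :=
  Cfsg.Agent.S0283.result hF 3 le_rfl (by omega)

include hF in
theorem exists_split_psu3 [CharP F 2] (hq : 3 ≤ q) : ∃ (Q : Cfsg.BNPair (PSU 3 F q)) (U : Subgroup (PSU 3 F q))
    (s : PSU 3 F q), FixBN.Split Q 2 U ∧ Q.S = {s} := by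
  have hs := isSimple_psu3 hF hq
  have : Finite (PSU 3 F q) := inferInstance
  have : Fact (Nat.Prime 2) := ⟨Nat.prime_two⟩
  obtain ⟨W, -⟩ := exists_wframe_odd (N := 3) hF (m := 1) rfl
  obtain ⟨p0, hp0, -⟩ := exists_adm hF W
  have : Finite (CoxeterMatrix.B 1).Group := finite_W (CoxeterMatrix.B 1).toCoxeterSystem
  have R := Nodes.RGDAllP.rgd_model (p := 2) (KInstU.model hF (by norm_num) W) (amb_U hF W) hp0
    (CoxeterMatrix.B 1).toCoxeterSystem
  have hG := Nodes.WittModel.G1_eq_top (KInstU.model hF (by norm_num) W) (by omega)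
    (CoxeterMatrix.B 1).toCoxeterSystem
  refine ⟨R.bnPair (rgd_gen_of_G1 R hG), _,
    Nodes.WittModel.nw (KInstU.model hF (by norm_num) W) (amb_U hF W) p0 0,
    FixBN.OfRGD.split R _ (Fam.core_eq_bot R 0), ?_⟩
  show Set.range (Nodes.WittModel.nw (KInstU.model hF (by norm_num) W) (amb_U hF W) p0) = _
  rw [Set.range_unique]
  rfl

include hF in
theorem twoGen_psu3 [CharP F 2] (hq : 3 ≤ q) : TwoGen (PSU 3 F q) := by
  have hs := isSimple_psu3 hF hq
  have : Finite (PSU 3 F q) := inferInstance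
  obtain ⟨Q, U, s, h, hS⟩ := exists_split_psu3 hF hq
  exact twoGen_of_split h hS

include hF in
theorem ns_psu3 [CharP F 2] (hq : 3 ≤ q) : NS (PSU 3 F q) := by
  have hs := isSimple_psu3 hF hq
  have : Finite (PSU 3 F q) := inferInstance
  have : Fact (Nat.Prime 2) := ⟨Nat.prime_two⟩
  obtain ⟨Q, U, s, h, hS⟩ := exists_split_psu3 hF hq
  obtain ⟨P₀, hP₀⟩ := h.isP.exists_le_sylow
  refine ns_of_sylow P₀ (w := s) ?_
  rw [← split_eq_sylow h hP₀, h.normalizer_eq]
  exact not_mem_B (by rw [hS]; rfl)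

end psu

/-! ### The list of Bender's theorem -/

/-- `L₂(q)`, `Sz(q)`, `U₃(q)`, `q ≥ 4` even (the conclusion of `StrongEmb.Strong.result`) -/
def BenderList (A : Type*) [Group A] : Prop :=
  (∃ (F : Type) (_ : Field F) (_ : Fintype F), (∃ n : ℕ, 2 ≤ n ∧ Fintype.card F = 2 ^ n) ∧
      Nonempty (A ≃* Matrix.ProjectiveSpecialLinearGroup (Fin 2) F)) ∨
    Cfsg.Lie.IsoSuzuki A ∨
    (∃ (F : Type) (_ : Field F) (_ : Fintype F) (n : ℕ), 2 ≤ n ∧
      Fintype.card F = (2 ^ n) ^ 2 ∧ Nonempty (A ≃* Cfsg.PSU 3 F (2 ^ n)))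

theorem charP_two {F : Type*} [Field F] [Fintype F] {n : ℕ} (h : Fintype.card F = 2 ^ n) : CharP F 2 := by
  obtain ⟨p, hp⟩ := CharP.exists F
  have hpp : p.Prime := CharP.char_is_prime F p
  obtain ⟨k, -, hk⟩ := FiniteField.card F p
  have h1 : p ∣ 2 ^ n := by
    rw [← h, hk]
    exact dvd_pow_self p k.pos.ne'
  have h2 := (Nat.prime_dvd_prime_iff_eq hpp Nat.prime_two).1 (hpp.dvd_of_dvd_pow h1)
  rw [← h2]; exact hp

/-- **The groups of Bender's list are nodes.** -/
theorem node_of_benderList {A : Type*} [Group A] [Finite A] [IsSimpleGroup A] (h : BenderList A) : NS A ∧ TwoGen A := by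
  rcases h with ⟨F, _, _, ⟨n, hn, hF⟩, ⟨e⟩⟩ | h | ⟨F, _, _, n, hn, hF, ⟨e⟩⟩
  · have := charP_two hF
    have h4 : 4 ≤ Nat.card F := by
      rw [Nat.card_eq_fintype_card, hF]
      calc 4 = 2 ^ 2 := by norm_num
        _ ≤ 2 ^ n := Nat.pow_le_pow_right (by norm_num) hn
    have : Finite (Matrix.ProjectiveSpecialLinearGroup (Fin 2) F) := inferInstance
    exact ⟨(ns_psl2 h4).congr e.symm, twoGen_psl2.congr e.symm⟩
  · exact ⟨ns_sz h, twoGen_sz h⟩
  · have := charP_two (n := 2 * n) (by rw [hF, ← pow_mul, mul_comm])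
    have h3 : 3 ≤ 2 ^ n := by
      have : 2 ^ 2 ≤ 2 ^ n := Nat.pow_le_pow_right (by norm_num) hn
      omega
    have : Finite (PSU 3 F (2 ^ n)) := inferInstance
    exact ⟨(ns_psu3 hF h3).congr e.symm, (twoGen_psu3 hF h3).congr e.symm⟩

end Cfsg.Agent.ParSys
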