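import Cfsg.Agent.ParSys.KFact
import Cfsg.Agent.Involutions.BaerSuzuki

/-!
# Lie pairs from a homomorphism onto a group with a normal subgroup of Lie type of rank two

`M = P i ⊔ P j`, `φ : M → L`, `ε : E → L` injective with range normalised by `φ(M)` and contained in `φ(M)`, `φ(U)` a Sylow
`p`-subgroup of `ε(E)`, `B` contains the preimage of the normaliser of `φ(U)`, `B < P i, P j`, `P i ⊓ P j ≤ B`.  Then the
residue is a Lie pair (`LiePair.of_sylow`).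
-/

set_option autoImplicit false

namespace Cfsg.Agent.ParSys

open Subgroup
open Cfsg.Agent.LieExceptional.BNPairCore

variable {G : Type*} [Group G] {I : Type*} {L E : Type*} [Group L] [Group E]

/-- In a split (B,N)-pair `U` is a Sylow `p`-subgroup. -/
theorem split_sylow [Finite E] {p : ℕ} [hp : Fact p.Prime] {Q : Cfsg.BNPair E} {UE : Subgroup E}
    (h : FixBN.Split Q p UE) : ∃ T : Sylow p E, (T : Subgroup E) = UE := by
  obtain ⟨T, hT⟩ := h.isP.exists_le_sylow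
  refine ⟨T, ?_⟩
  by_contra hne
  obtain ⟨x, hx, hxU, hxN⟩ := Cfsg.Agent.Involutions.BaerSuzuki.exists_mem_normalizer_of_lt T.isPGroup'
    (lt_of_le_of_ne hT (fun e => hne e.symm))
  rw [h.normalizer_eq] at hxN
  obtain ⟨n, hn⟩ := T.isPGroup' ⟨x, hx⟩
  exact hxU (h.mem_of_pow hxN (n := n) (by simpa using congrArg Subtype.val hn))

/-- `p`-subgroups of `E` of the order of `UE` are conjugate to `UE`. -/
theorem split_conj [Finite E] {p : ℕ} [hp : Fact p.Prime] {Q : Cfsg.BNPair E} {UE : Subgroup E}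
    (h : FixBN.Split Q p UE) {V : Subgroup E} (hV : Nat.card V = Nat.card UE) :
    ∃ e : E, ∀ x, x ∈ V ↔ e⁻¹ * x * e ∈ UE := by
  obtain ⟨T, hT⟩ := split_sylow h
  have hVp : IsPGroup p V := by
    obtain ⟨n, hn⟩ := (IsPGroup.iff_card (p := p)).mp h.isP
    exact IsPGroup.of_card (n := n) (by rw [hV, hn])
  obtain ⟨T', hT'⟩ := hVp.exists_le_sylow
  have hcard : Nat.card T' = Nat.card V := by
    have h1 : Nat.card T' = Nat.card T := Nat.card_congr (T'.equiv T).toEquiv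
    rw [h1, hV]
    change Nat.card (T : Subgroup E) = _
    rw [hT]
  have hVT : V = (T' : Subgroup E) :=
    Subgroup.eq_of_le_of_card_ge hT' (le_of_eq hcard)
  obtain ⟨e, he⟩ := MulAction.exists_smul_eq E T T'
  refine ⟨e, fun x => ?_⟩
  rw [hVT, ← he, Sylow.coe_subgroup_smul, hT, Subgroup.mem_pointwise_smul_iff_inv_smul_mem, ← map_inv, MulAut.smul_def,
    MulAut.conj_apply, inv_inv]

/-- The hypotheses, with `φ(U) = ε(U_E)`. -/
structure BaseRes (p : ℕ) (B U : Subgroup G) (P : I → Subgroup G) (i j : I) (φ : ↥(P i ⊔ P j) →* L) (ε : E →* L)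
    (Q : Cfsg.BNPair E) (UE : Subgroup E) (s t : E) : Prop where
  le : ∀ a, B ≤ P a
  surj : Function.Surjective φ
  inj : Function.Injective ε
  split : FixBN.Split Q p UE
  S : Q.S = {s, t}
  ne : s ≠ t
  U_le : U ≤ B
  norm : ∀ b ∈ B, ∀ u ∈ U, b * u * b⁻¹ ∈ U
  U_to : ∀ u : ↥(P i ⊔ P j), (u : G) ∈ U → ∃ e ∈ UE, φ u = ε e
  U_of : ∀ e ∈ UE, ∃ u : ↥(P i ⊔ P j), (u : G) ∈ U ∧ φ u = ε e
  nor : ∀ (y : L) (e : E), ∃ e' : E, y * ε e * y⁻¹ = ε e'
  memB : ∀ x : ↥(P i ⊔ P j), (∀ u ∈ UE, ∃ v ∈ UE, φ x * ε u * (φ x)⁻¹ = ε v) → (x : G) ∈ B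
  lt : ∀ a, a = i ∨ a = j → ∃ x ∈ P a, x ∉ B
  inf : P i ⊓ P j ≤ B

namespace BaseRes

variable {p : ℕ} {B U : Subgroup G} {P : I → Subgroup G} {i j : I} {φ : ↥(P i ⊔ P j) →* L} {ε : E →* L}
  {Q : Cfsg.BNPair E} {UE : Subgroup E} {s t : E} (h : BaseRes p B U P i j φ ε Q UE s t)

include h

theorem hs : s ∈ Q.S := by rw [h.S]; simp

theorem ht : t ∈ Q.S := by rw [h.S]; simp

theorem ker {x : ↥(P i ⊔ P j)} (hx : φ x = 1) : (x : G) ∈ B :=
  h.memB x fun u hu => ⟨u, hu, by rw [hx]; simp⟩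

theorem B_of {e : E} (he : e ∈ Q.B) : ∃ b : ↥(P i ⊔ P j), (b : G) ∈ B ∧ φ b = ε e := by
  obtain ⟨x, hx⟩ := h.surj (ε e)
  refine ⟨x, h.memB x fun u hu => ⟨_, h.split.norm e he u hu, ?_⟩, hx⟩
  rw [hx]; simp only [map_mul, map_inv]

theorem cov [Finite E] [Fact p.Prime] (y : L) : ∃ e : E, ∃ b : ↥(P i ⊔ P j), (b : G) ∈ B ∧ y = ε e * φ b := by
  -- the automorphism induced by `y`
  choose c hc using h.nor y
  have hcm : ∀ a b, c (a * b) = c a * c b := by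
    intro a b
    apply h.inj
    rw [map_mul, ← hc, ← hc, ← hc, map_mul]; group
  let c' : E →* E := MonoidHom.mk' c hcm
  have hc' : ∀ a, c' a = c a := fun _ => rfl
  have hci : Function.Injective c' := by
    intro a b hab
    have h1 : ε (c a) = ε (c b) := by rw [← hc', ← hc', hab]
    rw [← hc, ← hc] at h1
    exact h.inj (mul_left_cancel (mul_right_cancel h1))
  obtain ⟨e, he⟩ := split_conj h.split (V := UE.map c')
    (Nat.card_congr (UE.equivMapOfInjective c' hci).symm.toEquiv)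
  obtain ⟨x, hx⟩ := h.surj ((ε e)⁻¹ * y)
  refine ⟨e, x, h.memB x fun u hu => ?_, by rw [hx, mul_inv_cancel_left]⟩
  refine ⟨e⁻¹ * c u * e, (he _).1 ⟨u, hu, rfl⟩, ?_⟩
  rw [hx, map_mul, map_mul, ← hc, map_inv]; group

theorem mem_BL {x : ↥(P i ⊔ P j)} : (x : G) ∈ B ↔ φ x ∈ LiePair.BL φ B := by
  constructor
  · intro hx
    exact ⟨x, mem_subgroupOf.2 hx, rfl⟩
  · rintro ⟨y, hy, e⟩
    have h1 : φ (y⁻¹ * x) = 1 := by rw [map_mul, map_inv, e, inv_mul_cancel]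
    have h3 := mul_mem (mem_subgroupOf.1 hy) (h.ker h1)
    have e2 : (y : G) * ((y⁻¹ * x : ↥(P i ⊔ P j)) : G) = x := by
      rw [coe_mul, coe_inv, mul_inv_cancel_left]
    rwa [e2] at h3

theorem mem_PL (a : I) {x : ↥(P i ⊔ P j)} : (x : G) ∈ P a ↔ φ x ∈ LiePair.BL φ (P a) := by
  constructor
  · intro hx
    exact ⟨x, mem_subgroupOf.2 hx, rfl⟩
  · rintro ⟨y, hy, e⟩
    have h1 : φ (y⁻¹ * x) = 1 := by rw [map_mul, map_inv, e, inv_mul_cancel]
    have h3 := mul_mem (mem_subgroupOf.1 hy) (h.le a (h.ker h1))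
    have e2 : (y : G) * ((y⁻¹ * x : ↥(P i ⊔ P j)) : G) = x := by
      rw [coe_mul, coe_inv, mul_inv_cancel_left]
    rwa [e2] at h3

theorem BL_le (a : I) : LiePair.BL φ B ≤ LiePair.BL φ (P a) := by
  rintro _ ⟨x, hx, rfl⟩
  exact ⟨x, mem_subgroupOf.2 (h.le a (mem_subgroupOf.1 hx)), rfl⟩

theorem le_sup (a : I) (ha : a = i ∨ a = j) : P a ≤ P i ⊔ P j := by
  rcases ha with rfl | rfl
  · exact le_sup_left
  · exact le_sup_right

theorem QB_le (a : I) : Q.B ≤ LiePair.PE φ ε a := by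
  intro e he
  obtain ⟨b, hb, e1⟩ := h.B_of he
  exact h.BL_le a ⟨b, mem_subgroupOf.2 hb, e1⟩

/-- `P a = E_a B` -/
theorem exists_PE [Finite E] [Fact p.Prime] {a : I} {y : L} (hy : y ∈ LiePair.BL φ (P a)) :
    ∃ e ∈ LiePair.PE φ ε a, ∃ c ∈ LiePair.BL φ B, y = ε e * c := by
  obtain ⟨e, b, hb, rfl⟩ := h.cov y
  have hb' : φ b ∈ LiePair.BL φ B := ⟨b, mem_subgroupOf.2 hb, rfl⟩
  refine ⟨e, ?_, φ b, hb', rfl⟩
  rw [LiePair.mem_PE]
  have := mul_mem hy (inv_mem (h.BL_le a hb'))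
  rwa [mul_inv_cancel_right] at this

/-- `PE a = Q.B` is impossible -/
theorem PE_ne_B [Finite E] [Fact p.Prime] {a : I} (ha : a = i ∨ a = j) (h1 : LiePair.PE φ ε a ≤ Q.B) : False := by
  obtain ⟨x, hx, hxB⟩ := h.lt a ha
  have hxM := h.le_sup a ha hx
  obtain ⟨e, he, c, hc, e1⟩ := h.exists_PE ((h.mem_PL a (x := ⟨x, hxM⟩)).1 hx)
  obtain ⟨b, hb, e2⟩ := h.B_of (h1 he)
  apply hxB
  have h4 : φ ⟨x, hxM⟩ ∈ LiePair.BL φ B := by
    rw [e1, ← e2]
    exact mul_mem ⟨b, mem_subgroupOf.2 hb, rfl⟩ hc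
  exact h.mem_BL.2 h4

/-- `PE a = E` is impossible -/
theorem PE_ne_top [Finite E] [Fact p.Prime] {a b : I} (hab : (a = i ∧ b = j) ∨ (a = j ∧ b = i))
    (h1 : LiePair.PE φ ε a = ⊤) : False := by
  have ha : a = i ∨ a = j := hab.imp (fun h => h.1) (fun h => h.1)
  have hb : b = i ∨ b = j := hab.symm.imp (fun h => h.2) (fun h => h.2)
  obtain ⟨x, hx, hxB⟩ := h.lt b hb
  have hxM := h.le_sup b hb hx
  obtain ⟨e, c, hc, e1⟩ := h.cov (φ ⟨x, hxM⟩)
  have he : e ∈ LiePair.PE φ ε a := by rw [h1]; trivial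
  have h2 : φ ⟨x, hxM⟩ ∈ LiePair.BL φ (P a) := by
    rw [e1]
    exact mul_mem (LiePair.mem_PE.1 he) (h.BL_le a ⟨c, mem_subgroupOf.2 hc, rfl⟩)
  have h3 : x ∈ P a := (h.mem_PL a).2 h2
  apply hxB
  rcases hab with ⟨rfl, rfl⟩ | ⟨rfl, rfl⟩
  · exact h.inf ⟨h3, hx⟩
  · exact h.inf ⟨hx, h3⟩

theorem PE_cases [Finite E] [Fact p.Prime] {a : I} (ha : a = i ∨ a = j) :
    ∃ r ∈ Q.S, LiePair.PE φ ε a = Q.parabolic {r} := by
  have h1 := eq_parabolic (h.QB_le a)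
  have h2 : ∃ r ∈ Q.S, r ∈ LiePair.PE φ ε a := by
    by_contra hcon
    push Not at hcon
    have h3 : Q.S ∩ (LiePair.PE φ ε a : Set E) = ∅ := by
      ext x
      simp only [Set.mem_inter_iff, SetLike.mem_coe, Set.mem_empty_iff_false, iff_false, not_and]
      exact hcon x
    rw [h3, Cfsg.Agent.Schreier.BNSch.parabolic_empty] at h1
    exact h.PE_ne_B ha (le_of_eq h1)
  have h3 : ¬ (s ∈ LiePair.PE φ ε a ∧ t ∈ LiePair.PE φ ε a) := by
    rintro ⟨hs, ht⟩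
    have h4 : Q.S ∩ (LiePair.PE φ ε a : Set E) = Q.S := by
      rw [Set.inter_eq_left, h.S]
      rintro x (rfl | rfl)
      · exact hs
      · exact ht
    have h5 : LiePair.PE φ ε a = ⊤ := by
      rw [h1, h4]
      exact Cfsg.Agent.Schreier.BNSch.sup_closure_eq_top Q
    rcases ha with rfl | rfl
    · exact h.PE_ne_top (b := j) (Or.inl ⟨rfl, rfl⟩) h5
    · exact h.PE_ne_top (b := i) (Or.inr ⟨rfl, rfl⟩) h5
  obtain ⟨r, hr, hra⟩ := h2
  refine ⟨r, hr, ?_⟩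
  have h4 : Q.S ∩ (LiePair.PE φ ε a : Set E) = {r} := by
    rw [h.S] at hr ⊢
    ext x
    simp only [Set.mem_inter_iff, Set.mem_insert_iff, Set.mem_singleton_iff, SetLike.mem_coe] at hr ⊢
    constructor
    · rintro ⟨rfl | rfl, hx⟩
      · rcases hr with rfl | rfl
        · rfl
        · exact absurd ⟨hx, hra⟩ h3
      · rcases hr with rfl | rfl
        · exact absurd ⟨hra, hx⟩ h3
        · rfl
    · rintro rfl
      exact ⟨hr, hra⟩
  rw [h1, h4]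

/-- **`U` is transitive on the panels** -/
theorem ptr [Finite E] [Fact p.Prime] {a : I} (ha : a = i ∨ a = j) : Hall.HallData.PTr B U (P a) := by
  obtain ⟨r, hr, hPr⟩ := h.PE_cases ha
  have hdec : ∀ x ∈ P a, x ∉ B → ∃ (hx : x ∈ P i ⊔ P j) (v : E) (c : L), v ∈ UE ∧ c ∈ LiePair.BL φ B ∧
      φ ⟨x, hx⟩ = ε (v * r) * c := by
    intro x hx hxB
    have hxM := h.le_sup a ha hx
    obtain ⟨e, he, c, hc, e1⟩ := h.exists_PE ((h.mem_PL a (x := ⟨x, hxM⟩)).1 hx)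
    rw [hPr] at he
    have heB : e ∉ Q.B := by
      intro h3
      obtain ⟨b, hb, e2⟩ := h.B_of h3
      apply hxB
      have h4 : φ ⟨x, hxM⟩ ∈ LiePair.BL φ B := by
        rw [e1, ← e2]
        exact mul_mem ⟨b, mem_subgroupOf.2 hb, rfl⟩ hc
      exact h.mem_BL.2 h4
    obtain ⟨c1, hc1, d, hd, rfl⟩ := mem_C.1 (mem_C_of_parabolic hr he heB)
    obtain ⟨v, hv, τ, hτ, rfl⟩ := h.split.cover' hc1
    have h5 : r⁻¹ * τ * r * d ∈ Q.B := mul_mem (conj_mem_inv (mem_N hr) (mem_inf.1 hτ).1 (mem_inf.1 hτ).2) hd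
    obtain ⟨b, hb, e2⟩ := h.B_of h5
    refine ⟨hxM, v, ε (r⁻¹ * τ * r * d) * c, hv, mul_mem (by rw [← e2]; exact ⟨b, mem_subgroupOf.2 hb, rfl⟩) hc, ?_⟩
    rw [e1]
    simp only [map_mul, map_inv]; group
  intro g hg hgB g' hg' hgB'
  obtain ⟨hgM, v, c, hv, hc, e1⟩ := hdec g hg hgB
  obtain ⟨hgM', v', c', hv', hc', e1'⟩ := hdec g' hg' hgB'
  obtain ⟨u, hu, e2⟩ := h.U_of (v' * v⁻¹) (mul_mem hv' (inv_mem hv))
  refine ⟨u, hu, ((u : G) * g)⁻¹ * g', ?_, by group⟩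
  have h2 : φ ((u * ⟨g, hgM⟩)⁻¹ * ⟨g', hgM'⟩) ∈ LiePair.BL φ B := by
    have e3 : φ ((u * ⟨g, hgM⟩)⁻¹ * ⟨g', hgM'⟩) = c⁻¹ * c' := by
      simp only [map_mul, map_inv, e1, e1', e2]; group
    rw [e3]
    exact mul_mem (inv_mem hc) hc'
  have h3 := h.mem_BL.2 h2
  rwa [coe_mul, coe_inv, coe_mul] at h3

/-- **The residue is a Lie pair.** -/
theorem liePair [Finite E] [Fact p.Prime] : LiePair p B U P i j φ ε Q UE s t where
  le := h.le
  surj := h.surj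
  ker := fun _ hx => h.ker hx
  inj := h.inj
  split := h.split
  S := h.S
  ne := h.ne
  U_le := h.U_le
  U_to := h.U_to
  U_of := h.U_of
  B_of := fun _ he => h.B_of he
  norm := h.norm
  cov := h.cov
  ptr := fun _ ha => h.ptr ha
  lt := h.lt
  inf := h.inf

end BaseRes

end Cfsg.Agent.ParSys
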