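import Mathlib
import Cfsg.Agent.ParSys.FreeMain

/-!
# Transitivity of `B` on the galleries of reduced type implies a BN-pair

`B ≤ P i`, the residues of rank two are generalised polygons (`GP`), every panel has at least three chambers, `W` finite,
`B` transitive on the galleries of every reduced type which start in the chamber `B`.
-/

set_option autoImplicit false

namespace Cfsg.Agent.ParSys.Free

open Cfsg.Agent.ParSys Cfsg.Agent.Tits.Core

variable {G : Type*} [Group G] {I : Type*} {M : CoxeterMatrix I} {W : Type*} [Group W]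
  {cs : CoxeterSystem M W} {B : Subgroup G} {P : I → Subgroup G}

/-- independence of the reduced word -/
theorem mem_D_iff [Finite I] [Finite W] (hC : Cham (adj B P) (fun i j => M i j)) {f : List I}
    (hf : cs.IsReduced f) {x : G} : x ∈ Sys.D cs B P (cs.wordProd f) ↔
      ∃ l, IsGal (adj B P) f ((1 : G) : G ⧸ B) l ∧ l.getLastD ((1 : G) : G ⧸ B) = (x : G ⧸ B) := by
  constructor
  · rintro ⟨f', hf', he, l, hl, hx⟩
    have hfg : FG (adj B P) id f' ((1 : G) : G ⧸ B) (x : G ⧸ B) := ⟨rfl, l, hl, fun _ _ => rfl, hx⟩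
    obtain ⟨-, l', hl', -, hx'⟩ := FG.br hC (fun i c d h => h) (br_of_reduced cs hf' hf he) hfg
    exact ⟨l', hl', hx'⟩
  · rintro ⟨l, hl, hx⟩
    exact ⟨f, hf, rfl, l, hl, hx⟩

/-- **Bruhat decomposition from the transitivity on galleries.** -/
theorem cosets_of_trans [Finite I] [Finite W] (hBP : ∀ i, B ≤ P i) (hgen : ⨆ i, P i = ⊤)
    (hgp : GP B P (fun i j => M i j)) (three : ∀ i, ∃ x ∈ P i, ∃ y ∈ P i, x ∉ B ∧ y ∉ B ∧ x⁻¹ * y ∉ B)
    (htr : ∀ f, cs.IsReduced f → ∀ l l' : List (G ⧸ B), IsGal (adj B P) f ((1 : G) : G ⧸ B) l →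
      IsGal (adj B P) f ((1 : G) : G ⧸ B) l' → ∃ u ∈ B, l' = l.map (u • ·)) :
    Bruhat.Cosets cs B P (Sys.D cs B P) := by
  have hC : Cham (adj B P) (fun i j => M i j) := Free.cham hBP (fun i => by
    obtain ⟨x, hx, -, -, h1, -, -⟩ := three i
    exact ⟨x, hx, h1⟩) hgp
  exact
  { single := by
      intro w
      obtain ⟨f, hf, rfl⟩ := cs.exists_isReduced w
      obtain ⟨l, hl⟩ := exists_isGal hC.ex f ((1 : G) : G ⧸ B)
      obtain ⟨x, hx⟩ := QuotientGroup.mk_surjective (l.getLastD ((1 : G) : G ⧸ B))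
      refine ⟨x, ?_⟩
      ext y
      rw [mem_D_iff hC hf, DoubleCoset.mem_doubleCoset]
      constructor
      · rintro ⟨l', hl', hy⟩
        obtain ⟨u, hu, rfl⟩ := htr f hf l l' hl hl'
        have h1 : (u : G) • ((1 : G) : G ⧸ B) = ((1 : G) : G ⧸ B) := by
          rw [Sys.smul_mk_eq]; simpa using hu
        have h2 := getLastD_map (fun c : G ⧸ B => (u : G) • c) ((1 : G) : G ⧸ B) l
        have h3 : (l.map (u • ·)).getLastD ((1 : G) : G ⧸ B) = (u : G) • (x : G ⧸ B) := by
          rw [hx, ← h2, h1]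
        rw [h3] at hy
        have h4 : ((u * x : G) : G ⧸ B) = (y : G ⧸ B) := hy
        rw [QuotientGroup.eq] at h4
        exact ⟨u, hu, _, h4, by group⟩
      · rintro ⟨a, ha, b, hb, rfl⟩
        have h1 : (a : G) • ((1 : G) : G ⧸ B) = ((1 : G) : G ⧸ B) := by
          rw [Sys.smul_mk_eq]; simpa using ha
        have h2 := hl.map (g := fun c : G ⧸ B => a • c) (fun i c d hcd => adj_smul a hcd)
        have h3 := getLastD_map (fun c : G ⧸ B => a • c) ((1 : G) : G ⧸ B) l
        simp only [h1] at h2 h3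
        refine ⟨_, h2, ?_⟩
        rw [h3, ← hx]
        have e : a • (x : G ⧸ B) = ((a * x : G) : G ⧸ B) := rfl
        rw [e, QuotientGroup.eq]
        have e' : (a * x)⁻¹ * (a * x * b) = b := by group
        rw [e']; exact hb
    one := ⟨[], by simp [CoxeterSystem.IsReduced], rfl, [], by simp, rfl⟩
    le := hBP
    up := by
      intro w i hlt x hx p hp hpB
      obtain ⟨f, hf, rfl⟩ := cs.exists_isReduced w
      obtain ⟨l, hl, hx⟩ := (mem_D_iff hC hf).1 hx
      have hred : cs.IsReduced (f ++ [i]) := by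
        show cs.length (cs.wordProd (f ++ [i])) = (f ++ [i]).length
        rw [cs.wordProd_append, cs.wordProd_singleton, List.length_append, List.length_singleton, ← hf.eq]
        rcases cs.length_mul_simple (cs.wordProd f) i with h1 | h1 <;> omega
      have e : cs.wordProd f * cs.simple i = cs.wordProd (f ++ [i]) := by
        rw [cs.wordProd_append, cs.wordProd_singleton]
      rw [e, mem_D_iff hC hred]
      refine ⟨l ++ [((x * p : G) : G ⧸ B)], hl.append ?_, ?_⟩
      · rw [hx]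
        refine ⟨?_, trivial⟩
        rw [adj_mk hBP, inv_mul_cancel_left]
        exact ⟨hp, hpB⟩
      · rw [getLastD_append]; rfl
    gen := hgen
    three := three }

/-- **The BN-pair from the transitivity on galleries of reduced type.** -/
theorem exists_bnPair_of_trans [Finite I] [Finite W] (hBP : ∀ i, B ≤ P i) (hgen : ⨆ i, P i = ⊤)
    (hgp : GP B P (fun i j => M i j)) (three : ∀ i, ∃ x ∈ P i, ∃ y ∈ P i, x ∉ B ∧ y ∉ B ∧ x⁻¹ * y ∉ B)
    (htr : ∀ f, cs.IsReduced f → ∀ l l' : List (G ⧸ B), IsGal (adj B P) f ((1 : G) : G ⧸ B) l →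
      IsGal (adj B P) f ((1 : G) : G ⧸ B) l' → ∃ u ∈ B, l' = l.map (u • ·)) :
    ∃ Q : Cfsg.BNPair G, Q.B = B ∧ Q.rank = Nat.card I ∧ (∃ e : I ≃ Q.S, ∀ i, (e i : G) ∈ P i) ∧
      ((∀ J : Set I, J.Nonempty → Jᶜ.Nonempty → ∃ i ∈ J, ∃ j ∈ Jᶜ, M i j ≠ 2) → Q.Irreducible) :=
  (cosets_of_trans hBP hgen hgp three htr).exists_bnPair

end Cfsg.Agent.ParSys.Free
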