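import Cfsg.Agent.ParSys.GExt
import Cfsg.Agent.ParSys.FrontSys
import Cfsg.Agent.ParSys.ProdPair

/-!
# THEOREM PAR, final form

`PSys U E L R`: `U` is a 2-group, `E i ≥ U` are subgroups which generate `G` and are generated by the conjugates of `U`;
`L i ≤ E i` (think of `O²(E i)`), `R i` (think of `O₂(E i)`).  Every pair `E i`, `E j` is of Lie type of rank two (`LieP`)
or a product (`ProdP`).  Then `G` has a (B,N)-pair of rank `|I|` (`PSys.exists_bnPair`).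
-/

set_option autoImplicit false

universe u

namespace Cfsg.Agent.ParSys

open Subgroup
open Cfsg.Agent.LieExceptional.BNPairCore

/-- the pair `Ei`, `Ej` is of Lie type of rank two; `X Q UF s t` is a further property of the quotient -/
def LieX {G : Type u} [Group G] (X : ∀ (F : Type u) [Group F] (_ : Cfsg.BNPair F) (_ : Subgroup F) (_ _ : F), Prop)
    (U Ei Ej : Subgroup G) : Prop :=
  ∃ (O : Subgroup G) (F : Type u) (_ : Group F) (_ : Finite F) (ψ : ↥(Ei ⊔ Ej) →* F) (Q : Cfsg.BNPair F)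
    (UF : Subgroup F) (s t : F), GExt U Ei Ej O ψ Q UF s t ∧ X F Q UF s t

/-- a pair of Lie type of rank two -/
def LieP {G : Type u} [Group G] (U Ei Ej : Subgroup G) : Prop := LieX (fun _ _ _ _ _ _ => True) U Ei Ej

/-- a pair of Lie type of rank two, not `L₃(4)`: the torus of the residue separates the two nodes -/
def LieS {G : Type u} [Group G] (U Ei Ej : Subgroup G) : Prop :=
  LieX (fun _ _ Q UF s t => SepE Q UF s t ∨ SepE Q UF t s) U Ei Ej

/-- a pair of Lie type of rank two such that the torus of `Ej` is fixed-point-free on the panel of `Ei` -/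
def LieF {G : Type u} [Group G] (U Ei Ej : Subgroup G) : Prop := LieX (fun _ _ Q UF s t => FpfR Q UF s t) U Ei Ej

theorem GExt.symm {G F : Type*} [Group G] [Group F] {U Ei Ej O : Subgroup G} {ψ : ↥(Ei ⊔ Ej) →* F}
    {Q : Cfsg.BNPair F} {UF : Subgroup F} {s t : F} (D : GExt U Ei Ej O ψ Q UF s t) :
    GExt U Ej Ei O (ψ.comp (Subgroup.inclusion (sup_comm Ej Ei).le)) Q UF t s where
  K := D.K.symm
  T := D.T.symm
  surj := fun e => by
    obtain ⟨x, rfl⟩ := D.surj e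
    exact ⟨⟨x, (sup_comm Ei Ej).le x.2⟩, rfl⟩
  Ui := D.Uj
  Uj := D.Ui
  isP := D.isP
  O_le := D.O_le
  O_norm := by rw [sup_comm]; exact D.O_norm
  O_ker := fun x hx => D.O_ker _ hx
  central := fun z hz x => D.central _ hz (Subgroup.inclusion (sup_comm Ej Ei).le x)
  cop := fun z hz => D.cop _ hz
  img := by
    intro e
    rw [D.img]
    constructor
    · rintro ⟨u, hu, rfl⟩
      exact ⟨⟨u, (sup_comm Ei Ej).le u.2⟩, hu, rfl⟩
    · rintro ⟨u, hu, rfl⟩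
      exact ⟨_, hu, rfl⟩
  geni := D.genj
  genj := D.geni
  imi := fun x hx => D.imj _ hx
  imj := fun x hx => D.imi _ hx
  noti := by
    obtain ⟨x, hx, h⟩ := D.notj
    exact ⟨⟨x, (sup_comm Ei Ej).le x.2⟩, hx, h⟩
  notj := by
    obtain ⟨x, hx, h⟩ := D.noti
    exact ⟨⟨x, (sup_comm Ei Ej).le x.2⟩, hx, h⟩

theorem LieX.symm {G : Type u} [Group G]
    {X Y : ∀ (F : Type u) [Group F] (_ : Cfsg.BNPair F) (_ : Subgroup F) (_ _ : F), Prop}
    (hXY : ∀ (F : Type u) [Group F] (Q : Cfsg.BNPair F) (UF : Subgroup F) (s t : F), X F Q UF s t → Y F Q UF t s)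
    {U Ei Ej : Subgroup G} (h : LieX X U Ei Ej) : LieX Y U Ej Ei := by
  obtain ⟨O, F, _, _, ψ, Q, UF, s, t, hG, hX⟩ := h
  exact ⟨O, F, inferInstance, inferInstance, _, Q, UF, t, s, hG.symm, hXY F Q UF s t hX⟩

theorem LieP.symm {G : Type u} [Group G] {U Ei Ej : Subgroup G} (h : LieP U Ei Ej) : LieP U Ej Ei :=
  LieX.symm (fun _ _ _ _ _ _ _ => trivial) h

theorem LieS.symm {G : Type u} [Group G] {U Ei Ej : Subgroup G} (h : LieS U Ei Ej) : LieS U Ej Ei :=
  LieX.symm (fun _ _ _ _ _ _ h => h.symm) h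

theorem LieX.lieP {G : Type u} [Group G]
    {X : ∀ (F : Type u) [Group F] (_ : Cfsg.BNPair F) (_ : Subgroup F) (_ _ : F), Prop}
    {U Ei Ej : Subgroup G} (h : LieX X U Ei Ej) : LieP U Ei Ej := by
  obtain ⟨O, F, _, _, ψ, Q, UF, s, t, hG, -⟩ := h
  exact ⟨O, F, inferInstance, inferInstance, _, Q, UF, s, t, hG, trivial⟩

/-- a product pair -/
def ProdP {G : Type u} [Group G] (U Ei Ej Li Lj : Subgroup G) : Prop :=
  ∃ O : Subgroup G, O ≤ U ∧ Ei ≤ normalizer (O : Set G) ∧ Ej ≤ normalizer (O : Set G) ∧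
    ∀ x ∈ Li, ∀ y ∈ Lj, x * y * x⁻¹ * y⁻¹ ∈ O

variable {G : Type u} [Group G] {I : Type*}

/-- The torus of a third node `k`, which forms a product pair with `i`, separates the nodes `i` and `j`. -/
def Third (U : Subgroup G) (E L : I → Subgroup G) (i j : I) : Prop :=
  ∃ k, k ≠ i ∧ k ≠ j ∧ ProdP U (E i) (E k) (L i) (L k) ∧ LieF U (E j) (E k)

/-- The hypotheses of THEOREM PAR. -/
structure PSys (U : Subgroup G) (E L R : I → Subgroup G) : Prop where
  isP : IsPGroup 2 U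
  U_le : ∀ i, U ≤ E i
  gen : ⨆ i, E i = ⊤
  L_le : ∀ i, L i ≤ E i
  EL : ∀ i, ∀ x ∈ E i, ∃ l ∈ L i, ∃ u ∈ U, x = l * u
  L_norm : ∀ i, normalizer (E i : Set G) ≤ normalizer (L i : Set G)
  R_le : ∀ i, R i ≤ U
  R_norm : ∀ i, E i ≤ normalizer (R i : Set G)
  perf : ∀ i, U ≤ ⁅L i, L i⁆ ⊔ R i
  pair : ∀ i j, i ≠ j → LieP U (E i) (E j) ∨ ProdP U (E i) (E j) (L i) (L j)
  ex : ∀ i, ∃ j, i ≠ j ∧ LieP U (E i) (E j)
  /-- the tori separate the nodes of a Lie pair: automatic if the residue is not `L₃(4)`, otherwise with a third node -/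
  sep : ∀ i j, i ≠ j → LieP U (E i) (E j) →
    LieS U (E i) (E j) ∨ Third U E L i j ∨ Third U E L j i ∨
      SepG 2 (Bo U E) U (Pa U E i) (Pa U E j) ∨ SepG 2 (Bo U E) U (Pa U E j) (Pa U E i)

theorem ProdP.symm {U Ei Ej Li Lj : Subgroup G} (h : ProdP U Ei Ej Li Lj) : ProdP U Ej Ei Lj Li := by
  obtain ⟨O, h1, h2, h3, h4⟩ := h
  refine ⟨O, h1, h3, h2, fun x hx y hy => ?_⟩
  have := inv_mem (h4 y hy x hx)
  have e : (y * x * y⁻¹ * x⁻¹)⁻¹ = x * y * x⁻¹ * y⁻¹ := by group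
  rwa [e] at this

namespace PSys

variable {U : Subgroup G} {E L R : I → Subgroup G} (D : PSys U E L R)

include D

/-- the two factors of a product pair -/
theorem prod_norm {i j : I} (h : ProdP U (E i) (E j) (L i) (L j)) {x : G} (hx : x ∈ Tn U (E j)) :
    x ∈ normalizer (E i : Set G) := by
  obtain ⟨O, hO, -, -, hc⟩ := h
  obtain ⟨l, hl, u, hu, rfl⟩ := D.EL j x hx.1
  have huN : u ∈ normalizer (U : Set G) := Subgroup.le_normalizer hu
  have hx2 : l * u ∈ normalizer (U : Set G) := hx.2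
  have hlN : l ∈ normalizer (U : Set G) := by
    have := mul_mem hx2 (inv_mem huN)
    rwa [mul_inv_cancel_right] at this
  have key : ∀ l' ∈ L j, l' ∈ normalizer (U : Set G) → ∀ y ∈ E i, l' * y * l'⁻¹ ∈ E i := by
    intro l' hl' hlN' y hy
    obtain ⟨a, ha, v, hv, rfl⟩ := D.EL i y hy
    have h1 := hc a ha l' hl'
    have h2 : l' * a * l'⁻¹ = (a * l' * a⁻¹ * l'⁻¹)⁻¹ * a := by group
    have e : l' * (a * v) * l'⁻¹ = (l' * a * l'⁻¹) * (l' * v * l'⁻¹) := by group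
    rw [e, h2]
    exact mul_mem (mul_mem (inv_mem (D.U_le i (hO h1))) (D.L_le i ha)) (D.U_le i (conj_mem_of_normalizer hlN' hv))
  have hlE : l ∈ normalizer (E i : Set G) := by
    rw [Subgroup.mem_normalizer_iff]
    intro y
    refine ⟨key l hl hlN y, fun hy => ?_⟩
    have := key l⁻¹ (inv_mem hl) (inv_mem hlN) _ hy
    have e : l⁻¹ * (l * y * l⁻¹) * l⁻¹⁻¹ = y := by group
    rwa [e] at this
  exact mul_mem hlE (Subgroup.le_normalizer (D.U_le i hu))

theorem prod_comm {i j : I} (h : ProdP U (E i) (E j) (L i) (L j)) {x y : G} (hx : x ∈ Tn U (E i))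
    (hy : y ∈ Tn U (E j)) : x * y * x⁻¹ * y⁻¹ ∈ U := by
  obtain ⟨O, hO, -, -, hc⟩ := h
  obtain ⟨a, ha, u, hu, rfl⟩ := D.EL i x hx.1
  obtain ⟨b, hb, v, hv, rfl⟩ := D.EL j y hy.1
  have huN : u ∈ normalizer (U : Set G) := Subgroup.le_normalizer hu
  have hvN : v ∈ normalizer (U : Set G) := Subgroup.le_normalizer hv
  have hx2 : a * u ∈ normalizer (U : Set G) := hx.2
  have hy2 : b * v ∈ normalizer (U : Set G) := hy.2
  have haN : a ∈ normalizer (U : Set G) := by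
    have := mul_mem hx2 (inv_mem huN)
    rwa [mul_inv_cancel_right] at this
  have hbN : b ∈ normalizer (U : Set G) := by
    have := mul_mem hy2 (inv_mem hvN)
    rwa [mul_inv_cancel_right] at this
  have h1 := hO (hc a ha b hb)
  -- everything modulo `U`
  have hxx : (a * u) * (b * v) * (a * u)⁻¹ * (b * v)⁻¹ =
      (a * (u * (b * v * u⁻¹ * (b)⁻¹)) * a⁻¹) * (a * b * a⁻¹ * b⁻¹) * (b * v⁻¹ * b⁻¹) := by group
  rw [hxx]
  have h2 : b * v * u⁻¹ * b⁻¹ ∈ U := by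
    have := conj_mem_of_normalizer hbN (mul_mem hv (inv_mem hu))
    have e : b * (v * u⁻¹) * b⁻¹ = b * v * u⁻¹ * b⁻¹ := by group
    rwa [e] at this
  exact mul_mem (mul_mem (conj_mem_of_normalizer haN (mul_mem hu h2)) h1)
    (conj_mem_of_normalizer hbN (inv_mem hv))

/-- **The Borel subgroup is global.** -/
theorem front : Front 2 U E where
  le := D.U_le
  isP := D.isP
  cop := by
    intro i x hx
    obtain ⟨j, hij, h⟩ := D.ex i
    obtain ⟨O, F, _, _, ψ, Q, UF, s, t, hG, -⟩ := h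
    exact hG.odd ((le_sup_left : E i ≤ _) hx.1) hx.2
  norm := by
    intro i j x hx
    by_cases hij : i = j
    · subst hij
      exact Subgroup.le_normalizer hx.1
    · rcases D.pair i j hij with h | h
      · obtain ⟨O, F, _, _, ψ, Q, UF, s, t, hG, -⟩ := h
        exact hG.norm_i ((le_sup_right : E j ≤ _) hx.1) hx.2
      · exact D.prod_norm h hx
  comm := by
    intro i j x hx y hy
    by_cases hij : i = j
    · subst hij
      obtain ⟨j, hij, h⟩ := D.ex i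
      obtain ⟨O, F, _, _, ψ, Q, UF, s, t, hG, -⟩ := h
      exact hG.comm ((le_sup_left : E i ≤ _) hx.1) hx.2 ((le_sup_left : E i ≤ _) hy.1) hy.2
    · rcases D.pair i j hij with h | h
      · obtain ⟨O, F, _, _, ψ, Q, UF, s, t, hG, -⟩ := h
        exact hG.comm ((le_sup_left : E i ≤ _) hx.1) hx.2 ((le_sup_right : E j ≤ _) hy.1) hy.2
      · exact D.prod_comm h hx hy

end PSys

/-! ### Lie pairs -/

section lie

variable {U : Subgroup G} {E : I → Subgroup G} (Fr : Front 2 U E) {F : Type*} [Group F]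
  {i j : I} {O : Subgroup G} {ψ : ↥(E i ⊔ E j) →* F} {Q : Cfsg.BNPair F} {UF : Subgroup F} {s t : F}
  (D : GExt U (E i) (E j) O ψ Q UF s t)

/-- the parabolics of the quotient -/
noncomputable def PF (Q : Cfsg.BNPair F) (s t : F) (i : I) (k : I) : Subgroup F := by
  classical exact if k = i then Q.parabolic {s} else Q.parabolic {t}

theorem PF_left (Q : Cfsg.BNPair F) (s t : F) (i : I) : PF Q s t i i = Q.parabolic {s} := by
  unfold PF; rw [if_pos rfl]

theorem PF_right (Q : Cfsg.BNPair F) (s t : F) {i j : I} (h : i ≠ j) : PF Q s t i j = Q.parabolic {t} := by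
  unfold PF; rw [if_neg (Ne.symm h)]

/-- the relation between `G` and `F` -/
def Th (U : Subgroup G) (E : I → Subgroup G) {i j : I} (ψ : ↥(E i ⊔ E j) →* F) (g : G) (e : F) : Prop :=
  ∃ y : ↥(E i ⊔ E j), ψ y = e ∧ (y : G)⁻¹ * g ∈ Bo U E

include D in
theorem GExt.gen_le [Finite F] : (E i ⊔ E j) ⊓ normalizer (U : Set G) ≤ Bo U E :=
  D.gen.trans (sup_le (Front.Tn_le i) (Front.Tn_le j))

include Fr D in
theorem GExt.mem_Pa_i [Finite F] (x : ↥(E i ⊔ E j)) : (x : G) ∈ Pa U E i ↔ ψ x ∈ Q.parabolic {s} := by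
  constructor
  · intro hx
    obtain ⟨e, he, b, hb, h1⟩ := Fr.mem_Pa hx
    have heM : e ∈ E i ⊔ E j := (le_sup_left : E i ≤ _) he
    have hbM : b ∈ E i ⊔ E j := by
      have := mul_mem (inv_mem heM) x.2
      rwa [h1, inv_mul_cancel_left] at this
    have h2 : x = ⟨e, heM⟩ * ⟨b, hbM⟩ := Subtype.ext h1
    rw [h2, map_mul]
    exact mul_mem (D.imi _ he) ((le_sup_left : Q.B ≤ _) ((D.mem_iff _).1 (Front.Bo_le_norm hb)))
  · intro hx
    by_cases hB : ψ x ∈ Q.B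
    · exact Front.Bo_le_Pa i (D.gen_le ⟨x.2, (D.mem_iff x).2 hB⟩)
    · obtain ⟨v, hv, b, hb, h1⟩ := D.K.form D.K.hs hx hB
      obtain ⟨e, he, heB⟩ := D.noti
      obtain ⟨w, hw, c, hc, h2⟩ := D.K.form D.K.hs (D.imi e he) heB
      obtain ⟨y, hy, h3⟩ := (D.img _).1 (mul_mem hv (inv_mem hw))
      -- `ψ (y e)⁻¹ ψ x = c⁻¹ b`
      have h4 : ψ ((y * e)⁻¹ * x) ∈ Q.B := by
        have e1 : ψ ((y * e)⁻¹ * x) = c⁻¹ * b := by
          rw [map_mul, map_inv, map_mul, h1, h2, h3]; group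
        rw [e1]; exact mul_mem (inv_mem hc) hb
      have h5 : (((y * e)⁻¹ * x : ↥(E i ⊔ E j)) : G) ∈ Bo U E := D.gen_le ⟨Subtype.property _, (D.mem_iff _).2 h4⟩
      have h6 : (x : G) = (y : G) * e * (((y * e)⁻¹ * x : ↥(E i ⊔ E j)) : G) := by push_cast; group
      rw [h6]
      exact mul_mem (mul_mem (Front.E_le_Pa i (D.Ui hy)) (Front.E_le_Pa i he)) (Front.Bo_le_Pa i h5)

include Fr D in
theorem GExt.mem_Pa_j [Finite F] (x : ↥(E i ⊔ E j)) : (x : G) ∈ Pa U E j ↔ ψ x ∈ Q.parabolic {t} := by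
  constructor
  · intro hx
    obtain ⟨e, he, b, hb, h1⟩ := Fr.mem_Pa hx
    have heM : e ∈ E i ⊔ E j := (le_sup_right : E j ≤ _) he
    have hbM : b ∈ E i ⊔ E j := by
      have := mul_mem (inv_mem heM) x.2
      rwa [h1, inv_mul_cancel_left] at this
    have h2 : x = ⟨e, heM⟩ * ⟨b, hbM⟩ := Subtype.ext h1
    rw [h2, map_mul]
    exact mul_mem (D.imj _ he) ((le_sup_left : Q.B ≤ _) ((D.mem_iff _).1 (Front.Bo_le_norm hb)))
  · intro hx
    by_cases hB : ψ x ∈ Q.B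
    · exact Front.Bo_le_Pa j (D.gen_le ⟨x.2, (D.mem_iff x).2 hB⟩)
    · obtain ⟨v, hv, b, hb, h1⟩ := D.K.form D.K.ht hx hB
      obtain ⟨e, he, heB⟩ := D.notj
      obtain ⟨w, hw, c, hc, h2⟩ := D.K.form D.K.ht (D.imj e he) heB
      obtain ⟨y, hy, h3⟩ := (D.img _).1 (mul_mem hv (inv_mem hw))
      have h4 : ψ ((y * e)⁻¹ * x) ∈ Q.B := by
        have e1 : ψ ((y * e)⁻¹ * x) = c⁻¹ * b := by
          rw [map_mul, map_inv, map_mul, h1, h2, h3]; group
        rw [e1]; exact mul_mem (inv_mem hc) hb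
      have h5 : (((y * e)⁻¹ * x : ↥(E i ⊔ E j)) : G) ∈ Bo U E := D.gen_le ⟨Subtype.property _, (D.mem_iff _).2 h4⟩
      have h6 : (x : G) = (y : G) * e * (((y * e)⁻¹ * x : ↥(E i ⊔ E j)) : G) := by push_cast; group
      rw [h6]
      exact mul_mem (mul_mem (Front.E_le_Pa j (D.Uj hy)) (Front.E_le_Pa j he)) (Front.Bo_le_Pa j h5)

include Fr D in
/-- the link of a Lie pair -/
theorem GExt.linkPair [Finite F] (hij : i ≠ j) :
    LinkPair 2 (Bo U E) U (Pa U E) i j Q UF s t (PF Q s t i) (Th U E ψ) := by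
  have hne : Nonempty I := ⟨i⟩
  have hact : ∀ (y : ↥(E i ⊔ E j)), Acts (Bo U E) (Th U E ψ) (y : G) (ψ y) := by
    intro y g x g' ⟨z, hz, hz'⟩ ⟨w, hw, hw'⟩
    -- `ψ (y z) = ψ w`
    have h1 : ψ ((y * z)⁻¹ * w) = 1 := by rw [map_mul, map_inv, map_mul, hw, hz]; group
    have h2 : (((y * z)⁻¹ * w : ↥(E i ⊔ E j)) : G) ∈ Bo U E :=
      D.gen_le ⟨Subtype.property _, (D.mem_iff _).2 (by rw [h1]; exact one_mem _)⟩
    have e : ((y : G) * g)⁻¹ * g' = ((z : G)⁻¹ * g)⁻¹ * (((y * z)⁻¹ * w : ↥(E i ⊔ E j)) : G) *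
        ((w : G)⁻¹ * g') := by push_cast; group
    rw [e]
    exact mul_mem (mul_mem (inv_mem hz') h2) hw'
  exact {
    link := Fr.link D.gen_le ψ D.surj D.mem_iff (by
      rintro k (rfl | rfl) x
      · rw [PF_left]; exact D.mem_Pa_i Fr x
      · rw [PF_right Q s t hij]; exact D.mem_Pa_j Fr x)
    Pi := PF_left Q s t i
    Pj := PF_right Q s t hij
    split := D.K.split
    S := D.K.S
    ne := D.K.ne
    U_le := Fr.U_le_Bo
    U_to := by
      intro u hu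
      have h1 : u ∈ E i ⊔ E j := (le_sup_left : E i ≤ _) (D.Ui hu)
      exact ⟨ψ ⟨u, h1⟩, (D.img _).2 ⟨⟨u, h1⟩, hu, rfl⟩, hact ⟨u, h1⟩⟩
    U_of := by
      intro e he
      obtain ⟨u, hu, rfl⟩ := (D.img _).1 he
      exact ⟨u, hu, hact u⟩ }

include D in
theorem GExt.acts [Finite F] (y : ↥(E i ⊔ E j)) : Acts (Bo U E) (Th U E ψ) (y : G) (ψ y) := by
  intro g x g' ⟨z, hz, hz'⟩ ⟨w, hw, hw'⟩
  have h1 : ψ ((y * z)⁻¹ * w) = 1 := by rw [map_mul, map_inv, map_mul, hw, hz]; group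
  have h2 : (((y * z)⁻¹ * w : ↥(E i ⊔ E j)) : G) ∈ Bo U E :=
    D.gen_le ⟨Subtype.property _, (D.mem_iff _).2 (by rw [h1]; exact one_mem _)⟩
  have e : ((y : G) * g)⁻¹ * g' = ((z : G)⁻¹ * g)⁻¹ * (((y * z)⁻¹ * w : ↥(E i ⊔ E j)) : G) *
      ((w : G)⁻¹ * g') := by push_cast; group
  rw [e]
  exact mul_mem (mul_mem (inv_mem hz') h2) hw'

end lie

end Cfsg.Agent.ParSys
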