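import Cfsg.Agent.ParSys.PSys

/-!
# THEOREM PAR, final form: the proof

`PSys.exists_bnPair`.
-/

set_option autoImplicit false

universe u

namespace Cfsg.Agent.ParSys

open Subgroup
open Cfsg.Agent.LieExceptional.BNPairCore

/-- If `h` acts fixed-point-freely on `U / V` then so does `h w`, `w ∈ U`. -/
theorem fpf_twist {X : Type*} [Group X] [Finite X] {U V : Subgroup X} (hUV : U ≤ normalizer (V : Set X)) {h : X}
    (hhU : h ∈ normalizer (U : Set X)) (hhV : h ∈ normalizer (V : Set X))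
    (hf : ∀ u ∈ U, h * u * h⁻¹ * u⁻¹ ∈ V → u ∈ V) {w : X} (hw : w ∈ U) :
    ∀ u ∈ U, (h * w) * u * (h * w)⁻¹ * u⁻¹ ∈ V → u ∈ V := by
  have h1 := cover_comm (U := U) (T := U) (Q := V) (h := h) le_rfl (fun u hu => conj_mem_of_normalizer hhU hu)
    (fun q hq _ => conj_mem_of_normalizer hhV hq) (fun u hu q hq => conj_mem_of_normalizer (hUV hu) hq) hf
    (fun u hu => ⟨u, hu, by rw [inv_mul_cancel]; exact one_mem _⟩)
  obtain ⟨y, hy, h2⟩ := h1 (h * w * h⁻¹)⁻¹ (inv_mem (conj_mem_of_normalizer hhU hw))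
  -- `h w ≡ y h y⁻¹` modulo `V`
  have hc : h * y * h⁻¹ * y⁻¹ ∈ U := mul_mem (conj_mem_of_normalizer hhU hy) (inv_mem hy)
  have h3 := conj_mem_of_normalizer (hUV hc) (inv_mem h2)
  have h4 := conj_mem_of_normalizer' hhV h3
  set z : X := h⁻¹ * (h * y * h⁻¹ * y⁻¹ * ((h * y * h⁻¹ * y⁻¹)⁻¹ * (h * w * h⁻¹)⁻¹)⁻¹ *
    (h * y * h⁻¹ * y⁻¹)⁻¹) * h with hz
  have h5 : h * w = y * h * y⁻¹ * z := by rw [hz]; group
  have hyN : y * h * y⁻¹ ∈ normalizer (V : Set X) := mul_mem (mul_mem (hUV hy) hhV) (inv_mem (hUV hy))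
  intro u hu h6
  rw [h5] at h6
  have h7 : y * h * y⁻¹ * (z * (u * z⁻¹ * u⁻¹)) * (y * h * y⁻¹)⁻¹ ∈ V :=
    conj_mem_of_normalizer hyN (mul_mem h4 (conj_mem_of_normalizer (hUV hu) (inv_mem h4)))
  have h8 := mul_mem (inv_mem h7) h6
  have e1 : (y * h * y⁻¹ * (z * (u * z⁻¹ * u⁻¹)) * (y * h * y⁻¹)⁻¹)⁻¹ *
      (y * h * y⁻¹ * z * u * (y * h * y⁻¹ * z)⁻¹ * u⁻¹) = y * h * y⁻¹ * u * (y * h * y⁻¹)⁻¹ * u⁻¹ := by group
  rw [e1] at h8
  have h9 := conj_mem_of_normalizer' (hUV hy) h8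
  have e2 : y⁻¹ * (y * h * y⁻¹ * u * (y * h * y⁻¹)⁻¹ * u⁻¹) * y =
      h * (y⁻¹ * u * y) * h⁻¹ * (y⁻¹ * u * y)⁻¹ := by group
  rw [e2] at h9
  have h10 := conj_mem_of_normalizer (hUV hy) (hf _ (mul_mem (mul_mem (inv_mem hy) hu) hy) h9)
  have e3 : y * (y⁻¹ * u * y) * y⁻¹ = u := by group
  rwa [e3] at h10

/-- `(h v)ⁿ ∈ hⁿ U` -/
theorem mul_pow_mem {X : Type*} [Group X] {U : Subgroup X} {h v : X} (hh : h ∈ normalizer (U : Set X)) (hv : v ∈ U)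
    (n : ℕ) : (h ^ n)⁻¹ * (h * v) ^ n ∈ U := by
  induction n with
  | zero => simp
  | succ n ih =>
    have h1 := conj_mem_of_normalizer' hh ih
    have e : (h ^ (n + 1))⁻¹ * (h * v) ^ (n + 1) = h⁻¹ * ((h ^ n)⁻¹ * (h * v) ^ n) * h * v := by
      rw [pow_succ, pow_succ]; group
    rw [e]
    exact mul_mem h1 hv

variable {G : Type u} [Group G] {I : Type*}

/-- `E i`-invariant subgroups of `U` lie in the kernel of the panel -/
theorem Front.le_Qk [Nonempty I] {p : ℕ} {U : Subgroup G} {E : I → Subgroup G} (Fr : Front p U E) {i : I}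
    {O : Subgroup G} (hO : O ≤ U) (hN : E i ≤ normalizer (O : Set G)) : O ≤ Qk (Bo U E) (Pa U E i) := by
  intro x hx g hg
  obtain ⟨e, he, b, hb, rfl⟩ := Fr.mem_Pa hg
  have h1 := conj_mem_of_normalizer' (hN he) hx
  have h2 := mul_mem (mul_mem (inv_mem hb) (Fr.U_le_Bo (hO h1))) hb
  have e1 : (e * b)⁻¹ * x * (e * b) = b⁻¹ * (e⁻¹ * x * e) * b := by group
  rwa [e1]

/-- the torus of the rank one group at `t` is covered by `Ej` -/
theorem GExt.exists_lift_j {G F : Type*} [Group G] [Group F] [Finite F] {U Ei Ej O : Subgroup G}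
    {ψ : ↥(Ei ⊔ Ej) →* F} {Q : Cfsg.BNPair F} {UF : Subgroup F} {s t : F} (D : GExt U Ei Ej O ψ Q UF s t) {h : F}
    (hh : h ∈ Rone UF t) : ∃ x : ↥(Ei ⊔ Ej), (x : G) ∈ Ej ∧ ψ x = h := by
  have hle : Rone UF t ≤ (Ej.subgroupOf (Ei ⊔ Ej)).map ψ := by
    have h1 : UF ≤ (Ej.subgroupOf (Ei ⊔ Ej)).map ψ := by
      intro e he
      obtain ⟨u, hu, rfl⟩ := (D.img e).1 he
      exact ⟨u, D.Uj hu, rfl⟩
    apply sup_le h1
    rintro _ ⟨v, hv, rfl⟩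
    obtain ⟨e, he, heB⟩ := D.notj
    obtain ⟨w, hw, c, hc, h2⟩ := D.K.form D.K.ht (D.imj e he) heB
    have hv : v ∈ UF := hv
    have h3 : c⁻¹ * v * c ∈ UF := by
      have := D.K.split.norm c⁻¹ (inv_mem hc) v hv
      rwa [inv_inv] at this
    have h4 : ψ e ∈ (Ej.subgroupOf (Ei ⊔ Ej)).map ψ := ⟨e, he, rfl⟩
    have e1 : (MulAut.conj t).toMonoidHom v = w⁻¹ * (ψ e * (c⁻¹ * v * c) * (ψ e)⁻¹) * w := by
      show t * v * t⁻¹ = _
      rw [h2]; group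
    rw [e1]
    exact mul_mem (mul_mem (inv_mem (h1 hw)) (mul_mem (mul_mem h4 (h1 h3)) (inv_mem h4))) (h1 hw)
  obtain ⟨x, hx, h5⟩ := hle hh
  exact ⟨x, hx, h5⟩

namespace PSys

variable {U : Subgroup G} {E L R : I → Subgroup G} (D : PSys U E L R)

include D

/-- **The torus of a third node.** -/
theorem sepG_of_third [Finite G] {i j : I} (h : Third U E L i j) : SepG 2 (Bo U E) U (Pa U E i) (Pa U E j) := by
  obtain ⟨k, hki, hkj, hprod, O, F, _, _, ψ, Q, UF, s, t, hG, h, hh, hhT, hfpf⟩ := h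
  have hne : Nonempty I := ⟨i⟩
  have Fr := D.front
  have lp := hG.linkPair Fr hkj.symm
  obtain ⟨x, hxE, rfl⟩ := hG.exists_lift_j hh
  have hB := (mem_inf.1 hhT).1
  have hxN : (x : G) ∈ normalizer (U : Set G) := (hG.mem_iff x).2 hB
  obtain ⟨l, hl, u, hu, hx⟩ := D.EL k x hxE
  have hlE : l ∈ E k := D.L_le k hl
  have hlN : l ∈ normalizer (U : Set G) := by
    rw [hx] at hxN
    have := mul_mem hxN (inv_mem (Subgroup.le_normalizer hu))
    rwa [mul_inv_cancel_right] at this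
  have hlM : l ∈ E j ⊔ E k := (le_sup_right : E k ≤ _) hlE
  have huM : u ∈ E j ⊔ E k := (le_sup_right : E k ≤ _) (D.U_le k hu)
  -- the odd part of `l`
  obtain ⟨n, hn, hln⟩ := hG.odd hlM hlN
  obtain ⟨a, ha⟩ := D.isP ⟨_, hln⟩
  have ha' : l ^ (n * 2 ^ a) = 1 := by
    have := congrArg Subtype.val ha
    rw [pow_mul]; simpa using this
  obtain ⟨m, hm, hmT⟩ := hG.K.split.tor
  have hcop : Nat.Coprime (2 ^ a) (n * m) := Nat.Coprime.pow_left _ (Nat.Coprime.mul_right hn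
    ((Nat.Prime.coprime_iff_not_dvd Nat.prime_two).2 hm))
  obtain ⟨N, hN1, hN2⟩ := Nat.chineseRemainder hcop 0 1
  obtain ⟨c, hc⟩ := Nat.modEq_zero_iff_dvd.1 hN1
  set y : G := l ^ N with hy
  have hyn : y ^ n = 1 := by
    rw [hy, hc, ← pow_mul]
    have e : 2 ^ a * c * n = n * 2 ^ a * c := by ring
    rw [e, pow_mul, ha', one_pow]
  have hyL : y ∈ L k := pow_mem hl N
  have hyN : y ∈ normalizer (U : Set G) := pow_mem hlN N
  have hyB : y ∈ Bo U E := Front.Tn_le k ⟨D.L_le k hyL, hyN⟩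
  have hyM : y ∈ E j ⊔ E k := pow_mem hlM N
  -- its image
  have hxe : x = ⟨l, hlM⟩ * ⟨u, huM⟩ := Subtype.ext hx
  have huF : ψ ⟨u, huM⟩ ∈ UF := (hG.img _).2 ⟨⟨u, huM⟩, hu, rfl⟩
  have hUFn : ∀ b ∈ Q.B, b ∈ normalizer (UF : Set F) := by
    intro b hb
    rw [Subgroup.mem_normalizer_iff]
    intro v
    refine ⟨fun hv => hG.K.split.norm b hb v hv, fun hv => ?_⟩
    have := hG.K.split.norm b⁻¹ (inv_mem hb) _ hv
    have e : b⁻¹ * (b * v * b⁻¹) * b⁻¹⁻¹ = v := by group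
    rwa [e] at this
  have hl' : ψ ⟨l, hlM⟩ = ψ x * (ψ ⟨u, huM⟩)⁻¹ := by rw [hxe, map_mul, mul_inv_cancel_right]
  have hyF : ∃ w ∈ UF, ψ ⟨y, hyM⟩ = ψ x * w := by
    have h1 := mul_pow_mem (hUFn _ hB) (inv_mem huF) N
    refine ⟨_, h1, ?_⟩
    have h2 : ψ x ^ N = ψ x := by
      have h3 : orderOf (ψ x) ∣ n * m := (orderOf_dvd_of_pow_eq_one
        (hmT _ (mem_inf.1 hhT).1 (mem_inf.1 hhT).2)).trans (dvd_mul_left m n)
      have h4 := pow_eq_pow_iff_modEq.2 (hN2.of_dvd h3)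
      rwa [pow_one] at h4
    have h5 : (⟨y, hyM⟩ : ↥(E j ⊔ E k)) = ⟨l, hlM⟩ ^ N := Subtype.ext (by simp [hy])
    rw [h5, map_pow, hl', h2, mul_inv_cancel_left]
  obtain ⟨w, hw, hyw⟩ := hyF
  obtain ⟨V, hV, hVB⟩ := lp.exists_V hG.K.hs
  have hBV : ∀ b ∈ Q.B, b ∈ normalizer (V : Set F) := by
    intro b hb
    rw [Subgroup.mem_normalizer_iff]
    intro v
    refine ⟨fun hv => hVB b hb v hv, fun hv => ?_⟩
    have := hVB b⁻¹ (inv_mem hb) _ hv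
    have e : b⁻¹ * (b * v * b⁻¹) * b⁻¹⁻¹ = v := by group
    rwa [e] at this
  have hUB := hG.K.split.le
  have key := fpf_twist (U := UF) (V := V) (h := ψ x) (fun v hv => hBV v (hUB hv)) (hUFn _ hB) (hBV _ hB)
    (fun v hv h1 => (hV v hv).1 (hfpf v hv ((hV _ (mul_mem (hG.K.split.norm _ hB v hv) (inv_mem hv))).2 h1))) hw
  refine ⟨y, hyB, ⟨n, hn, hyn⟩, ?_, ?_⟩
  · -- `[y, U] ≤ Q i`
    obtain ⟨O', hO', hOi, -, hcomm⟩ := hprod
    intro v hv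
    have h1 : v ∈ L i ⊔ R i := by
      have h2 : ⁅L i, L i⁆ ⊔ R i ≤ L i ⊔ R i := sup_le_sup_right (Subgroup.commutator_le_self _) _
      exact h2 (D.perf i hv)
    have hRN : R i ≤ normalizer (L i : Set G) :=
      ((D.R_le i).trans ((D.U_le i).trans Subgroup.le_normalizer)).trans (D.L_norm i)
    rw [sup_comm] at h1
    obtain ⟨b, hb, r, hr, rfl⟩ := Solvable.Glauberman.exists_mul_of_mem_sup (R i) (L i) hRN h1
    have hOQ := Fr.le_Qk hO' hOi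
    have hRQ := Fr.le_Qk (D.R_le i) (D.R_norm i)
    have h3 : y * b * y⁻¹ * b⁻¹ ∈ Qk (Bo U E) (Pa U E i) := by
      have := inv_mem (hOQ (hcomm b hb y hyL))
      have e : (b * y * b⁻¹ * y⁻¹)⁻¹ = y * b * y⁻¹ * b⁻¹ := by group
      rwa [e] at this
    have h4 : y * r * y⁻¹ * r⁻¹ ∈ Qk (Bo U E) (Pa U E i) :=
      mul_mem (Qk_conj' (hRQ hr) (Front.Bo_le_Pa i hyB)) (inv_mem (hRQ hr))
    have e : y * (b * r) * y⁻¹ * (b * r)⁻¹ = y * b * y⁻¹ * b⁻¹ * (b * (y * r * y⁻¹ * r⁻¹) * b⁻¹) := by group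
    rw [e]
    exact mul_mem h3 (Qk_conj' h4 (Front.E_le_Pa i (D.L_le i hb)))
  · intro v hv h1
    have hvM : v ∈ E j ⊔ E k := (le_sup_left : E j ≤ _) (D.U_le j hv)
    have hcU : y * v * y⁻¹ * v⁻¹ ∈ U := mul_mem (conj_mem_of_normalizer hyN hv) (inv_mem hv)
    have hvF : ψ ⟨v, hvM⟩ ∈ UF := (hG.img _).2 ⟨⟨v, hvM⟩, hv, rfl⟩
    have h2 := hG.acts (E := E) ((⟨y, hyM⟩ : ↥(E j ⊔ E k)) * ⟨v, hvM⟩ * (⟨y, hyM⟩ : ↥(E j ⊔ E k))⁻¹ *
      (⟨v, hvM⟩ : ↥(E j ⊔ E k))⁻¹)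
    have h3 : y * v * y⁻¹ * v⁻¹ = (((⟨y, hyM⟩ : ↥(E j ⊔ E k)) * ⟨v, hvM⟩ * (⟨y, hyM⟩ : ↥(E j ⊔ E k))⁻¹ *
      (⟨v, hvM⟩ : ↥(E j ⊔ E k))⁻¹ : ↥(E j ⊔ E k)) : G) := by push_cast; rfl
    rw [← h3] at h2
    have h4 := (lp.mem_Qk_iff (Or.inl rfl) hG.K.hs lp.Pi hcU h2).1 h1
    rw [map_mul, map_mul, map_mul, map_inv, map_inv, hyw] at h4
    have hc2 : ψ x * w * ψ ⟨v, hvM⟩ * (ψ x * w)⁻¹ * (ψ ⟨v, hvM⟩)⁻¹ ∈ UF :=
      mul_mem (hG.K.split.norm _ (mul_mem hB (hUB hw)) _ hvF) (inv_mem hvF)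
    have h5 := key _ hvF ((hV _ hc2).1 h4)
    exact (lp.mem_Qk_iff (Or.inl rfl) hG.K.hs lp.Pi hv (hG.acts (E := E) ⟨v, hvM⟩)).2 ((hV _ hvF).2 h5)

/-- the two panels of a product pair form a product -/
theorem prodPair {i j : I} (h : ProdP U (E i) (E j) (L i) (L j)) :
    Pair (Bo U E) (Pa U E i) (Pa U E j) (L i) (L j) := by
  have hne : Nonempty I := ⟨i⟩
  have Fr := D.front
  obtain ⟨O, hO, hOi, hOj, hc⟩ := h
  have heq : ∀ k, ∀ x ∈ Pa U E k, ∃ l ∈ L k, ∃ b ∈ Bo U E, x = l * b := by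
    intro k x hx
    obtain ⟨e, he, b, hb, rfl⟩ := Fr.mem_Pa hx
    obtain ⟨l, hl, u, hu, rfl⟩ := D.EL k e he
    exact ⟨l, hl, u * b, mul_mem (Fr.U_le_Bo hu) hb, by group⟩
  exact {
    left := Front.Bo_le_Pa i
    right := Front.Bo_le_Pa j
    L_le := (D.L_le i).trans (Front.E_le_Pa i)
    M_le := (D.L_le j).trans (Front.E_le_Pa j)
    eqP := heq i
    eqQ := heq j
    normL := (Fr.Bo_norm i).trans (D.L_norm i)
    normM := (Fr.Bo_norm j).trans (D.L_norm j)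
    comm := by
      intro x hx y hy
      have := hc x⁻¹ (inv_mem hx) y⁻¹ (inv_mem hy)
      rw [inv_inv, inv_inv] at this
      exact Fr.U_le_Bo (hO this) }

/-- the rank one conditions -/
theorem node [Finite G] (i : I) :
    (∃ x ∈ Pa U E i, ∃ y ∈ Pa U E i, x ∉ Bo U E ∧ y ∉ Bo U E ∧ x⁻¹ * y ∉ Bo U E) ∧
    Hall.HallData.PTr (Bo U E) U (Pa U E i) ∧
    (∀ u ∈ U, ∀ g ∈ Pa U E i, g ∉ Bo U E → g⁻¹ * u * g ∈ Bo U E → u ∈ Qk (Bo U E) (Pa U E i)) ∧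
    ∀ H : Subgroup G, Hall.HallData 2 (Bo U E) U H → ∀ c ∈ U, c ∈ centralizer (H : Set G) →
      c ∈ Qk (Bo U E) (Pa U E i) := by
  have Fr := D.front
  obtain ⟨j, hij, O, F, _, _, ψ, Q, UF, s, t, hG, -⟩ := D.ex i
  have lp := hG.linkPair Fr hij
  exact ⟨lp.three (Or.inl rfl), lp.ptr (Or.inl rfl), fun u hu g hg hgB h => lp.reg (Or.inl rfl) hu hg hgB h,
    fun H hall => lp.fix hall hG.K.fpfs⟩

/-- the two panels of a product pair are different -/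
theorem prod_ne [Finite G] {i j : I} (h : ProdP U (E i) (E j) (L i) (L j)) : Pa U E i ≠ Pa U E j := by
  have hne : Nonempty I := ⟨i⟩
  have Fr := D.front
  intro he
  have hp := D.prodPair h
  obtain ⟨⟨x, hx, y, hy, hxB, hyB, hxy⟩, ptr, -, -⟩ := D.node i
  obtain ⟨u, hu, b, hb, h1⟩ := ptr x hx hxB y hy hyB
  have h2 : u ∈ L i ⊔ R i := by
    have h2 : ⁅L i, L i⁆ ⊔ R i ≤ L i ⊔ R i := sup_le_sup_right (Subgroup.commutator_le_self _) _
    exact h2 (D.perf i hu)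
  have hRN : R i ≤ normalizer (L i : Set G) :=
    ((D.R_le i).trans ((D.U_le i).trans Subgroup.le_normalizer)).trans (D.L_norm i)
  rw [sup_comm] at h2
  obtain ⟨l, hl, r, hr, rfl⟩ := Solvable.Glauberman.exists_mul_of_mem_sup (R i) (L i) hRN h2
  have hlU : l ∈ U := by
    have := mul_mem hu (inv_mem (D.R_le i hr))
    rwa [mul_inv_cancel_right] at this
  have h3 : x⁻¹ * l * x ∈ Bo U E := hp.fix hl (Fr.U_le_Bo hlU) (he ▸ hx)
  have h4 := Fr.le_Qk (D.R_le i) (D.R_norm i) hr x hx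
  apply hxy
  have e : x⁻¹ * y = x⁻¹ * l * x * (x⁻¹ * r * x) * b := by
    have : y = l * r * x * b⁻¹⁻¹ := by rw [inv_inv, ← h1]
    rw [this]; group
  rw [e]
  exact mul_mem (mul_mem h3 h4) hb

theorem prod_fields [Finite G] {H : Subgroup G} (hall : Hall.HallData 2 (Bo U E) U H) (hUH : U ⊔ H = Bo U E)
    {i j : I} (h : ProdP U (E i) (E j) (L i) (L j)) :
    Polygon (Bo U E) (Pa U E) i j 2 ∧ SepT (Bo U E) U H (Pa U E i) (Pa U E j) ∧
      ∀ T ≤ U, H ≤ normalizer (T : Set G) →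
        (∀ u ∈ U, ∃ t ∈ T, t⁻¹ * u ∈ Qk (Bo U E) (Pa U E i) ∧ t⁻¹ * u ∈ Qk (Bo U E) (Pa U E j)) →
          ∀ u ∈ U, ∃ t ∈ T, t⁻¹ * u ∈ Qk (Bo U E) (Pa U E i ⊔ Pa U E j) := by
  have hne : Nonempty I := ⟨i⟩
  have Fr := D.front
  obtain ⟨⟨x, hx, -, -, hxB, -, -⟩, ptri, -, -⟩ := D.node i
  obtain ⟨⟨y, hy, -, -, hyB, -, -⟩, ptrj, regj, -⟩ := D.node j
  exact (D.prodPair h).fields hall (D.prod_ne h) ptri ptrj ⟨x, hx, hxB⟩ ⟨y, hy, hyB⟩ regj
    ((D.perf j).trans (sup_le_sup_left (Fr.le_Qk (D.R_le j) (D.R_norm j)) _))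
    (not_dvd_relIndex_of_le hall hUH.ge inf_le_right le_sup_left)

/-- a polygon for each pair, with `m ≥ 3` for Lie pairs -/
theorem exists_m [Finite G] {i j : I} (hij : i ≠ j) :
    ∃ m, 2 ≤ m ∧ Polygon (Bo U E) (Pa U E) i j m ∧ (LieP U (E i) (E j) → 3 ≤ m) := by
  have hne : Nonempty I := ⟨i⟩
  have Fr := D.front
  by_cases hL : LieP U (E i) (E j)
  · obtain ⟨O, F, _, _, ψ, Q, UF, s, t, hG, -⟩ := hL
    obtain ⟨m, h1, h2, h3⟩ := (hG.linkPair Fr hij).exists_polygon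
    exact ⟨m, h1, h2, fun _ => h3.2 hG.K.irr⟩
  · obtain ⟨H, hall, hUH⟩ := Fr.exists_hall
    exact ⟨2, le_rfl, (D.prod_fields hall hUH ((D.pair i j hij).resolve_left hL)).1, fun h => absurd h hL⟩

/-- the gonality -/
noncomputable def gon (U : Subgroup G) (E : I → Subgroup G) (i j : I) : ℕ :=
  sInf {m | 2 ≤ m ∧ Polygon (Bo U E) (Pa U E) i j m ∧ (LieP U (E i) (E j) → 3 ≤ m)}

omit D in
theorem gon_symm (i j : I) : gon U E i j = gon U E j i := by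
  unfold gon
  congr 1
  ext m
  exact ⟨fun ⟨h1, h2, h3⟩ => ⟨h1, h2.symm, fun h => h3 h.symm⟩, fun ⟨h1, h2, h3⟩ => ⟨h1, h2.symm, fun h => h3 h.symm⟩⟩

theorem gon_spec [Finite G] {i j : I} (hij : i ≠ j) :
    2 ≤ gon U E i j ∧ Polygon (Bo U E) (Pa U E) i j (gon U E i j) ∧ (LieP U (E i) (E j) → 3 ≤ gon U E i j) :=
  Nat.sInf_mem (D.exists_m hij)

/-- **THEOREM PAR**: a parabolic system all whose rank two residues are of Lie type in characteristic two. -/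
theorem sys [Nonempty I] [Finite G] : ∃ H : Subgroup G, Sys 2 (Bo U E) U H (Pa U E) (gon U E) := by
  have Fr := D.front
  obtain ⟨H, hall, hUH⟩ := Fr.exists_hall
  exact ⟨H, {
    hall := hall
    gen := by
      rw [eq_top_iff, ← D.gen]
      exact iSup_mono fun i => Front.E_le_Pa i
    le := Front.Bo_le_Pa
    three := fun i => (D.node i).1
    ptr := fun i => (D.node i).2.1
    reg := fun i => (D.node i).2.2.1
    fix := fun i => (D.node i).2.2.2 H hall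
    m_two := fun i j hij => (D.gon_spec hij).1
    m_symm := gon_symm
    poly := fun i j hij => (D.gon_spec hij).2.1
    torus := by
      intro i j hij
      have hG : ∀ {i j : I}, SepG 2 (Bo U E) U (Pa U E i) (Pa U E j) → SepT (Bo U E) U H (Pa U E i) (Pa U E j) :=
        fun {i j} h => (sep_of_sepG hall (Front.Bo_le_Pa i) (Front.Bo_le_Pa j) h).sepT hall (Front.Bo_le_Pa j)
      rcases D.pair i j hij with h | h
      · rcases D.sep i j hij h with h | h | h | h | h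
        · obtain ⟨O, F, _, _, ψ, Q, UF, s, t, hG, h | h⟩ := h
          · exact Or.inl (((hG.linkPair Fr hij).sep hall h).sepT hall (Front.Bo_le_Pa j))
          · exact Or.inr (((hG.linkPair Fr hij).symm.sep hall h).sepT hall (Front.Bo_le_Pa i))
        · exact Or.inl (hG (D.sepG_of_third h))
        · exact Or.inr (hG (D.sepG_of_third h))
        · exact Or.inl (hG h)
        · exact Or.inr (hG h)
      · exact Or.inl (D.prod_fields hall hUH h).2.1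
    frat := by
      intro i j hij T hT hTH hcov
      rcases D.pair i j hij with h | h
      · obtain ⟨O, F, _, _, ψ, Q, UF, s, t, hG, -⟩ := h
        exact (hG.linkPair Fr hij).frat hG.K.one hT hcov
      · exact (D.prod_fields hall hUH h).2.2 T hT hTH hcov }⟩

/-- **THEOREM PAR**: `G` has a (B,N)-pair with Borel subgroup `Bo U E = ⟨N_{E i}(U)⟩`, of rank `|I|`, irreducible if the
graph of the Lie pairs is connected. -/
theorem exists_bnPair [Nonempty I] [Finite G] : ∃ Q : Cfsg.BNPair G, Q.B = Bo U E ∧ Q.rank = Nat.card I ∧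
    ((∀ J : Set I, J.Nonempty → Jᶜ.Nonempty → ∃ i ∈ J, ∃ j ∈ Jᶜ, LieP U (E i) (E j)) → Q.Irreducible) := by
  obtain ⟨H, S⟩ := D.sys
  have : Fact (Nat.Prime 2) := ⟨Nat.prime_two⟩
  obtain ⟨Q, h1, h2, h3⟩ := S.exists_bnPair
  refine ⟨Q, h1, h2, fun h => h3 fun J hJ hJc => ?_⟩
  obtain ⟨i, hi, j, hj, hL⟩ := h J hJ hJc
  have hne : i ≠ j := by
    rintro rfl
    exact hj hi
  exact ⟨i, hi, j, hj, (D.gon_spec hne).2.2 hL⟩

end PSys

end Cfsg.Agent.ParSys
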