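import Cfsg.Agent.ParSys.QuadSwap

/-!
# Projective planes from point and line subgroups

`Plane B Pa Pb R V` (`R ≤ V` subgroups; `Pa` normalises the line `V`, `Pb` normalises the point `R`; distinct points of
`V` meet trivially, `V^x ∩ V ≤ R` for `x ∈ Pb - B`): the galleries of length three are determined by their end.

`PlaneN.polygon`: `Polygon B P a b 3`, if some apartment closes and `O ≤ B` has enough conjugates of the opposite line.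
-/

set_option autoImplicit false

namespace Cfsg.Agent.ParSys

open Subgroup
open scoped Pointwise

variable {G : Type*} [Group G]

/-- point-line subgroups -/
structure Plane (B Pa Pb R V : Subgroup G) : Prop where
  leA : B ≤ Pa
  leB : B ≤ Pb
  inf : Pa ⊓ Pb ≤ B
  aV : ∀ x ∈ Pa, ∀ v ∈ V, x * v * x⁻¹ ∈ V
  bR : ∀ x ∈ Pb, ∀ r ∈ R, x * r * x⁻¹ ∈ R
  RV : R ≤ V
  ne : ∃ r ∈ R, r ≠ 1
  aR : ∀ x ∈ Pa, x ∉ B → ∀ r ∈ R, x * r * x⁻¹ ∈ R → r = 1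
  bV : ∀ x ∈ Pb, x ∉ B → ∀ v ∈ V, x * v * x⁻¹ ∈ V → x * v * x⁻¹ ∈ R

namespace Plane

variable {B Pa Pb R V : Subgroup G} (h : Plane B Pa Pb R V)
include h

/-- galleries of type `a b` to the same line -/
theorem two {x1 x2 x1' x2' : G} (h1 : x1 ∈ Pa) (h2 : x2 ∈ Pb) (h2B : x2 ∉ B)
    (h1' : x1' ∈ Pa) (h2' : x2' ∈ Pb) (he : (x1 * x2)⁻¹ * (x1' * x2') ∈ Pa) :
    x1⁻¹ * x1' ∈ B ∧ (x1 * x2)⁻¹ * (x1' * x2') ∈ B := by
  have hb : x1⁻¹ * x1' ∈ B := by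
    by_contra hy
    obtain ⟨r, hr, hr1⟩ := h.ne
    have hr' := h.bR x2' h2' r hr
    have h3 : x2' * r * x2'⁻¹ = 1 := by
      refine h.aR _ (mul_mem (inv_mem h1) h1') hy _ hr' ?_
      -- the element of `V ∩ V^{x2}`
      have k1 := h.aV _ he r (h.RV hr)
      have k2 := h.aV _ (mul_mem (inv_mem h1) h1') _ (h.RV hr')
      have e : x2 * ((x1 * x2)⁻¹ * (x1' * x2') * r * ((x1 * x2)⁻¹ * (x1' * x2'))⁻¹) * x2⁻¹ =
          x1⁻¹ * x1' * (x2' * r * x2'⁻¹) * (x1⁻¹ * x1')⁻¹ := by group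
      have k3 := h.bV x2 h2 h2B _ k1 (by rw [e]; exact k2)
      rwa [e] at k3
    apply hr1
    have e : r = x2'⁻¹ * (x2' * r * x2'⁻¹) * x2' := by group
    rw [e, h3]; group
  refine ⟨hb, h.inf (mem_inf.2 ⟨he, ?_⟩)⟩
  have e : (x1 * x2)⁻¹ * (x1' * x2') = x2⁻¹ * (x1⁻¹ * x1') * x2' := by group
  rw [e]
  exact mul_mem (mul_mem (inv_mem h2) (h.leB hb)) h2'

/-- galleries of type `b a` to the same point -/
theorem two' {x1 x2 x1' x2' : G} (h1 : x1 ∈ Pb) (h2 : x2 ∈ Pa) (h2B : x2 ∉ B)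
    (h1' : x1' ∈ Pb) (h2' : x2' ∈ Pa) (he : (x1 * x2)⁻¹ * (x1' * x2') ∈ Pb) :
    x1⁻¹ * x1' ∈ B ∧ (x1 * x2)⁻¹ * (x1' * x2') ∈ B := by
  have hb : x1⁻¹ * x1' ∈ B := by
    by_contra hy
    obtain ⟨r, hr, hr1⟩ := h.ne
    apply hr1
    refine h.aR x2 h2 h2B r hr ?_
    have hr' := h.bR _ (inv_mem he) r hr
    have k1 := h.aV x2' h2' _ (h.RV hr')
    have e : x1⁻¹ * x1' * (x2' * (((x1 * x2)⁻¹ * (x1' * x2'))⁻¹ * r * ((x1 * x2)⁻¹ * (x1' * x2'))⁻¹⁻¹) * x2'⁻¹) *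
        (x1⁻¹ * x1')⁻¹ = x2 * r * x2⁻¹ := by group
    have k3 := h.bV _ (mul_mem (inv_mem h1) h1') hy _ k1 (by rw [e]; exact h.aV _ h2 _ (h.RV hr))
    rwa [e] at k3
  refine ⟨hb, h.inf (mem_inf.2 ⟨?_, he⟩)⟩
  have e : (x1 * x2)⁻¹ * (x1' * x2') = x2⁻¹ * (x1⁻¹ * x1') * x2' := by group
  rw [e]
  exact mul_mem (mul_mem (inv_mem h2) (h.leA hb)) h2'

end Plane

/-! ### Galleries of length three -/

section gal

variable {I : Type*} {B : Subgroup G} {P : I → Subgroup G} {a b : I}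

theorem galE_three {l : List G} (hl : GalE B P (alt a b 3) l) : ∃ x1 x2 x3, l = [x1, x2, x3] ∧
    (x1 ∈ P a ∧ x1 ∉ B) ∧ (x2 ∈ P b ∧ x2 ∉ B) ∧ (x3 ∈ P a ∧ x3 ∉ B) := by
  match l, hl with
  | [x1, x2, x3], hl =>
    obtain ⟨h1, h2, h3, -⟩ := hl
    exact ⟨x1, x2, x3, rfl, h1, h2, h3⟩
  | [], hl => exact hl.elim
  | [_], hl => exact hl.2.elim
  | [_, _], hl => exact hl.2.2.elim
  | _ :: _ :: _ :: _ :: _, hl => exact hl.2.2.2.elim

theorem galE_three_iff {x1 x2 x3 : G} : GalE B P (alt a b 3) [x1, x2, x3] ↔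
    (x1 ∈ P a ∧ x1 ∉ B) ∧ (x2 ∈ P b ∧ x2 ∉ B) ∧ (x3 ∈ P a ∧ x3 ∉ B) := by
  constructor
  · rintro ⟨h1, h2, h3, -⟩
    exact ⟨h1, h2, h3⟩
  · rintro ⟨h1, h2, h3⟩
    exact ⟨h1, h2, h3, trivial⟩

theorem same_three {x1 x2 x3 x1' x2' x3' : G} (h1 : x1⁻¹ * x1' ∈ B)
    (h2 : (x1 * x2)⁻¹ * (x1' * x2') ∈ B)
    (h3 : [x1, x2, x3].prod⁻¹ * [x1', x2', x3'].prod ∈ B) :
    Same B 1 1 [x1, x2, x3] [x1', x2', x3'] := by
  refine ⟨by simp, ?_, ?_, ?_⟩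
  · simpa using h1
  · simpa using h2
  · show (1 * x1 * x2 * x3)⁻¹ * (1 * x1' * x2' * x3') ∈ B
    simpa [mul_assoc] using h3

end gal

/-- two galleries of type `a b a` and `b a b` with the same end -/
structure Swap3 (B Pa Pb : Subgroup G) (n m n' x1 x2 x3 : G) : Prop where
  n_mem : n ∈ Pa
  n_not : n ∉ B
  m_mem : m ∈ Pb
  m_not : m ∉ B
  n'_mem : n' ∈ Pa
  n'_not : n' ∉ B
  m1 : x1 ∈ Pb ∧ x1 ∉ B
  m2 : x2 ∈ Pa ∧ x2 ∉ B
  m3 : x3 ∈ Pb ∧ x3 ∉ B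
  eq : (n * m * n')⁻¹ * (x1 * x2 * x3) ∈ B

/-- point-line subgroups with a closed apartment and a group `O` with enough conjugates of the opposite line -/
structure PlaneN (B Pa Pb R V O : Subgroup G) (n m n' x1 x2 x3 : G) : Prop extends Plane B Pa Pb R V,
    Swap3 B Pa Pb n m n' x1 x2 x3 where
  /-- `B` is transitive on the panel `Pb / B` -/
  tb : ∀ x ∈ Pb, x ∉ B → ∃ b ∈ B, (b * m)⁻¹ * x ∈ B
  O_le : O ≤ B
  O_triv : ∀ o ∈ O, ∀ x ∈ Pb, x⁻¹ * o * x ∈ B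
  same : (PanS B Pa).ncard = (PanS B Pb).ncard
  cnt : (PanS B Pa).ncard * (PanS B Pb).ncard ≤ (MulAut.conj (n * m) • Pa).relIndex O

namespace PlaneN

variable {B Pa Pb R V O : Subgroup G} {n m n' y1 y2 y3 : G} (h : PlaneN B Pa Pb R V O n m n' y1 y2 y3)
include h

theorem not_B {b x : G} (hb : b ∈ B) (hx : x ∉ B) : b * x ∉ B := fun h0 => hx ((mul_mem_cancel_left hb).1 h0)

/-- `O` is transitive on the lines opposite to `R`. -/
theorem t₁ [Finite G] {x1 x2 : G} (h1 : x1 ∈ Pa) (h1B : x1 ∉ B) (h2 : x2 ∈ Pb) (h2B : x2 ∉ B) :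
    ∃ o ∈ O, (o * (n * m))⁻¹ * (x1 * x2) ∈ Pa := by
  classical
  let P : Bool → Subgroup G := fun i => if i then Pa else Pb
  have hle : ∀ i, B ≤ P i := by
    intro i
    cases i
    · exact h.leB
    · exact h.leA
  -- the lines
  let Γ : Set (G ⧸ Pa) := {q | ∃ x1 x2, (x1 ∈ Pa ∧ x1 ∉ B) ∧ (x2 ∈ Pb ∧ x2 ∉ B) ∧ ((x1 * x2 : G) : G ⧸ Pa) = q}
  have hΓ : Γ.ncard ≤ (PanS B Pa).ncard * (PanS B Pb).ncard := by
    have h4 : Γ ⊆ (Subgroup.quotientMapOfLE h.leA) '' (Ends B P [true, false]) := by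
      rintro _ ⟨x1, x2, k1, k2, rfl⟩
      refine ⟨((x1 * x2 : G) : G ⧸ B), ⟨[x1, x2], ⟨k1, k2, trivial⟩, ?_⟩, rfl⟩
      simp
    calc Γ.ncard ≤ _ := Set.ncard_le_ncard h4 (Set.toFinite _)
      _ ≤ (Ends B P [true, false]).ncard := Set.ncard_image_le (Set.toFinite _)
      _ ≤ _ := ncard_Ends_cons hle _ _
      _ ≤ (PanS B Pa).ncard * (PanS B Pb).ncard := by
          refine Nat.mul_le_mul_left _ ?_
          refine (ncard_Ends_cons hle _ _).trans ?_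
          rw [ncard_Ends_nil, mul_one]
          exact le_rfl
  have hsub : MulAction.orbit O ((n * m : G) : G ⧸ Pa) ⊆ Γ := by
    rintro _ ⟨o, rfl⟩
    refine ⟨o * n, m, ⟨mul_mem (h.leA (h.O_le o.2)) h.n_mem, h.not_B (h.O_le o.2) h.n_not⟩,
      ⟨h.m_mem, h.m_not⟩, ?_⟩
    show _ = (((o : G) * (n * m) : G) : G ⧸ Pa)
    simp only [mul_assoc]
  have hcard : (MulAction.orbit O ((n * m : G) : G ⧸ Pa)).ncard = (MulAut.conj (n * m) • Pa).relIndex O := by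
    rw [← MulAction.index_stabilizer, Subgroup.relIndex]
    congr 1
    ext o
    rw [MulAction.mem_stabilizer_iff, mem_subgroupOf, mem_pointwise_smul_iff_inv_smul_mem]
    show ((((o : G) * (n * m) : G) : G ⧸ Pa) = ((n * m : G) : G ⧸ Pa)) ↔ _
    rw [eq_comm, QuotientGroup.eq]
    have e : (MulAut.conj (n * m))⁻¹ • (o : G) = (n * m)⁻¹ * (o * (n * m)) := by
      rw [MulAut.smul_def, MulAut.conj_inv_apply, mul_assoc]
    rw [e]
  have heq : MulAction.orbit O ((n * m : G) : G ⧸ Pa) = Γ :=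
    Set.eq_of_subset_of_ncard_le hsub (by rw [hcard]; exact hΓ.trans h.cnt) (Set.toFinite _)
  have hx : ((x1 * x2 : G) : G ⧸ Pa) ∈ Γ := ⟨x1, x2, ⟨h1, h1B⟩, ⟨h2, h2B⟩, rfl⟩
  rw [← heq] at hx
  obtain ⟨o, ho⟩ := hx
  exact ⟨o, o.2, QuotientGroup.eq.1 ho⟩

theorem t₂ [Finite G] {x : G} (hx : x ∈ Pb) (hxB : x ∉ B) :
    ∃ b ∈ B, (n * m)⁻¹ * b * (n * m) ∈ Pa ∧ (b * m)⁻¹ * x ∈ B := by
  obtain ⟨b, hb, h1⟩ := h.tb x hx hxB
  obtain ⟨o, ho, h2⟩ := h.t₁ (x1 := b * n) (mul_mem (h.leA hb) h.n_mem) (h.not_B hb h.n_not) h.m_mem h.m_not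
  refine ⟨o⁻¹ * b, mul_mem (inv_mem (h.O_le ho)) hb, ?_, ?_⟩
  · have e : (n * m)⁻¹ * (o⁻¹ * b) * (n * m) = (o * (n * m))⁻¹ * (b * n * m) := by group
    rw [e]; exact h2
  · have h3 := mul_mem h1 (h.O_triv o ho x hx)
    have e : (o⁻¹ * b * m)⁻¹ * x = (b * m)⁻¹ * x * (x⁻¹ * o * x) := by group
    rw [e]; exact h3

theorem fix₁ {b : G} (hb : b ∈ B) (hp : (n * m)⁻¹ * b * (n * m) ∈ Pa) :
    (n * m)⁻¹ * b * (n * m) ∈ B := by
  have := (h.two (x1 := n) (x2 := m) (x1' := b * n) (x2' := m) h.n_mem h.m_mem h.m_not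
    (mul_mem (h.leA hb) h.n_mem) h.m_mem (by
      have e : (n * m)⁻¹ * (b * n * m) = (n * m)⁻¹ * b * (n * m) := by group
      rwa [e])).2
  have e : (n * m)⁻¹ * (b * n * m) = (n * m)⁻¹ * b * (n * m) := by group
  rwa [e] at this

/-- the stabiliser of the opposite chamber fixes the first chamber of the other gallery -/
theorem fix₂ {b : G} (hb : b ∈ B) (hp : (n * m * n')⁻¹ * b * (n * m * n') ∈ B) : y1⁻¹ * b * y1 ∈ B := by
  have h1 : (y1 * y2 * y3)⁻¹ * (b * (y1 * y2 * y3)) ∈ B := by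
    have h2 := mul_mem (mul_mem (inv_mem h.eq) hp) h.eq
    have e : ((n * m * n')⁻¹ * (y1 * y2 * y3))⁻¹ * ((n * m * n')⁻¹ * b * (n * m * n')) *
        ((n * m * n')⁻¹ * (y1 * y2 * y3)) = (y1 * y2 * y3)⁻¹ * (b * (y1 * y2 * y3)) := by group
    rwa [e] at h2
  have h3 : (y1 * y2)⁻¹ * (b * y1 * y2) ∈ Pb := by
    have h4 := mul_mem (mul_mem h.m3.1 (h.leB h1)) (inv_mem h.m3.1)
    have e : y3 * ((y1 * y2 * y3)⁻¹ * (b * (y1 * y2 * y3))) * y3⁻¹ = (y1 * y2)⁻¹ * (b * y1 * y2) := by group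
    rwa [e] at h4
  have := (h.two' (x1 := y1) (x2 := y2) (x1' := b * y1) (x2' := y2) h.m1.1 h.m2.1 h.m2.2
    (mul_mem (h.leB hb) h.m1.1) h.m2.1 h3).1
  rwa [← mul_assoc] at this

theorem t₃ [Finite G] {x : G} (hx : x ∈ Pa) (hxB : x ∉ B) :
    ∃ b ∈ B, (b * (n * m * n'))⁻¹ * (n * m * x) ∈ B := by
  classical
  let g := n * m
  -- the orbit of `y1`
  have h1 : PanS B Pb ⊆ MulAction.orbit (BY B g) ((y1 : G) : G ⧸ B) := by
    rintro _ ⟨x, hx, hxB, rfl⟩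
    obtain ⟨b, hb, hp, h2⟩ := h.t₂ hx hxB
    obtain ⟨b', hb', hp', h2'⟩ := h.t₂ h.m1.1 h.m1.2
    refine ⟨⟨b, ⟨hb, h.fix₁ hb hp⟩⟩ * ⟨b', ⟨hb', h.fix₁ hb' hp'⟩⟩⁻¹, QuotientGroup.eq.2 ?_⟩
    show (b * b'⁻¹ * y1)⁻¹ * x ∈ B
    have h3 := mul_mem (inv_mem h2') h2
    have e : ((b' * m)⁻¹ * y1)⁻¹ * ((b * m)⁻¹ * x) = (b * b'⁻¹ * y1)⁻¹ * x := by group
    rwa [e] at h3
  have h2 : MulAction.stabilizer (BY B g) ((g * n' : G) : G ⧸ B) ≤
      MulAction.stabilizer (BY B g) ((y1 : G) : G ⧸ B) := by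
    intro b hb
    rw [MulAction.mem_stabilizer_iff] at hb ⊢
    have hb' : ((g * n' : G) : G ⧸ B) = (((b : G) * (g * n') : G) : G ⧸ B) := hb.symm
    rw [QuotientGroup.eq] at hb'
    have h3 : y1⁻¹ * (b : G) * y1 ∈ B := h.fix₂ b.2.1 (by
      rw [mul_assoc]; exact hb')
    refine (QuotientGroup.eq.2 ?_ : ((y1 : G) : G ⧸ B) = (((b : G) * y1 : G) : G ⧸ B)).symm
    rwa [← mul_assoc]
  have h3 : (PanS B Pa).ncard ≤ (MulAction.orbit (BY B g) ((g * n' : G) : G ⧸ B)).ncard := by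
    rw [h.same]
    refine (Set.ncard_le_ncard h1 (Set.toFinite _)).trans ?_
    rw [← MulAction.index_stabilizer, ← MulAction.index_stabilizer]
    exact Nat.le_of_dvd (Nat.pos_of_ne_zero index_ne_zero_of_finite) (index_dvd_of_le h2)
  have h4 : MulAction.orbit (BY B g) ((g * n' : G) : G ⧸ B) ⊆ (fun q => g • q) '' (PanS B Pa) := by
    rintro _ ⟨b, rfl⟩
    refine ⟨((g⁻¹ * b * g * n' : G) : G ⧸ B), ⟨g⁻¹ * b * g * n', mul_mem (h.leA b.2.2) h.n'_mem,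
      h.not_B b.2.2 h.n'_not, rfl⟩, ?_⟩
    show ((g * (g⁻¹ * b * g * n') : G) : G ⧸ B) = (((b : G) * (g * n') : G) : G ⧸ B)
    congr 1
    group
  have h5 : MulAction.orbit (BY B g) ((g * n' : G) : G ⧸ B) = (fun q => g • q) '' (PanS B Pa) :=
    Set.eq_of_subset_of_ncard_le h4 ((Set.ncard_image_le (Set.toFinite _)).trans h3) (Set.toFinite _)
  have h6 : ((g * x : G) : G ⧸ B) ∈ (fun q : G ⧸ B => g • q) '' (PanS B Pa) := ⟨(x : G ⧸ B), ⟨x, hx, hxB, rfl⟩, rfl⟩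
  rw [← h5] at h6
  obtain ⟨b, hb⟩ := h6
  exact ⟨b, b.2.1, QuotientGroup.eq.1 hb⟩

/-- `B` is transitive on the ends of the galleries of type `a b a`. -/
theorem t₄ [Finite G] {x1 x2 x3 : G} (h1 : x1 ∈ Pa) (h1B : x1 ∉ B) (h2 : x2 ∈ Pb) (h2B : x2 ∉ B) (h3 : x3 ∈ Pa)
    (h3B : x3 ∉ B) : ∃ y ∈ B, (y * (n * m * n'))⁻¹ * (x1 * x2 * x3) ∈ B := by
  obtain ⟨o, ho, h5⟩ := h.t₁ h1 h1B h2 h2B
  have h6 := (h.two (x1 := o * n) (x2 := m) (mul_mem (h.leA (h.O_le ho)) h.n_mem) h.m_mem h.m_not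
    h1 h2 (by
      have e : (o * n * m)⁻¹ * (x1 * x2) = (o * (n * m))⁻¹ * (x1 * x2) := by group
      rwa [e])).2
  set c := (o * n * m)⁻¹ * (x1 * x2) with hc
  obtain ⟨b, hb, h7⟩ := h.t₃ (mul_mem (h.leA h6) h3) (h.not_B h6 h3B)
  refine ⟨o * b, mul_mem (h.O_le ho) hb, ?_⟩
  have e : (o * b * (n * m * n'))⁻¹ * (x1 * x2 * x3) =
      (b * (n * m * n'))⁻¹ * (n * m * (c * x3)) := by rw [hc]; group
  rw [e]; exact h7

/-- `B` is transitive on the ends of the galleries of type `b a b`. -/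
theorem t₅ [Finite G] {x1 x2 x3 : G} (h1 : x1 ∈ Pb) (h1B : x1 ∉ B) (h2 : x2 ∈ Pa) (h2B : x2 ∉ B) (h3 : x3 ∈ Pb)
    (h3B : x3 ∉ B) : ∃ y ∈ B, (y * (y1 * y2 * y3))⁻¹ * (x1 * x2 * x3) ∈ B := by
  classical
  let P : Bool → Subgroup G := fun i => if i then Pa else Pb
  have hle : ∀ i, B ≤ P i := by
    intro i
    cases i
    · exact h.leB
    · exact h.leA
  -- lower bound for the ends of type `a b a`
  have e1 : (PanS B Pa).ncard ≤ (Ends B P [true]).ncard := by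
    have := ncard_Ends_cons_ge (B := B) (P := P) true [] (fun x _ _ x' _ _ l l' hl hl' h0 => by
      cases l with
      | nil =>
        cases l' with
        | nil => simpa using h0
        | cons y l' => exact hl'.elim
      | cons y l => exact hl.elim)
    rwa [ncard_Ends_nil, mul_one] at this
  have e2 : (PanS B Pb).ncard * (Ends B P [true]).ncard ≤ (Ends B P [false, true]).ncard := by
    refine ncard_Ends_cons_ge (B := B) (P := P) false [true] fun x hx _ x' hx' _ l l' hl hl' h0 => ?_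
    match l, hl, l', hl' with
    | [y], hl, [y'], hl' =>
      have hy : y ∈ Pa := hl.1.1
      have hy' : y' ∈ Pa := hl'.1.1
      refine h.inf (mem_inf.2 ⟨?_, mul_mem (inv_mem hx) hx'⟩)
      have := mul_mem (mul_mem hy (h.leA h0)) (inv_mem hy')
      have e : y * ((x * [y].prod)⁻¹ * (x' * [y'].prod)) * y'⁻¹ = x⁻¹ * x' := by
        simp only [List.prod_cons, List.prod_nil]; group
      rwa [e] at this
    | [], hl, _, _ => exact hl.elim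
    | _ :: _ :: _, hl, _, _ => exact hl.2.elim
    | [_], _, [], hl' => exact hl'.elim
    | [_], _, _ :: _ :: _, hl' => exact hl'.2.elim
  have e3 : (PanS B Pa).ncard * (Ends B P [false, true]).ncard ≤ (Ends B P [true, false, true]).ncard := by
    refine ncard_Ends_cons_ge (B := B) (P := P) true [false, true] fun x hx _ x' hx' _ l l' hl hl' h0 => ?_
    match l, hl, l', hl' with
    | [y, z], hl, [y', z'], hl' =>
      have hz : z ∈ Pa := hl.2.1.1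
      have hz' : z' ∈ Pa := hl'.2.1.1
      have h0' : (x * y)⁻¹ * (x' * y') ∈ Pa := by
        have := mul_mem (mul_mem hz (h.leA h0)) (inv_mem hz')
        have e : z * ((x * [y, z].prod)⁻¹ * (x' * [y', z'].prod)) * z'⁻¹ = (x * y)⁻¹ * (x' * y') := by
          simp only [List.prod_cons, List.prod_nil]; group
        rwa [e] at this
      exact (h.two hx hl.1.1 hl.1.2 hx' hl'.1.1 h0').1
    | [], hl, _, _ => exact hl.elim
    | [_], hl, _, _ => exact hl.2.elim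
    | _ :: _ :: _ :: _, hl, _, _ => exact hl.2.2.elim
    | [_, _], _, [], hl' => exact hl'.elim
    | [_, _], _, [_], hl' => exact hl'.2.elim
    | [_, _], _, _ :: _ :: _ :: _, hl' => exact hl'.2.2.elim
  -- upper bound for the ends of type `b a b`
  have u1 : (Ends B P [false, true, false]).ncard ≤
      (PanS B Pb).ncard * ((PanS B Pa).ncard * (PanS B Pb).ncard) := by
    refine (ncard_Ends_cons hle _ _).trans (Nat.mul_le_mul_left _ ?_)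
    refine (ncard_Ends_cons hle _ _).trans (Nat.mul_le_mul_left _ ?_)
    refine (ncard_Ends_cons hle _ _).trans ?_
    rw [ncard_Ends_nil, mul_one]
    exact le_rfl
  have l1 : (PanS B Pb).ncard * ((PanS B Pa).ncard * (PanS B Pb).ncard) ≤
      (Ends B P [true, false, true]).ncard := by
    calc (PanS B Pb).ncard * ((PanS B Pa).ncard * (PanS B Pb).ncard)
        = (PanS B Pa).ncard * ((PanS B Pb).ncard * (PanS B Pa).ncard) := by rw [h.same]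
      _ ≤ (PanS B Pa).ncard * ((PanS B Pb).ncard * (Ends B P [true]).ncard) :=
          Nat.mul_le_mul_left _ (Nat.mul_le_mul_left _ e1)
      _ ≤ (PanS B Pa).ncard * (Ends B P [false, true]).ncard := Nat.mul_le_mul_left _ e2
      _ ≤ _ := e3
  -- the orbit of the opposite chamber
  let w : G ⧸ B := ((n * m * n' : G) : G ⧸ B)
  have hw : w = ((y1 * y2 * y3 : G) : G ⧸ B) := QuotientGroup.eq.2 h.eq
  have hsup : Ends B P [true, false, true] ⊆ MulAction.orbit B w := by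
    rintro _ ⟨l, hl, rfl⟩
    obtain ⟨x1, x2, x3, rfl, k1, k2, k3⟩ := galE_three (a := true) (b := false) hl
    obtain ⟨y, hy, h5⟩ := h.t₄ k1.1 k1.2 k2.1 k2.2 k3.1 k3.2
    refine ⟨⟨y, hy⟩, ?_⟩
    have e : [x1, x2, x3].prod = x1 * x2 * x3 := by simp [mul_assoc]
    rw [e]
    exact QuotientGroup.eq.2 h5
  have hsub : MulAction.orbit B w ⊆ Ends B P [false, true, false] := by
    rintro _ ⟨y, rfl⟩
    refine Ends_smul (P := P) hle y.2 (q := w) ?_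
    rw [hw]
    refine ⟨[y1, y2, y3], ⟨h.m1, h.m2, h.m3, trivial⟩, ?_⟩
    simp [mul_assoc]
  have heq : MulAction.orbit B w = Ends B P [false, true, false] :=
    Set.eq_of_subset_of_ncard_le hsub
      ((u1.trans l1).trans (Set.ncard_le_ncard hsup (Set.toFinite _))) (Set.toFinite _)
  have hx : ((x1 * x2 * x3 : G) : G ⧸ B) ∈ Ends B P [false, true, false] :=
    ⟨[x1, x2, x3], ⟨⟨h1, h1B⟩, ⟨h2, h2B⟩, ⟨h3, h3B⟩, trivial⟩, by simp [mul_assoc]⟩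
  rw [← heq, hw] at hx
  obtain ⟨y, hy⟩ := hx
  exact ⟨y, y.2, QuotientGroup.eq.1 hy⟩

end PlaneN

section polygon

variable {I : Type*} {B : Subgroup G} {P : I → Subgroup G} {a b : I} {R V O : Subgroup G}
  {n m n' z1 z2 z3 : G}

theorem same_of_end3 {x1 x2 x3 x1' x2' x3' y : G}
    (h : Same B 1 1 [y * x1, x2, x3] [x1', x2', x3']) (hy : y ∈ B) :
    Same B y 1 [x1, x2, x3] [x1', x2', x3'] := by
  refine ⟨by simpa using hy, ?_⟩
  have h5 := h.2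
  rw [one_mul] at h5
  exact h5

/-- **The residue is a projective plane.** -/
theorem PlaneN.polygon [Finite G] (h : PlaneN B (P a) (P b) R V O n m n' z1 z2 z3) : Polygon B P a b 3 where
  uniq l l' hl hl' he := by
    obtain ⟨x1, x2, x3, rfl, k1, k2, k3⟩ := galE_three hl
    obtain ⟨y1, y2, y3, rfl, j1, j2, j3⟩ := galE_three hl'
    have h5 : (x1 * x2)⁻¹ * (y1 * y2) ∈ P a := by
      have := mul_mem (mul_mem k3.1 (h.leA he)) (inv_mem j3.1)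
      have e : x3 * ([x1, x2, x3].prod⁻¹ * [y1, y2, y3].prod) * y3⁻¹ = (x1 * x2)⁻¹ * (y1 * y2) := by
        simp only [List.prod_cons, List.prod_nil]; group
      rwa [e] at this
    obtain ⟨r1, r2⟩ := h.two k1.1 k2.1 k2.2 j1.1 j2.1 h5
    exact same_three r1 r2 he
  uniq' l l' hl hl' he := by
    obtain ⟨x1, x2, x3, rfl, k1, k2, k3⟩ := galE_three hl
    obtain ⟨y1, y2, y3, rfl, j1, j2, j3⟩ := galE_three hl'
    have h5 : (x1 * x2)⁻¹ * (y1 * y2) ∈ P b := by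
      have := mul_mem (mul_mem k3.1 (h.leB he)) (inv_mem j3.1)
      have e : x3 * ([x1, x2, x3].prod⁻¹ * [y1, y2, y3].prod) * y3⁻¹ = (x1 * x2)⁻¹ * (y1 * y2) := by
        simp only [List.prod_cons, List.prod_nil]; group
      rwa [e] at this
    obtain ⟨r1, r2⟩ := h.two' k1.1 k2.1 k2.2 j1.1 j2.1 h5
    exact same_three r1 r2 he
  swap := by
    refine ⟨[n, m, n'], [z1, z2, z3], galE_three_iff.2 ⟨⟨h.n_mem, h.n_not⟩, ⟨h.m_mem, h.m_not⟩,
      ⟨h.n'_mem, h.n'_not⟩⟩, galE_three_iff.2 ⟨h.m1, h.m2, h.m3⟩, ?_⟩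
    have := h.eq
    simpa [mul_assoc] using this
  trans l l' hl hl' := by
    obtain ⟨x1, x2, x3, rfl, k1, k2, k3⟩ := galE_three hl
    obtain ⟨y1, y2, y3, rfl, j1, j2, j3⟩ := galE_three hl'
    obtain ⟨y, hy, h5⟩ := h.t₄ k1.1 k1.2 k2.1 k2.2 k3.1 k3.2
    obtain ⟨z, hz, h6⟩ := h.t₄ j1.1 j1.2 j2.1 j2.2 j3.1 j3.2
    have hzy : z * y⁻¹ ∈ B := mul_mem hz (inv_mem hy)
    refine ⟨z * y⁻¹, hzy, same_of_end3 ?_ hzy⟩
    have h7 : (z * y⁻¹ * x1 * x2)⁻¹ * (y1 * y2) ∈ P a := by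
      have h8 := mul_mem (mul_mem k3.1 (h.leA (mul_mem (inv_mem h5) h6))) (inv_mem j3.1)
      have e : x3 * (((y * (n * m * n'))⁻¹ * (x1 * x2 * x3))⁻¹ *
          ((z * (n * m * n'))⁻¹ * (y1 * y2 * y3))) * y3⁻¹ = (z * y⁻¹ * x1 * x2)⁻¹ * (y1 * y2) := by group
      rwa [e] at h8
    obtain ⟨r1, r2⟩ := h.two (mul_mem (h.leA hzy) k1.1) k2.1 k2.2 j1.1 j2.1 h7
    refine same_three r1 r2 ?_
    have h8 := mul_mem (inv_mem h5) h6
    have e : ((y * (n * m * n'))⁻¹ * (x1 * x2 * x3))⁻¹ * ((z * (n * m * n'))⁻¹ * (y1 * y2 * y3)) =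
          [z * y⁻¹ * x1, x2, x3].prod⁻¹ * [y1, y2, y3].prod := by
      simp only [List.prod_cons, List.prod_nil]; group
    rwa [e] at h8
  trans' l l' hl hl' := by
    obtain ⟨x1, x2, x3, rfl, k1, k2, k3⟩ := galE_three hl
    obtain ⟨y1, y2, y3, rfl, j1, j2, j3⟩ := galE_three hl'
    obtain ⟨y, hy, h5⟩ := h.t₅ k1.1 k1.2 k2.1 k2.2 k3.1 k3.2
    obtain ⟨z, hz, h6⟩ := h.t₅ j1.1 j1.2 j2.1 j2.2 j3.1 j3.2
    have hzy : z * y⁻¹ ∈ B := mul_mem hz (inv_mem hy)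
    refine ⟨z * y⁻¹, hzy, same_of_end3 ?_ hzy⟩
    have h7 : (z * y⁻¹ * x1 * x2)⁻¹ * (y1 * y2) ∈ P b := by
      have h8 := mul_mem (mul_mem k3.1 (h.leB (mul_mem (inv_mem h5) h6))) (inv_mem j3.1)
      have e : x3 * (((y * (z1 * z2 * z3))⁻¹ * (x1 * x2 * x3))⁻¹ *
          ((z * (z1 * z2 * z3))⁻¹ * (y1 * y2 * y3))) * y3⁻¹ = (z * y⁻¹ * x1 * x2)⁻¹ * (y1 * y2) := by group
      rwa [e] at h8
    obtain ⟨r1, r2⟩ := h.two' (mul_mem (h.leB hzy) k1.1) k2.1 k2.2 j1.1 j2.1 h7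
    refine same_three r1 r2 ?_
    have h8 := mul_mem (inv_mem h5) h6
    have e : ((y * (z1 * z2 * z3))⁻¹ * (x1 * x2 * x3))⁻¹ * ((z * (z1 * z2 * z3))⁻¹ * (y1 * y2 * y3)) =
          [z * y⁻¹ * x1, x2, x3].prod⁻¹ * [y1, y2, y3].prod := by
      simp only [List.prod_cons, List.prod_nil]; group
    rwa [e] at h8

end polygon

end Cfsg.Agent.ParSys
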