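import Cfsg.Agent.ParSys.Cov

/-!
# Product residues

`TwoGen A`: two different Sylow 2-subgroups generate `A` (`L₂(q)`, `Sz(q)`, `U₃(q)`, `q ≥ 4` even).

* `prod_over`: the overgroups of a Sylow 2-subgroup `S` of `A × B` which are generated by the conjugates of `S`;
* `Quasi.prodP`: a residue whose quotient is `A × B` is a product pair;
* `LieP.not_prodP`: a pair is not both.
-/

set_option autoImplicit false
set_option maxHeartbeats 400000
set_option linter.unusedSectionVars false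

universe u

namespace Cfsg.Agent.ParSys

open Subgroup Cfsg
open Cfsg.Agent.ZN (o2)
open Cfsg.Agent.MinSimple.VModule (o2_le o2_isPGroup le_normalizer_o2 le_o2 o2_le_of_sylow oddGen oddGen_le
  mem_oddGen le_normalizer_oddGen normalizer_le_normalizer_oddGen)
open Cfsg.Agent.LieExceptional.BNPairCore

open scoped commutatorElement

/-- two different Sylow 2-subgroups generate the group -/
def TwoGen (A : Type*) [Group A] : Prop :=
  ∀ P Q : Sylow 2 A, P ≠ Q → (P : Subgroup A) ⊔ (Q : Subgroup A) = ⊤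

theorem twoGen_iff {A : Type*} [Group A] [Finite A] : TwoGen A ↔ ∀ P : Sylow 2 A, ∀ a : A,
    a ∉ normalizer ((P : Subgroup A) : Set A) →
      (P : Subgroup A) ⊔ (P : Subgroup A).map (MulAut.conj a).toMonoidHom = ⊤ := by
  have : Fact (Nat.Prime 2) := ⟨Nat.prime_two⟩
  constructor
  · intro h P a ha
    have h1 := h P (a • P) (fun h1 => ha (Sylow.smul_eq_iff_mem_normalizer.1 h1.symm))
    rwa [Sylow.coe_subgroup_smul] at h1
  · intro h P Q hPQ
    obtain ⟨a, rfl⟩ := MulAction.exists_smul_eq A P Q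
    have h1 := h P a (fun h1 => hPQ (Sylow.smul_eq_iff_mem_normalizer.2 h1).symm)
    rw [Sylow.coe_subgroup_smul]
    exact h1

theorem TwoGen.congr {A A' : Type*} [Group A] [Group A'] [Finite A] (h : TwoGen A) (e : A ≃* A') : TwoGen A' := by
  have : Finite A' := Finite.of_equiv A e.toEquiv
  rw [twoGen_iff]
  intro P a ha
  have h1 := twoGen_iff.1 h (P.comapOfInjective e.toMonoidHom e.injective
    (by rw [MonoidHom.range_eq_top.2 e.surjective]; exact le_top)) (e.symm a) (fun h2 => ha (by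
      rw [mem_normalizer_iff] at h2 ⊢
      intro x
      have h3 := h2 (e.symm x)
      have h4 : ∀ y : A, y ∈ (((P.comapOfInjective e.toMonoidHom e.injective
          (by rw [MonoidHom.range_eq_top.2 e.surjective]; exact le_top)) : Sylow 2 A) : Subgroup A) ↔
            e y ∈ (P : Subgroup A') := fun y => Iff.rfl
      rw [h4, h4] at h3
      simpa using h3))
  rw [eq_top_iff]
  intro x _
  have h2 : e.symm x ∈ (⊤ : Subgroup A) := mem_top _
  rw [← h1] at h2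
  have h3 : ((((P.comapOfInjective e.toMonoidHom e.injective
    (by rw [MonoidHom.range_eq_top.2 e.surjective]; exact le_top)) : Sylow 2 A) : Subgroup A) ⊔
      (((P.comapOfInjective e.toMonoidHom e.injective
    (by rw [MonoidHom.range_eq_top.2 e.surjective]; exact le_top)) : Sylow 2 A) : Subgroup A).map
        (MulAut.conj (e.symm a)).toMonoidHom) ≤
      ((P : Subgroup A') ⊔ (P : Subgroup A').map (MulAut.conj a).toMonoidHom).comap e.toMonoidHom := by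
    apply sup_le
    · intro y hy
      exact (mem_sup_left (show e y ∈ (P : Subgroup A') from hy) :
        e y ∈ (P : Subgroup A') ⊔ (P : Subgroup A').map (MulAut.conj a).toMonoidHom)
    · rintro _ ⟨y, hy, rfl⟩
      refine (mem_sup_right ⟨e y, hy, ?_⟩ :
        _ ∈ (P : Subgroup A') ⊔ (P : Subgroup A').map (MulAut.conj a).toMonoidHom)
      show a * e y * a⁻¹ = e (e.symm a * y * (e.symm a)⁻¹)
      rw [map_mul, map_mul, map_inv, e.apply_symm_apply]
  have h4 := h3 h2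
  have h5 : e (e.symm x) ∈ (P : Subgroup A') ⊔ (P : Subgroup A').map (MulAut.conj a).toMonoidHom := h4
  rwa [e.apply_symm_apply] at h5

section prod

variable {A B : Type*} [Group A] [Group B] [Finite A] [Finite B]

/-- a Sylow 2-subgroup of a direct product -/
theorem sylow_prod {S : Subgroup (A × B)} (hS : IsPGroup 2 S) (hi : ¬ 2 ∣ S.index) :
    ∃ (SA : Sylow 2 A) (SB : Sylow 2 B), S = (SA : Subgroup A).prod (SB : Subgroup B) := by
  have : Fact (Nat.Prime 2) := ⟨Nat.prime_two⟩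
  have hA : IsPGroup 2 (S.map (MonoidHom.fst A B)) := hS.map _
  have hB : IsPGroup 2 (S.map (MonoidHom.snd A B)) := hS.map _
  have hA' : ¬ 2 ∣ (S.map (MonoidHom.fst A B)).index := fun h =>
    hi (h.trans (index_map_dvd _ Prod.fst_surjective))
  have hB' : ¬ 2 ∣ (S.map (MonoidHom.snd A B)).index := fun h =>
    hi (h.trans (index_map_dvd _ Prod.snd_surjective))
  refine ⟨hA.toSylow hA', hB.toSylow hB', ?_⟩
  show S = (S.map (MonoidHom.fst A B)).prod (S.map (MonoidHom.snd A B))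
  have h1 : S ≤ (S.map (MonoidHom.fst A B)).prod (S.map (MonoidHom.snd A B)) :=
    fun x hx => ⟨⟨x, hx, rfl⟩, ⟨x, hx, rfl⟩⟩
  have h2 : IsPGroup 2 ((S.map (MonoidHom.fst A B)).prod (S.map (MonoidHom.snd A B)) : Subgroup (A × B)) := by
    rintro ⟨⟨a, b⟩, ha, hb⟩
    obtain ⟨k, hk⟩ := hA ⟨a, ha⟩
    obtain ⟨l, hl⟩ := hB ⟨b, hb⟩
    have hk' : a ^ 2 ^ k = 1 := congrArg Subtype.val hk
    have hl' : b ^ 2 ^ l = 1 := congrArg Subtype.val hl
    refine ⟨k + l, Subtype.ext (Prod.ext ?_ ?_)⟩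
    · show a ^ 2 ^ (k + l) = 1
      rw [pow_add, pow_mul, hk', one_pow]
    · show b ^ 2 ^ (k + l) = 1
      rw [add_comm, pow_add, pow_mul, hl', one_pow]
  apply le_antisymm h1
  obtain ⟨k, hk⟩ := IsPGroup.iff_card.1 h2
  have h3 : S.relIndex ((S.map (MonoidHom.fst A B)).prod (S.map (MonoidHom.snd A B))) ∣ 2 ^ k := by
    rw [← hk]
    exact (relIndex_dvd_card _ _)
  obtain ⟨j, -, hj⟩ := (Nat.dvd_prime_pow Nat.prime_two).1 h3
  have h4 : S.relIndex ((S.map (MonoidHom.fst A B)).prod (S.map (MonoidHom.snd A B))) ∣ S.index :=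
    Dvd.intro _ (relIndex_mul_index h1)
  have h5 : S.relIndex ((S.map (MonoidHom.fst A B)).prod (S.map (MonoidHom.snd A B))) = 1 := by
    rcases Nat.eq_zero_or_pos j with h0 | h0
    · rw [hj, h0, pow_zero]
    · exact absurd (dvd_trans (dvd_pow_self 2 h0.ne') (hj ▸ h4)) hi
  exact relIndex_eq_one.1 h5

/-- **The overgroups of a Sylow 2-subgroup of `A × B` generated by its conjugates.** -/
theorem prod_over (hA : TwoGen A) (hB : TwoGen B) {SA : Sylow 2 A} {SB : Sylow 2 B} {P : Subgroup (A × B)}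
    (hSP : (SA : Subgroup A).prod (SB : Subgroup B) ≤ P)
    (gen : ∀ N : Subgroup (A × B), (∀ e ∈ P, ∀ u ∈ (SA : Subgroup A).prod (SB : Subgroup B), e * u * e⁻¹ ∈ N) → P ≤ N) :
    P = (SA : Subgroup A).prod (SB : Subgroup B) ∨ P = (⊤ : Subgroup A).prod (SB : Subgroup B) ∨
      P = (SA : Subgroup A).prod (⊤ : Subgroup B) ∨ P = ⊤ := by
  -- the first component
  have hfst : (P ≤ (SA : Subgroup A).prod ⊤) ∨ (⊤ : Subgroup A).prod ⊥ ≤ P := by
    by_cases h : ∀ x ∈ P, x.1 ∈ normalizer ((SA : Subgroup A) : Set A)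
    · left
      apply gen
      intro e he u hu
      exact ⟨conj_mem_of_normalizer (h e he) hu.1, mem_top _⟩
    · right
      push Not at h
      obtain ⟨x, hx, hxn⟩ := h
      have h1 := twoGen_iff.1 hA SA x.1 hxn
      have h2 : (SA : Subgroup A) ⊔ (SA : Subgroup A).map (MulAut.conj x.1).toMonoidHom ≤
          P.comap (MonoidHom.inl A B) := by
        apply sup_le
        · intro a ha
          exact hSP ⟨ha, one_mem _⟩
        · rintro _ ⟨a, ha, rfl⟩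
          have h3 : x * (a, 1) * x⁻¹ ∈ P := mul_mem (mul_mem hx (hSP ⟨ha, one_mem _⟩)) (inv_mem hx)
          have h4 : x * (a, 1) * x⁻¹ = (x.1 * a * x.1⁻¹, 1) := by
            apply Prod.ext
            · rfl
            · show x.2 * 1 * x.2⁻¹ = 1
              rw [mul_one, mul_inv_cancel]
          rw [h4] at h3
          exact h3
      rw [h1] at h2
      rintro ⟨a, b⟩ ⟨-, hb⟩
      have hb' : b = 1 := mem_bot.1 hb
      subst hb'
      exact h2 (mem_top a)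
  have hsnd : (P ≤ (⊤ : Subgroup A).prod (SB : Subgroup B)) ∨ (⊥ : Subgroup A).prod (⊤ : Subgroup B) ≤ P := by
    by_cases h : ∀ x ∈ P, x.2 ∈ normalizer ((SB : Subgroup B) : Set B)
    · left
      apply gen
      intro e he u hu
      exact ⟨mem_top _, conj_mem_of_normalizer (h e he) hu.2⟩
    · right
      push Not at h
      obtain ⟨x, hx, hxn⟩ := h
      have h1 := twoGen_iff.1 hB SB x.2 hxn
      have h2 : (SB : Subgroup B) ⊔ (SB : Subgroup B).map (MulAut.conj x.2).toMonoidHom ≤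
          P.comap (MonoidHom.inr A B) := by
        apply sup_le
        · intro a ha
          exact hSP ⟨one_mem _, ha⟩
        · rintro _ ⟨a, ha, rfl⟩
          have h3 : x * (1, a) * x⁻¹ ∈ P := mul_mem (mul_mem hx (hSP ⟨one_mem _, ha⟩)) (inv_mem hx)
          have h4 : x * (1, a) * x⁻¹ = (1, x.2 * a * x.2⁻¹) := by
            apply Prod.ext
            · show x.1 * 1 * x.1⁻¹ = 1
              rw [mul_one, mul_inv_cancel]
            · rfl
          rw [h4] at h3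
          exact h3
      rw [h1] at h2
      rintro ⟨a, b⟩ ⟨ha, -⟩
      have ha' : a = 1 := mem_bot.1 ha
      subst ha'
      exact h2 (mem_top b)
  rcases hfst with h1 | h1 <;> rcases hsnd with h2 | h2
  · left
    exact le_antisymm (fun x hx => ⟨(h1 hx).1, (h2 hx).2⟩) hSP
  · right; right; left
    refine le_antisymm h1 ?_
    rintro ⟨a, b⟩ ⟨ha, -⟩
    have e1 : ((a, b) : A × B) = (a, 1) * (1, b) := by simp
    rw [e1]
    exact mul_mem (hSP ⟨ha, one_mem _⟩) (h2 ⟨mem_bot.2 rfl, mem_top _⟩)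
  · right; left
    refine le_antisymm h2 ?_
    rintro ⟨a, b⟩ ⟨-, hb⟩
    have e1 : ((a, b) : A × B) = (a, 1) * (1, b) := by simp
    rw [e1]
    exact mul_mem (h1 ⟨mem_top _, mem_bot.2 rfl⟩) (hSP ⟨one_mem _, hb⟩)
  · right; right; right
    rw [eq_top_iff]
    rintro ⟨a, b⟩ -
    have e1 : ((a, b) : A × B) = (a, 1) * (1, b) := by simp
    rw [e1]
    exact mul_mem (h1 ⟨mem_top _, mem_bot.2 rfl⟩) (h2 ⟨mem_bot.2 rfl, mem_top _⟩)

end prod

namespace Quasi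

variable {G : Type*} [Group G] {U Ei Ej O : Subgroup G}

section gen

variable {F : Type*} [Group F] {f : ↥(Ei ⊔ Ej) →* F} (D : Quasi U Ei Ej O f)

include D

/-- the image of `Ei` is generated by the conjugates of the image of `U` -/
theorem gen_map (N : Subgroup F) (hN : ∀ e ∈ (Ei.subgroupOf (Ei ⊔ Ej)).map f, ∀ u ∈ (U.subgroupOf (Ei ⊔ Ej)).map f,
    e * u * e⁻¹ ∈ N) : (Ei.subgroupOf (Ei ⊔ Ej)).map f ≤ N := by
  have h1 : Ei ≤ (N.comap f).map (Ei ⊔ Ej).subtype := by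
    apply D.geni
    intro e he u hu
    have heX : e ∈ Ei ⊔ Ej := (le_sup_left : Ei ≤ _) he
    have huX : u ∈ Ei ⊔ Ej := (le_sup_left : Ei ≤ _) (D.Ui hu)
    refine ⟨⟨e, heX⟩ * ⟨u, huX⟩ * ⟨e, heX⟩⁻¹, ?_, rfl⟩
    show f (⟨e, heX⟩ * ⟨u, huX⟩ * ⟨e, heX⟩⁻¹) ∈ N
    rw [map_mul, map_mul, map_inv]
    exact hN _ ⟨_, he, rfl⟩ _ ⟨_, hu, rfl⟩
  rintro _ ⟨x, hx, rfl⟩
  obtain ⟨y, hy, h2⟩ := h1 hx
  have h3 : y = x := Subtype.ext h2
  rw [← h3]; exact hy

/-- the image of `Ei` is larger than the image of `U` -/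
theorem map_ne_U : (Ei.subgroupOf (Ei ⊔ Ej)).map f ≠ (U.subgroupOf (Ei ⊔ Ej)).map f := by
  intro h
  apply D.noti
  have key : ∀ x ∈ Ei, ∀ v ∈ U, x * v * x⁻¹ ∈ U := by
    intro x hx v hv
    have hxX : x ∈ Ei ⊔ Ej := (le_sup_left : Ei ≤ _) hx
    have hvX : v ∈ Ei ⊔ Ej := (le_sup_left : Ei ≤ _) (D.Ui hv)
    have h1 : f ⟨x, hxX⟩ ∈ (Ei.subgroupOf (Ei ⊔ Ej)).map f := ⟨_, hx, rfl⟩
    rw [h] at h1
    obtain ⟨u, hu, h2⟩ := h1
    have hu : (u : G) ∈ U := hu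
    set k := u⁻¹ * ⟨x, hxX⟩ with hk
    have hk1 : f k = 1 := by rw [hk, map_mul, map_inv, h2, inv_mul_cancel]
    have h3 := D.O_le (D.central k hk1 ⟨v, hvX⟩)
    have e1 : x * v * x⁻¹ = (u : G) * ((k : G) * v * (k : G)⁻¹ * v⁻¹ * v) * (u : G)⁻¹ := by
      rw [hk]; push_cast; group
    rw [e1]
    exact mul_mem (mul_mem hu (mul_mem h3 hv)) (inv_mem hu)
  intro x hx
  rw [mem_normalizer_iff]
  intro v
  refine ⟨key x hx v, fun hv => ?_⟩
  have := key x⁻¹ (inv_mem hx) _ hv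
  have e1 : x⁻¹ * (x * v * x⁻¹) * x⁻¹⁻¹ = v := by group
  rwa [e1] at this

end gen

variable {A B : Type*} [Group A] [Group B] {f : ↥(Ei ⊔ Ej) →* A × B} (D : Quasi U Ei Ej O f)

include D

/-- the image of `Ei` -/
theorem prod_type [Finite A] [Finite B] (hA : TwoGen A) (hB : TwoGen B) {SA : Sylow 2 A} {SB : Sylow 2 B}
    (hS : (U.subgroupOf (Ei ⊔ Ej)).map f = (SA : Subgroup A).prod (SB : Subgroup B)) :
    (Ei.subgroupOf (Ei ⊔ Ej)).map f = (⊤ : Subgroup A).prod (SB : Subgroup B) ∨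
      (Ei.subgroupOf (Ei ⊔ Ej)).map f = (SA : Subgroup A).prod (⊤ : Subgroup B) := by
  have h1 : (U.subgroupOf (Ei ⊔ Ej)).map f ≤ (Ei.subgroupOf (Ei ⊔ Ej)).map f :=
    map_mono fun x hx => D.Ui hx
  have h2 := D.gen_map
  rw [hS] at h1 h2
  rcases prod_over hA hB h1 h2 with h | h | h | h
  · exact (D.map_ne_U (h.trans hS.symm)).elim
  · exact Or.inl h
  · exact Or.inr h
  · exact (D.map_ne_top h).elim

end Quasi

section odd

variable {G : Type*} [Group G] [Finite G] {A B : Type*} [Group A] [Group B] {X E : Subgroup G} {f : ↥X →* A × B}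

/-- elements of odd order of `T × SB` -/
theorem snd_eq_one (hE : E ≤ X) {SB : Sylow 2 B} {T : Subgroup A}
    (h : (E.subgroupOf X).map f ≤ T.prod (SB : Subgroup B)) {x : ↥X} (hx : (x : G) ∈ oddGen E) : (f x).2 = 1 := by
  have h1 : oddGen E ≤ (((⊤ : Subgroup A).prod (⊥ : Subgroup B)).comap f).map X.subtype := by
    show Subgroup.closure _ ≤ _
    rw [closure_le]
    rintro x ⟨hx, ho⟩
    refine ⟨⟨x, hE hx⟩, ⟨mem_top _, ?_⟩, rfl⟩
    show (f ⟨x, hE hx⟩).2 ∈ (⊥ : Subgroup B)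
    rw [mem_bot]
    have h2 : (f ⟨x, hE hx⟩).2 ∈ (SB : Subgroup B) := (h ⟨_, hx, rfl⟩).2
    obtain ⟨k, hk⟩ := SB.2 ⟨_, h2⟩
    have hk' : (f ⟨x, hE hx⟩).2 ^ 2 ^ k = 1 := congrArg Subtype.val hk
    have h3 : (f ⟨x, hE hx⟩).2 ^ orderOf x = 1 := by
      rw [← Prod.pow_snd, ← map_pow]
      have : (⟨x, hE hx⟩ : ↥X) ^ orderOf x = 1 := Subtype.ext (pow_orderOf_eq_one x)
      rw [this, map_one]; rfl
    rw [← orderOf_eq_one_iff]
    have h4 : Nat.Coprime (2 ^ k) (orderOf x) := (Nat.coprime_two_left.2 ho).pow_left k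
    exact Nat.eq_one_of_dvd_coprimes h4 (orderOf_dvd_of_pow_eq_one hk') (orderOf_dvd_of_pow_eq_one h3)
  obtain ⟨y, hy, h2⟩ := h1 hx
  have h3 : y = x := Subtype.ext h2
  rw [← h3]
  exact mem_bot.1 hy.2

theorem fst_eq_one (hE : E ≤ X) {SA : Sylow 2 A} {T : Subgroup B}
    (h : (E.subgroupOf X).map f ≤ (SA : Subgroup A).prod T) {x : ↥X} (hx : (x : G) ∈ oddGen E) : (f x).1 = 1 := by
  have h1 : oddGen E ≤ (((⊥ : Subgroup A).prod (⊤ : Subgroup B)).comap f).map X.subtype := by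
    show Subgroup.closure _ ≤ _
    rw [closure_le]
    rintro x ⟨hx, ho⟩
    refine ⟨⟨x, hE hx⟩, ⟨?_, mem_top _⟩, rfl⟩
    show (f ⟨x, hE hx⟩).1 ∈ (⊥ : Subgroup A)
    rw [mem_bot]
    have h2 : (f ⟨x, hE hx⟩).1 ∈ (SA : Subgroup A) := (h ⟨_, hx, rfl⟩).1
    obtain ⟨k, hk⟩ := SA.2 ⟨_, h2⟩
    have hk' : (f ⟨x, hE hx⟩).1 ^ 2 ^ k = 1 := congrArg Subtype.val hk
    have h3 : (f ⟨x, hE hx⟩).1 ^ orderOf x = 1 := by
      rw [← Prod.pow_fst, ← map_pow]
      have : (⟨x, hE hx⟩ : ↥X) ^ orderOf x = 1 := Subtype.ext (pow_orderOf_eq_one x)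
      rw [this, map_one]; rfl
    rw [← orderOf_eq_one_iff]
    have h4 : Nat.Coprime (2 ^ k) (orderOf x) := (Nat.coprime_two_left.2 ho).pow_left k
    exact Nat.eq_one_of_dvd_coprimes h4 (orderOf_dvd_of_pow_eq_one hk') (orderOf_dvd_of_pow_eq_one h3)
  obtain ⟨y, hy, h2⟩ := h1 hx
  have h3 : y = x := Subtype.ext h2
  rw [← h3]
  exact mem_bot.1 hy.1

end odd

section pairing

variable {G : Type*} [Group G] {F : Type*} [Group F] {X O L M R : Subgroup G} {f : ↥X →* F}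

/-- Two subgroups `L`, `M` which commute modulo the kernel of `f` (central modulo `O`) commute modulo `O` if `L` is perfect
modulo a subgroup `R` whose elements in `L` lie in the kernel. -/
theorem comm_of_perfect (hO : X ≤ normalizer (O : Set G))
    (central : ∀ z : ↥X, f z = 1 → ∀ x : ↥X, (z : G) * x * (z : G)⁻¹ * (x : G)⁻¹ ∈ O)
    (hL : L ≤ X) (hM : M ≤ X) (hLM : ∀ x y : ↥X, (x : G) ∈ L → (y : G) ∈ M → f (x * y * x⁻¹ * y⁻¹) = 1)
    (hp : L ≤ ⁅L, L⁆ ⊔ R) (hR : ∀ x : ↥X, (x : G) ∈ L → (x : G) ∈ R → f x = 1) (hRn : L ≤ normalizer (R : Set G)) :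
    ∀ x ∈ L, ∀ y ∈ M, x * y * x⁻¹ * y⁻¹ ∈ O := by
  have hN : (O.subgroupOf X).Normal := normal_subgroupOf_of_le_normalizer hO
  set π := QuotientGroup.mk' (O.subgroupOf X) with hπ
  have hπ1 : ∀ x : ↥X, π x = 1 ↔ (x : G) ∈ O := fun x => by
    rw [hπ, QuotientGroup.mk'_apply, QuotientGroup.eq_one_iff, mem_subgroupOf]
  have hcen : ∀ z : ↥X, f z = 1 → π z ∈ center (↥X ⧸ O.subgroupOf X) := by
    intro z hz
    rw [mem_center_iff]
    intro q
    obtain ⟨x, rfl⟩ := QuotientGroup.mk'_surjective (O.subgroupOf X) q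
    have h1 : π (z * x * z⁻¹ * x⁻¹) = 1 := (hπ1 _).2 (by push_cast; exact central z hz x)
    rw [map_mul, map_mul, map_mul, map_inv, map_inv, mul_inv_eq_one, mul_inv_eq_iff_eq_mul] at h1
    exact h1.symm
  set L' := (L.subgroupOf X).map π with hL'
  set M' := (M.subgroupOf X).map π with hM'
  have h1 : ⁅L', M'⁆ ≤ center (↥X ⧸ O.subgroupOf X) := by
    rw [commutator_le]
    rintro _ ⟨x, hx, rfl⟩ _ ⟨y, hy, rfl⟩
    rw [← map_commutatorElement]
    exact hcen _ (hLM x y hx hy)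
  have h2 : ⁅⁅L', M'⁆, L'⁆ = ⊥ := by
    rw [commutator_eq_bot_iff_le_centralizer]
    exact h1.trans (center_le_centralizer _)
  have h3 : ⁅⁅M', L'⁆, L'⁆ = ⊥ := by rw [commutator_comm M' L']; exact h2
  have h4 : ⁅⁅L', L'⁆, M'⁆ = ⊥ := commutator_commutator_eq_bot_of_rotate h2 h3
  have hcomm : ∀ x y : ↥X, (x : G) ∈ ⁅L, L⁆ → (y : G) ∈ M → (x : G) * y * (x : G)⁻¹ * (y : G)⁻¹ ∈ O := by
    intro x y hx hy
    have h5 : π x ∈ ⁅L', L'⁆ := by
      have h6 : ⁅L, L⁆ ≤ (⁅L', L'⁆.comap π).map X.subtype := by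
        rw [commutator_le]
        intro a ha b hb
        refine ⟨⁅(⟨a, hL ha⟩ : ↥X), (⟨b, hL hb⟩ : ↥X)⁆, ?_, rfl⟩
        show π ⁅(⟨a, hL ha⟩ : ↥X), (⟨b, hL hb⟩ : ↥X)⁆ ∈ ⁅L', L'⁆
        rw [map_commutatorElement]
        exact commutator_mem_commutator ⟨_, ha, rfl⟩ ⟨_, hb, rfl⟩
      obtain ⟨z, hz, h7⟩ := h6 hx
      have h8 : z = x := Subtype.ext h7
      rw [← h8]; exact hz
    have h6 : ⁅π x, π y⁆ ∈ ⁅⁅L', L'⁆, M'⁆ := commutator_mem_commutator h5 ⟨y, hy, rfl⟩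
    rw [h4, mem_bot, ← map_commutatorElement, hπ1] at h6
    exact h6
  intro x hx y hy
  obtain ⟨r, hr, c, hc, h5⟩ := Solvable.Glauberman.exists_mul_of_mem_sup ⁅L, L⁆ R
    ((commutator_le_self L).trans hRn) (hp hx)
  have hcL : c ∈ L := commutator_le_self L hc
  have hrL : r ∈ L := by
    have h6 : r = x * c⁻¹ := by rw [h5]; group
    rw [h6]; exact mul_mem hx (inv_mem hcL)
  have h6 := central ⟨r, hL hrL⟩ (hR ⟨r, hL hrL⟩ hrL hr) ⟨y, hM hy⟩
  have h7 := hcomm ⟨c, hL hcL⟩ ⟨y, hM hy⟩ hc hy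
  have h6 : r * y * r⁻¹ * y⁻¹ ∈ O := h6
  have h7 : c * y * c⁻¹ * y⁻¹ ∈ O := h7
  have e1 : x * y * x⁻¹ * y⁻¹ = r * (c * y * c⁻¹ * y⁻¹) * r⁻¹ * (r * y * r⁻¹ * y⁻¹) := by rw [h5]; group
  rw [e1]
  exact mul_mem (conj_mem_of_normalizer (hO (hL hrL)) h7) h6

end pairing

section nodeA

variable {G : Type*} [Group G] {A B : Type*} [Group A] [Group B] {X E : Subgroup G} {f : ↥X →* A × B}

/-- the image of `O₂(E)` if the image of `E` is `A × SB` -/
theorem fst_o2_eq_one (hA : NoTwo A) {T : Subgroup B}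
    (h : (E.subgroupOf X).map f = (⊤ : Subgroup A).prod T) {x : ↥X} (hx : (x : G) ∈ o2 E) : (f x).1 = 1 := by
  set N : Subgroup A := (((o2 E).subgroupOf X).map f).map (MonoidHom.fst A B) with hN
  have h1 : IsPGroup 2 N :=
    (((o2_isPGroup E).comap_of_injective X.subtype X.subtype_injective).map f).map (MonoidHom.fst A B)
  have h2 : N.Normal := by
    constructor
    rintro _ ⟨_, ⟨y, hy, rfl⟩, rfl⟩ a
    have h3 : ((a, 1) : A × B) ∈ (E.subgroupOf X).map f := by rw [h]; exact ⟨mem_top _, one_mem _⟩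
    obtain ⟨z, hz, h4⟩ := h3
    have hz : (z : G) ∈ E := hz
    refine ⟨f (z * y * z⁻¹), ⟨z * y * z⁻¹, ?_, rfl⟩, ?_⟩
    · show ((z * y * z⁻¹ : ↥X) : G) ∈ o2 E
      push_cast
      exact conj_mem_of_normalizer (le_normalizer_o2 E hz) hy
    · show (f (z * y * z⁻¹)).1 = a * (f y).1 * a⁻¹
      rw [map_mul, map_mul, map_inv, h4]
      rfl
  have h3 := hA N h2 h1
  have h4 : (f x).1 ∈ N := ⟨f x, ⟨x, hx, rfl⟩, rfl⟩
  rw [h3] at h4
  exact mem_bot.1 h4

theorem snd_o2_eq_one (hB : NoTwo B) {T : Subgroup A}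
    (h : (E.subgroupOf X).map f = T.prod (⊤ : Subgroup B)) {x : ↥X} (hx : (x : G) ∈ o2 E) : (f x).2 = 1 := by
  set N : Subgroup B := (((o2 E).subgroupOf X).map f).map (MonoidHom.snd A B) with hN
  have h1 : IsPGroup 2 N :=
    (((o2_isPGroup E).comap_of_injective X.subtype X.subtype_injective).map f).map (MonoidHom.snd A B)
  have h2 : N.Normal := by
    constructor
    rintro _ ⟨_, ⟨y, hy, rfl⟩, rfl⟩ b
    have h3 : ((1, b) : A × B) ∈ (E.subgroupOf X).map f := by rw [h]; exact ⟨one_mem _, mem_top _⟩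
    obtain ⟨z, hz, h4⟩ := h3
    have hz : (z : G) ∈ E := hz
    refine ⟨f (z * y * z⁻¹), ⟨z * y * z⁻¹, ?_, rfl⟩, ?_⟩
    · show ((z * y * z⁻¹ : ↥X) : G) ∈ o2 E
      push_cast
      exact conj_mem_of_normalizer (le_normalizer_o2 E hz) hy
    · show (f (z * y * z⁻¹)).2 = b * (f y).2 * b⁻¹
      rw [map_mul, map_mul, map_inv, h4]
      rfl
  have h3 := hB N h2 h1
  have h4 : (f x).2 ∈ N := ⟨f x, ⟨x, hx, rfl⟩, rfl⟩
  rw [h3] at h4
  exact mem_bot.1 h4

end nodeA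

theorem NoTwo.not_isPGroup {A : Type*} [Group A] [Nontrivial A] (h : NoTwo A) : ¬ IsPGroup 2 A := by
  intro h1
  have h2 := h ⊤ inferInstance (h1.of_equiv topEquiv.symm)
  exact top_ne_bot h2

/-- **Product residues.**  `X / O` is a central extension of `A × B`, and `Ei` is perfect modulo `O₂(Ei)`. -/
theorem Quasi.prodP {G : Type*} [Group G] [Finite G] {U Ei Ej O : Subgroup G} {A B : Type*} [Group A] [Group B]
    [Nontrivial A] [Nontrivial B] {f : ↥(Ei ⊔ Ej) →* A × B} (D : Quasi U Ei Ej O f) (hA : TwoGen A) (hB : TwoGen B)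
    (hA' : NoTwo A) (hB' : NoTwo B) (hp : Ei ≤ ⁅oddGen Ei, oddGen Ei⁆ ⊔ o2 Ei) :
    ProdP U Ei Ej (oddGen Ei) (oddGen Ej) := by
  have : Finite (A × B) := Finite.of_surjective f D.surj
  have : Finite A := Finite.of_surjective (Prod.fst : A × B → A) Prod.fst_surjective
  have : Finite B := Finite.of_surjective (Prod.snd : A × B → B) Prod.snd_surjective
  obtain ⟨SA, SB, hS⟩ := sylow_prod D.isP_map D.index_map
  have hi := D.prod_type hA hB hS
  have hS' : (U.subgroupOf (Ej ⊔ Ei)).map (f.comp (Subgroup.inclusion (sup_comm Ej Ei).le)) =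
      (SA : Subgroup A).prod (SB : Subgroup B) := by
    rw [← hS]
    ext e
    constructor
    · rintro ⟨u, hu, rfl⟩
      exact ⟨⟨u, (sup_comm Ej Ei).le u.2⟩, hu, rfl⟩
    · rintro ⟨u, hu, rfl⟩
      exact ⟨⟨u, (sup_comm Ei Ej).le u.2⟩, hu, rfl⟩
  have hmj : (Ej.subgroupOf (Ej ⊔ Ei)).map (f.comp (Subgroup.inclusion (sup_comm Ej Ei).le)) =
      (Ej.subgroupOf (Ei ⊔ Ej)).map f := by
    ext e
    constructor
    · rintro ⟨u, hu, rfl⟩
      exact ⟨⟨u, (sup_comm Ej Ei).le u.2⟩, hu, rfl⟩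
    · rintro ⟨u, hu, rfl⟩
      exact ⟨⟨u, (sup_comm Ei Ej).le u.2⟩, hu, rfl⟩
  have hj := D.symm.prod_type hA hB hS'
  rw [hmj] at hj
  have hLi : oddGen Ei ≤ Ei ⊔ Ej := (oddGen_le Ei).trans le_sup_left
  have hLj : oddGen Ej ≤ Ei ⊔ Ej := (oddGen_le Ej).trans le_sup_right
  have hRn : oddGen Ei ≤ normalizer (o2 Ei : Set G) := (oddGen_le Ei).trans (le_normalizer_o2 Ei)
  refine ⟨O, D.O_le, le_sup_left.trans D.O_norm, le_sup_right.trans D.O_norm, ?_⟩
  rcases hi with hi | hi <;> rcases hj with hj | hj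
  · exfalso
    have h1 : (⊤ : Subgroup A).prod (SB : Subgroup B) ≠ ⊤ := by
      intro h
      apply hB'.not_isPGroup
      have h2 : (SB : Subgroup B) = ⊤ := by
        rw [eq_top_iff]
        intro b _
        have h3 : ((1, b) : A × B) ∈ (⊤ : Subgroup A).prod (SB : Subgroup B) := by rw [h]; exact mem_top _
        exact h3.2
      have h3 := SB.2
      rw [h2] at h3
      exact h3.of_equiv topEquiv
    exact D.not_both h1 (fun x hx => hi ▸ ⟨x, hx, rfl⟩) (fun x hx => hj ▸ ⟨x, hx, rfl⟩)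
  · refine comm_of_perfect D.O_norm D.central hLi hLj ?_ ((oddGen_le Ei).trans hp) ?_ hRn
    · intro x y hx hy
      have h1 := snd_eq_one (le_sup_left : Ei ≤ _) hi.le hx
      have h2 := fst_eq_one (le_sup_right : Ej ≤ _) hj.le hy
      rw [map_mul, map_mul, map_mul, map_inv, map_inv]
      apply Prod.ext
      · show (f x).1 * (f y).1 * (f x).1⁻¹ * (f y).1⁻¹ = 1
        rw [h2]; group
      · show (f x).2 * (f y).2 * (f x).2⁻¹ * (f y).2⁻¹ = 1
        rw [h1]; group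
    · intro x hx hx'
      exact Prod.ext (fst_o2_eq_one hA' hi hx') (snd_eq_one (le_sup_left : Ei ≤ _) hi.le hx)
  · refine comm_of_perfect D.O_norm D.central hLi hLj ?_ ((oddGen_le Ei).trans hp) ?_ hRn
    · intro x y hx hy
      have h1 := fst_eq_one (le_sup_left : Ei ≤ _) hi.le hx
      have h2 := snd_eq_one (le_sup_right : Ej ≤ _) hj.le hy
      rw [map_mul, map_mul, map_mul, map_inv, map_inv]
      apply Prod.ext
      · show (f x).1 * (f y).1 * (f x).1⁻¹ * (f y).1⁻¹ = 1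
        rw [h1]; group
      · show (f x).2 * (f y).2 * (f x).2⁻¹ * (f y).2⁻¹ = 1
        rw [h2]; group
    · intro x hx hx'
      exact Prod.ext (fst_eq_one (le_sup_left : Ei ≤ _) hi.le hx) (snd_o2_eq_one hB' hi hx')
  · exfalso
    have h1 : (SA : Subgroup A).prod (⊤ : Subgroup B) ≠ ⊤ := by
      intro h
      apply hA'.not_isPGroup
      have h2 : (SA : Subgroup A) = ⊤ := by
        rw [eq_top_iff]
        intro b _
        have h3 : ((b, 1) : A × B) ∈ (SA : Subgroup A).prod (⊤ : Subgroup B) := by rw [h]; exact mem_top _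
        exact h3.1
      have h3 := SA.2
      rw [h2] at h3
      exact h3.of_equiv topEquiv
    exact D.not_both h1 (fun x hx => hi ▸ ⟨x, hx, rfl⟩) (fun x hx => hj ▸ ⟨x, hx, rfl⟩)

/-- In a group with `irr`, elements of `P_s ∖ B` and of `P_t ∖ B` do not commute. -/
theorem KPair.mul_ne {F : Type*} [Group F] {p : ℕ} {Q : Cfsg.BNPair F} {UF : Subgroup F} {s t : F}
    (K : KPair p Q UF s t) {x y : F} (hx : x ∈ Q.parabolic {s}) (hxB : x ∉ Q.B) (hy : y ∈ Q.parabolic {t})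
    (hyB : y ∉ Q.B) : x * y ≠ y * x := by
  intro hxy
  obtain ⟨v, hv, b, hb, h1⟩ := K.form K.hs hx hxB
  obtain ⟨w, hw, c, hc, h2⟩ := K.form K.ht hy hyB
  have hvB := K.split.le hv
  have hwB := K.split.le hw
  have hsS := K.hs
  have htS := K.ht
  have hst : ∀ {a c : F}, a ∈ Q.S → c ∈ Q.S → a ≠ c → ∀ b ∈ Q.B, a * b * c ∈ C Q (a * c) := by
    intro a c ha hc hac b hb
    rcases axiom_left ha (mem_N hc) hb with h | h
    · exact h
    · exfalso
      have hle : Q.B ≤ Q.parabolic {c} := Cfsg.Agent.Schreier.BNSch.B_le_parabolic Q {c}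
      have hcP : c ∈ Q.parabolic {c} := Cfsg.Agent.Schreier.BNSch.mem_parabolic_self Q c
      have h3 : a * b * c ∈ Q.parabolic {c} := mem_of_mem_C' hle h hcP
      have h4 : a ∈ Q.parabolic {c} := by
        have := mul_mem (mul_mem h3 (inv_mem hcP)) (inv_mem (hle hb))
        have e1 : a * b * c * c⁻¹ * b⁻¹ = a := by group
        rwa [e1] at this
      exact hac (Set.mem_singleton_iff.1 ((mem_parabolic_gen_iff (Set.singleton_subset_iff.2 hc) ha).1 h4))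
  have h3 : x * y ∈ C Q (s * t) := by
    have h4 := hst hsS htS K.ne (b * w) (mul_mem hb hwB)
    have e1 : x * y = v * (s * (b * w) * t) * c := by rw [h1, h2]; group
    rw [e1]
    exact mul_mem_C_right hc (mul_mem_C_left hvB h4)
  have h4 : x * y ∈ C Q (t * s) := by
    have h4 := hst htS hsS K.ne.symm (c * v) (mul_mem hc hvB)
    have e1 : x * y = w * (t * (c * v) * s) * b := by rw [hxy, h1, h2]; group
    rw [e1]
    exact mul_mem_C_right hb (mul_mem_C_left hwB h4)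
  have hN1 : s * t ∈ Q.N := mul_mem (mem_N hsS) (mem_N htS)
  have hN2 : t * s ∈ Q.N := mul_mem (mem_N htS) (mem_N hsS)
  have h5 := rel_of_C_eq hN2 hN1 (C_eq_of_mem_mem h4 h3)
  have h6 := conj_mem' hN2 h5 (mul_mem (inv_mem hN2) hN1)
  have e1 : t * s * ((t * s)⁻¹ * (s * t)) * (t * s)⁻¹ = s * t * s⁻¹ * t⁻¹ := by group
  rw [e1] at h6
  exact K.irr h6

/-- **A Lie pair is not a product pair.** -/
theorem LieP.not_prodP {G : Type u} [Group G] {U Ei Ej Li Lj : Subgroup G} (h : LieP U Ei Ej)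
    (hLi : Li ≤ Ei) (hLj : Lj ≤ Ej)
    (ELi : ∀ x ∈ Ei, ∃ l ∈ Li, ∃ u ∈ U, x = l * u) (ELj : ∀ x ∈ Ej, ∃ l ∈ Lj, ∃ u ∈ U, x = l * u) :
    ¬ ProdP U Ei Ej Li Lj := by
  rintro ⟨O', hO', hi, hj, hc⟩
  obtain ⟨O, F, _, _, ψ, Q, UF, s, t, D, -⟩ := h
  have hUF : ∀ u : ↥(Ei ⊔ Ej), (u : G) ∈ U → ψ u ∈ Q.B := fun u hu => D.K.split.le ((D.img _).2 ⟨u, hu, rfl⟩)
  -- `O'` lies in the kernel
  have hn : ((O'.subgroupOf (Ei ⊔ Ej)).map ψ).Normal :=
    (normal_subgroupOf_of_le_normalizer (sup_le hi hj)).map ψ D.surj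
  have hp : IsPGroup 2 ((O'.subgroupOf (Ei ⊔ Ej)).map ψ) := by
    apply IsPGroup.map
    exact (D.isP.to_le hO').comap_of_injective (Ei ⊔ Ej).subtype (Ei ⊔ Ej).subtype_injective
  have hO1 := D.K.noTwo _ hn hp
  have hO2 : ∀ x : ↥(Ei ⊔ Ej), (x : G) ∈ O' → ψ x = 1 := by
    intro x hx
    have h1 : ψ x ∈ (O'.subgroupOf (Ei ⊔ Ej)).map ψ := ⟨x, hx, rfl⟩
    rw [hO1] at h1
    exact mem_bot.1 h1
  obtain ⟨x, hx, hxB⟩ := D.noti
  obtain ⟨y, hy, hyB⟩ := D.notj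
  obtain ⟨l, hl, u, hu, h1⟩ := ELi x hx
  obtain ⟨m, hm, w, hw, h2⟩ := ELj y hy
  have hlX : l ∈ Ei ⊔ Ej := (le_sup_left : Ei ≤ _) (hLi hl)
  have hmX : m ∈ Ei ⊔ Ej := (le_sup_right : Ej ≤ _) (hLj hm)
  have huX : u ∈ Ei ⊔ Ej := (le_sup_left : Ei ≤ _) (D.Ui hu)
  have hwX : w ∈ Ei ⊔ Ej := (le_sup_left : Ei ≤ _) (D.Ui hw)
  have hlB : ψ ⟨l, hlX⟩ ∉ Q.B := by
    intro h
    apply hxB
    have e1 : x = ⟨l, hlX⟩ * ⟨u, huX⟩ := Subtype.ext h1
    rw [e1, map_mul]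
    exact mul_mem h (hUF _ hu)
  have hmB : ψ ⟨m, hmX⟩ ∉ Q.B := by
    intro h
    apply hyB
    have e1 : y = ⟨m, hmX⟩ * ⟨w, hwX⟩ := Subtype.ext h2
    rw [e1, map_mul]
    exact mul_mem h (hUF _ hw)
  apply D.K.mul_ne (D.imi _ (hLi hl)) hlB (D.imj _ (hLj hm)) hmB
  have h3 := hO2 (⟨l, hlX⟩ * ⟨m, hmX⟩ * ⟨l, hlX⟩⁻¹ * ⟨m, hmX⟩⁻¹) (hc l hl m hm)
  rw [map_mul, map_mul, map_mul, map_inv, map_inv, mul_inv_eq_one, mul_inv_eq_iff_eq_mul] at h3
  exact h3

end Cfsg.Agent.ParSys
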