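import Cfsg.Agent.ParSys.QuadSig
import Cfsg.Agent.Omega.HOne.EndBraid

/-!
# The closed apartment of a quadrangle from a central kernel

`swap_of_cen`: `n ∈ M ≤ Pa`, `M` perfect, `n^m` centralises `M` modulo `C`, and `C / J` is central in `L / J` with
`J ≤ B`: then the galleries `n, m, n, m⁻¹` and `m, n, m⁻¹, n` have the same end.
-/

set_option autoImplicit false

namespace Cfsg.Agent.ParSys

open Subgroup Cfsg.Agent.Omega.HOne.End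

variable {G : Type*} [Group G] {B Pa Pb : Subgroup G} {n m : G}

theorem swap_of_cen {L C J M : Subgroup G} (h : CenMod L C J) (hJ : J ≤ B) (hM : M ≤ Pa) (hML : M ≤ L)
    (hp : ⁅M, M⁆ = M) (hn : n ∈ M) (hnB : n ∉ B) (hm : m ∈ Pb) (hmB : m ∉ B) (hmL : m ∈ L)
    (hc : ∀ x ∈ M, (m⁻¹ * n * m) * x * (m⁻¹ * n * m)⁻¹ * x⁻¹ ∈ C) : Swap B Pa Pb n m m⁻¹ m n m⁻¹ n where
  m'_mem := inv_mem hm
  m'_not := fun h0 => hmB (inv_mem_iff.1 h0)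
  m1 := ⟨hm, hmB⟩
  m2 := ⟨hM hn, hnB⟩
  m3 := ⟨inv_mem hm, fun h0 => hmB (inv_mem_iff.1 h0)⟩
  m4 := ⟨hM hn, hnB⟩
  eq := by
    have hnL := hML hn
    have ht : m⁻¹ * n * m ∈ L := mul_mem (mul_mem (inv_mem hmL) hnL) hmL
    have h1 := h.perfect hML hp ht hc hn
    have h2 := h.J_norm (m * (m⁻¹ * n * m * n)⁻¹) (mul_mem hmL (inv_mem (mul_mem ht hnL))) _ (inv_mem h1)
    have e : m * (m⁻¹ * n * m * n)⁻¹ * (m⁻¹ * n * m * n * (m⁻¹ * n * m)⁻¹ * n⁻¹)⁻¹ *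
        (m * (m⁻¹ * n * m * n)⁻¹)⁻¹ = (n * m * n * m⁻¹)⁻¹ * (m * n * m⁻¹ * n) := by group
    rw [e] at h2
    exact hJ h2

end Cfsg.Agent.ParSys
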