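import Cfsg.Agent.ParSys.ResA
import Cfsg.Agent.ParSys.KerGen
import Cfsg.Agent.ParSys.KerOdd
import Cfsg.Agent.LieClassical.SLGen

/-!
# Residues of type `A₂`: the flag stabiliser is `B`

`PreA`: as `ResA`, but the condition `bor` is only required in `P i` and in `P j`; in addition `X ≤ P i` with `[Ker ρ, X] ≤ U`,
`ρ(X ∩ U) = ρ(U)` and a torus element `t ∈ X ∩ B`.  Then `ResA` holds (`PreA.resA`).
-/

set_option autoImplicit false

namespace Cfsg.Agent.ParSys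

open Subgroup Matrix
open scoped MatrixGroups

section mat

variable {F : Type*} [Field F]

theorem UpT.diag_ne {g : GL (Fin 3) F} (h : UpT g) : g 0 0 ≠ 0 ∧ g 1 1 ≠ 0 ∧ g 2 2 ≠ 0 := by
  obtain ⟨h1, h2, h3⟩ := h
  have h4 : g.1.det ≠ 0 := by
    have := (g.isUnit.map (Matrix.detMonoidHom (n := Fin 3) (R := F))).ne_zero
    exact this
  rw [Matrix.det_fin_three, h1, h2, h3] at h4
  refine ⟨fun h0 => h4 ?_, fun h0 => h4 ?_, fun h0 => h4 ?_⟩ <;> rw [h0] <;> ring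

theorem UpT.inv {g : GL (Fin 3) F} (h : UpT g) : UpT g⁻¹ := by
  obtain ⟨n0, n1, n2⟩ := h.diag_ne
  obtain ⟨h1, h2, h3⟩ := h
  have key : ∀ x y, (g⁻¹ : GL (Fin 3) F) x 0 * g 0 y + (g⁻¹ : GL (Fin 3) F) x 1 * g 1 y +
      (g⁻¹ : GL (Fin 3) F) x 2 * g 2 y = (1 : Matrix (Fin 3) (Fin 3) F) x y := by
    intro x y
    have e1 : (g⁻¹ * g : GL (Fin 3) F).1 x y = (1 : Matrix (Fin 3) (Fin 3) F) x y := by
      rw [inv_mul_cancel]; rfl
    rw [Units.val_mul, Matrix.mul_apply, Fin.sum_univ_three] at e1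
    exact e1
  have k1 := key 2 0
  have k2 := key 1 0
  have k3 := key 2 1
  rw [h1, h2, mul_zero, mul_zero, add_zero, add_zero] at k1 k2
  rw [Matrix.one_apply_ne (by decide)] at k1 k2 k3
  have e1 := (mul_eq_zero.1 k1).resolve_right n0
  have e2 := (mul_eq_zero.1 k2).resolve_right n0
  rw [e1, h3, zero_mul, mul_zero, zero_add, add_zero] at k3
  exact ⟨e2, e1, (mul_eq_zero.1 k3).resolve_right n1⟩

/-- upper triangular matrices normalise the unitriangular group -/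
theorem UpT.norm {g : GL (Fin 3) F} (h : UpT g) {u : SpecialLinearGroup (Fin 3) F} (hu : u ∈ US F) :
    UniT (g * (u : GL (Fin 3) F) * g⁻¹) := by
  have h1 := mem_US_iff.1 hu
  obtain ⟨n0, n1, n2⟩ := h.diag_ne
  obtain ⟨h2, h3, h4, h5⟩ := h.mul h1.1
  have h6 := (h2.mul h.inv).1
  obtain ⟨h7, h8, h9, h10⟩ := h6.mul h
  rw [inv_mul_cancel_right] at h8 h9 h10
  rw [h1.2.1, mul_one] at h3
  rw [h1.2.2.1, mul_one] at h4
  rw [h1.2.2.2, mul_one] at h5
  refine ⟨h6, ?_, ?_, ?_⟩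
  · exact mul_right_cancel₀ n0 (by rw [one_mul, ← h8, h3])
  · exact mul_right_cancel₀ n1 (by rw [one_mul, ← h9, h4])
  · exact mul_right_cancel₀ n2 (by rw [one_mul, ← h10, h5])

theorem exists_sylow_US [Finite F] [CharP F 2] :
    ∃ T : Sylow 2 (SpecialLinearGroup (Fin 3) F), (T : Subgroup _) = US F := by
  have : Finite (SpecialLinearGroup (Fin 3) F) := Subtype.finite
  have : Fact (Nat.Prime 2) := ⟨Nat.prime_two⟩
  have : ExpChar F 2 := ExpChar.prime Nat.prime_two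
  apply exists_sylow_eq isPGroup_US
  intro x hx n hn
  have h1 : UpT (x : GL (Fin 3) F) := by
    apply upT_of_norm
    intro u hu
    refine ⟨x * u * x⁻¹, (Subgroup.mem_normalizer_iff.1 hx u).1 hu, 1, one_mem _, ?_⟩
    rw [one_mul, map_mul, map_mul, map_inv]
  obtain ⟨h2, h3, h4, h5⟩ := h1.pow (2 ^ n)
  rw [← map_pow, hn, map_one] at h3 h4 h5
  have hone : ∀ a : F, 1 = a ^ 2 ^ n → a = 1 := by
    intro a ha
    exact iterateFrobenius_inj F 2 n (by rw [iterateFrobenius_def, iterateFrobenius_def, ← ha, one_pow])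
  rw [mem_US_iff]
  refine ⟨h1, hone _ ?_, hone _ ?_, hone _ ?_⟩
  · rw [← h3]; rfl
  · rw [← h4]; rfl
  · rw [← h5]; rfl

/-- the 3-cycle -/
def cyc3 (F : Type*) [Field F] : SpecialLinearGroup (Fin 3) F :=
  ⟨!![0, 0, 1; 1, 0, 0; 0, 1, 0], by rw [Matrix.det_fin_three]; simp⟩

/-- the inverse 3-cycle -/
def cyc3' (F : Type*) [Field F] : SpecialLinearGroup (Fin 3) F :=
  ⟨!![0, 1, 0; 0, 0, 1; 1, 0, 0], by rw [Matrix.det_fin_three]; simp⟩

/-- a normal subgroup of `SL₃` containing the unitriangular group is `SL₃` -/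
theorem eq_top_of_US {N : Subgroup (SpecialLinearGroup (Fin 3) F)} (hN : N.Normal) (h : US F ≤ N) : N = ⊤ := by
  rw [eq_top_iff, ← Cfsg.Agent.LieClassical.SLGen.closure_transvections (ι := Fin 3) (F := F), closure_le]
  have key : ∀ a b c : F, ∀ y : SpecialLinearGroup (Fin 3) F, ∀ x : SpecialLinearGroup (Fin 3) F,
      y * x = um a b c * y → x ∈ N := by
    intro a b c y x hxy
    have h1 := hN.conj_mem _ (h (show um a b c ∈ US F from ⟨a, b, c, rfl⟩)) y⁻¹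
    have e : y⁻¹ * um a b c * y⁻¹⁻¹ = x := by
      rw [inv_inv, mul_assoc, ← hxy]; group
    rwa [e] at h1
  rintro _ ⟨i, j, hij, c, rfl⟩
  have hv : (SpecialLinearGroup.transvection hij c : SpecialLinearGroup (Fin 3) F).1 =
      1 + Matrix.single i j c := rfl
  have hm : ∀ (A B : SpecialLinearGroup (Fin 3) F) (x y : Fin 3), (A * B).1 x y =
      A.1 x 0 * B.1 0 y + A.1 x 1 * B.1 1 y + A.1 x 2 * B.1 2 y := by
    intro A B x y
    rw [sl_mul, Matrix.mul_apply, Fin.sum_univ_three]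
  fin_cases i <;> fin_cases j <;> first | exact absurd rfl hij | skip
  · refine key c 0 0 1 _ ?_
    apply sl_ext; ext x y
    rw [hm, hm, hv]
    fin_cases x <;> fin_cases y <;> simp [um_val]
  · refine key 0 0 c 1 _ ?_
    apply sl_ext; ext x y
    rw [hm, hm, hv]
    fin_cases x <;> fin_cases y <;> simp [um_val]
  · refine key 0 0 c (cyc3' F) _ ?_
    apply sl_ext; ext x y
    rw [hm, hm, hv]
    fin_cases x <;> fin_cases y <;> simp [um_val, cyc3']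
  · refine key 0 c 0 1 _ ?_
    apply sl_ext; ext x y
    rw [hm, hm, hv]
    fin_cases x <;> fin_cases y <;> simp [um_val]
  · refine key c 0 0 (cyc3 F) _ ?_
    apply sl_ext; ext x y
    rw [hm, hm, hv]
    fin_cases x <;> fin_cases y <;> simp [um_val, cyc3]
  · refine key 0 0 c (cyc3 F) _ ?_
    apply sl_ext; ext x y
    rw [hm, hm, hv]
    fin_cases x <;> fin_cases y <;> simp [um_val, cyc3]

/-! ### Transitivity on a panel -/

/-- `Γ` acts on `F²`, `E` contains the conjugates of `U`, which acts as the unitriangular group: modulo `E` every element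
fixes the first point -/
theorem panel {Γ : Type*} [Group Γ] (m : Γ →* Matrix (Fin 2) (Fin 2) F) {E U : Subgroup Γ}
    (hE : ∀ g : Γ, ∀ u ∈ U, g * u * g⁻¹ ∈ E) (hU : ∀ c : F, ∃ u ∈ U, m u = !![1, c; 0, 1]) {y : Γ} (hy : m y 1 0 ≠ 0) :
    (∃ e ∈ E, m e 1 0 ≠ 0) ∧ ∀ x : Γ, ∃ e ∈ E, m (e⁻¹ * x) 1 0 = 0 := by
  have hm : ∀ (g h : Γ) (a b : Fin 2), m (g * h) a b = m g a 0 * m h 0 b + m g a 1 * m h 1 b := by
    intro g h a b
    rw [map_mul, Matrix.mul_apply, Fin.sum_univ_two]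
  have h1 : ∀ a b : Fin 2, m (1 : Γ) a b = (1 : Matrix (Fin 2) (Fin 2) F) a b := by intro a b; rw [map_one]
  have hdet : ∀ g : Γ, m g 0 0 * m g 1 1 - m g 0 1 * m g 1 0 ≠ 0 := by
    intro g h0
    have h2 : (m g).det * (m g⁻¹).det = 1 := by
      rw [← Matrix.det_mul, ← map_mul, mul_inv_cancel, map_one, Matrix.det_one]
    rw [Matrix.det_fin_two, h0, zero_mul] at h2
    exact zero_ne_one h2
  have hUE : U ≤ E := by
    intro u hu
    have := hE 1 u hu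
    rwa [one_mul, inv_one, mul_one] at this
  -- `y⁻¹` also moves the point
  have hy' : m y⁻¹ 1 0 ≠ 0 := by
    intro h0
    have h2 := hm y y⁻¹ 1 0
    rw [mul_inv_cancel, h1, Matrix.one_apply_ne (by decide), h0, mul_zero, add_zero] at h2
    have h3 := (mul_eq_zero.1 h2.symm).resolve_left hy
    apply hdet y⁻¹
    rw [h3, h0]; ring
  obtain ⟨u, hu, hmu⟩ := hU 1
  have he1 : m (y * u * y⁻¹) 1 0 ≠ 0 := by
    have h3 := hm y y⁻¹ 1 0
    rw [mul_inv_cancel, h1, Matrix.one_apply_ne (by decide)] at h3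
    have h4 : m (y * u * y⁻¹) 1 0 = m y 1 0 * m y⁻¹ 1 0 := by
      rw [hm (y * u) y⁻¹ 1 0, hm y u 1 0, hm y u 1 1, hmu]
      simp
      linear_combination (-1 : F) * h3
    rw [h4]
    exact mul_ne_zero hy hy'
  have he1E : y * u * y⁻¹ ∈ E := hE y u hu
  set e1 := y * u * y⁻¹ with he1def
  refine ⟨⟨e1, he1E, he1⟩, fun x => ?_⟩
  by_cases hx : m x 1 0 = 0
  · exact ⟨1, one_mem _, by rwa [inv_one, one_mul]⟩
  obtain ⟨v, hv, hmv⟩ := hU ((m x 0 0 * m e1 1 0 / m x 1 0 - m e1 0 0) / m e1 1 0)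
  refine ⟨v * e1, mul_mem (hUE hv) he1E, ?_⟩
  set e := v * e1 with hedef
  set z := e⁻¹ * x with hz
  have hxz : x = e * z := by rw [hz]; group
  have h00 : m e 0 0 = m x 0 0 * m e1 1 0 / m x 1 0 := by
    rw [hedef, hm, hmv]
    simp
    field_simp
    ring
  have h10 : m e 1 0 = m e1 1 0 := by
    rw [hedef, hm, hmv]
    simp
  have k0 := hm e z 0 0
  have k1 := hm e z 1 0
  rw [← hxz] at k0 k1
  have hprop : m x 0 0 * m e 1 0 = m x 1 0 * m e 0 0 := by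
    rw [h00, h10]; field_simp
  have h5 : m z 1 0 * (m e 0 0 * m e 1 1 - m e 0 1 * m e 1 0) = 0 := by
    linear_combination (-1 : F) * hprop - (m e 0 0) * k1 + (m e 1 0) * k0
  exact (mul_eq_zero.1 h5).resolve_right (hdet e)

end mat

/-! ### The parabolic subgroups of `SL₃` -/

section par

variable {F : Type*} [Field F]

/-- the stabiliser of the plane `⟨e₀, e₁⟩` -/
def stPl (F : Type*) [Field F] : Subgroup (SpecialLinearGroup (Fin 3) F) where
  carrier := {g | g.1 2 0 = 0 ∧ g.1 2 1 = 0}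
  mul_mem' := by
    rintro g k ⟨h1, h2⟩ ⟨h3, h4⟩
    show (g * k).1 2 0 = 0 ∧ (g * k).1 2 1 = 0
    rw [sl_mul, Matrix.mul_apply, Matrix.mul_apply, Fin.sum_univ_three, Fin.sum_univ_three, h1, h2, h3, h4]
    simp
  one_mem' := by
    show (1 : SpecialLinearGroup (Fin 3) F).1 2 0 = 0 ∧ (1 : SpecialLinearGroup (Fin 3) F).1 2 1 = 0
    rw [sl_one]; simp
  inv_mem' := by
    rintro g ⟨h1, h2⟩
    show (g⁻¹).1 2 0 = 0 ∧ (g⁻¹).1 2 1 = 0
    have key : ∀ y, g.1 2 2 * (g⁻¹).1 2 y = (1 : Matrix (Fin 3) (Fin 3) F) 2 y := by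
      intro y
      have e1 : (g * g⁻¹).1 2 y = (1 : Matrix (Fin 3) (Fin 3) F) 2 y := by
        rw [mul_inv_cancel]; rfl
      rw [sl_mul, Matrix.mul_apply, Fin.sum_univ_three, h1, h2, zero_mul, zero_mul, zero_add, zero_add] at e1
      exact e1
    have k2 := key 2
    rw [Matrix.one_apply_eq] at k2
    have n2 : g.1 2 2 ≠ 0 := left_ne_zero_of_mul_eq_one k2
    have k0 := key 0
    have k1 := key 1
    rw [Matrix.one_apply_ne (by decide)] at k0 k1
    exact ⟨(mul_eq_zero.1 k0).resolve_left n2, (mul_eq_zero.1 k1).resolve_left n2⟩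

/-- the stabiliser of the point `⟨e₀⟩` -/
def stPt (F : Type*) [Field F] : Subgroup (SpecialLinearGroup (Fin 3) F) where
  carrier := {g | g.1 1 0 = 0 ∧ g.1 2 0 = 0}
  mul_mem' := by
    rintro g k ⟨h1, h2⟩ ⟨h3, h4⟩
    show (g * k).1 1 0 = 0 ∧ (g * k).1 2 0 = 0
    rw [sl_mul, Matrix.mul_apply, Matrix.mul_apply, Fin.sum_univ_three, Fin.sum_univ_three, h1, h2, h3, h4]
    simp
  one_mem' := by
    show (1 : SpecialLinearGroup (Fin 3) F).1 1 0 = 0 ∧ (1 : SpecialLinearGroup (Fin 3) F).1 2 0 = 0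
    rw [sl_one]; simp
  inv_mem' := by
    rintro g ⟨h1, h2⟩
    show (g⁻¹).1 1 0 = 0 ∧ (g⁻¹).1 2 0 = 0
    have key : ∀ y, (g⁻¹).1 y 0 * g.1 0 0 = (1 : Matrix (Fin 3) (Fin 3) F) y 0 := by
      intro y
      have e1 : (g⁻¹ * g).1 y 0 = (1 : Matrix (Fin 3) (Fin 3) F) y 0 := by
        rw [inv_mul_cancel]; rfl
      rw [sl_mul, Matrix.mul_apply, Fin.sum_univ_three, h1, h2, mul_zero, mul_zero, add_zero, add_zero] at e1
      exact e1
    have k0 := key 0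
    rw [Matrix.one_apply_eq] at k0
    have n0 : g.1 0 0 ≠ 0 := right_ne_zero_of_mul_eq_one k0
    have k1 := key 1
    have k2 := key 2
    rw [Matrix.one_apply_ne (by decide)] at k1 k2
    exact ⟨(mul_eq_zero.1 k1).resolve_right n0, (mul_eq_zero.1 k2).resolve_right n0⟩

/-- the maximal parabolics of `PSL₃` -/
def APl (F : Type*) [Field F] : Subgroup (ProjectiveSpecialLinearGroup (Fin 3) F) :=
  (stPl F).map (QuotientGroup.mk' (Subgroup.center (SpecialLinearGroup (Fin 3) F)))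

/-- the maximal parabolics of `PSL₃` -/
def APt (F : Type*) [Field F] : Subgroup (ProjectiveSpecialLinearGroup (Fin 3) F) :=
  (stPt F).map (QuotientGroup.mk' (Subgroup.center (SpecialLinearGroup (Fin 3) F)))

theorem upT_of_normalizer [CharP F 2] {g : SpecialLinearGroup (Fin 3) F}
    (hg : (QuotientGroup.mk g : ProjectiveSpecialLinearGroup (Fin 3) F) ∈ normalizer (UP F : Set _)) :
    UpT (g : GL (Fin 3) F) := by
  apply upT_of_norm
  intro u hu
  obtain ⟨v, hv, h1⟩ := (Subgroup.mem_normalizer_iff.1 hg (QuotientGroup.mk u)).1 ⟨u, hu, rfl⟩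
  have h2 : (QuotientGroup.mk v : ProjectiveSpecialLinearGroup (Fin 3) F) = QuotientGroup.mk (g * u * g⁻¹) := h1
  rw [QuotientGroup.eq] at h2
  have h3 := (inferInstance : (Subgroup.center (SpecialLinearGroup (Fin 3) F)).Normal).conj_mem _ h2 v
  have e : v * (v⁻¹ * (g * u * g⁻¹)) * v⁻¹ = g * u * g⁻¹ * v⁻¹ := by group
  rw [e] at h3
  refine ⟨v, hv, (g * u * g⁻¹ * v⁻¹ : SpecialLinearGroup (Fin 3) F), (SpecialLinearGroup.toGL_mem_center_iff _).2 h3, ?_⟩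
  simp only [map_mul, map_inv]
  group

theorem mem_normalizer_of_upT {g : SpecialLinearGroup (Fin 3) F} (hg : UpT (g : GL (Fin 3) F)) :
    (QuotientGroup.mk g : ProjectiveSpecialLinearGroup (Fin 3) F) ∈ normalizer (UP F : Set _) := by
  have key : ∀ k : SpecialLinearGroup (Fin 3) F, UpT (k : GL (Fin 3) F) → ∀ x ∈ UP F,
      (QuotientGroup.mk k : ProjectiveSpecialLinearGroup (Fin 3) F) * x * (QuotientGroup.mk k)⁻¹ ∈ UP F := by
    rintro k hk _ ⟨u, hu, rfl⟩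
    refine ⟨k * u * k⁻¹, ?_, rfl⟩
    rw [SetLike.mem_coe, mem_US_iff, map_mul, map_mul, map_inv]
    exact hk.norm hu
  rw [Subgroup.mem_normalizer_iff]
  intro x
  refine ⟨fun hx => key g hg x hx, fun hx => ?_⟩
  have h1 : UpT ((g⁻¹ : SpecialLinearGroup (Fin 3) F) : GL (Fin 3) F) := by
    rw [map_inv]; exact hg.inv
  have h2 := key g⁻¹ h1 _ hx
  have e : (QuotientGroup.mk g⁻¹ : ProjectiveSpecialLinearGroup (Fin 3) F) * (QuotientGroup.mk g * x *
      (QuotientGroup.mk g)⁻¹) * (QuotientGroup.mk g⁻¹)⁻¹ = x := by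
    rw [QuotientGroup.mk_inv]; group
  rwa [e] at h2

theorem nAPl [CharP F 2] : normalizer (UP F : Set _) ≤ APl F := by
  intro x hx
  obtain ⟨g, rfl⟩ := QuotientGroup.mk_surjective x
  have h1 := upT_of_normalizer hx
  exact ⟨g, ⟨h1.2.1, h1.2.2⟩, rfl⟩

theorem nAPt [CharP F 2] : normalizer (UP F : Set _) ≤ APt F := by
  intro x hx
  obtain ⟨g, rfl⟩ := QuotientGroup.mk_surjective x
  have h1 := upT_of_normalizer hx
  exact ⟨g, ⟨h1.1, h1.2.1⟩, rfl⟩

theorem APl_inf_APt : APl F ⊓ APt F ≤ normalizer (UP F : Set _) := by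
  rintro _ ⟨⟨g, ⟨h1, h2⟩, rfl⟩, ⟨k, ⟨h3, h4⟩, h5⟩⟩
  have h6 : (QuotientGroup.mk g : ProjectiveSpecialLinearGroup (Fin 3) F) = QuotientGroup.mk k := h5.symm
  have h7 := QuotientGroup.eq.1 h6
  obtain ⟨r, -, hr⟩ := Matrix.SpecialLinearGroup.mem_center_iff.1 h7
  have e : k = g * (g⁻¹ * k) := by group
  have e1 : k.1 2 1 = 0 := by
    rw [e, sl_mul]
    have e2 : (g⁻¹ * k).1 = Matrix.scalar (Fin 3) r := hr.symm
    rw [e2, Matrix.scalar_apply, Matrix.mul_diagonal, h2, zero_mul]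
  rw [QuotientGroup.mk'_apply, h6]
  exact mem_normalizer_of_upT ⟨h3, h4, e1⟩

theorem not_mem_APl_norm [CharP F 2] {g : SpecialLinearGroup (Fin 3) F} (hg : g.1 1 0 ≠ 0 ∨ g.1 2 1 ≠ 0) :
    (QuotientGroup.mk g : ProjectiveSpecialLinearGroup (Fin 3) F) ∉ normalizer (UP F : Set _) := by
  intro h
  have h1 := upT_of_normalizer h
  rcases hg with h2 | h2
  · exact h2 h1.1
  · exact h2 h1.2.2

end par

/-! ### The residue -/

section res

variable {G : Type*} [Group G] {I : Type*} {F : Type*} [Field F]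

/-- the subgroup of `P` generated by the `P`-conjugates of `U` -/
def EE (U P : Subgroup G) : Subgroup G := closure {y | ∃ p ∈ P, ∃ u ∈ U, y = p * u * p⁻¹}

theorem mem_EE {U P : Subgroup G} {p u : G} (hp : p ∈ P) (hu : u ∈ U) : p * u * p⁻¹ ∈ EE U P :=
  subset_closure ⟨p, hp, u, hu, rfl⟩

theorem le_EE {U P : Subgroup G} : U ≤ EE U P := fun u hu => by
  have := mem_EE (P := P) (one_mem P) hu
  rwa [one_mul, inv_one, mul_one] at this

theorem EE_le {U P : Subgroup G} (h : U ≤ P) : EE U P ≤ P := by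
  unfold EE
  rw [closure_le]
  rintro _ ⟨p, hp, u, hu, rfl⟩
  exact mul_mem (mul_mem hp (h hu)) (inv_mem hp)

theorem conj_EE {U P : Subgroup G} {p e : G} (hp : p ∈ P) (he : e ∈ EE U P) : p * e * p⁻¹ ∈ EE U P := by
  have h1 : EE U P ≤ (EE U P).comap (MulAut.conj p).toMonoidHom := by
    conv_lhs => unfold EE
    rw [closure_le]
    rintro _ ⟨q, hq, u, hu, rfl⟩
    show p * (q * u * q⁻¹) * p⁻¹ ∈ EE U P
    have e : p * (q * u * q⁻¹) * p⁻¹ = (p * q) * u * (p * q)⁻¹ := by group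
    rw [e]
    exact mem_EE (mul_mem hp hq) hu
  exact h1 he

theorem EE_induction {U P N : Subgroup G} (h : ∀ p ∈ P, ∀ u ∈ U, p * u * p⁻¹ ∈ N) : EE U P ≤ N := by
  unfold EE
  rw [closure_le]
  rintro _ ⟨p, hp, u, hu, rfl⟩
  exact h p hp u hu

/-- The hypotheses: `bor` is required in `P i` and in `P j` only; `X` with `[Ker ρ, X] ≤ U`, `ρ(X ∩ U) = ρ(U)`, and a torus element
`t ∈ X ∩ B`. -/
structure PreA (B U X : Subgroup G) (P : I → Subgroup G) (i j : I) (ρ : ↥(P i ⊔ P j) →* GL (Fin 3) F) (t : G) :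
    Prop where
  le : ∀ a, B ≤ P a
  U_le : U ≤ B
  isP : IsPGroup 2 U
  norm : ∀ b ∈ B, ∀ u ∈ U, b * u * b⁻¹ ∈ U
  odd : ∀ b ∈ B, ∃ k : ℕ, Nat.Coprime 2 k ∧ b ^ k ∈ U
  U_to : ∀ u : ↥(P i ⊔ P j), (u : G) ∈ U → UniT (ρ u)
  U_of : ∀ a b c : F, ∃ u : ↥(P i ⊔ P j), (u : G) ∈ U ∧ ρ u = um a b c
  sl : ∀ g : SpecialLinearGroup (Fin 3) F, ∃ x, ρ x = g
  Pi : ∀ x : ↥(P i ⊔ P j), (x : G) ∈ P i → ρ x 2 0 = 0 ∧ ρ x 2 1 = 0
  Pj : ∀ x : ↥(P i ⊔ P j), (x : G) ∈ P j → ρ x 1 0 = 0 ∧ ρ x 2 0 = 0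
  ci : ∀ x : ↥(P i ⊔ P j), (x : G) ∈ P i → ρ x 1 0 = 0 → (x : G) ∈ B
  cj : ∀ x : ↥(P i ⊔ P j), (x : G) ∈ P j → ρ x 2 1 = 0 → (x : G) ∈ B
  lt : ∀ a, a = i ∨ a = j → ∃ x ∈ P a, x ∉ B
  X_le : X ≤ EE U (P i)
  UX : ∀ u : ↥(P i ⊔ P j), (u : G) ∈ U → ∃ x : ↥(P i ⊔ P j), (x : G) ∈ X ∧ (x : G) ∈ U ∧ ρ x = ρ u
  kX : ∀ z : ↥(P i ⊔ P j), ρ z = 1 → ∀ x ∈ X, (z : G) * x * (z : G)⁻¹ * x⁻¹ ∈ U
  tX : t ∈ X
  tB : t ∈ B
  todd : Nat.Coprime 2 (orderOf t)
  tfpf : ∀ t' u : ↥(P i ⊔ P j), (t' : G) = t → (u : G) ∈ U → ρ (t' * u * t'⁻¹) = ρ u → ρ u = 1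

namespace PreA

variable {B U X : Subgroup G} {P : I → Subgroup G} {i j : I} {ρ : ↥(P i ⊔ P j) →* GL (Fin 3) F} {t : G}
  (h : PreA B U X P i j ρ t)

include h

theorem U_le_P (a : I) : U ≤ P a := h.U_le.trans (h.le a)

/-- the block of `P i` -/
noncomputable def mi : ↥(P i) →* Matrix (Fin 2) (Fin 2) F where
  toFun x := !![ρ (inclusion le_sup_left x) 0 0, ρ (inclusion le_sup_left x) 0 1;
    ρ (inclusion le_sup_left x) 1 0, ρ (inclusion le_sup_left x) 1 1]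
  map_one' := by
    rw [map_one, map_one]
    ext a b
    fin_cases a <;> fin_cases b <;> simp
  map_mul' := by
    intro x y
    obtain ⟨h1, h2⟩ := h.Pi (inclusion le_sup_left y) y.2
    rw [map_mul, map_mul]
    ext a b
    fin_cases a <;> fin_cases b <;>
      simp [Units.val_mul, Matrix.mul_apply, Fin.sum_univ_three, Fin.sum_univ_two, h1, h2]

/-- the block of `P j` -/
noncomputable def mj : ↥(P j) →* Matrix (Fin 2) (Fin 2) F where
  toFun x := !![ρ (inclusion le_sup_right x) 1 1, ρ (inclusion le_sup_right x) 1 2;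
    ρ (inclusion le_sup_right x) 2 1, ρ (inclusion le_sup_right x) 2 2]
  map_one' := by
    rw [map_one, map_one]
    ext a b
    fin_cases a <;> fin_cases b <;> simp
  map_mul' := by
    intro x y
    obtain ⟨h1, h2⟩ := h.Pj (inclusion le_sup_right x) x.2
    rw [map_mul, map_mul]
    ext a b
    fin_cases a <;> fin_cases b <;>
      simp [Units.val_mul, Matrix.mul_apply, Fin.sum_univ_three, Fin.sum_univ_two, h1, h2]

/-- `P i = E i B` -/
theorem dec_i : (∃ e : ↥(P i), (e : G) ∈ EE U (P i) ∧ ρ (inclusion le_sup_left e) 1 0 ≠ 0) ∧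
    ∀ x ∈ P i, ∃ e ∈ EE U (P i), e⁻¹ * x ∈ B := by
  obtain ⟨y, hy, hyB⟩ := h.lt i (Or.inl rfl)
  have hym : h.mi ⟨y, hy⟩ 1 0 ≠ 0 := fun h0 => hyB (h.ci (inclusion le_sup_left ⟨y, hy⟩) hy h0)
  obtain ⟨⟨e, he, he1⟩, h2⟩ := panel h.mi (E := (EE U (P i)).subgroupOf (P i)) (U := U.subgroupOf (P i))
    (fun g u hu => mem_EE g.2 hu) (fun c => by
      obtain ⟨u, hu, h1⟩ := h.U_of c 0 0
      refine ⟨⟨u, h.U_le_P i hu⟩, hu, ?_⟩
      have e1 : (inclusion le_sup_left (⟨u, h.U_le_P i hu⟩ : ↥(P i)) : ↥(P i ⊔ P j)) = u := rfl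
      show !![_, _; _, _] = _
      rw [e1, h1]
      ext a b
      fin_cases a <;> fin_cases b <;> simp [um_val]) hym
  refine ⟨⟨e, he, he1⟩, fun x hx => ?_⟩
  obtain ⟨e, he, h3⟩ := h2 ⟨x, hx⟩
  exact ⟨e, he, h.ci (inclusion le_sup_left (e⁻¹ * ⟨x, hx⟩)) (e⁻¹ * ⟨x, hx⟩ : ↥(P i)).2 h3⟩

/-- `P j = E j B` -/
theorem dec_j : (∃ e : ↥(P j), (e : G) ∈ EE U (P j) ∧ ρ (inclusion le_sup_right e) 2 1 ≠ 0) ∧
    ∀ x ∈ P j, ∃ e ∈ EE U (P j), e⁻¹ * x ∈ B := by
  obtain ⟨y, hy, hyB⟩ := h.lt j (Or.inr rfl)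
  have hym : h.mj ⟨y, hy⟩ 1 0 ≠ 0 := fun h0 => hyB (h.cj (inclusion le_sup_right ⟨y, hy⟩) hy h0)
  obtain ⟨⟨e, he, he1⟩, h2⟩ := panel h.mj (E := (EE U (P j)).subgroupOf (P j)) (U := U.subgroupOf (P j))
    (fun g u hu => mem_EE g.2 hu) (fun c => by
      obtain ⟨u, hu, h1⟩ := h.U_of 0 c 0
      refine ⟨⟨u, h.U_le_P j hu⟩, hu, ?_⟩
      have e1 : (inclusion le_sup_right (⟨u, h.U_le_P j hu⟩ : ↥(P j)) : ↥(P i ⊔ P j)) = u := rfl
      show !![_, _; _, _] = _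
      rw [e1, h1]
      ext a b
      fin_cases a <;> fin_cases b <;> simp [um_val]) hym
  refine ⟨⟨e, he, he1⟩, fun x hx => ?_⟩
  obtain ⟨e, he, h3⟩ := h2 ⟨x, hx⟩
  exact ⟨e, he, h.cj (inclusion le_sup_right (e⁻¹ * ⟨x, hx⟩)) (e⁻¹ * ⟨x, hx⟩ : ↥(P j)).2 h3⟩

/-- the group generated by the conjugates of `U` -/
def MM (U : Subgroup G) (P : I → Subgroup G) (i j : I) : Subgroup G := EE U (P i) ⊔ EE U (P j)

theorem MM_le : MM U P i j ≤ P i ⊔ P j :=
  sup_le_sup (EE_le (h.U_le_P i)) (EE_le (h.U_le_P j))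

omit h in
theorem EE_i_le : EE U (P i) ≤ MM U P i j := le_sup_left

omit h in
theorem EE_j_le : EE U (P j) ≤ MM U P i j := le_sup_right

theorem B_norm : B ≤ normalizer (MM U P i j : Set G) := by
  have key : ∀ b ∈ B, ∀ x ∈ MM U P i j, b * x * b⁻¹ ∈ MM U P i j := by
    intro b hb x hx
    have h1 : MM U P i j ≤ (MM U P i j).comap (MulAut.conj b).toMonoidHom := by
      conv_lhs => unfold MM
      rw [sup_le_iff]
      constructor
      · intro y hy
        exact EE_i_le (conj_EE (h.le i hb) hy)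
      · intro y hy
        exact EE_j_le (conj_EE (h.le j hb) hy)
    exact h1 hx
  intro b hb
  rw [Subgroup.mem_normalizer_iff]
  intro x
  refine ⟨fun hx => key b hb x hx, fun hx => ?_⟩
  have := key b⁻¹ (inv_mem hb) _ hx
  have e : b⁻¹ * (b * x * b⁻¹) * b⁻¹⁻¹ = x := by group
  rwa [e] at this

theorem dec {x : G} (hx : x ∈ P i ⊔ P j) : ∃ m ∈ MM U P i j, ∃ b ∈ B, x = m * b := by
  apply Solvable.Glauberman.exists_mul_of_mem_sup B (MM U P i j) h.B_norm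
  have h1 : P i ⊔ P j ≤ B ⊔ MM U P i j := by
    apply sup_le
    · intro y hy
      obtain ⟨e, he, h1⟩ := h.dec_i.2 y hy
      have := mul_mem (Subgroup.mem_sup_right (EE_i_le he) : _ ∈ B ⊔ MM U P i j) (Subgroup.mem_sup_left h1)
      rwa [mul_inv_cancel_left] at this
    · intro y hy
      obtain ⟨e, he, h1⟩ := h.dec_j.2 y hy
      have := mul_mem (Subgroup.mem_sup_right (EE_j_le he) : _ ∈ B ⊔ MM U P i j) (Subgroup.mem_sup_left h1)
      rwa [mul_inv_cancel_left] at this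
  exact h1 hx

theorem norm_MM {x m : G} (hx : x ∈ P i ⊔ P j) (hm : m ∈ MM U P i j) : x * m * x⁻¹ ∈ MM U P i j := by
  obtain ⟨m', hm', b, hb, rfl⟩ := h.dec hx
  have h1 := (Subgroup.mem_normalizer_iff.1 (h.B_norm hb) m).1 hm
  have e : m' * b * m * (m' * b)⁻¹ = m' * (b * m * b⁻¹) * m'⁻¹ := by group
  rw [e]
  exact mul_mem (mul_mem hm' h1) (inv_mem hm')

/-- 2-elements of `B` lie in `U` -/
theorem mem_U {b : G} (hb : b ∈ B) {n : ℕ} (hn : b ^ 2 ^ n = 1) : b ∈ U := by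
  obtain ⟨k, hk, h1⟩ := h.odd b hb
  exact Hall.mem_of_pow_mem_of_coprime (a := 2 ^ n) (b := k) (by rw [hn]; exact one_mem _) h1 (hk.pow_left n)

/-- the kernel of `U` -/
def DD (U : Subgroup G) (P : I → Subgroup G) (i j : I) (ρ : ↥(P i ⊔ P j) →* GL (Fin 3) F) : Subgroup ↥(P i ⊔ P j) :=
  U.subgroupOf (P i ⊔ P j) ⊓ ρ.ker

theorem DD_conj {a : I} (ha : a = i ∨ a = j) {g d : ↥(P i ⊔ P j)} (hg : (g : G) ∈ P a) (hd : d ∈ DD U P i j ρ) :
    g * d * g⁻¹ ∈ DD U P i j ρ := by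
  obtain ⟨hdU, hdk⟩ := Subgroup.mem_inf.1 hd
  have hdU : (d : G) ∈ U := hdU
  have hdk : ρ d = 1 := hdk
  have h1 : ρ (g * d * g⁻¹) = 1 := by simp [hdk]
  have h2 : ((g * d * g⁻¹ : ↥(P i ⊔ P j)) : G) ∈ P a :=
    mul_mem (mul_mem hg (h.U_le_P a hdU)) (inv_mem hg)
  have h3 : ((g * d * g⁻¹ : ↥(P i ⊔ P j)) : G) ∈ B := by
    rcases ha with rfl | rfl
    · exact h.ci _ h2 (by rw [h1]; simp)
    · exact h.cj _ h2 (by rw [h1]; simp)
  obtain ⟨n, hn⟩ := h.isP ⟨d, hdU⟩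
  have h4 : (d : G) ^ 2 ^ n = 1 := by simpa using congrArg Subtype.val hn
  refine Subgroup.mem_inf.2 ⟨?_, h1⟩
  refine h.mem_U h3 (n := n) ?_
  show ((g : G) * d * (g : G)⁻¹) ^ 2 ^ n = 1
  rw [conj_pow, h4, mul_one, mul_inv_cancel]

theorem DD_normal : (DD U P i j ρ).Normal := by
  have h1 : P i ⊔ P j ≤ (normalizer (DD U P i j ρ : Set ↥(P i ⊔ P j))).map (P i ⊔ P j).subtype := by
    have key : ∀ a, (a = i ∨ a = j) → ∀ g : ↥(P i ⊔ P j), (g : G) ∈ P a →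
        g ∈ normalizer (DD U P i j ρ : Set ↥(P i ⊔ P j)) := by
      intro a ha g hg
      rw [Subgroup.mem_normalizer_iff]
      intro d
      refine ⟨fun hd => h.DD_conj ha hg hd, fun hd => ?_⟩
      have := h.DD_conj ha (g := g⁻¹) (inv_mem hg) hd
      have e : g⁻¹ * (g * d * g⁻¹) * g⁻¹⁻¹ = d := by group
      rwa [e] at this
    apply sup_le
    · intro g hg
      exact ⟨⟨g, (le_sup_left : P i ≤ _) hg⟩, key i (Or.inl rfl) _ hg, rfl⟩
    · intro g hg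
      exact ⟨⟨g, (le_sup_right : P j ≤ _) hg⟩, key j (Or.inr rfl) _ hg, rfl⟩
  rw [← Subgroup.normalizer_eq_top_iff, eq_top_iff]
  rintro g -
  obtain ⟨g', hg', e⟩ := h1 g.2
  have : g' = g := Subtype.ext e
  rwa [← this]

/-- the determinant is one on the group generated by the conjugates of `U` -/
theorem det_one {x : ↥(P i ⊔ P j)} (hx : (x : G) ∈ MM U P i j) : (ρ x).1.det = 1 := by
  let κ : Subgroup ↥(P i ⊔ P j) := (GeneralLinearGroup.det.comp ρ).ker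
  have hκ : ∀ y, y ∈ κ ↔ (ρ y).1.det = 1 := by
    intro y
    rw [MonoidHom.mem_ker, MonoidHom.comp_apply, ← Units.val_eq_one, GeneralLinearGroup.val_det_apply]
  have hU : ∀ u : ↥(P i ⊔ P j), (u : G) ∈ U → u ∈ κ := by
    intro u hu
    obtain ⟨⟨h1, h2, h3⟩, h4, h5, h6⟩ := h.U_to u hu
    rw [hκ, Matrix.det_fin_three, h1, h2, h3, h4, h5, h6]
    ring
  have hκn : κ.Normal := MonoidHom.normal_ker _
  have hkey : ∀ p ∈ P i ⊔ P j, ∀ u ∈ U, p * u * p⁻¹ ∈ κ.map (P i ⊔ P j).subtype := by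
    intro p hp u hu
    have huM : u ∈ P i ⊔ P j := (le_sup_left : P i ≤ _) (h.U_le_P i hu)
    have h2 := hκn.conj_mem _ (hU ⟨u, huM⟩ hu) ⟨p, hp⟩
    exact ⟨_, h2, rfl⟩
  have h1 : MM U P i j ≤ κ.map (P i ⊔ P j).subtype := by
    apply sup_le
    · apply EE_induction
      intro p hp u hu
      exact hkey p ((le_sup_left : P i ≤ _) hp) u hu
    · apply EE_induction
      intro p hp u hu
      exact hkey p ((le_sup_right : P j ≤ _) hp) u hu
  obtain ⟨y, hy, e⟩ := h1 hx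
  have : y = x := Subtype.ext e
  rw [← this]
  exact (hκ y).1 hy

/-- the homomorphism onto `SL₃(F)` -/
noncomputable def rS : ↥(MM U P i j) →* SpecialLinearGroup (Fin 3) F where
  toFun x := ⟨(ρ (inclusion h.MM_le x)).1, h.det_one x.2⟩
  map_one' := by
    apply sl_ext
    show (ρ (inclusion h.MM_le 1)).1 = _
    rw [map_one, map_one]
    rfl
  map_mul' := by
    intro x y
    apply sl_ext
    show (ρ (inclusion h.MM_le (x * y))).1 = _
    rw [map_mul, map_mul]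
    rfl

theorem toGL_rS (x : ↥(MM U P i j)) : ((h.rS x : SpecialLinearGroup (Fin 3) F) : GL (Fin 3) F) =
    ρ (inclusion h.MM_le x) := Units.ext rfl

theorem rS_eq_one (x : ↥(MM U P i j)) : h.rS x = 1 ↔ ρ (inclusion h.MM_le x) = 1 := by
  rw [← h.toGL_rS]
  constructor
  · intro h1; rw [h1, map_one]
  · intro h1
    apply SpecialLinearGroup.toGL_injective
    rw [h1, map_one]

theorem rS_eq {x y : ↥(MM U P i j)} (e : ρ (inclusion h.MM_le x) = ρ (inclusion h.MM_le y)) : h.rS x = h.rS y := by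
  apply SpecialLinearGroup.toGL_injective
  rw [h.toGL_rS, h.toGL_rS, e]

theorem U_le_MM : U ≤ MM U P i j := le_EE.trans EE_i_le

theorem rS_surj : Function.Surjective h.rS := by
  rw [← MonoidHom.range_eq_top]
  apply eq_top_of_US
  · constructor
    rintro _ ⟨m, rfl⟩ g
    obtain ⟨x, hx⟩ := h.sl g
    refine ⟨⟨(x : G) * m * (x : G)⁻¹, h.norm_MM x.2 m.2⟩, ?_⟩
    apply SpecialLinearGroup.toGL_injective
    rw [h.toGL_rS, map_mul, map_mul, map_inv, h.toGL_rS, ← hx, ← map_mul, ← map_inv, ← map_mul]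
    rfl
  · rintro _ ⟨a, b, c, rfl⟩
    obtain ⟨u, hu, h1⟩ := h.U_of a b c
    refine ⟨⟨u, h.U_le_MM hu⟩, ?_⟩
    apply SpecialLinearGroup.toGL_injective
    rw [h.toGL_rS, ← h1]
    rfl

theorem map_US : (U.subgroupOf (MM U P i j)).map h.rS = US F := by
  apply le_antisymm
  · rintro _ ⟨u, hu, rfl⟩
    rw [mem_US_iff, h.toGL_rS]
    exact h.U_to _ hu
  · rintro _ ⟨a, b, c, rfl⟩
    obtain ⟨u, hu, h1⟩ := h.U_of a b c
    refine ⟨⟨u, h.U_le_MM hu⟩, hu, ?_⟩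
    apply SpecialLinearGroup.toGL_injective
    rw [h.toGL_rS, ← h1]
    rfl

theorem X_le_MM : X ≤ MM U P i j := h.X_le.trans EE_i_le

theorem t_mem : t ∈ MM U P i j := h.X_le_MM h.tX

/-- normal subgroups of `⟨U^P⟩` containing `U` -/
theorem gen_MM {N : Subgroup ↥(MM U P i j)} (hN : N.Normal) (hU : U.subgroupOf (MM U P i j) ≤ N) : N = ⊤ := by
  have hUN : ∀ u (hu : u ∈ U), (⟨u, h.U_le_MM hu⟩ : ↥(MM U P i j)) ∈ N := fun u hu => hU hu
  have h1 : MM U P i j ≤ N.map (MM U P i j).subtype := by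
    apply sup_le
    · apply EE_induction
      intro p hp u hu
      obtain ⟨e, he, h1⟩ := h.dec_i.2 p hp
      refine ⟨_, hN.conj_mem _ (hUN _ (h.norm _ h1 u hu)) ⟨e, EE_i_le he⟩, ?_⟩
      show e * (e⁻¹ * p * u * (e⁻¹ * p)⁻¹) * e⁻¹ = _
      group
    · apply EE_induction
      intro p hp u hu
      obtain ⟨e, he, h1⟩ := h.dec_j.2 p hp
      refine ⟨_, hN.conj_mem _ (hUN _ (h.norm _ h1 u hu)) ⟨e, EE_j_le he⟩, ?_⟩
      show e * (e⁻¹ * p * u * (e⁻¹ * p)⁻¹) * e⁻¹ = _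
      group
  rw [eq_top_iff]
  rintro x -
  obtain ⟨y, hy, e⟩ := h1 x.2
  have : y = x := Subtype.ext e
  rwa [← this]

theorem hyp [Finite F] [CharP F 2] : KerOdd.Hyp h.rS (U.subgroupOf (MM U P i j))
    ((DD U P i j ρ).comap (inclusion h.MM_le)) (X.subgroupOf (MM U P i j)) ⟨t, h.t_mem⟩ where
  surj := h.rS_surj
  isP := h.isP.comap_subtype
  idx := by
    have : Fact (Nat.Prime 2) := ⟨Nat.prime_two⟩
    have : Finite (SpecialLinearGroup (Fin 3) F) := Subtype.finite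
    obtain ⟨T, hT⟩ := exists_sylow_US (F := F)
    rw [h.map_US, ← hT]
    exact T.not_dvd_index
  nD := by
    have := h.DD_normal
    exact Subgroup.Normal.comap this _
  memD := by
    intro d
    rw [Subgroup.mem_comap, h.rS_eq_one]
    exact Iff.rfl
  gen := fun N hN hU => h.gen_MM hN hU
  UX := by
    intro u hu
    obtain ⟨x, hxX, hxU, h1⟩ := h.UX (inclusion h.MM_le u) hu
    refine ⟨⟨x, h.X_le_MM hxX⟩, hxX, ?_⟩
    rw [Subgroup.mem_comap]
    refine Subgroup.mem_inf.2 ⟨mul_mem (inv_mem hxU) hu, ?_⟩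
    rw [MonoidHom.mem_ker, map_mul, map_mul, map_inv, map_inv, ← h1]
    exact inv_mul_cancel _
  X := by
    intro z hz x hx
    rw [h.rS_eq_one] at hz
    rw [Subgroup.mem_comap]
    refine Subgroup.mem_inf.2 ⟨h.kX (inclusion h.MM_le z) hz x hx, ?_⟩
    rw [MonoidHom.mem_ker]
    simp only [map_mul, map_inv, hz]
    group
  odd := by
    rw [← Subgroup.orderOf_coe]
    exact h.todd
  tU := fun u hu => h.norm t h.tB u hu
  fpf := by
    intro u hu h1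
    rw [h.rS_eq_one]
    refine h.tfpf (inclusion h.MM_le ⟨t, h.t_mem⟩) (inclusion h.MM_le u) rfl hu ?_
    have h2 := congrArg (fun y : SpecialLinearGroup (Fin 3) F => (y : GL (Fin 3) F)) h1
    simp only [h.toGL_rS] at h2
    simpa only [map_mul, map_inv] using h2

/-- `ψ : ⟨U^P⟩ → PSL₃(F)` -/
theorem dExt [Finite G] [Finite F] [CharP F 2] :
    DExt ((QuotientGroup.mk' (Subgroup.center (SpecialLinearGroup (Fin 3) F))).comp h.rS)
      ((DD U P i j ρ).comap (inclusion h.MM_le)) (U.subgroupOf (MM U P i j)) ((EE U (P i)).subgroupOf (MM U P i j))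
      ((EE U (P j)).subgroupOf (MM U P i j)) (UP F) (APl F) (APt F) where
  surj := (QuotientGroup.mk'_surjective _).comp h.rS_surj
  top := by
    rw [eq_top_iff]
    rintro x -
    have h1 : MM U P i j ≤ ((EE U (P i)).subgroupOf (MM U P i j) ⊔ (EE U (P j)).subgroupOf (MM U P i j)).map
        (MM U P i j).subtype := by
      apply sup_le
      · intro y hy
        exact ⟨⟨y, EE_i_le hy⟩, Subgroup.mem_sup_left hy, rfl⟩
      · intro y hy
        exact ⟨⟨y, EE_j_le hy⟩, Subgroup.mem_sup_right hy, rfl⟩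
    obtain ⟨y, hy, e⟩ := h1 x.2
    have : y = x := Subtype.ext e
    rwa [← this]
  Us := fun u hu => le_EE (P := P i) hu
  Ut := fun u hu => le_EE (P := P j) hu
  isP := h.isP.comap_subtype
  nD := h.hyp.nD
  DU := fun d hd => ((h.hyp.memD d).1 hd).1
  Dker := by
    intro d hd
    rw [MonoidHom.comp_apply, ((h.hyp.memD d).1 hd).2, map_one]
  central := by
    intro z hz x
    rw [MonoidHom.comp_apply, QuotientGroup.mk'_apply, QuotientGroup.eq_one_iff] at hz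
    exact h.hyp.pre_central (fun s => (Subgroup.mem_center_iff.1 hz s).symm) x
  cop := by
    intro z hz
    rw [MonoidHom.comp_apply, QuotientGroup.mk'_apply, QuotientGroup.eq_one_iff] at hz
    obtain ⟨r, hr, hr'⟩ := Matrix.SpecialLinearGroup.mem_center_iff.1 hz
    have h1 : h.rS (z ^ 3) = 1 := by
      rw [map_pow]
      apply sl_ext
      show (h.rS z).1 ^ 3 = 1
      rw [← hr', ← map_pow]
      have : r ^ 3 = 1 := by simpa using hr
      rw [this, map_one]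
    obtain ⟨k, hk, h2⟩ := h.hyp.ker_odd h1
    exact ⟨3 * k, Nat.Coprime.mul_right (by decide) hk, by rwa [pow_mul]⟩
  img := by
    intro e
    constructor
    · rintro ⟨u, hu, rfl⟩
      rw [SetLike.mem_coe, ← h.map_US] at hu
      obtain ⟨u, hu, rfl⟩ := hu
      exact ⟨u, hu, rfl⟩
    · rintro ⟨u, hu, rfl⟩
      refine ⟨h.rS u, ?_, rfl⟩
      rw [SetLike.mem_coe, ← h.map_US]
      exact ⟨u, hu, rfl⟩
  gens := by
    intro N hN
    have h1 : EE U (P i) ≤ N.map (MM U P i j).subtype := by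
      apply EE_induction
      intro p hp u hu
      obtain ⟨e, he, h1⟩ := h.dec_i.2 p hp
      refine ⟨_, hN ⟨e, EE_i_le he⟩ he ⟨_, h.U_le_MM (h.norm _ h1 u hu)⟩ (h.norm _ h1 u hu), ?_⟩
      show e * (e⁻¹ * p * u * (e⁻¹ * p)⁻¹) * e⁻¹ = _
      group
    intro x hx
    obtain ⟨y, hy, e⟩ := h1 hx
    have : y = x := Subtype.ext e
    rwa [← this]
  gent := by
    intro N hN
    have h1 : EE U (P j) ≤ N.map (MM U P i j).subtype := by
      apply EE_induction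
      intro p hp u hu
      obtain ⟨e, he, h1⟩ := h.dec_j.2 p hp
      refine ⟨_, hN ⟨e, EE_j_le he⟩ he ⟨_, h.U_le_MM (h.norm _ h1 u hu)⟩ (h.norm _ h1 u hu), ?_⟩
      show e * (e⁻¹ * p * u * (e⁻¹ * p)⁻¹) * e⁻¹ = _
      group
    intro x hx
    obtain ⟨y, hy, e⟩ := h1 hx
    have : y = x := Subtype.ext e
    rwa [← this]
  ims := by
    intro e he
    exact ⟨h.rS e, h.Pi (inclusion h.MM_le e) (EE_le (h.U_le_P i) he), rfl⟩
  imt := by
    intro e he
    exact ⟨h.rS e, h.Pj (inclusion h.MM_le e) (EE_le (h.U_le_P j) he), rfl⟩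
  nAs := nAPl
  nAt := nAPt
  inf := APl_inf_APt
  nots := by
    obtain ⟨⟨e, he, h1⟩, -⟩ := h.dec_i
    refine ⟨⟨e, EE_i_le he⟩, he, not_mem_APl_norm (g := h.rS ⟨e, EE_i_le he⟩) (Or.inl h1)⟩
  nott := by
    obtain ⟨⟨e, he, h1⟩, -⟩ := h.dec_j
    refine ⟨⟨e, EE_j_le he⟩, he, not_mem_APl_norm (g := h.rS ⟨e, EE_j_le he⟩) (Or.inr h1)⟩

/-- **the flag stabiliser is `B`** -/
theorem bor [Finite G] [Finite F] [CharP F 2] (hF : 4 ≤ Nat.card F) {x : ↥(P i ⊔ P j)} (hx : UpT (ρ x)) :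
    (x : G) ∈ B := by
  have : Finite (SpecialLinearGroup (Fin 3) F) := Subtype.finite
  have : Finite (ProjectiveSpecialLinearGroup (Fin 3) F) := Quotient.finite _
  have : Fact (Nat.Prime 2) := ⟨Nat.prime_two⟩
  obtain ⟨m, hm, b, hb, hmb⟩ := h.dec x.2
  -- `ρ b` is upper triangular
  have hbM : b ∈ P i ⊔ P j := (le_sup_left : P i ≤ _) (h.le i hb)
  have hbU : UpT (ρ ⟨b, hbM⟩) := by
    have h1 := h.Pi ⟨b, hbM⟩ (h.le i hb)
    have h2 := h.Pj ⟨b, hbM⟩ (h.le j hb)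
    exact ⟨h2.1, h1.1, h1.2⟩
  have hmx : (inclusion h.MM_le ⟨m, hm⟩ : ↥(P i ⊔ P j)) = x * (⟨b, hbM⟩ : ↥(P i ⊔ P j))⁻¹ := by
    apply Subtype.ext
    show m = (x : G) * b⁻¹
    rw [hmb]; group
  have hmU : UpT ((h.rS ⟨m, hm⟩ : SpecialLinearGroup (Fin 3) F) : GL (Fin 3) F) := by
    rw [h.toGL_rS, hmx, map_mul, map_inv]
    exact (hx.mul hbU.inv).1
  obtain ⟨Q, UE, s, t', K, -⟩ := Fam.L3.hasKPair (F := F) hF
  obtain ⟨T, hT⟩ := exists_sylow_UP (F := F)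
  have h1 := h.dExt.gen K (by rw [← hT]; exact split_card_eq K.split T) (x := ⟨m, hm⟩)
    (mem_normalizer_of_upT hmU)
  -- elements of the local groups
  have key : ∀ e : ↥(MM U P i j), e ∈ normalizer (U.subgroupOf (MM U P i j) : Set ↥(MM U P i j)) →
      UpT (ρ (inclusion h.MM_le e)) := by
    intro e he
    apply upT_of_norm
    intro v hv
    rw [← h.map_US] at hv
    obtain ⟨u, hu, rfl⟩ := hv
    have h2 := (Subgroup.mem_normalizer_iff.1 he u).1 hu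
    refine ⟨h.rS (e * u * e⁻¹), by rw [← h.map_US]; exact ⟨_, h2, rfl⟩, 1, one_mem _, ?_⟩
    rw [h.toGL_rS, h.toGL_rS, one_mul]
    simp only [map_mul, map_inv]
  have h2 : ((EE U (P i)).subgroupOf (MM U P i j) ⊓ normalizer (U.subgroupOf (MM U P i j) : Set ↥(MM U P i j))) ⊔
      ((EE U (P j)).subgroupOf (MM U P i j) ⊓ normalizer (U.subgroupOf (MM U P i j) : Set ↥(MM U P i j))) ≤
      B.subgroupOf (MM U P i j) := by
    apply sup_le
    · rintro e ⟨he, heN⟩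
      exact h.ci (inclusion h.MM_le e) (EE_le (h.U_le_P i) he) (key e heN).1
    · rintro e ⟨he, heN⟩
      exact h.cj (inclusion h.MM_le e) (EE_le (h.U_le_P j) he) (key e heN).2.2
  have h3 : m ∈ B := h2 h1
  rw [hmb]
  exact mul_mem h3 hb

/-- **`PreA` implies `ResA`.** -/
theorem resA [Finite G] [Finite F] [CharP F 2] (hF : 4 ≤ Nat.card F) : ResA B U P i j ρ where
  le := h.le
  U_le := h.U_le
  norm := h.norm
  U_to := h.U_to
  U_of := h.U_of
  sl := h.sl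
  bor := fun _ hx => h.bor hF hx
  Pi := h.Pi
  Pj := h.Pj
  lt := h.lt

end PreA

end res

end Cfsg.Agent.ParSys
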