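import Cfsg.Agent.ParSys.FrontSys
import Cfsg.Agent.Lib.FrattiniBasic

/-!
# The Frattini condition for a residue of rank two, from the polygon

`Polygon B P a b m`, `U` the set of `p`-elements of `B`, `U` semiregular (`reg`) on the panels.

* `Polygon.rig` (rigidity): an element of `U` which fixes a chamber opposite to `B` lies in `Qk B (P a ⊔ P b)`;
* `frat_of_le`: `Q a ∩ Q b ≤ [U, U] K`, `K = Qk B (P a ⊔ P b)`, implies the field `frat` of `Pre`/`Sys`;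
* `cover_three`, `cover_four`: `Q a ∩ Q b ≤ (n U₂ n⁻¹) K` for `m = 3, 4`;
* `frat_three`, `frat_four`: the field `frat`.
-/

set_option autoImplicit false

namespace Cfsg.Agent.ParSys

open Subgroup

variable {G : Type*} [Group G] {I : Type*}

/-! ### Reversed galleries -/

theorem alt_reverse (a b : I) (k : ℕ) : (alt a b k).reverse = alt a b k ∨ (alt a b k).reverse = alt b a k := by
  have key : ∀ k : ℕ, (∀ c d : I, nxt c d k = c ∧ (alt c d k).reverse = alt d c k) ∨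
      (∀ c d : I, nxt c d k = d ∧ (alt c d k).reverse = alt c d k) := by
    intro k
    induction k with
    | zero => exact Or.inl fun c d => ⟨rfl, rfl⟩
    | succ k ih =>
      rcases ih with ih | ih
      · right
        intro c d
        refine ⟨(ih d c).1, ?_⟩
        rw [alt_cons, List.reverse_cons, (ih d c).2, ← alt_cons, alt_snoc, (ih c d).1]
      · left
        intro c d
        refine ⟨(ih d c).1, ?_⟩
        rw [alt_cons, List.reverse_cons, (ih d c).2, alt_snoc, (ih d c).1]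
  rcases key k with h | h
  · exact Or.inr (h a b).2
  · exact Or.inl (h a b).2

theorem galE_reverse {B : Subgroup G} {P : I → Subgroup G} {f : List I} {l : List G} (h : GalE B P f l) :
    ∃ l', GalE B P f.reverse l' ∧ l'.prod = l.prod⁻¹ := by
  induction f generalizing l with
  | nil =>
    cases l with
    | nil => exact ⟨[], trivial, by simp⟩
    | cons x l => exact h.elim
  | cons i f ih =>
    cases l with
    | nil => exact h.elim
    | cons x l =>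
      obtain ⟨l', h1, h2⟩ := ih h.2
      refine ⟨l' ++ [x⁻¹], ?_, ?_⟩
      · rw [List.reverse_cons]
        exact galE_append h1 ⟨⟨inv_mem h.1.1, fun h3 => h.1.2 (by simpa using inv_mem h3)⟩, trivial⟩
      · rw [List.prod_append, h2]
        simp

/-- `g B` is opposite to `B` -/
def Opp (B : Subgroup G) (P : I → Subgroup G) (a b : I) (m : ℕ) (g : G) : Prop :=
  ∃ l, GalE B P (alt a b m) l ∧ l.prod⁻¹ * g ∈ B

section rig

variable {B : Subgroup G} {P : I → Subgroup G} {a b : I} {m : ℕ}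

theorem galE_mul' {i : I} (hBP : B ≤ P i) {f : List I} {x : G} {l : List G} {b : G} (hb : b ∈ B)
    (h : GalE B P (i :: f) (x :: l)) : GalE B P (i :: f) (b * x :: l) := by
  refine ⟨⟨mul_mem (hBP hb) h.1.1, fun h1 => h.1.2 ?_⟩, h.2⟩
  have : x = b⁻¹ * (b * x) := by group
  rw [this]
  exact mul_mem (inv_mem hb) h1

/-- a gallery can be moved by an element of `B` -/
theorem exists_galE_mul (ha : B ≤ P a) {l : List G} {y : G} (hy : y ∈ B) (hl : GalE B P (alt a b (m + 1)) l) :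
    ∃ l', GalE B P (alt a b (m + 1)) l' ∧ l'.prod = y * l.prod := by
  cases l with
  | nil => exact hl.elim
  | cons x l =>
    exact ⟨y * x :: l, galE_mul' ha hy hl, by rw [List.prod_cons, List.prod_cons, mul_assoc]⟩

theorem Opp.mul_right {g β : G} (h : Opp B P a b m g) (hβ : β ∈ B) : Opp B P a b m (g * β) := by
  obtain ⟨l, h1, h2⟩ := h
  exact ⟨l, h1, by rw [← mul_assoc]; exact mul_mem h2 hβ⟩

theorem Opp.mul_left (ha : B ≤ P a) {g β : G} (h : Opp B P a b (m + 1) g) (hβ : β ∈ B) :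
    Opp B P a b (m + 1) (β * g) := by
  obtain ⟨l, h1, h2⟩ := h
  obtain ⟨l', h3, h4⟩ := exists_galE_mul ha hβ h1
  refine ⟨l', h3, ?_⟩
  rw [h4]
  have e : (β * l.prod)⁻¹ * (β * g) = l.prod⁻¹ * g := by group
  rw [e]
  exact h2

/-- galleries of both types end in the opposite chambers -/
theorem Polygon.opp_swap (h : Polygon B P a b (m + 1)) (hb : B ≤ P b) {g : G} (hg : Opp B P a b (m + 1) g) :
    Opp B P b a (m + 1) g := by
  obtain ⟨l, h1, h2⟩ := hg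
  obtain ⟨l0, l0', h3, h4, h5⟩ := h.swap
  obtain ⟨y, hy, h6⟩ := h.trans _ _ h3 h1
  have h7 := same_end h6
  rw [one_mul] at h7
  obtain ⟨l', h8, h9⟩ := exists_galE_mul hb hy h4
  refine ⟨l', h8, ?_⟩
  rw [h9]
  have e : (y * l0'.prod)⁻¹ * g = (l0.prod⁻¹ * l0'.prod)⁻¹ * ((y * l0.prod)⁻¹ * l.prod) * (l.prod⁻¹ * g) := by group
  rw [e]
  exact mul_mem (mul_mem (inv_mem h5) h7) h2

theorem Polygon.opp_inv (h : Polygon B P a b (m + 1)) (ha : B ≤ P a) (hb : B ≤ P b) {g : G}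
    (hg : Opp B P a b (m + 1) g) : Opp B P a b (m + 1) g⁻¹ := by
  obtain ⟨l, h1, h2⟩ := hg
  obtain ⟨l', h3, h4⟩ := galE_reverse h1
  have h5 : Opp B P a b (m + 1) l.prod⁻¹ := by
    rcases alt_reverse a b (m + 1) with e | e
    · rw [e] at h3
      exact ⟨l', h3, by rw [h4, inv_mul_cancel]; exact one_mem _⟩
    · rw [e] at h3
      exact h.symm.opp_swap ha ⟨l', h3, by rw [h4, inv_mul_cancel]; exact one_mem _⟩
  have h6 := h5.mul_left ha (inv_mem h2)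
  have e : (l.prod⁻¹ * g)⁻¹ * l.prod⁻¹ = g⁻¹ := by group
  rwa [e] at h6

/-- moving along a panel -/
theorem opp_step (hb : B ≤ P b) (ha' : ∃ x ∈ P a, x ∉ B) (hb' : ∃ x ∈ P b, x ∉ B) {g x : G}
    (h : Polygon B P a b (m + 2)) (ha : B ≤ P a) (hg : Opp B P a b (m + 2) g) (hx : x ∈ P a) :
    Opp B P a b (m + 2) (x⁻¹ * g) ∨ ∃ y, (y ∈ P a ∨ y ∈ P b) ∧ Opp B P a b (m + 2) (x⁻¹ * g * y) := by
  obtain ⟨l, h1, h2⟩ := hg
  cases l with
  | nil => exact h1.elim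
  | cons x1 l =>
    cases l with
    | nil => exact h1.2.elim
    | cons x2 l =>
      by_cases hxB : x⁻¹ * x1 ∈ B
      · right
        -- the gallery `x2, ...` of length `m + 1`
        have h3 : GalE B P (alt b a (m + 1)) (x⁻¹ * x1 * x2 :: l) := galE_mul' hb hxB h1.2
        obtain ⟨y, hy, hyB⟩ : ∃ y ∈ P (nxt b a (m + 1)), y ∉ B := by
          rcases nxt_eq_or b a (m + 1) with e | e
          · rw [e]; exact hb'
          · rw [e]; exact ha'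
        have h4 : GalE B P (alt b a (m + 2)) ((x⁻¹ * x1 * x2 :: l) ++ [y]) := by
          rw [alt_snoc b a (m + 1)]
          exact galE_append h3 ⟨⟨hy, hyB⟩, trivial⟩
        have hβ : (x1 :: x2 :: l).prod⁻¹ * g ∈ B := h2
        refine ⟨((x1 :: x2 :: l).prod⁻¹ * g)⁻¹ * y, ?_, ?_⟩
        · rcases nxt_eq_or b a (m + 1) with e | e
          · rw [e] at hy
            exact Or.inr (mul_mem (hb (inv_mem hβ)) hy)
          · rw [e] at hy
            exact Or.inl (mul_mem (ha (inv_mem hβ)) hy)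
        · apply h.symm.opp_swap ha
          refine ⟨_, h4, ?_⟩
          have e : ((x⁻¹ * x1 * x2 :: l) ++ [y]).prod⁻¹ *
              (x⁻¹ * g * (((x1 :: x2 :: l).prod⁻¹ * g)⁻¹ * y)) = 1 := by
            simp only [List.prod_append, List.prod_cons, List.prod_nil]
            group
          rw [e]
          exact one_mem _
      · left
        refine ⟨x⁻¹ * x1 :: x2 :: l, ⟨⟨mul_mem (inv_mem hx) h1.1.1, hxB⟩, h1.2⟩, ?_⟩
        have e : (x⁻¹ * x1 :: x2 :: l).prod⁻¹ * (x⁻¹ * g) = (x1 :: x2 :: l).prod⁻¹ * g := by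
          simp only [List.prod_cons]
          group
        rw [e]
        exact h2

/-- an element of `U` which fixes an opposite chamber fixes the first panel -/
theorem Polygon.fix_first (h : Polygon B P a b (m + 1)) (ha : B ≤ P a) {u d : G} (hu : u ∈ B)
    (hreg : ∀ g ∈ P a, g ∉ B → g⁻¹ * u * g ∈ B → u ∈ Qk B (P a))
    (hd : Opp B P a b (m + 1) d) (hud : d⁻¹ * u * d ∈ B) : u ∈ Qk B (P a) := by
  obtain ⟨l, h1, h2⟩ := hd
  cases l with
  | nil => exact h1.elim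
  | cons x l =>
    have h3 : GalE B P (alt a b (m + 1)) (u * x :: l) := galE_mul' ha hu h1
    have h4 := h.uniq _ _ h1 h3 (by
      have e : (x :: l).prod⁻¹ * (u * x :: l).prod =
          ((x :: l).prod⁻¹ * d) * (d⁻¹ * u * d) * ((x :: l).prod⁻¹ * d)⁻¹ := by
        simp only [List.prod_cons]
        group
      rw [e]
      exact mul_mem (mul_mem h2 hud) (inv_mem h2))
    have h5 := same_first h4.2
    apply hreg x h1.1.1 h1.1.2
    have e : (1 * x)⁻¹ * (1 * (u * x)) = x⁻¹ * u * x := by group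
    rwa [e] at h5

/-- **Rigidity**: an element of `U` which fixes `B` and an opposite chamber acts trivially on the residue. -/
theorem Polygon.rig {U : Subgroup G} (h : Polygon B P a b (m + 2)) (ha : B ≤ P a) (hb : B ≤ P b)
    (ha' : ∃ x ∈ P a, x ∉ B) (hb' : ∃ x ∈ P b, x ∉ B) (hU : U ≤ B)
    (hp : ∀ u ∈ U, ∀ g, g⁻¹ * u * g ∈ B → g⁻¹ * u * g ∈ U)
    (rega : ∀ u ∈ U, ∀ g ∈ P a, g ∉ B → g⁻¹ * u * g ∈ B → u ∈ Qk B (P a))
    (regb : ∀ u ∈ U, ∀ g ∈ P b, g ∉ B → g⁻¹ * u * g ∈ B → u ∈ Qk B (P b))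
    {u d : G} (hu : u ∈ U) (hd : Opp B P a b (m + 2) d) (hud : d⁻¹ * u * d ∈ B) : u ∈ Qk B (P a ⊔ P b) := by
  -- the chambers which are fixed and opposite to a fixed chamber
  let F : G → Prop := fun c => c⁻¹ * u * c ∈ B ∧ ∃ d, Opp B P a b (m + 2) d ∧ (c * d)⁻¹ * u * (c * d) ∈ B
  have good : ∀ c, F c → c⁻¹ * u * c ∈ Qk B (P a) ∧ c⁻¹ * u * c ∈ Qk B (P b) := by
    rintro c ⟨hc, d, hd, hcd⟩
    have hcU := hp u hu c hc
    have e : d⁻¹ * (c⁻¹ * u * c) * d ∈ B := by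
      have e1 : d⁻¹ * (c⁻¹ * u * c) * d = (c * d)⁻¹ * u * (c * d) := by group
      rwa [e1]
    exact ⟨h.fix_first ha hc (fun g hg hgB h1 => rega _ hcU g hg hgB h1) hd e,
      h.symm.fix_first hb hc (fun g hg hgB h1 => regb _ hcU g hg hgB h1) (h.opp_swap hb hd) e⟩
  have stepa : ∀ c, F c → ∀ x ∈ P a, F (c * x) := by
    rintro c hF x hx
    obtain ⟨hc, d, hd, hcd⟩ := hF
    have hg := good c ⟨hc, d, hd, hcd⟩
    refine ⟨?_, ?_⟩
    · have e : (c * x)⁻¹ * u * (c * x) = x⁻¹ * (c⁻¹ * u * c) * x := by group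
      rw [e]
      exact hg.1 x hx
    · rcases opp_step hb ha' hb' h ha hd hx with h1 | ⟨y, hy, h1⟩
      · refine ⟨_, h1, ?_⟩
        have e : c * x * (x⁻¹ * d) = c * d := by group
        rwa [e]
      · refine ⟨_, h1, ?_⟩
        have h2 : F (c * d) := ⟨hcd, d⁻¹, h.opp_inv ha hb hd, by
          have e : c * d * d⁻¹ = c := by group
          rwa [e]⟩
        have h3 := good _ h2
        have e : (c * x * (x⁻¹ * d * y))⁻¹ * u * (c * x * (x⁻¹ * d * y)) =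
            y⁻¹ * ((c * d)⁻¹ * u * (c * d)) * y := by group
        rw [e]
        rcases hy with hy | hy
        · exact h3.1 y hy
        · exact h3.2 y hy
  have stepb : ∀ c, F c → ∀ x ∈ P b, F (c * x) := by
    rintro c hF x hx
    obtain ⟨hc, d, hd, hcd⟩ := hF
    have hg := good c ⟨hc, d, hd, hcd⟩
    refine ⟨?_, ?_⟩
    · have e : (c * x)⁻¹ * u * (c * x) = x⁻¹ * (c⁻¹ * u * c) * x := by group
      rw [e]
      exact hg.2 x hx
    · rcases opp_step ha hb' ha' h.symm hb (h.opp_swap hb hd) hx with h1 | ⟨y, hy, h1⟩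
      · refine ⟨_, h.symm.opp_swap ha h1, ?_⟩
        have e : c * x * (x⁻¹ * d) = c * d := by group
        rwa [e]
      · refine ⟨_, h.symm.opp_swap ha h1, ?_⟩
        have h2 : F (c * d) := ⟨hcd, d⁻¹, h.opp_inv ha hb hd, by
          have e : c * d * d⁻¹ = c := by group
          rwa [e]⟩
        have h3 := good _ h2
        have e : (c * x * (x⁻¹ * d * y))⁻¹ * u * (c * x * (x⁻¹ * d * y)) =
            y⁻¹ * ((c * d)⁻¹ * u * (c * d)) * y := by group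
        rw [e]
        rcases hy with hy | hy
        · exact h3.2 y hy
        · exact h3.1 y hy
  have all : ∀ g ∈ P a ⊔ P b, ∀ c, F c → F (c * g) := by
    let T : Subgroup G :=
      { carrier := {g | (∀ c, F c → F (c * g)) ∧ ∀ c, F c → F (c * g⁻¹)}
        one_mem' := ⟨fun c hc => by rwa [mul_one], fun c hc => by rwa [inv_one, mul_one]⟩
        mul_mem' := by
          rintro x y ⟨hx, hx'⟩ ⟨hy, hy'⟩
          exact ⟨fun c hc => by rw [← mul_assoc]; exact hy _ (hx c hc),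
            fun c hc => by rw [mul_inv_rev, ← mul_assoc]; exact hx' _ (hy' c hc)⟩
        inv_mem' := by
          rintro x ⟨hx, hx'⟩
          exact ⟨hx', fun c hc => by rw [inv_inv]; exact hx c hc⟩ }
    have hT : P a ⊔ P b ≤ T := sup_le
      (fun x hx => ⟨fun c hc => stepa c hc x hx, fun c hc => stepa c hc _ (inv_mem hx)⟩)
      (fun x hx => ⟨fun c hc => stepb c hc x hx, fun c hc => stepb c hc _ (inv_mem hx)⟩)
    exact fun g hg => (hT hg).1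
  intro g hg
  have h1 : F 1 := ⟨by simpa using hU hu, d, hd, by rwa [one_mul]⟩
  have h2 := (all g hg 1 h1).1
  rwa [one_mul] at h2

end rig

/-! ### The Frattini argument -/

/-- If `Q ∩ U ≤ [U, U] (K ∩ U)` then a subgroup which covers `U / Q` covers `U / K`. -/
theorem frat_of_le [Finite G] {p : ℕ} [Fact p.Prime] {U Q K : Subgroup G} (hU : IsPGroup p U)
    (hK : ∀ u ∈ U, ∀ k ∈ K, u * k * u⁻¹ ∈ K) (h : U ⊓ Q ≤ ⁅U, U⁆ ⊔ (U ⊓ K)) :
    ∀ T ≤ U, (∀ u ∈ U, ∃ t ∈ T, t⁻¹ * u ∈ Q) → ∀ u ∈ U, ∃ t ∈ T, t⁻¹ * u ∈ K := by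
  intro T hT h1
  have hKn : (K.subgroupOf U).Normal := ⟨fun k hk u => hK u u.2 k hk⟩
  have hcm : (_root_.commutator U).map U.subtype = ⁅U, U⁆ := by
    rw [_root_.commutator_def, Subgroup.map_commutator, ← MonoidHom.range_eq_map, range_subtype]
  have h2 : T.subgroupOf U ⊔ K.subgroupOf U ⊔ _root_.commutator U = ⊤ := by
    rw [eq_top_iff]
    intro u _
    obtain ⟨t, ht, h3⟩ := h1 u u.2
    have h4 : t⁻¹ * (u : G) ∈ ⁅U, U⁆ ⊔ (U ⊓ K) := h (mem_inf.2 ⟨mul_mem (inv_mem (hT ht)) u.2, h3⟩)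
    have h5 : ⁅U, U⁆ ⊔ (U ⊓ K) = (_root_.commutator U ⊔ K.subgroupOf U).map U.subtype := by
      rw [Subgroup.map_sup, hcm, Subgroup.subgroupOf_map_subtype, inf_comm U K]
    rw [h5] at h4
    obtain ⟨v, hv, e⟩ := h4
    have e2 : u = ⟨t, hT ht⟩ * v := by
      apply Subtype.ext
      change (u : G) = t * v
      have e' : (v : G) = t⁻¹ * u := e
      rw [e', mul_inv_cancel_left]
    rw [e2]
    refine mul_mem (Subgroup.mem_sup_left (Subgroup.mem_sup_left ht)) ?_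
    have h6 : _root_.commutator U ⊔ K.subgroupOf U ≤ T.subgroupOf U ⊔ K.subgroupOf U ⊔ _root_.commutator U :=
      sup_le le_sup_right (le_sup_right.trans le_sup_left)
    exact h6 hv
  have h3 : T.subgroupOf U ⊔ K.subgroupOf U = ⊤ := by
    apply frattini_nongenerating
    rw [eq_top_iff, ← h2]
    exact sup_le_sup_left (Cfsg.Agent.Lib.FrattiniBasic.commutator_le_frattini hU) _
  intro u hu
  have h4 : (⟨u, hu⟩ : U) ∈ T.subgroupOf U ⊔ K.subgroupOf U := by rw [h3]; trivial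
  rw [Subgroup.mem_sup_of_normal_right] at h4
  obtain ⟨t, ht, k, hk, e⟩ := h4
  refine ⟨t, ht, ?_⟩
  have e' : (t : G) * k = u := congrArg Subtype.val e
  rw [← e', inv_mul_cancel_left]
  exact hk

/-! ### The covering of `Q a ∩ Q b` -/

section cover

variable {B : Subgroup G} {P : I → Subgroup G} {a b : I}

/-- **`m = 3`**: `U ∩ Q a ∩ Q b ≤ (n U₂ n⁻¹) K` if `U₂` is transitive on the panel of `b`. -/
theorem Polygon.cover_three {U O U2 : Subgroup G} (h : Polygon B P a b 3) (ha : B ≤ P a) (hb : B ≤ P b) (hU : U ≤ B)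
    (hp : ∀ u ∈ U, ∀ g, g⁻¹ * u * g ∈ B → g⁻¹ * u * g ∈ U)
    (rega : ∀ u ∈ U, ∀ g ∈ P a, g ∉ B → g⁻¹ * u * g ∈ B → u ∈ Qk B (P a))
    (regb : ∀ u ∈ U, ∀ g ∈ P b, g ∉ B → g⁻¹ * u * g ∈ B → u ∈ Qk B (P b))
    {n y : G} (hn : n ∈ P a) (hnB : n ∉ B) (hy : y ∈ P b) (hyB : y ∉ B)
    (hO : O ≤ U) (hOb : O ≤ Qk B (P b)) (hnO : ∀ u ∈ U2, n * u * n⁻¹ ∈ O)
    (tr1 : ∀ y' ∈ P b, y' ∉ B → ∃ u ∈ U2, (u * y)⁻¹ * y' ∈ B) :
    ∀ d ∈ U, d ∈ Qk B (P a) → d ∈ Qk B (P b) → ∃ w ∈ O, w⁻¹ * d ∈ Qk B (P a ⊔ P b) := by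
  intro d hd hda hdb
  have hd' : n⁻¹ * d * n ∈ B := hda n hn
  obtain ⟨u, hu, h1⟩ := tr1 (n⁻¹ * d * n * y) (mul_mem (hb hd') hy) (fun h2 => hyB (by
    have := mul_mem (inv_mem hd') h2
    rwa [inv_mul_cancel_left] at this))
  refine ⟨n * u * n⁻¹, hnO u hu, ?_⟩
  set e := (n * u * n⁻¹)⁻¹ * d with he
  have heU : e ∈ U := mul_mem (inv_mem (hO (hnO u hu))) hd
  have heb : e ∈ Qk B (P b) := mul_mem (inv_mem (hOb (hnO u hu))) hdb
  have hyy : y⁻¹ * e * y ∈ B := heb y hy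
  have h2 := h.symm.rig (u := y⁻¹ * e * y) (d := y⁻¹ * n * y) hb ha ⟨y, hy, hyB⟩ ⟨n, hn, hnB⟩ hU hp regb rega
    (hp e heU y hyy)
    ⟨[y⁻¹, n, y], ⟨⟨inv_mem hy, fun h3 => hyB (by simpa using inv_mem h3)⟩, ⟨hn, hnB⟩, ⟨hy, hyB⟩, trivial⟩, by
      have e1 : [y⁻¹, n, y].prod⁻¹ * (y⁻¹ * n * y) = 1 := by
        simp only [List.prod_cons, List.prod_nil]
        group
      rw [e1]; exact one_mem _⟩
    (by
      have e1 : (y⁻¹ * n * y)⁻¹ * (y⁻¹ * e * y) * (y⁻¹ * n * y) = (u * y)⁻¹ * (n⁻¹ * d * n * y) := by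
        rw [he]; group
      rw [e1]; exact h1)
  rw [sup_comm] at h2
  have h3 := Qk_conj' h2 ((le_sup_right : P b ≤ P a ⊔ P b) hy)
  have e1 : y * (y⁻¹ * e * y) * y⁻¹ = e := by group
  rwa [e1] at h3

/-- **`m = 4`**: `U ∩ Q a ∩ Q b ≤ (n U₂ n⁻¹) K` if `U₂` is transitive on the galleries of type `b a` (first chamber all, second
chamber for one first chamber). -/
theorem Polygon.cover_four {U O U2 : Subgroup G} (h : Polygon B P a b 4) (ha : B ≤ P a) (hb : B ≤ P b) (hU : U ≤ B)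
    (hp : ∀ u ∈ U, ∀ g, g⁻¹ * u * g ∈ B → g⁻¹ * u * g ∈ U)
    (rega : ∀ u ∈ U, ∀ g ∈ P a, g ∉ B → g⁻¹ * u * g ∈ B → u ∈ Qk B (P a))
    (regb : ∀ u ∈ U, ∀ g ∈ P b, g ∉ B → g⁻¹ * u * g ∈ B → u ∈ Qk B (P b))
    {n y z : G} (hn : n ∈ P a) (hnB : n ∉ B) (hy : y ∈ P b) (hyB : y ∉ B) (hz : z ∈ P a) (hzB : z ∉ B)
    (hO : O ≤ U) (hOb : O ≤ Qk B (P b)) (hnO : ∀ u ∈ U2, n * u * n⁻¹ ∈ O)
    (tr1 : ∀ y' ∈ P b, y' ∉ B → ∃ u ∈ U2, (u * y)⁻¹ * y' ∈ B)
    (tr2 : ∀ z' ∈ P a, z' ∉ B → ∃ u ∈ U2, (u * y * z)⁻¹ * (y * z') ∈ B) :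
    ∀ d ∈ U, d ∈ Qk B (P a) → d ∈ Qk B (P b) → ∃ w ∈ O, w⁻¹ * d ∈ Qk B (P a ⊔ P b) := by
  intro d hd hda hdb
  have hd' : n⁻¹ * d * n ∈ B := hda n hn
  obtain ⟨u, hu, h1⟩ := tr1 (n⁻¹ * d * n * y) (mul_mem (hb hd') hy) (fun h2 => hyB (by
    have := mul_mem (inv_mem hd') h2
    rwa [inv_mul_cancel_left] at this))
  -- `β = (n y)⁻¹ d₁ (n y)`
  set β := (u * y)⁻¹ * (n⁻¹ * d * n * y) with hβ
  obtain ⟨v, hv, h2⟩ := tr2 (β * z) (mul_mem (ha h1) hz) (fun h2 => hzB (by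
    have := mul_mem (inv_mem h1) h2
    rwa [inv_mul_cancel_left] at this))
  have hw : n * (u * v) * n⁻¹ ∈ O := by
    have := mul_mem (hnO u hu) (hnO v hv)
    have e1 : n * u * n⁻¹ * (n * v * n⁻¹) = n * (u * v) * n⁻¹ := by group
    rwa [e1] at this
  refine ⟨n * (u * v) * n⁻¹, hw, ?_⟩
  set e := (n * (u * v) * n⁻¹)⁻¹ * d with he
  have heU : e ∈ U := mul_mem (inv_mem (hO hw)) hd
  have heb : e ∈ Qk B (P b) := mul_mem (inv_mem (hOb hw)) hdb
  have hyy : y⁻¹ * e * y ∈ B := heb y hy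
  have h3 := h.symm.rig (u := y⁻¹ * e * y) (d := y⁻¹ * n * y * z) hb ha ⟨y, hy, hyB⟩ ⟨n, hn, hnB⟩ hU hp regb rega
    (hp e heU y hyy)
    ⟨[y⁻¹, n, y, z], ⟨⟨inv_mem hy, fun h3 => hyB (by simpa using inv_mem h3)⟩, ⟨hn, hnB⟩, ⟨hy, hyB⟩, ⟨hz, hzB⟩,
      trivial⟩, by
      have e1 : [y⁻¹, n, y, z].prod⁻¹ * (y⁻¹ * n * y * z) = 1 := by
        simp only [List.prod_cons, List.prod_nil]
        group
      rw [e1]; exact one_mem _⟩
    (by
      have e1 : (y⁻¹ * n * y * z)⁻¹ * (y⁻¹ * e * y) * (y⁻¹ * n * y * z) = (v * y * z)⁻¹ * (y * (β * z)) := by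
        rw [he, hβ]; group
      rw [e1]; exact h2)
  rw [sup_comm] at h3
  have h4 := Qk_conj' h3 ((le_sup_right : P b ≤ P a ⊔ P b) hy)
  have e1 : y * (y⁻¹ * e * y) * y⁻¹ = e := by group
  rwa [e1] at h4

end cover

/-! ### `O ≤ [U, U] K` -/

/-- `O ≤ Φ W₀`, `O ≤ Φ D`, `W₀ ≤ O`, `[τ, D] ≤ Φ` and `W₀ ≤ [τ, W₀] Φ` imply `O ≤ Φ`. -/
theorem le_of_tau {Φ O W0 D : Subgroup G} {t : G} (ht : ∀ x ∈ Φ, t * x * t⁻¹ ∈ Φ)
    (h1 : ∀ x ∈ O, ∃ k ∈ Φ, ∃ w ∈ W0, x = k * w) (h2 : ∀ x ∈ O, ∃ k ∈ Φ, ∃ d ∈ D, x = k * d) (hW : W0 ≤ O)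
    (hD : ∀ d ∈ D, t * d * t⁻¹ * d⁻¹ ∈ Φ)
    (h5 : ∀ w ∈ W0, ∃ w' ∈ W0, (t * w' * t⁻¹ * w'⁻¹)⁻¹ * w ∈ Φ) : O ≤ Φ := by
  have h0 : W0 ≤ Φ := by
    intro w hw
    obtain ⟨w', hw', h6⟩ := h5 w hw
    obtain ⟨k, hk, d, hd, e⟩ := h2 w' (hW hw')
    have h7 : t * w' * t⁻¹ * w'⁻¹ ∈ Φ := by
      have e1 : t * w' * t⁻¹ * w'⁻¹ = (t * k * t⁻¹) * (t * d * t⁻¹ * d⁻¹) * k⁻¹ := by rw [e]; group
      rw [e1]
      exact mul_mem (mul_mem (ht k hk) (hD d hd)) (inv_mem hk)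
    have := mul_mem h7 h6
    rwa [mul_inv_cancel_left] at this
  intro x hx
  obtain ⟨k, hk, w, hw, rfl⟩ := h1 x hx
  exact mul_mem hk (h0 hw)

/-- A subgroup of `B` which is normalised by `P a` and `P b` lies in the kernel. -/
theorem le_Qk_of {B M X : Subgroup G} (hX : X ≤ B) (hM : ∀ g ∈ M, ∀ x ∈ X, g⁻¹ * x * g ∈ X) : X ≤ Qk B M :=
  fun x hx g hg => hX (hM g hg x hx)

section final

variable {B : Subgroup G} {P : I → Subgroup G} {a b : I}

/-- a `p`-element of `B` lies in `U` -/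
theorem mem_U_of_conj [Finite G] {p : ℕ} [hp : Fact p.Prime] {B U : Subgroup G} (norm : B ≤ normalizer (U : Set G))
    (isP : IsPGroup p U) (index : p.Coprime (U.relIndex B)) :
    ∀ u ∈ U, ∀ g, g⁻¹ * u * g ∈ B → g⁻¹ * u * g ∈ U := by
  intro u hu g hg
  obtain ⟨k, hk⟩ := isP ⟨u, hu⟩
  have hk' : u ^ p ^ k = 1 := by simpa using congrArg Subtype.val hk
  have h1 : (g⁻¹ * u * g) ^ p ^ k = 1 := by
    have := conj_pow (i := p ^ k) (a := g⁻¹) (b := u)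
    rw [inv_inv] at this
    rw [this, hk']
    group
  have h2 : (g⁻¹ * u * g) ^ U.relIndex B ∈ U := Hall.pow_relIndex_mem norm hg
  exact Hall.mem_of_pow_mem_of_coprime (a := p ^ k) (b := U.relIndex B) (by rw [h1]; exact one_mem _) h2
    (index.pow_left k)

/-- **The field `frat`** from a covering subgroup `O ≤ [U, U] K`. -/
theorem frat_of_cover [Finite G] {p : ℕ} [Fact p.Prime] {U O : Subgroup G} (ha : B ≤ P a) (hU : U ≤ B)
    (isP : IsPGroup p U) (hOU : O ≤ U)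
    (hO : ∀ d ∈ U, d ∈ Qk B (P a) → d ∈ Qk B (P b) → ∃ w ∈ O, w⁻¹ * d ∈ Qk B (P a ⊔ P b))
    (hOK : O ≤ ⁅U, U⁆ ⊔ (U ⊓ Qk B (P a ⊔ P b))) :
    ∀ X ≤ U, (∀ u ∈ U, ∃ x ∈ X, x⁻¹ * u ∈ Qk B (P a) ∧ x⁻¹ * u ∈ Qk B (P b)) →
      ∀ u ∈ U, ∃ x ∈ X, x⁻¹ * u ∈ Qk B (P a ⊔ P b) := by
  intro X hX h1
  refine frat_of_le (Q := Qk B (P a) ⊓ Qk B (P b)) isP
    (fun u hu k hk => Qk_conj' hk ((le_sup_left : P a ≤ _) (ha (hU hu)))) ?_ X hX
    (fun u hu => by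
      obtain ⟨x, hx, h2⟩ := h1 u hu
      exact ⟨x, hx, mem_inf.2 h2⟩)
  intro d hd
  obtain ⟨hd, hda, hdb⟩ := mem_inf.1 hd
  obtain ⟨w, hw, h2⟩ := hO d hd hda hdb
  have h3 : w⁻¹ * d ∈ ⁅U, U⁆ ⊔ (U ⊓ Qk B (P a ⊔ P b)) :=
    Subgroup.mem_sup_right (mem_inf.2 ⟨mul_mem (inv_mem (hOU hw)) hd, h2⟩)
  have h4 := mul_mem (hOK hw) h3
  rwa [mul_inv_cancel_left] at h4

end final

end Cfsg.Agent.ParSys
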