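import Cfsg.Agent.ParSys.OfSylow
import Cfsg.Agent.ParSys.Central

/-!
# The output of a residue of rank two which is a group of Lie type

`ResOut`: all fields of `Sys` which concern the pair `i`, `j`, except `torus`; `ResSep`: the field `torus`.

* `LiePair.linkPair`: a Lie pair is a link pair;
* `LinkPair.resOut`, `LinkPair.resSep`;
* `exists_liePair`: the Lie pair from a homomorphism `φ : P i ⊔ P j → L` (not necessarily surjective) with `φ(U) = ε(V)`, `V` a Sylow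
  `p`-subgroup of `E`; `resOut_of_hom`, `resSep_of_hom`.
-/

set_option autoImplicit false

namespace Cfsg.Agent.ParSys

open Subgroup
open Cfsg.Agent.LieExceptional.BNPairCore

variable {G : Type*} [Group G] {I : Type*} {L E : Type*} [Group L] [Group E]

/-- the fields of `Sys` for the pair `i`, `j`, except `torus` -/
structure ResOut (p : ℕ) (B U : Subgroup G) (P : I → Subgroup G) (i j : I) : Prop where
  poly : ∃ m, 3 ≤ m ∧ Polygon B P i j m
  three : ∀ a, a = i ∨ a = j → ∃ x ∈ P a, ∃ y ∈ P a, x ∉ B ∧ y ∉ B ∧ x⁻¹ * y ∉ B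
  ptr : ∀ a, a = i ∨ a = j → Hall.HallData.PTr B U (P a)
  reg : ∀ a, a = i ∨ a = j → ∀ u ∈ U, ∀ g ∈ P a, g ∉ B → g⁻¹ * u * g ∈ B → u ∈ Qk B (P a)
  fix : ∀ a, a = i ∨ a = j → ∀ H, Hall.HallData p B U H → ∀ c ∈ U, c ∈ centralizer (H : Set G) → c ∈ Qk B (P a)
  frat : ∀ T ≤ U, (∀ u ∈ U, ∃ t ∈ T, t⁻¹ * u ∈ Qk B (P i) ∧ t⁻¹ * u ∈ Qk B (P j)) →
    ∀ u ∈ U, ∃ t ∈ T, t⁻¹ * u ∈ Qk B (P i ⊔ P j)

/-- the field `torus` for the pair `i`, `j` -/
def ResSep (p : ℕ) (B U : Subgroup G) (P : I → Subgroup G) (i j : I) : Prop :=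
  ∀ H, Hall.HallData p B U H → SepT B U H (P i) (P j) ∨ SepT B U H (P j) (P i)

theorem ResOut.symm {p : ℕ} {B U : Subgroup G} {P : I → Subgroup G} {i j : I} (h : ResOut p B U P i j) :
    ResOut p B U P j i where
  poly := by
    obtain ⟨m, h1, h2⟩ := h.poly
    exact ⟨m, h1, h2.symm⟩
  three := fun a ha => h.three a ha.symm
  ptr := fun a ha => h.ptr a ha.symm
  reg := fun a ha => h.reg a ha.symm
  fix := fun a ha => h.fix a ha.symm
  frat := by
    intro T hT h1 u hu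
    rw [sup_comm]
    exact h.frat T hT (fun u hu => by
      obtain ⟨t, ht, h2, h3⟩ := h1 u hu
      exact ⟨t, ht, h3, h2⟩) u hu

theorem ResSep.symm {p : ℕ} {B U : Subgroup G} {P : I → Subgroup G} {i j : I} (h : ResSep p B U P i j) :
    ResSep p B U P j i := fun H hH => (h H hH).symm

/-- **A Lie pair is a link pair** -/
theorem LiePair.linkPair [Finite E] {p : ℕ} {B U : Subgroup G} {P : I → Subgroup G} {i j : I}
    {φ : ↥(P i ⊔ P j) →* L} {ε : E →* L} {Q : Cfsg.BNPair E} {UE : Subgroup E} {s t : E}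
    (h : LiePair p B U P i j φ ε Q UE s t) : ∃ s' t' : E, ((s' = s ∧ t' = t) ∨ (s' = t ∧ t' = s)) ∧
      LinkPair p B U P i j Q UE s' t' (LiePair.PE φ ε)
        (fun g e => ∃ h : g ∈ P i ⊔ P j, (φ ⟨g, h⟩)⁻¹ * ε e ∈ LiePair.BL φ B) := by
  have hUM : U ≤ P i ⊔ P j := fun u hu => le_sup_left (a := P i) (h.le i (h.U_le hu))
  have hact : ∀ (u : ↥(P i ⊔ P j)) (e : E), φ u = ε e →
      Acts B (fun g e => ∃ h : g ∈ P i ⊔ P j, (φ ⟨g, h⟩)⁻¹ * ε e ∈ LiePair.BL φ B) (u : G) e := by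
    rintro u e hue g x g' ⟨hg, h1⟩ ⟨hg', h2⟩
    have h3 : φ ((u * ⟨g, hg⟩)⁻¹ * ⟨g', hg'⟩) ∈ LiePair.BL φ B := by
      have e3 : φ ((u * ⟨g, hg⟩)⁻¹ * ⟨g', hg'⟩) =
          ((φ ⟨g, hg⟩)⁻¹ * ε x) * ((φ ⟨g', hg'⟩)⁻¹ * ε (e * x))⁻¹ := by
        simp only [map_mul, map_inv, hue]; group
      rw [e3]
      exact mul_mem h1 (inv_mem h2)
    have h4 := h.mem_BL.2 h3
    rwa [coe_mul, coe_inv, coe_mul] at h4
  have key : ∀ s' t' : E, LiePair.PE φ ε i = Q.parabolic {s'} → LiePair.PE φ ε j = Q.parabolic {t'} →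
      Q.S = {s', t'} → s' ≠ t' → LinkPair p B U P i j Q UE s' t' (LiePair.PE φ ε)
        (fun g e => ∃ h : g ∈ P i ⊔ P j, (φ ⟨g, h⟩)⁻¹ * ε e ∈ LiePair.BL φ B) := by
    intro s' t' h1 h2 h3 h4
    exact {
      link := h.link
      Pi := h1
      Pj := h2
      split := h.split
      S := h3
      ne := h4
      U_le := h.U_le
      U_to := fun u hu => by
        obtain ⟨e, he, h5⟩ := h.U_to ⟨u, hUM hu⟩ hu
        exact ⟨e, he, hact _ _ h5⟩
      U_of := fun e he => by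
        obtain ⟨u, hu, h5⟩ := h.U_of e he
        exact ⟨u, hu, hact _ _ h5⟩ }
  rcases h.PE_eq with ⟨h1, h2⟩ | ⟨h1, h2⟩
  · exact ⟨s, t, Or.inl ⟨rfl, rfl⟩, key s t h1 h2 h.S h.ne⟩
  · exact ⟨t, s, Or.inr ⟨rfl, rfl⟩, key t s h1 h2 (by rw [h.S, Set.pair_comm]) h.ne.symm⟩

section

variable {p : ℕ} {B U : Subgroup G} {P : I → Subgroup G} {i j : I} {Q : Cfsg.BNPair E} {UE : Subgroup E} {s t : E}
  {P' : I → Subgroup E} {θ : G → E → Prop}

/-- **All fields for the pair from a link pair and the facts about `E`.** -/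
theorem LinkPair.resOut [Finite G] [Finite E] [Fact p.Prime] (h : LinkPair p B U P i j Q UE s t P' θ)
    (K : KPair p Q UE s t) : ResOut p B U P i j where
  poly := by
    obtain ⟨m, -, h2, h3⟩ := h.exists_polygon
    exact ⟨m, h3.2 K.irr, h2⟩
  three := fun _ ha => h.three ha
  ptr := fun _ ha => h.ptr ha
  reg := fun _ ha _ hu _ hg hgB hug => h.reg ha hu hg hgB hug
  fix := by
    rintro a (rfl | rfl) H D
    · exact h.fix D K.fpfs
    · exact h.symm.fix D K.fpft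
  frat := fun _ hT h1 => h.frat K.one hT h1

theorem LinkPair.resSep [Finite G] [Finite E] [Fact p.Prime] (h : LinkPair p B U P i j Q UE s t P' θ)
    (hi : B ≤ P i) (hj : B ≤ P j) (hS : SepE Q UE s t ∨ SepE Q UE t s) : ResSep p B U P i j := by
  intro H D
  rcases hS with h1 | h1
  · exact Or.inl ((h.sep D h1).sepT D hj)
  · exact Or.inr ((h.symm.sep D h1).sepT D hi)

/-- **All fields for the pair from a Lie pair and the facts about `E`.** -/
theorem LiePair.resOut [Finite G] [Finite E] [Fact p.Prime] {φ : ↥(P i ⊔ P j) →* L} {ε : E →* L}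
    (h : LiePair p B U P i j φ ε Q UE s t) (K : KPair p Q UE s t) : ResOut p B U P i j := by
  obtain ⟨s', t', h1 | h1, h2⟩ := h.linkPair
  · obtain ⟨rfl, rfl⟩ := h1
    exact h2.resOut K
  · obtain ⟨rfl, rfl⟩ := h1
    exact h2.resOut K.symm

theorem LiePair.resSep [Finite G] [Finite E] [Fact p.Prime] {φ : ↥(P i ⊔ P j) →* L} {ε : E →* L}
    (h : LiePair p B U P i j φ ε Q UE s t) (hS : SepE Q UE s t ∨ SepE Q UE t s) : ResSep p B U P i j := by
  obtain ⟨s', t', h1 | h1, h2⟩ := h.linkPair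
  · obtain ⟨rfl, rfl⟩ := h1
    exact h2.resSep (h.le i) (h.le j) hS
  · obtain ⟨rfl, rfl⟩ := h1
    exact h2.resSep (h.le i) (h.le j) hS.symm

end

/-! ### From a homomorphism -/

/-- The hypotheses: `φ : P i ⊔ P j → L`, `ε : E → L` injective, `V` a subgroup of `E` (a Sylow `p`-subgroup), `φ(U) = ε(V)`. -/
structure HomRes (B U : Subgroup G) (P : I → Subgroup G) (i j : I) (φ : ↥(P i ⊔ P j) →* L) (ε : E →* L)
    (V : Subgroup E) : Prop where
  le : ∀ a, B ≤ P a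
  inj : Function.Injective ε
  onto : ∀ e : E, ∃ x : ↥(P i ⊔ P j), φ x = ε e
  nor : ∀ (x : ↥(P i ⊔ P j)) (e : E), ∃ e' : E, φ x * ε e * (φ x)⁻¹ = ε e'
  U_le : U ≤ B
  norm : ∀ b ∈ B, ∀ u ∈ U, b * u * b⁻¹ ∈ U
  U_to : ∀ u : ↥(P i ⊔ P j), (u : G) ∈ U → ∃ e ∈ V, φ u = ε e
  U_of : ∀ e ∈ V, ∃ u : ↥(P i ⊔ P j), (u : G) ∈ U ∧ φ u = ε e
  memB : ∀ x : ↥(P i ⊔ P j), (∀ u ∈ V, ∃ v ∈ V, φ x * ε u * (φ x)⁻¹ = ε v) → (x : G) ∈ B
  lt : ∀ a, a = i ∨ a = j → ∃ x ∈ P a, x ∉ B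
  inf : P i ⊓ P j ≤ B

/-- **The Lie pair from a homomorphism.** -/
theorem HomRes.exists_liePair [Finite E] {p : ℕ} [Fact p.Prime] {B U : Subgroup G} {P : I → Subgroup G} {i j : I}
    {φ : ↥(P i ⊔ P j) →* L} {ε : E →* L} {V : Subgroup E} (h : HomRes B U P i j φ ε V)
    {Q : Cfsg.BNPair E} {UE : Subgroup E} {s t : E} (hQ : FixBN.Split Q p UE) (hS : Q.S = {s, t}) (hne : s ≠ t)
    (hV : Nat.card V = Nat.card UE) :
    ∃ (φ' : ↥(P i ⊔ P j) →* φ.range) (ε' : E →* φ.range), LiePair p B U P i j φ' ε' Q UE s t := by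
  obtain ⟨e, he⟩ := split_conj hQ hV
  have he' : ∀ x, x ∈ UE ↔ e * x * e⁻¹ ∈ V := by
    intro x
    rw [he]
    have e1 : e⁻¹ * (e * x * e⁻¹) * e = x := by group
    rw [e1]
  -- the modified embedding
  let ε1 : E →* L := ε.comp (MulAut.conj e).toMonoidHom
  have hε1 : ∀ x, ε1 x = ε (e * x * e⁻¹) := fun _ => rfl
  have hr : ∀ x, ε1 x ∈ φ.range := fun x => by
    obtain ⟨y, hy⟩ := h.onto (e * x * e⁻¹)
    exact ⟨y, hy⟩
  let ε' : E →* φ.range := ε1.codRestrict φ.range hr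
  have hε' : ∀ x, ((ε' x : φ.range) : L) = ε (e * x * e⁻¹) := fun _ => rfl
  have hφ' : ∀ x, ((φ.rangeRestrict x : φ.range) : L) = φ x := fun _ => rfl
  have D : BaseRes p B U P i j φ.rangeRestrict ε' Q UE s t :=
    { le := h.le
      surj := φ.rangeRestrict_surjective
      inj := by
        intro x y hxy
        have h1 : ε (e * x * e⁻¹) = ε (e * y * e⁻¹) := by rw [← hε', ← hε', hxy]
        exact mul_left_cancel (mul_right_cancel (h.inj h1))
      split := hQ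
      S := hS
      ne := hne
      U_le := h.U_le
      norm := h.norm
      U_to := by
        intro u hu
        obtain ⟨v, hv, h1⟩ := h.U_to u hu
        refine ⟨e⁻¹ * v * e, (he v).1 hv, Subtype.ext ?_⟩
        rw [hφ', hε', h1]
        congr 1; group
      U_of := by
        intro x hx
        obtain ⟨u, hu, h1⟩ := h.U_of _ ((he' x).1 hx)
        refine ⟨u, hu, Subtype.ext ?_⟩
        rw [hφ', hε', h1]
      nor := by
        rintro ⟨_, x, rfl⟩ a
        obtain ⟨e1, h1⟩ := h.nor x (e * a * e⁻¹)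
        refine ⟨e⁻¹ * e1 * e, Subtype.ext ?_⟩
        rw [hε']
        have e2 : e * (e⁻¹ * e1 * e) * e⁻¹ = e1 := by group
        rw [e2, ← h1]
        rfl
      memB := by
        intro x hx
        apply h.memB
        intro u hu
        obtain ⟨v, hv, h1⟩ := hx _ ((he u).1 hu)
        refine ⟨e * v * e⁻¹, (he' v).1 hv, ?_⟩
        have h2 := congrArg Subtype.val h1
        rw [hε'] at h2
        rw [← h2]
        have e2 : e * (e⁻¹ * u * e) * e⁻¹ = u := by group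
        show _ = φ x * ε (e * (e⁻¹ * u * e) * e⁻¹) * (φ x)⁻¹
        rw [e2]
      lt := h.lt
      inf := h.inf }
  exact ⟨_, _, D.liePair⟩

theorem HomRes.resOut [Finite G] [Finite E] {p : ℕ} [Fact p.Prime] {B U : Subgroup G} {P : I → Subgroup G} {i j : I}
    {φ : ↥(P i ⊔ P j) →* L} {ε : E →* L} {V : Subgroup E} (h : HomRes B U P i j φ ε V)
    {Q : Cfsg.BNPair E} {UE : Subgroup E} {s t : E} (K : KPair p Q UE s t) (hV : Nat.card V = Nat.card UE) :
    ResOut p B U P i j := by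
  obtain ⟨φ', ε', h1⟩ := h.exists_liePair K.split K.S K.ne hV
  exact h1.resOut K

theorem HomRes.resSep [Finite G] [Finite E] {p : ℕ} [Fact p.Prime] {B U : Subgroup G} {P : I → Subgroup G} {i j : I}
    {φ : ↥(P i ⊔ P j) →* L} {ε : E →* L} {V : Subgroup E} (h : HomRes B U P i j φ ε V)
    {Q : Cfsg.BNPair E} {UE : Subgroup E} {s t : E} (K : KPair p Q UE s t) (hV : Nat.card V = Nat.card UE)
    (hS : SepE Q UE s t ∨ SepE Q UE t s) : ResSep p B U P i j := by
  obtain ⟨φ', ε', h1⟩ := h.exists_liePair K.split K.S K.ne hV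
  exact h1.resSep hS

/-- a Sylow `p`-subgroup has the order of `UE` -/
theorem split_card_eq [Finite E] {p : ℕ} [Fact p.Prime] {Q : Cfsg.BNPair E} {UE : Subgroup E}
    (h : FixBN.Split Q p UE) (T : Sylow p E) : Nat.card (T : Subgroup E) = Nat.card UE := by
  obtain ⟨T', hT'⟩ := split_sylow h
  rw [← hT']
  exact Nat.card_congr (T.equiv T').toEquiv

end Cfsg.Agent.ParSys
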