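import Cfsg.Agent.ParSys.ProdRes
import Cfsg.Agent.ParSys.End

/-!
# THEOREM PAR from the residues

`Resid U E`: the subgroups `E i ≥ U` are generated by the conjugates of the 2-group `U`, and

* every `E i` is, modulo `O₂`, a central extension of a simple group in which two Sylow 2-subgroups generate
  (`L₂(q)`, `Sz(q)`, `U₃(q)`, `q ≥ 4`);
* every `E i ⊔ E j` is, modulo `O₂`, a central extension of a simple group of Lie type of rank two, or of a product of two
  groups as above; `U` is a Sylow 2-subgroup of it.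

`Resid.psys`: then `PSys U E (O²(E i)) (O₂(E i))`, the hypothesis of THEOREM PAR.
-/

set_option autoImplicit false
set_option maxHeartbeats 400000
set_option linter.unusedSectionVars false

universe u v

namespace Cfsg.Agent.ParSys

open Subgroup Cfsg
open Cfsg.Agent.ZN (o2)
open Cfsg.Agent.MinSimple.VModule (o2_le o2_isPGroup le_normalizer_o2 le_o2 o2_le_of_sylow oddGen oddGen_le
  mem_oddGen le_normalizer_oddGen normalizer_le_normalizer_oddGen)
open Cfsg.Agent.LieExceptional.BNPairCore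

open scoped commutatorElement

/-! ### Centerless quotients -/

/-- centerless -/
def NoCen (F : Type*) [Group F] : Prop := ∀ z : F, (∀ x : F, z * x * z⁻¹ * x⁻¹ = 1) → z = 1

theorem NS.noCen {F : Type*} [Group F] (h : NS F) : NoCen F := by
  obtain ⟨hs, a, b, hab⟩ := h
  intro z hz
  have h1 : z ∈ center F := by
    rw [mem_center_iff]
    intro x
    have := hz x
    rw [mul_inv_eq_one, mul_inv_eq_iff_eq_mul] at this
    exact this.symm
  rcases (inferInstance : (center F).Normal).eq_bot_or_eq_top with h2 | h2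
  · rw [h2] at h1; exact mem_bot.1 h1
  · exfalso
    have h3 : a ∈ center F := by rw [h2]; trivial
    exact hab (mem_center_iff.1 h3 b).symm

theorem NoCen.prod {A B : Type*} [Group A] [Group B] (hA : NoCen A) (hB : NoCen B) : NoCen (A × B) := by
  intro z hz
  apply Prod.ext
  · exact hA z.1 fun x => congrArg Prod.fst (hz (x, 1))
  · exact hB z.2 fun x => congrArg Prod.snd (hz (1, x))

section

variable {G : Type*} [Group G] [Finite G] {X : Subgroup G}

/-- the quotient of `X` is determined -/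
theorem Cov.equiv {F : Type*} [Group F] {F' : Type*} [Group F'] (h : Cov X F) (h' : Cov X F') (h2 : NoTwo F)
    (h2' : NoTwo F') (hc : NoCen F) (hc' : NoCen F') : Nonempty (F ≃* F') := by
  obtain ⟨f, hf, hk⟩ := h
  obtain ⟨g, hg, hl⟩ := h'
  have h1 : f.ker = g.ker := by
    ext z
    rw [MonoidHom.mem_ker, MonoidHom.mem_ker]
    constructor
    · intro hz
      apply hc'
      intro y
      obtain ⟨x, rfl⟩ := hg y
      have := cov_O_ker hg h2' (x := z * x * z⁻¹ * x⁻¹) (by push_cast; exact hk z hz x)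
      rw [map_mul, map_mul, map_mul, map_inv, map_inv] at this
      exact this
    · intro hz
      apply hc
      intro y
      obtain ⟨x, rfl⟩ := hf y
      have := cov_O_ker hf h2 (x := z * x * z⁻¹ * x⁻¹) (by push_cast; exact hl z hz x)
      rw [map_mul, map_mul, map_mul, map_inv, map_inv] at this
      exact this
  exact ⟨(QuotientGroup.quotientKerEquivOfSurjective f hf).symm.trans
    ((QuotientGroup.quotientMulEquivOfEq h1).trans (QuotientGroup.quotientKerEquivOfSurjective g hg))⟩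

end

theorem NS.nontrivial {A : Type*} [Group A] (h : NS A) : Nontrivial A := by
  obtain ⟨hs, -⟩ := h
  exact hs.toNontrivial

theorem NS.not_prod {A B : Type*} [Group A] [Group B] (hA : Nontrivial A) (hB : Nontrivial B) : ¬ NS (A × B) := by
  rintro ⟨hs, -⟩
  obtain ⟨a, ha⟩ := exists_ne (1 : A)
  obtain ⟨b, hb⟩ := exists_ne (1 : B)
  have hn : ((⊤ : Subgroup A).prod (⊥ : Subgroup B)).Normal := inferInstance
  rcases hn.eq_bot_or_eq_top with h | h
  · have h1 : ((a, 1) : A × B) ∈ (⊤ : Subgroup A).prod (⊥ : Subgroup B) := ⟨mem_top _, one_mem _⟩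
    rw [h, mem_bot] at h1
    exact ha (congrArg Prod.fst h1)
  · have h1 : ((1, b) : A × B) ∈ (⊤ : Subgroup A).prod (⊥ : Subgroup B) := by rw [h]; exact mem_top _
    exact hb (mem_bot.1 h1.2)

/-- A group with `KPair` has two Sylow 2-subgroups which do not generate. -/
theorem KPair.not_twoGen {F : Type*} [Group F] [Finite F] {Q : Cfsg.BNPair F} {UF : Subgroup F} {s t : F}
    (K : KPair 2 Q UF s t) : ¬ TwoGen F := by
  have : Fact (Nat.Prime 2) := ⟨Nat.prime_two⟩
  intro h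
  obtain ⟨P₀, hP₀⟩ := K.split.isP.exists_le_sylow
  have h1 := split_eq_sylow K.split hP₀
  have h2 := twoGen_iff.1 h P₀ s (by
    rw [← h1, K.split.normalizer_eq]
    exact not_mem_B K.hs)
  have hle := Cfsg.Agent.Schreier.BNSch.B_le_parabolic Q {s}
  have hsP : s ∈ Q.parabolic {s} := Cfsg.Agent.Schreier.BNSch.mem_parabolic_self Q s
  have h3 : Q.parabolic {s} = ⊤ := by
    rw [eq_top_iff, ← h2, ← h1]
    apply sup_le (K.split.le.trans hle)
    rintro _ ⟨w, hw, rfl⟩
    exact mul_mem (mul_mem hsP (hle (K.split.le hw))) (inv_mem hsP)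
  have h4 := (Cfsg.Agent.Schreier.BNSch.parabolic_le_iff Q (Set.singleton_subset_iff.2 K.ht)
      (Set.singleton_subset_iff.2 K.hs)).1 (by rw [h3]; exact le_top)
  exact K.ne (Set.mem_singleton_iff.1 (h4 rfl)).symm

/-! ### One node -/

section node

variable {G : Type*} [Group G] [Finite G] {U E E' : Subgroup G} {A : Type*} [Group A]

theorem not_norm_of_cov (hA : NS A) (isP : IsPGroup 2 U)
    (gen : ∀ N : Subgroup G, (∀ e ∈ E, ∀ u ∈ U, e * u * e⁻¹ ∈ N) → E ≤ N) (h : Cov E A) :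
    ¬ E ≤ normalizer (U : Set G) := by
  intro h1
  have : Finite A := h.finite
  have := hA.nontrivial
  have h2 : E ≤ U := gen U fun e he u hu => conj_mem_of_normalizer (h1 he) hu
  obtain ⟨f, hf, -⟩ := h
  apply hA.noTwo.not_isPGroup
  have h3 : IsPGroup 2 E := isP.to_le h2
  exact h3.of_surjective f hf

/-- nodes do not contain each other -/
theorem eq_of_le_of_cov (hT : TwoGen A) (isP : IsPGroup 2 U) (hU : U ≤ E) (hEE : E ≤ E')
    (syl : ¬ 2 ∣ U.relIndex E')
    (gen : ∀ N : Subgroup G, (∀ e ∈ E, ∀ u ∈ U, e * u * e⁻¹ ∈ N) → E ≤ N)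
    (gen' : ∀ N : Subgroup G, (∀ e ∈ E', ∀ u ∈ U, e * u * e⁻¹ ∈ N) → E' ≤ N)
    (not : ¬ E ≤ normalizer (U : Set G)) (h : Cov E' A) : E = E' := by
  have : Fact (Nat.Prime 2) := ⟨Nat.prime_two⟩
  have : Finite A := h.finite
  obtain ⟨f, hf, hk⟩ := h
  have hO := o2_le_of_sylow isP syl
  have hP : IsPGroup 2 ((U.subgroupOf E').map f) :=
    (isP.comap_of_injective E'.subtype E'.subtype_injective).map f
  have hi : ¬ 2 ∣ ((U.subgroupOf E').map f).index := fun h => syl (h.trans (index_map_dvd _ hf))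
  set S : Sylow 2 A := hP.toSylow hi with hS
  have hS' : (S : Subgroup A) = (U.subgroupOf E').map f := rfl
  -- some element of `E` moves `S`
  have h1 : ∃ x : ↥E', (x : G) ∈ E ∧ f x ∉ normalizer ((S : Subgroup A) : Set A) := by
    by_contra hcon
    push Not at hcon
    apply not
    -- then `f E ≤ S`
    have h2 : ∀ x : ↥E', (x : G) ∈ E → f x ∈ (S : Subgroup A) := by
      intro x hx
      have h3 : E ≤ ((S : Subgroup A).comap f).map E'.subtype := by
        apply gen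
        intro e he u hu
        refine ⟨⟨e, hEE he⟩ * ⟨u, hEE (hU hu)⟩ * ⟨e, hEE he⟩⁻¹, ?_, rfl⟩
        show f (⟨e, hEE he⟩ * ⟨u, hEE (hU hu)⟩ * ⟨e, hEE he⟩⁻¹) ∈ (S : Subgroup A)
        rw [map_mul, map_mul, map_inv]
        exact conj_mem_of_normalizer (hcon _ he) (hS' ▸ ⟨_, hu, rfl⟩)
      obtain ⟨y, hy, h4⟩ := h3 hx
      have h5 : y = x := Subtype.ext h4
      rw [← h5]; exact hy
    have key : ∀ x ∈ E, ∀ v ∈ U, x * v * x⁻¹ ∈ U := by
      intro x hx v hv
      obtain ⟨u, hu, h3⟩ := hS' ▸ h2 ⟨x, hEE hx⟩ hx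
      have hu : (u : G) ∈ U := hu
      set k := u⁻¹ * ⟨x, hEE hx⟩ with hkdef
      have hk1 : f k = 1 := by rw [hkdef, map_mul, map_inv, h3, inv_mul_cancel]
      have h4 := hO (hk k hk1 ⟨v, hEE (hU hv)⟩)
      have e1 : x * v * x⁻¹ = (u : G) * ((k : G) * v * (k : G)⁻¹ * v⁻¹ * v) * (u : G)⁻¹ := by
        rw [hkdef]; push_cast; group
      rw [e1]
      exact mul_mem (mul_mem hu (mul_mem h4 hv)) (inv_mem hu)
    intro x hx
    rw [mem_normalizer_iff]
    intro v
    refine ⟨key x hx v, fun hv => ?_⟩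
    have := key x⁻¹ (inv_mem hx) _ hv
    have e1 : x⁻¹ * (x * v * x⁻¹) * x⁻¹⁻¹ = v := by group
    rwa [e1] at this
  obtain ⟨x, hx, hxS⟩ := h1
  have h2 := twoGen_iff.1 hT S (f x) hxS
  -- `f E = ⊤`
  have h3 : (E.subgroupOf E').map f = ⊤ := by
    rw [eq_top_iff, ← h2]
    apply sup_le
    · rw [hS']
      exact map_mono fun y hy => hU hy
    · rintro _ ⟨w, hw, rfl⟩
      obtain ⟨u, hu, rfl⟩ := hS' ▸ hw
      refine ⟨x * u * x⁻¹, ?_, ?_⟩
      · exact mul_mem (mul_mem hx (hU hu)) (inv_mem hx)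
      · show f (x * u * x⁻¹) = f x * f u * (f x)⁻¹
        rw [map_mul, map_mul, map_inv]
  have key : ∀ x : ↥E', ∀ e ∈ E, (x : G) * e * (x : G)⁻¹ ∈ E := by
    intro x e he
    have h1 : f x ∈ (E.subgroupOf E').map f := by rw [h3]; trivial
    obtain ⟨y, hy, h2⟩ := h1
    have hy : (y : G) ∈ E := hy
    set k := y⁻¹ * x with hkdef
    have hk1 : f k = 1 := by rw [hkdef, map_mul, map_inv, h2, inv_mul_cancel]
    have h3 := hU (hO (hk k hk1 ⟨e, hEE he⟩))
    have e1 : (x : G) * e * (x : G)⁻¹ = (y : G) * ((k : G) * e * (k : G)⁻¹ * e⁻¹ * e) * (y : G)⁻¹ := by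
      rw [hkdef]; push_cast; group
    rw [e1]
    exact mul_mem (mul_mem hy (mul_mem h3 he)) (inv_mem hy)
  exact le_antisymm hEE (gen' _ fun e he u hu => key ⟨e, he⟩ u (hU hu))

end node

/-! ### The residues -/

section defs

variable {G : Type u} [Group G]

/-- a node: `L₂(q)`, `Sz(q)`, `U₃(q)` modulo `O₂` and central elements -/
def NodeR (X : Subgroup G) : Prop := ∃ (A : Type u) (_ : Group A), NS A ∧ TwoGen A ∧ Cov X A

/-- a residue of Lie type of rank two -/
def LieR (X : Subgroup G) : Prop := ∃ (F : Type u) (_ : Group F), IsSimpleGroup F ∧ HasKPair 2 F ∧ Cov X F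

/-- a residue of Lie type of rank two, not `L₃(4)` -/
def LieRS (X : Subgroup G) : Prop := ∃ (F : Type u) (_ : Group F), IsSimpleGroup F ∧ HasKPairSep 2 F ∧ Cov X F

/-- a residue of Lie type of rank two, not `G₂(4)` -/
def LieRF (X : Subgroup G) : Prop := ∃ (F : Type u) (_ : Group F), IsSimpleGroup F ∧ HasKPairF 2 F ∧ Cov X F

/-- a product residue -/
def ProdR (X : Subgroup G) : Prop := ∃ (A : Type u) (_ : Group A) (B : Type u) (_ : Group B),
  NS A ∧ TwoGen A ∧ NS B ∧ TwoGen B ∧ Cov X (A × B)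

end defs

section univ

variable {G : Type u} [Group G] {X : Subgroup G}

theorem Cov.quot {F : Type v} [Group F] (h : Cov X F) : ∃ (L : Type u) (_ : Group L), Nonempty (F ≃* L) ∧ Cov X L := by
  obtain ⟨f, hf, hk⟩ := h
  exact ⟨↥X ⧸ f.ker, inferInstance, ⟨(QuotientGroup.quotientKerEquivOfSurjective f hf).symm⟩,
    QuotientGroup.mk' f.ker, QuotientGroup.mk'_surjective _, fun z hz => hk z ((QuotientGroup.eq_one_iff z).1 hz)⟩

theorem isSimpleGroup_congr {F : Type*} {L : Type*} [Group F] [Group L] (e : F ≃* L) (h : IsSimpleGroup F) :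
    IsSimpleGroup L := by
  have : Nontrivial L := e.symm.toEquiv.nontrivial
  exact IsSimpleGroup.isSimpleGroup_of_surjective e.toMonoidHom e.surjective

theorem nodeR_of [Finite G] {A : Type v} [Group A] (h1 : NS A) (h2 : TwoGen A) (h : Cov X A) : NodeR X := by
  have : Finite A := h.finite
  obtain ⟨L, _, ⟨e⟩, hL⟩ := h.quot
  exact ⟨L, inferInstance, h1.congr e, h2.congr e, hL⟩

theorem lieR_of {F : Type v} [Group F] (h1 : IsSimpleGroup F) (h2 : HasKPair 2 F) (h : Cov X F) : LieR X := by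
  obtain ⟨L, _, ⟨e⟩, hL⟩ := h.quot
  exact ⟨L, inferInstance, isSimpleGroup_congr e h1, Fam.hasKPair_congr e h2, hL⟩

theorem lieRS_of {F : Type v} [Group F] (h1 : IsSimpleGroup F) (h2 : HasKPairSep 2 F) (h : Cov X F) : LieRS X := by
  obtain ⟨L, _, ⟨e⟩, hL⟩ := h.quot
  exact ⟨L, inferInstance, isSimpleGroup_congr e h1, Fam.hasKPairSep_congr e h2, hL⟩

theorem lieRF_of {F : Type v} [Group F] (h1 : IsSimpleGroup F) (h2 : HasKPairF 2 F) (h : Cov X F) : LieRF X := by
  obtain ⟨L, _, ⟨e⟩, hL⟩ := h.quot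
  exact ⟨L, inferInstance, isSimpleGroup_congr e h1, Fam.hasKPairF_congr e h2, hL⟩

theorem LieRS.lieR (h : LieRS X) : LieR X := by
  obtain ⟨F, _, h1, ⟨Q, UE, s, t, h2, h3, -⟩, h4⟩ := h
  exact ⟨F, inferInstance, h1, ⟨Q, UE, s, t, h2, h3⟩, h4⟩

theorem LieRF.lieR (h : LieRF X) : LieR X := by
  obtain ⟨F, _, h1, ⟨Q, UE, s, t, h2, h3, -⟩, h4⟩ := h
  exact ⟨F, inferInstance, h1, ⟨Q, UE, s, t, h2, h3⟩, h4⟩

theorem prodR_of [Finite G] {A B : Type v} [Group A] [Group B] (h1 : NS A) (h2 : TwoGen A) (h3 : NS B)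
    (h4 : TwoGen B) (h : Cov X (A × B)) : ProdR X := by
  have : Finite (A × B) := h.finite
  have : Finite A := Finite.of_surjective (Prod.fst : A × B → A) Prod.fst_surjective
  have : Finite B := Finite.of_surjective (Prod.snd : A × B → B) Prod.snd_surjective
  obtain ⟨f, hf, hk⟩ := h
  -- the two quotients of `X`
  have e1 := (QuotientGroup.quotientKerEquivOfSurjective ((MonoidHom.fst A B).comp f) (by
    rw [MonoidHom.coe_comp]; exact Prod.fst_surjective.comp hf)).symm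
  have e2 := (QuotientGroup.quotientKerEquivOfSurjective ((MonoidHom.snd A B).comp f) (by
    rw [MonoidHom.coe_comp]; exact Prod.snd_surjective.comp hf)).symm
  exact ⟨_, inferInstance, _, inferInstance, h1.congr e1, h2.congr e1, h3.congr e2, h4.congr e2,
    Cov.congr ⟨f, hf, hk⟩ (e1.prodCongr e2)⟩

end univ

variable {G : Type u} [Group G] {I : Type*}

/-- **The hypotheses of THEOREM PAR in terms of the residues.** -/
structure Resid (U : Subgroup G) (E : I → Subgroup G) : Prop where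
  isP : IsPGroup 2 U
  U_le : ∀ i, U ≤ E i
  gen : ⨆ i, E i = ⊤
  /-- `E i` is generated by the conjugates of `U` -/
  cl : ∀ i, ∀ N : Subgroup G, (∀ e ∈ E i, ∀ u ∈ U, e * u * e⁻¹ ∈ N) → E i ≤ N
  inj : ∀ i j, i ≠ j → E i ≠ E j
  syl : ∀ i j, i ≠ j → ¬ 2 ∣ U.relIndex (E i ⊔ E j)
  node : ∀ i, NodeR (E i)
  pair : ∀ i j, i ≠ j → LieR (E i ⊔ E j) ∨ ProdR (E i ⊔ E j)
  ex : ∀ i, ∃ j, i ≠ j ∧ LieR (E i ⊔ E j)
  /-- if the residue is `L₃(4)`: a third node `k`, which forms a product pair with one of the two -/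
  sep : ∀ i j, i ≠ j → LieR (E i ⊔ E j) → LieRS (E i ⊔ E j) ∨
    (∃ k, k ≠ i ∧ k ≠ j ∧ ProdR (E i ⊔ E k) ∧ LieRF (E j ⊔ E k)) ∨
    (∃ k, k ≠ i ∧ k ≠ j ∧ ProdR (E j ⊔ E k) ∧ LieRF (E i ⊔ E k)) ∨
      SepG 2 (Bo U E) U (Pa U E i) (Pa U E j) ∨ SepG 2 (Bo U E) U (Pa U E j) (Pa U E i)

/-- a node is neither a Lie residue nor a product -/
theorem NodeR.not_lieR [Finite G] {X : Subgroup G} (h : NodeR X) : ¬ LieR X := by
  rintro ⟨F, _, hF, ⟨Q, UF, s, t, K, -⟩, hX⟩
  obtain ⟨A, _, hA, hT, hXA⟩ := h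
  have : Finite A := hXA.finite
  have : Finite F := hX.finite
  have hNS : NS F := by
    refine ⟨hF, ?_⟩
    by_contra hcon
    push Not at hcon
    exact K.irr (by rw [hcon s t]; simp)
  obtain ⟨e⟩ := hXA.equiv hX hA.noTwo hNS.noTwo hA.noCen hNS.noCen
  exact K.not_twoGen (hT.congr e)

theorem NodeR.not_prodR [Finite G] {X : Subgroup G} (h : NodeR X) : ¬ ProdR X := by
  rintro ⟨B, _, C, _, hB, -, hC, -, hX⟩
  obtain ⟨A, _, hA, hT, hXA⟩ := h
  have : Finite A := hXA.finite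
  have : Finite (B × C) := hX.finite
  have : Finite B := Finite.of_surjective (Prod.fst : B × C → B) Prod.fst_surjective
  have : Finite C := Finite.of_surjective (Prod.snd : B × C → C) Prod.snd_surjective
  obtain ⟨e⟩ := hXA.equiv hX hA.noTwo (hB.noTwo.prod hC.noTwo) hA.noCen (hB.noCen.prod hC.noCen)
  exact NS.not_prod hB.nontrivial hC.nontrivial (hA.congr e)

namespace Resid

variable [Finite G] {U : Subgroup G} {E : I → Subgroup G} (D : Resid U E)

include D

theorem syl_node (i : I) : ¬ 2 ∣ U.relIndex (E i) := by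
  obtain ⟨j, hij, -⟩ := D.ex i
  intro h
  apply D.syl i j hij
  rw [← relIndex_mul_relIndex U (E i) (E i ⊔ E j) (D.U_le i) le_sup_left]
  exact Dvd.dvd.mul_right h _

theorem not (i : I) : ¬ E i ≤ normalizer (U : Set G) := by
  obtain ⟨A, _, hA, -, h⟩ := D.node i
  exact not_norm_of_cov hA D.isP (D.cl i) h

theorem not_le {i j : I} (hij : i ≠ j) : ¬ E i ≤ E j := by
  intro h
  obtain ⟨A, _, hA, hT, hc⟩ := D.node j
  exact D.inj i j hij (eq_of_le_of_cov hT D.isP (D.U_le i) h (D.syl_node j) (D.cl i) (D.cl j) (D.not i) hc)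

theorem quasi {i j : I} (hij : i ≠ j) {F : Type*} [Group F] (hF : NoTwo F) (h : Cov (E i ⊔ E j) F) :
    ∃ f : ↥(E i ⊔ E j) →* F, Quasi U (E i) (E j) (o2 (E i ⊔ E j)) f :=
  quasi_of_cov hF (D.U_le i) (D.U_le j) D.isP (D.syl i j hij) (D.cl i) (D.cl j) (D.not i) (D.not j)
    (D.not_le hij.symm) (D.not_le hij) h

theorem lieP {i j : I} (hij : i ≠ j) (h : LieR (E i ⊔ E j)) : LieP U (E i) (E j) := by
  obtain ⟨F, _, hF, hK, hc⟩ := h
  have : Finite F := hc.finite
  obtain ⟨Q, UE, s, t, K, T⟩ := hK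
  obtain ⟨f, hf⟩ := D.quasi hij K.noTwo hc
  exact hf.lieP ⟨Q, UE, s, t, K, T⟩

theorem lieS {i j : I} (hij : i ≠ j) (h : LieRS (E i ⊔ E j)) : LieS U (E i) (E j) := by
  obtain ⟨F, _, hF, hK, hc⟩ := h
  have : Finite F := hc.finite
  obtain ⟨Q, UE, s, t, K, T⟩ := hK
  obtain ⟨f, hf⟩ := D.quasi hij K.noTwo hc
  exact hf.lieS ⟨Q, UE, s, t, K, T⟩

theorem lieF {i j : I} (hij : i ≠ j) (h : LieRF (E i ⊔ E j)) : LieF U (E i) (E j) := by
  obtain ⟨F, _, hF, hK, hc⟩ := h
  have : Finite F := hc.finite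
  obtain ⟨Q, UE, s, t, K, T⟩ := hK
  obtain ⟨f, hf⟩ := D.quasi hij K.noTwo hc
  exact hf.lieF ⟨Q, UE, s, t, K, T⟩

theorem perf (i : I) : E i ≤ ⁅oddGen (E i), oddGen (E i)⁆ ⊔ o2 (E i) := by
  obtain ⟨A, _, hA, -, h⟩ := D.node i
  exact perf_of_cov hA (D.U_le i) D.isP (D.syl_node i) (D.cl i) h

theorem prodP {i j : I} (hij : i ≠ j) (h : ProdR (E i ⊔ E j)) : ProdP U (E i) (E j) (oddGen (E i)) (oddGen (E j)) := by
  obtain ⟨A, _, B, _, hA, hTA, hB, hTB, hc⟩ := h
  have : Finite (A × B) := hc.finite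
  have : Finite A := Finite.of_surjective (Prod.fst : A × B → A) Prod.fst_surjective
  have : Finite B := Finite.of_surjective (Prod.snd : A × B → B) Prod.snd_surjective
  have := hA.nontrivial
  have := hB.nontrivial
  obtain ⟨f, hf⟩ := D.quasi hij (hA.noTwo.prod hB.noTwo) hc
  exact hf.prodP hTA hTB hA.noTwo hB.noTwo (D.perf i)

theorem el (i : I) : ∀ x ∈ E i, ∃ l ∈ oddGen (E i), ∃ u ∈ U, x = l * u := by
  intro x hx
  rw [← sup_oddGen (D.U_le i) D.isP (D.syl_node i), sup_comm] at hx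
  exact Solvable.Glauberman.exists_mul_of_mem_sup U (oddGen (E i)) ((D.U_le i).trans (le_normalizer_oddGen (E i))) hx

theorem not_prodR {i j : I} (hij : i ≠ j) (h : LieP U (E i) (E j)) : ¬ ProdR (E i ⊔ E j) := fun h1 =>
  h.not_prodP (oddGen_le (E i)) (oddGen_le (E j)) (D.el i) (D.el j) (D.prodP hij h1)

/-- **The hypothesis of THEOREM PAR.** -/
theorem psys : PSys U E (fun i => oddGen (E i)) (fun i => o2 (E i)) where
  isP := D.isP
  U_le := D.U_le
  gen := D.gen
  L_le := fun i => oddGen_le (E i)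
  EL := D.el
  L_norm := fun i => normalizer_le_normalizer_oddGen (E i)
  R_le := fun i => o2_le_of_sylow D.isP (D.syl_node i)
  R_norm := fun i => le_normalizer_o2 (E i)
  perf := fun i => (D.U_le i).trans (D.perf i)
  pair := fun i j hij => (D.pair i j hij).imp (D.lieP hij) (D.prodP hij)
  ex := fun i => by
    obtain ⟨j, hij, h⟩ := D.ex i
    exact ⟨j, hij, D.lieP hij h⟩
  sep := by
    intro i j hij hL
    have h1 : LieR (E i ⊔ E j) := (D.pair i j hij).resolve_right (D.not_prodR hij hL)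
    rcases D.sep i j hij h1 with h | ⟨k, hki, hkj, h2, h3⟩ | ⟨k, hki, hkj, h2, h3⟩ | h | h
    · exact Or.inl (D.lieS hij h)
    · exact Or.inr (Or.inl ⟨k, hki, hkj, D.prodP hki.symm h2, D.lieF hkj.symm h3⟩)
    · exact Or.inr (Or.inr (Or.inl ⟨k, hkj, hki, D.prodP hkj.symm h2, D.lieF hki.symm h3⟩))
    · exact Or.inr (Or.inr (Or.inr (Or.inl h)))
    · exact Or.inr (Or.inr (Or.inr (Or.inr h)))

/-- **THEOREM PAR, from the residues.** -/
theorem isLieType [IsSimpleGroup G] (h3 : 3 ≤ Nat.card I)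
    (hconn : ∀ J : Set I, J.Nonempty → Jᶜ.Nonempty → ∃ i ∈ J, ∃ j ∈ Jᶜ, LieR (E i ⊔ E j)) :
    Cfsg.IsPSL G ∨ Cfsg.IsPSp G ∨ Cfsg.IsPSU G ∨ Cfsg.IsPOmegaOdd G ∨ Cfsg.IsPOmegaPlus G ∨ Cfsg.IsPOmegaMinus G ∨
      Cfsg.IsExceptionalLieType G := by
  refine D.psys.isLieType h3 fun J hJ hJ' => ?_
  obtain ⟨i, hi, j, hj, h⟩ := hconn J hJ hJ'
  exact ⟨i, hi, j, hj, D.lieP (fun h => hj (h ▸ hi)) h⟩

end Resid

end Cfsg.Agent.ParSys
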