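import Cfsg.Agent.ParSys.Restrict
import Cfsg.Agent.ParSys.PSysMain

/-!
# THEOREM PAR (final form) for a subgroup

`PSysW U E L R`: the hypotheses `PSys` without the hypothesis that the `E i` generate `G`.  The subgroup
`X = ⨆ i, E i` has a (B,N)-pair with Borel subgroup `Bo U E` (`PSysW.exists_bnPair`).
-/

set_option autoImplicit false

universe u

namespace Cfsg.Agent.ParSys

open Subgroup

variable {G : Type u} [Group G] {I : Type*}

section transfer

variable {X : Subgroup G}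

theorem iSup_subgroupOf' {A : I → Subgroup G} (hA : ∀ i, A i ≤ X) :
    (⨆ i, A i).subgroupOf X = ⨆ i, (A i).subgroupOf X := by
  apply Subgroup.map_injective X.subtype_injective
  rw [Subgroup.map_iSup, Subgroup.subgroupOf_map_subtype, inf_eq_left.2 (iSup_le hA)]
  have h1 : ∀ i, ((A i).subgroupOf X).map X.subtype = A i := fun i => by
    rw [Subgroup.subgroupOf_map_subtype, inf_eq_left]
    exact hA i
  simp_rw [h1]

/-- normalisers in `X` -/
theorem mem_normalizer_subgroupOf {A : Subgroup G} (hA : A ≤ X) {x : ↥X} :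
    x ∈ normalizer ((A.subgroupOf X : Subgroup ↥X) : Set ↥X) ↔ (x : G) ∈ normalizer (A : Set G) := by
  constructor
  · intro h
    have h1 : ∀ z : ↥X, z ∈ normalizer ((A.subgroupOf X : Subgroup ↥X) : Set ↥X) → ∀ y ∈ A,
        (z : G) * y * (z : G)⁻¹ ∈ A := by
      intro z hz y hy
      exact (Subgroup.mem_normalizer_iff.mp hz ⟨y, hA hy⟩).mp hy
    rw [Subgroup.mem_normalizer_iff]
    intro y
    refine ⟨h1 x h y, fun hy => ?_⟩
    have h2 := h1 x⁻¹ (inv_mem h) _ hy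
    have e : ((x⁻¹ : ↥X) : G) * ((x : G) * y * (x : G)⁻¹) * ((x⁻¹ : ↥X) : G)⁻¹ = y := by push_cast; group
    rwa [e] at h2
  · intro h
    rw [Subgroup.mem_normalizer_iff] at h ⊢
    intro y
    exact h (y : G)

theorem Tn_subgroupOf {U E : Subgroup G} (hU : U ≤ X) :
    Tn (U.subgroupOf X) (E.subgroupOf X) = (Tn U E).subgroupOf X := by
  ext x
  show (x ∈ E.subgroupOf X ∧ x ∈ normalizer ((U.subgroupOf X : Subgroup ↥X) : Set ↥X)) ↔
    ((x : G) ∈ E ∧ (x : G) ∈ normalizer (U : Set G))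
  rw [mem_normalizer_subgroupOf hU, Subgroup.mem_subgroupOf]

theorem Bo_subgroupOf {U : Subgroup G} {E : I → Subgroup G} (hU : U ≤ X) (hE : ∀ i, E i ≤ X) :
    Bo (U.subgroupOf X) (fun i => (E i).subgroupOf X) = (Bo U E).subgroupOf X := by
  unfold Bo
  rw [iSup_subgroupOf' (A := fun i => Tn U (E i)) (fun i => inf_le_left.trans (hE i))]
  simp_rw [Tn_subgroupOf hU]

theorem Bo_le_of {U : Subgroup G} {E : I → Subgroup G} (hE : ∀ i, E i ≤ X) : Bo U E ≤ X :=
  iSup_le fun i => inf_le_left.trans (hE i)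

theorem Pa_subgroupOf {U : Subgroup G} {E : I → Subgroup G} (hU : U ≤ X) (hE : ∀ i, E i ≤ X) (i : I) :
    Pa (U.subgroupOf X) (fun i => (E i).subgroupOf X) i = (Pa U E i).subgroupOf X := by
  unfold Pa
  rw [Bo_subgroupOf hU hE, Subgroup.subgroupOf_sup (Bo_le_of hE) (hE i)]

theorem sepG_subgroupOf {p : ℕ} {B U Pi Pj : Subgroup G} (hB : B ≤ X) (hi : Pi ≤ X) (hj : Pj ≤ X)
    (h : SepG p B U Pi Pj) :
    SepG p (B.subgroupOf X) (U.subgroupOf X) (Pi.subgroupOf X) (Pj.subgroupOf X) := by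
  obtain ⟨b, hb, ⟨k, hk, hbk⟩, h1, h2⟩ := h
  refine ⟨⟨b, hB hb⟩, hb, ⟨k, hk, Subtype.ext hbk⟩, fun u hu => (mem_Qk_subgroupOf hi).2 (h1 (u : G) hu),
    fun u hu h3 => (mem_Qk_subgroupOf hj).2 (h2 (u : G) hu ((mem_Qk_subgroupOf hj).1 h3))⟩

/-- the inclusion of the pair -/
def subPair (X Ei Ej : Subgroup G) : ↥(Ei.subgroupOf X ⊔ Ej.subgroupOf X) →* ↥(Ei ⊔ Ej) where
  toFun x := ⟨((x : ↥X) : G), by
    have h1 : Ei.subgroupOf X ⊔ Ej.subgroupOf X ≤ (Ei ⊔ Ej).subgroupOf X :=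
      sup_le (fun _ hx => (le_sup_left : Ei ≤ _) hx) (fun _ hx => (le_sup_right : Ej ≤ _) hx)
    exact h1 x.2⟩
  map_one' := rfl
  map_mul' _ _ := rfl

theorem coe_subPair {Ei Ej : Subgroup G} (x : ↥(Ei.subgroupOf X ⊔ Ej.subgroupOf X)) :
    ((subPair X Ei Ej x : ↥(Ei ⊔ Ej)) : G) = ((x : ↥X) : G) := rfl

theorem subPair_surjective {Ei Ej : Subgroup G} (hi : Ei ≤ X) (hj : Ej ≤ X) (x : ↥(Ei ⊔ Ej)) :
    ∃ y, subPair X Ei Ej y = x ∧ ((y : ↥X) : G) = x := by
  have hx : (x : G) ∈ X := (sup_le hi hj) x.2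
  have h1 : (⟨x, hx⟩ : ↥X) ∈ Ei.subgroupOf X ⊔ Ej.subgroupOf X := by
    rw [← Subgroup.subgroupOf_sup hi hj]
    exact x.2
  exact ⟨⟨⟨x, hx⟩, h1⟩, Subtype.ext rfl, rfl⟩

theorem gExt_subgroupOf {F : Type*} [Group F] {U Ei Ej O : Subgroup G} {ψ : ↥(Ei ⊔ Ej) →* F} {Q : Cfsg.BNPair F}
    {UF : Subgroup F} {s t : F} (hi : Ei ≤ X) (hj : Ej ≤ X) (D : GExt U Ei Ej O ψ Q UF s t) :
    GExt (U.subgroupOf X) (Ei.subgroupOf X) (Ej.subgroupOf X) (O.subgroupOf X) (ψ.comp (subPair X Ei Ej)) Q UF s t where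
  K := D.K
  T := D.T
  surj := fun e => by
    obtain ⟨x, rfl⟩ := D.surj e
    obtain ⟨y, hy, -⟩ := subPair_surjective hi hj x
    exact ⟨y, by rw [MonoidHom.comp_apply, hy]⟩
  Ui := fun _ hx => D.Ui hx
  Uj := fun _ hx => D.Uj hx
  isP := D.isP.comap_of_injective X.subtype X.subtype_injective
  O_le := fun _ hx => D.O_le hx
  O_norm := by
    rw [← Subgroup.subgroupOf_sup hi hj]
    exact subgroupOf_le_normalizer D.O_norm
  O_ker := fun x hx => D.O_ker (subPair X Ei Ej x) hx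
  central := fun z hz x => D.central (subPair X Ei Ej z) hz (subPair X Ei Ej x)
  cop := fun z hz => D.cop (subPair X Ei Ej z) hz
  img := by
    intro e
    rw [D.img]
    constructor
    · rintro ⟨u, hu, rfl⟩
      obtain ⟨y, hy, hy'⟩ := subPair_surjective hi hj u
      refine ⟨y, ?_, by rw [MonoidHom.comp_apply, hy]⟩
      rw [Subgroup.mem_subgroupOf, hy']
      exact hu
    · rintro ⟨u, hu, rfl⟩
      exact ⟨subPair X Ei Ej u, hu, rfl⟩
  geni := by
    intro N hN x hx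
    have h1 := D.geni (N.map X.subtype) (by
      intro e he u hu
      exact coe_mem_map.2 (hN ⟨e, hi he⟩ he ⟨u, hi (D.Ui hu)⟩ hu)) hx
    exact coe_mem_map.1 h1
  genj := by
    intro N hN x hx
    have h1 := D.genj (N.map X.subtype) (by
      intro e he u hu
      exact coe_mem_map.2 (hN ⟨e, hj he⟩ he ⟨u, hj (D.Uj hu)⟩ hu)) hx
    exact coe_mem_map.1 h1
  imi := fun x hx => D.imi _ hx
  imj := fun x hx => D.imj _ hx
  noti := by
    obtain ⟨x, hx, h⟩ := D.noti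
    obtain ⟨y, hy, hy'⟩ := subPair_surjective hi hj x
    refine ⟨y, ?_, ?_⟩
    · rw [Subgroup.mem_subgroupOf, hy']
      exact hx
    · rw [MonoidHom.comp_apply, hy]
      exact h
  notj := by
    obtain ⟨x, hx, h⟩ := D.notj
    obtain ⟨y, hy, hy'⟩ := subPair_surjective hi hj x
    refine ⟨y, ?_, ?_⟩
    · rw [Subgroup.mem_subgroupOf, hy']
      exact hx
    · rw [MonoidHom.comp_apply, hy]
      exact h

theorem lieX_subgroupOf {Y : ∀ (F : Type u) [Group F] (_ : Cfsg.BNPair F) (_ : Subgroup F) (_ _ : F), Prop}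
    {U Ei Ej : Subgroup G} (hi : Ei ≤ X) (hj : Ej ≤ X) (h : LieX Y U Ei Ej) :
    LieX Y (U.subgroupOf X) (Ei.subgroupOf X) (Ej.subgroupOf X) := by
  obtain ⟨O, F, _, _, ψ, Q, UF, s, t, hG, hY⟩ := h
  exact ⟨O.subgroupOf X, F, inferInstance, inferInstance, _, Q, UF, s, t, gExt_subgroupOf hi hj hG, hY⟩

/-- the inverse of `subPair` -/
def pairSub {X Ei Ej : Subgroup G} (hi : Ei ≤ X) (hj : Ej ≤ X) : ↥(Ei ⊔ Ej) →* ↥(Ei.subgroupOf X ⊔ Ej.subgroupOf X) where
  toFun x := ⟨⟨(x : G), (sup_le hi hj) x.2⟩, by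
    rw [← Subgroup.subgroupOf_sup hi hj]
    exact x.2⟩
  map_one' := rfl
  map_mul' _ _ := rfl

theorem gExt_of_subgroupOf {F : Type*} [Group F] {U Ei Ej : Subgroup G} {O : Subgroup ↥X}
    {ψ : ↥(Ei.subgroupOf X ⊔ Ej.subgroupOf X) →* F} {Q : Cfsg.BNPair F}
    {UF : Subgroup F} {s t : F} (hU : U ≤ X) (hi : Ei ≤ X) (hj : Ej ≤ X)
    (D : GExt (U.subgroupOf X) (Ei.subgroupOf X) (Ej.subgroupOf X) O ψ Q UF s t) :
    GExt U Ei Ej (O.map X.subtype) (ψ.comp (pairSub hi hj)) Q UF s t where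
  K := D.K
  T := D.T
  surj := fun e => by
    obtain ⟨x, rfl⟩ := D.surj e
    exact ⟨subPair X Ei Ej x, rfl⟩
  Ui := fun x hx => D.Ui (x := ⟨x, hU hx⟩) hx
  Uj := fun x hx => D.Uj (x := ⟨x, hU hx⟩) hx
  isP := by
    have h1 := D.isP.map X.subtype
    rwa [Subgroup.subgroupOf_map_subtype, inf_eq_left.2 hU] at h1
  O_le := map_le_of_le_subgroupOf D.O_le
  O_norm := le_normalizer_map (sup_le hi hj) (by rw [Subgroup.subgroupOf_sup hi hj]; exact D.O_norm)
  O_ker := fun x hx => by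
    obtain ⟨h, hx⟩ := mem_map_subtype.1 hx
    exact D.O_ker (pairSub hi hj x) hx
  central := fun z hz x => coe_mem_map.2 (D.central (pairSub hi hj z) hz (pairSub hi hj x))
  cop := fun z hz => by
    obtain ⟨k, hk, h⟩ := D.cop (pairSub hi hj z) hz
    exact ⟨k, hk, coe_mem_map.2 h⟩
  img := by
    intro e
    rw [D.img]
    constructor
    · rintro ⟨u, hu, rfl⟩
      exact ⟨subPair X Ei Ej u, hu, rfl⟩
    · rintro ⟨u, hu, rfl⟩
      exact ⟨pairSub hi hj u, hu, rfl⟩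
  geni := by
    intro N hN x hx
    exact D.geni (N.subgroupOf X) (fun e he u hu => hN (e : G) he (u : G) hu) (x := ⟨x, hi hx⟩) hx
  genj := by
    intro N hN x hx
    exact D.genj (N.subgroupOf X) (fun e he u hu => hN (e : G) he (u : G) hu) (x := ⟨x, hj hx⟩) hx
  imi := fun x hx => D.imi _ hx
  imj := fun x hx => D.imj _ hx
  noti := by
    obtain ⟨x, hx, h⟩ := D.noti
    exact ⟨subPair X Ei Ej x, hx, h⟩
  notj := by
    obtain ⟨x, hx, h⟩ := D.notj
    exact ⟨subPair X Ei Ej x, hx, h⟩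

theorem lieX_of_subgroupOf {Y : ∀ (F : Type u) [Group F] (_ : Cfsg.BNPair F) (_ : Subgroup F) (_ _ : F), Prop}
    {U Ei Ej : Subgroup G} (hU : U ≤ X) (hi : Ei ≤ X) (hj : Ej ≤ X)
    (h : LieX Y (U.subgroupOf X) (Ei.subgroupOf X) (Ej.subgroupOf X)) : LieX Y U Ei Ej := by
  obtain ⟨O, F, _, _, ψ, Q, UF, s, t, hG, hY⟩ := h
  exact ⟨O.map X.subtype, F, inferInstance, inferInstance, _, Q, UF, s, t, gExt_of_subgroupOf hU hi hj hG, hY⟩

theorem prodP_subgroupOf {U Ei Ej Li Lj : Subgroup G} (h : ProdP U Ei Ej Li Lj) :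
    ProdP (U.subgroupOf X) (Ei.subgroupOf X) (Ej.subgroupOf X) (Li.subgroupOf X) (Lj.subgroupOf X) := by
  obtain ⟨O, h1, h2, h3, h4⟩ := h
  exact ⟨O.subgroupOf X, fun _ hx => h1 hx, subgroupOf_le_normalizer h2, subgroupOf_le_normalizer h3,
    fun x hx y hy => h4 (x : G) hx (y : G) hy⟩

theorem third_subgroupOf {U : Subgroup G} {E L : I → Subgroup G} (hE : ∀ i, E i ≤ X) {i j : I}
    (h : Third U E L i j) :
    Third (U.subgroupOf X) (fun i => (E i).subgroupOf X) (fun i => (L i).subgroupOf X) i j := by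
  obtain ⟨k, h1, h2, h3, h4⟩ := h
  exact ⟨k, h1, h2, prodP_subgroupOf h3, lieX_subgroupOf (hE j) (hE k) h4⟩

end transfer

/-- The hypotheses of THEOREM PAR, without generation. -/
structure PSysW (U : Subgroup G) (E L R : I → Subgroup G) : Prop where
  isP : IsPGroup 2 U
  U_le : ∀ i, U ≤ E i
  L_le : ∀ i, L i ≤ E i
  EL : ∀ i, ∀ x ∈ E i, ∃ l ∈ L i, ∃ u ∈ U, x = l * u
  L_norm : ∀ i, normalizer (E i : Set G) ≤ normalizer (L i : Set G)
  R_le : ∀ i, R i ≤ U
  R_norm : ∀ i, E i ≤ normalizer (R i : Set G)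
  perf : ∀ i, U ≤ ⁅L i, L i⁆ ⊔ R i
  pair : ∀ i j, i ≠ j → LieP U (E i) (E j) ∨ ProdP U (E i) (E j) (L i) (L j)
  ex : ∀ i, ∃ j, i ≠ j ∧ LieP U (E i) (E j)
  /-- the tori separate the nodes of a Lie pair: automatic if the residue is not `L₃(4)`, otherwise with a third node -/
  sep : ∀ i j, i ≠ j → LieP U (E i) (E j) →
    LieS U (E i) (E j) ∨ Third U E L i j ∨ Third U E L j i ∨
      SepG 2 (Bo U E) U (Pa U E i) (Pa U E j) ∨ SepG 2 (Bo U E) U (Pa U E j) (Pa U E i)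

namespace PSysW

variable {U : Subgroup G} {E L R : I → Subgroup G} (D : PSysW U E L R)

include D

theorem pSys (gen : ⨆ i, E i = ⊤) : PSys U E L R where
  isP := D.isP
  U_le := D.U_le
  gen := gen
  L_le := D.L_le
  EL := D.EL
  L_norm := D.L_norm
  R_le := D.R_le
  R_norm := D.R_norm
  perf := D.perf
  pair := D.pair
  ex := D.ex
  sep := D.sep

theorem pSys_of_eq {X : Subgroup G} (hX : ⨆ i, E i = X) :
    PSys (U.subgroupOf X) (fun i => (E i).subgroupOf X) (fun i => (L i).subgroupOf X)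
      (fun i => (R i).subgroupOf X) := by
  have hE : ∀ i, E i ≤ X := fun i => (le_iSup E i).trans hX.le
  have hU : ∀ _ : I, U ≤ X := fun i => (D.U_le i).trans (hE i)
  exact {
    isP := D.isP.comap_of_injective X.subtype X.subtype_injective
    U_le := fun i _ hx => D.U_le i hx
    gen := iSup_subgroupOf hX
    L_le := fun i _ hx => D.L_le i hx
    EL := by
      intro i x hx
      obtain ⟨l, hl, u, hu, e⟩ := D.EL i (x : G) hx
      exact ⟨⟨l, hE i (D.L_le i hl)⟩, hl, ⟨u, hU i hu⟩, hu, Subtype.ext e⟩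
    L_norm := by
      intro i x hx
      exact (mem_normalizer_subgroupOf ((D.L_le i).trans (hE i))).2
        (D.L_norm i ((mem_normalizer_subgroupOf (hE i)).1 hx))
    R_le := fun i _ hx => D.R_le i hx
    R_norm := fun i => subgroupOf_le_normalizer (D.R_norm i)
    perf := by
      intro i x hx
      have h1 := D.perf i (Subgroup.mem_subgroupOf.1 hx)
      have hL : ((L i).subgroupOf X).map X.subtype = L i := by
        rw [Subgroup.subgroupOf_map_subtype, inf_eq_left]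
        exact (D.L_le i).trans (hE i)
      have hR : ((R i).subgroupOf X).map X.subtype = R i := by
        rw [Subgroup.subgroupOf_map_subtype, inf_eq_left]
        exact (D.R_le i).trans (hU i)
      have h2 : (⁅(L i).subgroupOf X, (L i).subgroupOf X⁆ ⊔ (R i).subgroupOf X).map X.subtype =
          ⁅L i, L i⁆ ⊔ R i := by
        rw [Subgroup.map_sup, Subgroup.map_commutator, hL, hR]
      rw [← h2] at h1
      exact coe_mem_map.1 h1
    pair := fun i j hij => (D.pair i j hij).imp (lieX_subgroupOf (hE i) (hE j)) prodP_subgroupOf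
    ex := by
      intro i
      obtain ⟨j, hij, h⟩ := D.ex i
      exact ⟨j, hij, lieX_subgroupOf (hE i) (hE j) h⟩
    sep := by
      intro i j hij h
      have hB : Bo U E ≤ X := Bo_le_of hE
      have hPa : ∀ k, Pa U E k ≤ X := fun k => sup_le hB (hE k)
      rcases D.sep i j hij (lieX_of_subgroupOf (hU i) (hE i) (hE j) h) with h1 | h1 | h1 | h1 | h1
      · exact Or.inl (lieX_subgroupOf (hE i) (hE j) h1)
      · exact Or.inr (Or.inl (third_subgroupOf hE h1))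
      · exact Or.inr (Or.inr (Or.inl (third_subgroupOf hE h1)))
      · refine Or.inr (Or.inr (Or.inr (Or.inl ?_)))
        rw [Bo_subgroupOf (hU i) hE, Pa_subgroupOf (hU i) hE i, Pa_subgroupOf (hU i) hE j]
        exact sepG_subgroupOf hB (hPa i) (hPa j) h1
      · refine Or.inr (Or.inr (Or.inr (Or.inr ?_)))
        rw [Bo_subgroupOf (hU i) hE, Pa_subgroupOf (hU i) hE i, Pa_subgroupOf (hU i) hE j]
        exact sepG_subgroupOf hB (hPa j) (hPa i) h1 }

/-- **THEOREM PAR for a subgroup**: `X = ⨆ i, E i` has a (B,N)-pair with Borel subgroup `Bo U E`, of rank `|I|`,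
irreducible if the graph of the Lie pairs is connected. -/
theorem exists_bnPair [Nonempty I] [Finite G] {X : Subgroup G} (hX : ⨆ i, E i = X) :
    ∃ Q : Cfsg.BNPair ↥X, Q.B = (Bo U E).subgroupOf X ∧ Q.rank = Nat.card I ∧
    ((∀ J : Set I, J.Nonempty → Jᶜ.Nonempty → ∃ i ∈ J, ∃ j ∈ Jᶜ, LieP U (E i) (E j)) → Q.Irreducible) := by
  have hE : ∀ i, E i ≤ X := fun i => (le_iSup E i).trans hX.le
  have hU : U ≤ X := (D.U_le (Classical.arbitrary I)).trans (hE _)
  obtain ⟨Q, h1, h2, h3⟩ := (D.pSys_of_eq hX).exists_bnPair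
  refine ⟨Q, by rw [h1, Bo_subgroupOf hU hE], h2, fun h => h3 fun J hJ hJc => ?_⟩
  obtain ⟨i, hi, j, hj, hL⟩ := h J hJ hJc
  exact ⟨i, hi, j, hj, lieX_subgroupOf (hE i) (hE j) hL⟩

end PSysW

end Cfsg.Agent.ParSys
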