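import Cfsg.Agent.ParSys.RootCount

/-!
# Positive roots of type `A`, `B`, `D` in `ε`-coordinates

`TypeA/B/D M` describe the Coxeter matrices on `Fin n` (Mathlib's `CoxeterMatrix.D` is not of type `D_n`).
-/

set_option autoImplicit false
set_option linter.unusedSectionVars false

namespace Cfsg.Agent.ParSys.RootEps

open Cfsg.Agent.ChevalleyStructure.CoxeterGeom Cfsg.Agent.Tits.Core Cfsg.Agent.ParSys.RootCount

/-! ### General construction -/

section general

variable {B : Type*} [Fintype B] [DecidableEq B] {L : Type*} [AddCommGroup L] (a : B → L) (c : B → L →+ ℤ)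

/-- the Cartan matrix of a system of simple roots and coroots -/
def car (i j : B) : ℤ := c i (a j)

/-- the linear combination of simple roots -/
def lin : (B → ℤ) →+ L where
  toFun v := ∑ i, v i • a i
  map_zero' := by simp
  map_add' u v := by simp [add_smul, Finset.sum_add_distrib]

theorem lin_apply (v : B → ℤ) : lin a v = ∑ i, v i • a i := rfl

theorem lin_single (i : B) (x : ℤ) : lin a (Pi.single i x) = x • a i := by
  rw [lin_apply, Finset.sum_eq_single i]
  · rw [Pi.single_eq_same]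
  · intro j _ hj
    rw [Pi.single_eq_of_ne hj, zero_smul]
  · intro h; exact absurd (Finset.mem_univ i) h

/-- the reflection -/
def rho (i : B) (x : L) : L := x - c i x • a i

theorem rho_add (i : B) (x y : L) : rho a c i (x + y) = rho a c i x + rho a c i y := by
  unfold rho; rw [map_add, add_smul]; abel

theorem rho_neg (i : B) (x : L) : rho a c i (-x) = - rho a c i x := by
  unfold rho; rw [map_neg, neg_smul]; abel

theorem rho_sub (i : B) (x y : L) : rho a c i (x - y) = rho a c i x - rho a c i y := by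
  rw [sub_eq_add_neg, rho_add, rho_neg, ← sub_eq_add_neg]

theorem lin_refl (i : B) (v : B → ℤ) : lin a (refl (car a c) i v) = rho a c i (lin a v) := by
  rw [refl_apply, map_sub, lin_single]
  unfold rho
  congr 2
  unfold pairing car
  rw [lin_apply, map_sum]
  exact Finset.sum_congr rfl fun j _ => by rw [map_zsmul, smul_eq_mul, mul_comm]

/-- the cone of the simple roots -/
def cone : AddSubmonoid L := AddSubmonoid.closure (Set.range a)

theorem mem_cone (i : B) : a i ∈ cone a := AddSubmonoid.subset_closure ⟨i, rfl⟩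

theorem exists_of_cone {x : L} (hx : x ∈ cone a) : ∃ v, 0 ≤ v ∧ lin a v = x := by
  induction hx using AddSubmonoid.closure_induction with
  | mem x hx =>
    obtain ⟨i, rfl⟩ := hx
    exact ⟨Pi.single i 1, Pi.single_nonneg.2 zero_le_one, by rw [lin_single, one_smul]⟩
  | zero => exact ⟨0, le_rfl, map_zero _⟩
  | add x y _ _ hx hy =>
    obtain ⟨u, hu, rfl⟩ := hx
    obtain ⟨v, hv, rfl⟩ := hy
    exact ⟨u + v, add_nonneg hu hv, map_add _ _ _⟩

theorem lin_injective (ω : B → L →+ ℤ) (h0 : ∀ i j, i ≠ j → ω j (a i) = 0) (h1 : ∀ j, ω j (a j) ≠ 0) :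
    Function.Injective (lin a) := by
  rw [injective_iff_map_eq_zero]
  intro v hv
  funext j
  have h2 := congrArg (ω j) hv
  rw [lin_apply, map_sum, map_zero, Finset.sum_eq_single j] at h2
  · rw [map_zsmul, smul_eq_mul] at h2
    exact (mul_eq_zero.1 h2).resolve_right (h1 j)
  · intro i _ hij
    rw [map_zsmul, h0 i j hij, smul_zero]
  · intro h; exact absurd (Finset.mem_univ j) h

theorem roots_mk {Φ : Finset L} (ω : B → L →+ ℤ) (h0 : ∀ i j, i ≠ j → ω j (a i) = 0)
    (h1 : ∀ j, ω j (a j) ≠ 0) (hs : ∀ i, a i ∈ Φ) (hc : ∀ α ∈ Φ, α ∈ cone a) (hne : (0 : L) ∉ Φ)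
    (hp : ∀ i, ∀ α ∈ Φ, α ≠ a i → rho a c i α ∈ Φ) : Roots (car a c) (lin a) (rho a c) Φ where
  inj := lin_injective a ω h0 h1
  comm := lin_refl a c
  simple_mem i := by rw [lin_single, one_smul]; exact hs i
  pos α hα := exists_of_cone a (hc α hα)
  ne := hne
  perm i α hα hn := hp i α hα (by rwa [lin_single, one_smul] at hn)

end general

/-! ### The lattice -/

/-- the vector `ε_k` -/
def E (k : ℕ) : ℕ → ℤ := Pi.single k 1

theorem E_apply (k i : ℕ) : E k i = if i = k then 1 else 0 := Pi.single_apply k 1 i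

/-- coordinate -/
def co (k : ℕ) : (ℕ → ℤ) →+ ℤ := Pi.evalAddMonoidHom (fun _ => ℤ) k

theorem co_apply (k : ℕ) (x : ℕ → ℤ) : co k x = x k := rfl

/-- sum of the first coordinates -/
def S (j : ℕ) : (ℕ → ℤ) →+ ℤ := ∑ k ∈ Finset.range j, co k

theorem S_apply (j : ℕ) (x : ℕ → ℤ) : S j x = ∑ k ∈ Finset.range j, x k := by
  unfold S; rw [AddMonoidHom.finsetSum_apply]; rfl

theorem S_E (j k : ℕ) : S j (E k) = if k < j then 1 else 0 := by
  rw [S_apply]
  simp only [E_apply]
  rw [Finset.sum_ite_eq']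
  simp

theorem E_injective : Function.Injective E := by
  intro i j h
  by_contra hne
  have := congrFun h i
  rw [E_apply, E_apply, if_pos rfl, if_neg hne] at this
  exact one_ne_zero this

/-- pairs `i < j < n` -/
def pairs (n : ℕ) : Finset ((_ : ℕ) × ℕ) := (Finset.range n).sigma fun j => Finset.range j

theorem mem_pairs {n : ℕ} {x : (_ : ℕ) × ℕ} : x ∈ pairs n ↔ x.1 < n ∧ x.2 < x.1 := by
  unfold pairs; rw [Finset.mem_sigma, Finset.mem_range, Finset.mem_range]

theorem card_pairs (n : ℕ) : (pairs n).card = n * (n - 1) / 2 := by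
  unfold pairs
  rw [Finset.card_sigma]
  simp only [Finset.card_range]
  exact Finset.sum_range_id n

theorem card_pairs_two (n : ℕ) : (pairs n).card * 2 = n * (n - 1) := by
  unfold pairs
  rw [Finset.card_sigma]
  simp only [Finset.card_range]
  exact Finset.sum_range_id_mul_two n

section

open Classical

/-- `ε_i - ε_j`, `i < j < n` -/
noncomputable def minus (n : ℕ) : Finset (ℕ → ℤ) := (pairs n).image fun x => E x.2 - E x.1

/-- `ε_i + ε_j`, `i < j < n` -/
noncomputable def plus (n : ℕ) : Finset (ℕ → ℤ) := (pairs n).image fun x => E x.2 + E x.1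

/-- `ε_i`, `i < n` -/
noncomputable def short (n : ℕ) : Finset (ℕ → ℤ) := (Finset.range n).image E

theorem mem_minus {n : ℕ} {α : ℕ → ℤ} : α ∈ minus n ↔ ∃ i j, i < j ∧ j < n ∧ α = E i - E j := by
  unfold minus
  rw [Finset.mem_image]
  constructor
  · rintro ⟨x, hx, rfl⟩
    rw [mem_pairs] at hx
    exact ⟨_, _, hx.2, hx.1, rfl⟩
  · rintro ⟨i, j, h1, h2, rfl⟩
    exact ⟨⟨j, i⟩, mem_pairs.2 ⟨h2, h1⟩, rfl⟩

theorem mem_plus {n : ℕ} {α : ℕ → ℤ} : α ∈ plus n ↔ ∃ i j, i < j ∧ j < n ∧ α = E i + E j := by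
  unfold plus
  rw [Finset.mem_image]
  constructor
  · rintro ⟨x, hx, rfl⟩
    rw [mem_pairs] at hx
    exact ⟨_, _, hx.2, hx.1, rfl⟩
  · rintro ⟨i, j, h1, h2, rfl⟩
    exact ⟨⟨j, i⟩, mem_pairs.2 ⟨h2, h1⟩, rfl⟩

theorem mem_short {n : ℕ} {α : ℕ → ℤ} : α ∈ short n ↔ ∃ i, i < n ∧ α = E i := by
  unfold short
  rw [Finset.mem_image]
  constructor
  · rintro ⟨x, hx, rfl⟩
    exact ⟨x, Finset.mem_range.1 hx, rfl⟩
  · rintro ⟨i, h1, rfl⟩
    exact ⟨i, Finset.mem_range.2 h1, rfl⟩

theorem card_minus (n : ℕ) : (minus n).card = (pairs n).card := by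
  unfold minus
  apply Finset.card_image_of_injOn
  rintro ⟨j, i⟩ hx ⟨j', i'⟩ hy h
  have hx' := mem_pairs.1 (Finset.mem_coe.1 hx)
  have hy' := mem_pairs.1 (Finset.mem_coe.1 hy)
  have h : E i - E j = E i' - E j' := h
  simp only at hx' hy'
  have h1 := congrFun h i
  have h2 := congrFun h j
  simp only [Pi.sub_apply, E_apply, reduceIte] at h1 h2
  have e1 : i = i' := by
    by_contra hne
    split_ifs at h1 <;> omega
  have e2 : j = j' := by
    by_contra hne
    split_ifs at h2 <;> omega
  rw [e1, e2]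

theorem card_plus (n : ℕ) : (plus n).card = (pairs n).card := by
  unfold plus
  apply Finset.card_image_of_injOn
  rintro ⟨j, i⟩ hx ⟨j', i'⟩ hy h
  have hx' := mem_pairs.1 (Finset.mem_coe.1 hx)
  have hy' := mem_pairs.1 (Finset.mem_coe.1 hy)
  have h : E i + E j = E i' + E j' := h
  simp only at hx' hy'
  have h1 := congrFun h i
  have h2 := congrFun h j
  have h3 := congrFun h i'
  simp only [Pi.add_apply, E_apply, reduceIte] at h1 h2 h3
  have e1 : i = i' := by
    by_contra hne
    split_ifs at h1 h3 <;> omega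
  have e2 : j = j' := by
    by_contra hne
    split_ifs at h2 <;> omega
  rw [e1, e2]

theorem card_short (n : ℕ) : (short n).card = n := by
  unfold short
  rw [Finset.card_image_of_injective _ E_injective, Finset.card_range]

end

/-! ### Type A -/

section A

variable {n : ℕ}

def aA (i : Fin n) : ℕ → ℤ := E i - E (i + 1)
def cA (i : Fin n) : (ℕ → ℤ) →+ ℤ := co i - co (i + 1)

theorem cA_apply (i : Fin n) (x : ℕ → ℤ) : cA i x = x i - x (i + 1) := rfl

/-- type `A_n` -/
def TypeA (M : CoxeterMatrix (Fin n)) : Prop :=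
  ∀ i j : Fin n, i ≠ j → M i j = if (i : ℕ) + 1 = j ∨ (j : ℕ) + 1 = i then 3 else 2

theorem car_A (i j : Fin n) : car aA cA i j =
    if i = j then 2 else if (i : ℕ) + 1 = j ∨ (j : ℕ) + 1 = i then -1 else 0 := by
  unfold car
  rw [cA_apply]
  unfold aA
  simp only [Pi.sub_apply, E_apply, Fin.ext_iff]
  split_ifs <;> omega

theorem isCartan_A {M : CoxeterMatrix (Fin n)} (hM : TypeA M) : IsCartan M (car (aA (n := n)) cA) where
  diag i := by rw [car_A, if_pos rfl]
  rel i j hij := by
    rw [hM i j hij, car_A, car_A, if_neg hij, if_neg (Ne.symm hij)]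
    by_cases h : (i : ℕ) + 1 = j ∨ (j : ℕ) + 1 = i
    · rw [if_pos h, if_pos h, if_pos h.symm]; right; left; exact ⟨rfl, rfl, rfl⟩
    · rw [if_neg h, if_neg h, if_neg (fun h' => h h'.symm)]; left; exact ⟨rfl, rfl, rfl⟩

/-- the transposition reflection on `ε_j` -/
theorem rho_A (i : Fin n) (j : ℕ) : rho aA cA i (E j) =
    if j = i then E (i + 1) else if j = i + 1 then E i else E j := by
  unfold rho
  rw [cA_apply]
  unfold aA
  simp only [E_apply]
  by_cases h1 : j = i
  · subst h1
    rw [if_pos rfl, if_pos rfl, if_neg (by omega), sub_zero, one_smul]; abel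
  · by_cases h2 : j = i + 1
    · subst h2
      rw [if_neg (by omega), if_neg h1, if_pos rfl, if_pos rfl, zero_sub, neg_smul, one_smul]; abel
    · rw [if_neg h1, if_neg h2, if_neg (Ne.symm h1), if_neg (Ne.symm h2), sub_zero, zero_smul, sub_zero]

theorem cone_A {i j : ℕ} (hij : i < j) (hj : j ≤ n) : E i - E j ∈ cone (aA (n := n)) := by
  induction j with
  | zero => omega
  | succ j ih =>
    have h1 : E j - E (j + 1) ∈ cone (aA (n := n)) := mem_cone aA (⟨j, by omega⟩ : Fin n)
    rcases Nat.lt_or_ge i j with h | h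
    · have h2 := add_mem (ih h (by omega)) h1
      have e : E i - E j + (E j - E (j + 1)) = E i - E (j + 1) := by abel
      rwa [e] at h2
    · obtain rfl : i = j := by omega
      exact h1

theorem perm_A {i : Fin n} {a b : ℕ} (hab : a < b) (hb : b ≤ n) (hne : E a - E b ≠ aA i) :
    ∃ a' b', a' < b' ∧ b' ≤ n ∧ rho aA cA i (E a - E b) = E a' - E b' := by
  have hi := i.2
  have hne' : ¬ (a = i ∧ b = i + 1) := by
    rintro ⟨rfl, rfl⟩; exact hne rfl
  rw [rho_sub, rho_A, rho_A]
  by_cases h1 : a = i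
  · rw [if_pos h1, if_neg (by omega), if_neg (by omega)]
    exact ⟨_, _, by omega, hb, rfl⟩
  · rw [if_neg h1]
    by_cases h2 : a = i + 1
    · rw [if_pos h2, if_neg (by omega), if_neg (by omega)]
      exact ⟨_, _, by omega, hb, rfl⟩
    · rw [if_neg h2]
      by_cases h3 : b = i
      · rw [if_pos h3]
        exact ⟨_, _, by omega, by omega, rfl⟩
      · rw [if_neg h3]
        by_cases h4 : b = i + 1
        · rw [if_pos h4]
          exact ⟨_, _, by omega, by omega, rfl⟩
        · rw [if_neg h4]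
          exact ⟨_, _, hab, hb, rfl⟩

theorem sub_ne_zero' {a b : ℕ} (hab : a ≠ b) : E a - E b ≠ 0 := by
  intro h
  exact hab (E_injective (sub_eq_zero.1 h))

theorem add_ne_zero' (a b : ℕ) : E a + E b ≠ 0 := by
  intro h
  have := congrFun h a
  simp only [Pi.add_apply, E_apply, Pi.zero_apply] at this
  split_ifs at this <;> omega

theorem E_ne_zero (a : ℕ) : E a ≠ 0 := by
  intro h
  have := congrFun h a
  simp only [E_apply, Pi.zero_apply] at this
  split_ifs at this <;> omega

theorem roots_A : Roots (car (aA (n := n)) cA) (lin aA) (rho aA cA) (minus (n + 1)) := by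
  refine roots_mk aA cA (fun j => S (j + 1)) ?_ ?_ ?_ ?_ ?_ ?_
  · intro i j hij
    unfold aA
    rw [map_sub, S_E, S_E]
    have : (i : ℕ) ≠ j := fun h => hij (Fin.ext h)
    split_ifs <;> omega
  · intro j
    unfold aA
    rw [map_sub, S_E, S_E]
    split_ifs <;> omega
  · intro i
    rw [mem_minus]
    exact ⟨i, i + 1, by omega, by omega, rfl⟩
  · intro α hα
    rw [mem_minus] at hα
    obtain ⟨i, j, h1, h2, rfl⟩ := hα
    exact cone_A h1 (by omega)
  · intro h0
    rw [mem_minus] at h0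
    obtain ⟨i, j, h1, -, h3⟩ := h0
    exact sub_ne_zero' (by omega) h3.symm
  · intro i α hα hne
    rw [mem_minus] at hα
    obtain ⟨a, b, h1, h2, rfl⟩ := hα
    obtain ⟨a', b', h3, h4, h5⟩ := perm_A h1 (by omega) hne
    rw [mem_minus]
    exact ⟨a', b', h3, by omega, h5⟩

end A

end Cfsg.Agent.ParSys.RootEps
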