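import Cfsg.Agent.OddOrderLocal.SylIn

/-!
# `T`-based parabolic systems

`S` a Sylow `p`-subgroup of `G`, `T ≤ S` normal in `S`, `B` a subgroup with `T` as normal Sylow `p`-subgroup, `B ≤ P j`, and `S`
permutes the `P j` (graph and field automorphisms in `S` are allowed).

* `top_of_normalised` (TB1): a subgroup `≠ 1` normalised by a generating family is everything;
* `le_normalizer_iSup`, `le_normalizer_sup` (TB2): who normalises `⟨X₁, X₂⟩`;
* `central_eq_bot`, `central_eq_bot'`, `core`: a central complement of `T` in a Sylow subgroup is trivial (transfer);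
* `isSyl_of_residue` (TS): `T` is a Sylow `p`-subgroup of `⟨P j⟩`;
* `normalises_of_odd` (OK): the kernel of a residue normalises `T`;
* `isSyl_of_stabiliser` (ORB): the stabiliser in `S` of a set of nodes is a Sylow subgroup of the normaliser of the residue.
-/

set_option autoImplicit false
set_option linter.unusedSectionVars false
set_option linter.style.haveILetI false

namespace Cfsg.Agent.ParSys.TBase

open Subgroup Cfsg.Agent.OddOrderLocal Cfsg.Agent.OddOrderLocal.SylIn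

section normalise

variable {G : Type*} [Group G]

/-- **(TB1)** -/
theorem top_of_normalised [IsSimpleGroup G] {ι : Sort*} {P : ι → Subgroup G} {G₀ : Subgroup G} (hgen : ⨆ i, P i = ⊤)
    (hn : ∀ i, P i ≤ normalizer (G₀ : Set G)) (h0 : G₀ ≠ ⊥) : G₀ = ⊤ := by
  have h1 : normalizer (G₀ : Set G) = ⊤ := by
    rw [eq_top_iff, ← hgen]; exact iSup_le hn
  have h2 : G₀.Normal := normalizer_eq_top_iff.1 h1
  exact (IsSimpleGroup.eq_bot_or_eq_top_of_normal G₀ h2).resolve_left h0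

theorem mem_normalizer_iSup {κ : Sort*} {X : κ → Subgroup G} {g : G} (h : ∀ l, g ∈ normalizer (X l : Set G)) :
    g ∈ normalizer ((⨆ l, X l : Subgroup G) : Set G) := by
  rw [PiCoreOf.mem_normalizer_iff_conj, Subgroup.map_iSup]
  exact iSup_congr fun l => PiCoreOf.mem_normalizer_iff_conj.1 (h l)

theorem mem_normalizer_sup {X Y : Subgroup G} {g : G} (hX : g ∈ normalizer (X : Set G))
    (hY : g ∈ normalizer (Y : Set G)) : g ∈ normalizer ((X ⊔ Y : Subgroup G) : Set G) := by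
  rw [PiCoreOf.mem_normalizer_iff_conj] at hX hY ⊢
  rw [Subgroup.map_sup, hX, hY]

/-- **(TB2)**, any number of nodes -/
theorem le_normalizer_iSup {κ : Sort*} {X : κ → Subgroup G} {N : Subgroup G}
    (h : N ≤ (⨆ l, X l) ⊔ ⨅ l, normalizer (X l : Set G)) : N ≤ normalizer ((⨆ l, X l : Subgroup G) : Set G) := by
  refine h.trans (sup_le le_normalizer fun g hg => ?_)
  exact mem_normalizer_iSup fun l => (mem_iInf.1 hg) l

/-- **(TB2)**, two nodes: if `N₁ = X₁ (N₁ ∩ N₂)` then `N₁` normalises `⟨X₁, X₂⟩` -/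
theorem le_normalizer_sup {N₁ N₂ X₁ X₂ : Subgroup G} (h1 : N₁ ≤ normalizer (X₁ : Set G))
    (h2 : N₂ ≤ normalizer (X₂ : Set G)) (hf : N₁ ≤ X₁ ⊔ (N₁ ⊓ N₂)) :
    N₁ ≤ normalizer ((X₁ ⊔ X₂ : Subgroup G) : Set G) :=
  hf.trans (sup_le (le_sup_left.trans le_normalizer)
    fun _ hg => mem_normalizer_sup (h1 hg.1) (h2 hg.2))

/-- **(TB2 i)** Frattini by transitivity -/
theorem le_sup_of_trans {N X R : Subgroup G} (h : ∀ g ∈ N, ∃ x ∈ X, x⁻¹ * g ∈ normalizer (R : Set G)) (hX : X ≤ N) :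
    N ≤ X ⊔ (N ⊓ normalizer (R : Set G)) := by
  intro g hg
  obtain ⟨x, hx, h1⟩ := h g hg
  have e : g = x * (x⁻¹ * g) := by group
  rw [e]
  exact Subgroup.mul_mem _ (Subgroup.mem_sup_left hx) (Subgroup.mem_sup_right ⟨N.mul_mem (N.inv_mem (hX hx)) hg, h1⟩)

variable [Finite G] {p : ℕ} [Fact p.Prime]

/-- **(TB2 ii)** Frattini by Sylow: `T₁` a Sylow subgroup of `X ⊴ N`, `N_N(T₁) ≤ N₂` -/
theorem le_sup_of_isSyl {N X N₂ T₁ : Subgroup G} (hX : X ≤ N) (hn : N ≤ normalizer (X : Set G)) (hT : IsSyl p T₁ X)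
    (h : N ⊓ normalizer (T₁ : Set G) ≤ N₂) : N ≤ X ⊔ (N ⊓ N₂) :=
  (le_sup_of_isSyl_normal hX hn hT).trans (sup_le_sup_left (le_inf inf_le_left h) _)

/-- the intersection with a normal subgroup -/
theorem isSyl_inf {S N Y : Subgroup G} (hS : IsSyl p S Y) (hNY : N ≤ Y) (hn : Y ≤ normalizer (N : Set G)) :
    IsSyl p (S ⊓ N) N := by
  obtain ⟨R, hR, hle⟩ := exists_isSyl_ge (p := p) (inf_le_right : S ⊓ N ≤ N) (hS.isPGroup.to_le inf_le_left)
  obtain ⟨y, hy, h1⟩ := hS.exists_conj_le (hR.le.trans hNY) hR.isPGroup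
  refine hR.of_card_le inf_le_right (hS.isPGroup.to_le inf_le_left) ?_
  have h2 : R.map (MulAut.conj y).toMonoidHom ≤ S ⊓ N := by
    refine le_inf h1 ?_
    have := PiCoreOf.mem_normalizer_iff_conj.1 (hn hy)
    rw [← this]
    exact map_mono hR.le
  have h3 := Subgroup.card_le_of_le h2
  rwa [card_map_of_injective (MulAut.conj y).injective] at h3

/-- `S ∩ X` is Sylow in `X` if `S` normalises `X` -/
theorem isSyl_inf_of_normalises {S X : Subgroup G} (hS : IsSyl p S (S ⊔ X)) (hn : S ≤ normalizer (X : Set G)) :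
    IsSyl p (S ⊓ X) X :=
  isSyl_inf hS le_sup_right (sup_le hn le_normalizer)

end normalise

section transfer

variable {X : Type*} [Group X] [Finite X] {p : ℕ} [Fact p.Prime]

/-- **Transfer.**  If `X` is generated by `p'`-elements and `T × Z` is a Sylow `p`-subgroup with `Z` central then
`Z = 1`. -/
theorem central_eq_bot {C : Set X} (hC : ∀ c ∈ C, p.Coprime (orderOf c)) (hgen : closure C = ⊤) {P T Z : Subgroup X}
    (hP : IsPGroup p P) (hidx : ¬ p ∣ P.index) (hZc : Z ≤ center X) (hZP : Z ≤ P) (hsup : P ≤ T ⊔ Z)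
    (hinf : T ⊓ Z = ⊥) : Z = ⊥ := by
  classical
  have hZn : Z ≤ normalizer (T : Set X) := by
    intro z hz
    rw [mem_normalizer_iff]
    intro t
    have := mem_center_iff.1 (hZc hz) t
    have e : z * t * z⁻¹ = t := by rw [← this]; group
    rw [e]
  haveI hZnorm : Z.Normal := by
    constructor
    intro n hn g
    have e : g * n * g⁻¹ = n := by rw [mem_center_iff.1 (hZc hn) g]; group
    rw [e]; exact hn
  have hdec : ∀ x ∈ P, ∃ t ∈ T, ∃ z ∈ Z, x = t * z := by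
    intro x hx
    obtain ⟨t, ht, z, hz, e⟩ := mem_sup_of_normal_right.1 (hsup hx)
    exact ⟨t, ht, z, hz, e.symm⟩
  have hPn : P ≤ normalizer (T : Set X) := hsup.trans (sup_le le_normalizer hZn)
  haveI hn : (T.subgroupOf P).Normal := by
    constructor
    intro n hn g
    rw [mem_subgroupOf] at hn ⊢
    exact (mem_normalizer_iff.1 (hPn g.2) _).1 hn
  have hcomm : ∀ a b : P ⧸ T.subgroupOf P, a * b = b * a := by
    have key : ∀ a : P ⧸ T.subgroupOf P, ∃ z, ∃ hz : z ∈ Z, a = QuotientGroup.mk ⟨z, hZP hz⟩ := by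
      intro a
      induction a using QuotientGroup.induction_on with
      | _ x =>
      obtain ⟨t, ht, z, hz, e⟩ := hdec x x.2
      refine ⟨z, hz, ?_⟩
      rw [eq_comm, QuotientGroup.eq, mem_subgroupOf]
      show z⁻¹ * (x : X) ∈ T
      rw [e]
      have e2 : z⁻¹ * (t * z) = t := by
        rw [mem_center_iff.1 (hZc hz) t]; group
      rw [e2]; exact ht
    intro a b
    obtain ⟨z, hz, rfl⟩ := key a
    obtain ⟨w, hw, rfl⟩ := key b
    rw [← QuotientGroup.mk_mul, ← QuotientGroup.mk_mul]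
    congr 1
    exact Subtype.ext (mem_center_iff.1 (hZc hw) z)
  letI : CommGroup (P ⧸ T.subgroupOf P) :=
    { (inferInstance : Group (P ⧸ T.subgroupOf P)) with mul_comm := hcomm }
  let ϕ : P →* P ⧸ T.subgroupOf P := QuotientGroup.mk' _
  let τ : X →* P ⧸ T.subgroupOf P := MonoidHom.transfer ϕ
  have hA : IsPGroup p (P ⧸ T.subgroupOf P) := hP.to_quotient _
  have hτ : ∀ x, τ x = 1 := by
    have h1 : closure C ≤ τ.ker := by
      rw [closure_le]
      intro c hc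
      rw [SetLike.mem_coe, MonoidHom.mem_ker]
      obtain ⟨k, hk⟩ := hA (τ c)
      have h2 : orderOf (τ c) ∣ p ^ k := orderOf_dvd_of_pow_eq_one hk
      have h3 : orderOf (τ c) ∣ orderOf c := orderOf_map_dvd τ c
      have h4 : Nat.Coprime (p ^ k) (orderOf c) := (hC c hc).pow_left k
      exact orderOf_eq_one_iff.1 (Nat.eq_one_of_dvd_coprimes h4 h2 h3)
    intro x
    exact h1 (hgen ▸ mem_top x)
  rw [eq_bot_iff]
  intro z hz
  have hzc := mem_center_iff.1 (hZc hz)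
  have key : ∀ (k : ℕ) (g₀ : X), g₀⁻¹ * z ^ k * g₀ ∈ P → g₀⁻¹ * z ^ k * g₀ = z ^ k := by
    intro k g₀ _
    have h1 : g₀ * z ^ k = z ^ k * g₀ := by
      exact mem_center_iff.1 (pow_mem (hZc hz) k) g₀
    rw [mul_assoc, ← h1]; group
  have h1 := MonoidHom.transfer_eq_pow ϕ z key
  have h2 : ϕ ⟨z ^ P.index, MonoidHom.transfer_eq_pow_aux z key⟩ = 1 := by
    rw [← h1]; exact hτ z
  have h2' : (QuotientGroup.mk (⟨z ^ P.index, MonoidHom.transfer_eq_pow_aux z key⟩ : P) : P ⧸ T.subgroupOf P) = 1 := h2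
  have h3 : z ^ P.index ∈ T := mem_subgroupOf.1 ((QuotientGroup.eq_one_iff (N := T.subgroupOf P) _).1 h2')
  have h4 : z ^ P.index = 1 := by
    have : z ^ P.index ∈ T ⊓ Z := ⟨h3, pow_mem hz _⟩
    rw [hinf] at this
    exact mem_bot.1 this
  obtain ⟨k, hk⟩ := hP ⟨z, hZP hz⟩
  have h5 : z ^ p ^ k = 1 := congrArg Subtype.val hk
  have h6 : Nat.Coprime (p ^ k) P.index := ((Fact.out : p.Prime).coprime_iff_not_dvd.2 hidx).pow_left k
  rw [mem_bot]
  exact orderOf_eq_one_iff.1 (Nat.eq_one_of_dvd_coprimes h6 (orderOf_dvd_of_pow_eq_one h5)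
    (orderOf_dvd_of_pow_eq_one h4))

/-- The version with `O^p(X)` instead of `X`. -/
theorem central_eq_bot' {C : Set X} (hC : ∀ c ∈ C, p.Coprime (orderOf c)) (hn : (closure C).Normal)
    {P T Z : Subgroup X} (hP : IsPGroup p P) (hidx : ¬ p ∣ P.index) (hZc : Z ≤ center X) (hTP : T ≤ P) (hZP : Z ≤ P)
    (hsup : P ≤ T ⊔ Z) (hinf : T ⊓ Z = ⊥) (hX : closure C ⊔ T = ⊤)
    (hc : ∀ t ∈ T, ∀ z ∈ Z, t * z ∈ closure C → t ∈ closure C) : Z = ⊥ := by
  classical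
  have hZnorm : Z.Normal := by
    constructor
    intro n hn g
    have e : g * n * g⁻¹ = n := by rw [mem_center_iff.1 (hZc hn) g]; group
    rw [e]; exact hn
  have hdec : ∀ x ∈ P, ∃ t ∈ T, ∃ z ∈ Z, x = t * z := by
    intro x hx
    obtain ⟨t, ht, z, hz, e⟩ := mem_sup_of_normal_right.1 (hsup hx)
    exact ⟨t, ht, z, hz, e.symm⟩
  have hsyl : IsSyl p (P ⊓ closure C) (closure C) :=
    isSyl_inf (Y := ⊤) ⟨le_top, hP, by rwa [relIndex_top_right]⟩ le_top
      (by rw [normalizer_eq_top_iff.2 hn])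
  have hbot : ∀ x ∈ T, x ∈ Z → x = 1 := fun x h1 h2 => by
    have : x ∈ T ⊓ Z := ⟨h1, h2⟩
    rw [hinf] at this
    exact mem_bot.1 this
  have hsplit : ∀ x ∈ P, x ∈ closure C → ∃ t ∈ T, ∃ z ∈ Z, x = t * z ∧ t ∈ closure C ∧ z ∈ closure C := by
    intro x hx hxC
    obtain ⟨t, ht, z, hz, e⟩ := hdec x hx
    have h1 := hc t ht z hz (e ▸ hxC)
    refine ⟨t, ht, z, hz, e, h1, ?_⟩
    have e2 : z = t⁻¹ * x := by rw [e]; group
    rw [e2]
    exact mul_mem (inv_mem h1) hxC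
  have h1 : Z.subgroupOf (closure C) = ⊥ := by
    refine central_eq_bot (X := closure C) (C := (Subtype.val : closure C → X) ⁻¹' C) ?_
      (closure_closure_coe_preimage) (P := P.subgroupOf (closure C)) (T := T.subgroupOf (closure C))
      (Z := Z.subgroupOf (closure C)) hP.comap_subtype ?_ ?_ ?_ ?_ ?_
    · intro c hc'
      rw [← Subgroup.orderOf_coe]
      exact hC _ hc'
    · have := hsyl.not_dvd
      rwa [inf_relIndex_right] at this
    · intro z hz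
      rw [mem_center_iff]
      intro g
      exact Subtype.ext (mem_center_iff.1 (hZc (mem_subgroupOf.1 hz)) g)
    · exact fun x hx => hZP hx
    · intro x hx
      obtain ⟨t, ht, z, hz, e, h2, h3⟩ := hsplit x hx x.2
      have e2 : x = (⟨t, h2⟩ : closure C) * ⟨z, h3⟩ := Subtype.ext e
      rw [e2]
      exact mul_mem_sup (mem_subgroupOf.2 ht) (mem_subgroupOf.2 hz)
    · rw [eq_bot_iff]
      rintro x ⟨h2, h3⟩
      exact mem_bot.2 (Subtype.ext (hbot x h2 h3))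
  -- `P ≤ T`
  have h2 : P ≤ T := by
    intro x hx
    have h3 : x ∈ closure C ⊔ T := hX ▸ mem_top x
    obtain ⟨y, hy, t, ht, e⟩ := mem_sup_of_normal_left.1 h3
    have hyP : y ∈ P := by
      have e2 : y = x * t⁻¹ := by rw [← e]; group
      rw [e2]; exact mul_mem hx (inv_mem (hTP ht))
    obtain ⟨t', ht', z, hz, e', h4, h5⟩ := hsplit y hyP hy
    have hz1 : z = 1 := by
      have : (⟨z, h5⟩ : closure C) ∈ Z.subgroupOf (closure C) := mem_subgroupOf.2 hz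
      rw [h1] at this
      exact congrArg Subtype.val (mem_bot.1 this)
    rw [← e, e', hz1, mul_one]
    exact mul_mem ht' ht
  rw [eq_bot_iff, ← hinf]
  exact le_inf (hZP.trans h2) le_rfl

/-- The core of (TS): `R` Sylow, `R = T (R ∩ K)`, `T ∩ K ≤ D`, `[K ∩ R, X] ≤ D`. -/
theorem core {R T K D : Subgroup X} [hD : D.Normal] {C : Set X} (hC : ∀ c ∈ C, p.Coprime (orderOf c))
    (hCn : (closure C).Normal) (hR : IsPGroup p R) (hidx : ¬ p ∣ R.index) (hTR : T ≤ R) (hDK : D ≤ K)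
    (hcen : ∀ k ∈ K, k ∈ R → ∀ x, x * k * x⁻¹ * k⁻¹ ∈ D) (hRT : ∀ x ∈ R, ∃ t ∈ T, ∃ k ∈ K, x = t * k)
    (hTK : ∀ t ∈ T, t ∈ K → t ∈ D) (hX : closure C ⊔ T ⊔ D = ⊤)
    (hc : ∀ t ∈ T, t ∈ closure C ⊔ K → t ∈ closure C ⊔ D) : K ⊓ R ≤ D := by
  classical
  let π : X →* X ⧸ D := QuotientGroup.mk' D
  have hπ : ∀ x, π x = 1 ↔ x ∈ D := fun x => QuotientGroup.eq_one_iff x
  have hsurj : Function.Surjective π := QuotientGroup.mk'_surjective D
  have hcl : closure (π '' C) = (closure C).map π := (MonoidHom.map_closure π C).symm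
  have hmap : ∀ {H : Subgroup X} {x : X}, π x ∈ H.map π → x ∈ H ⊔ D := by
    rintro H x ⟨h, hh, e⟩
    have h1 : h⁻¹ * x ∈ D := by
      rw [← hπ, map_mul, map_inv, e]; group
    have e2 : x = h * (h⁻¹ * x) := by group
    rw [e2]
    exact mul_mem_sup hh h1
  have h1 : (K ⊓ R).map π = ⊥ := by
    refine central_eq_bot' (C := π '' C) (P := R.map π) (T := T.map π) (Z := (K ⊓ R).map π) (p := p)
      ?_ ?_ (hR.map π) ?_ ?_ (map_mono hTR) (map_mono inf_le_right) ?_ ?_ ?_ ?_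
    · rintro _ ⟨c, hc, rfl⟩
      exact Nat.Coprime.coprime_dvd_right (orderOf_map_dvd π c) (hC c hc)
    · rw [hcl]; exact hCn.map π hsurj
    · exact fun h => hidx (h.trans (index_map_dvd R hsurj))
    · rintro _ ⟨k, ⟨hk, hkR⟩, rfl⟩
      rw [mem_center_iff]
      intro y
      obtain ⟨x, rfl⟩ := hsurj y
      have h2 := (hπ _).2 (hcen k hk hkR x)
      rw [map_mul, map_mul, map_mul, map_inv, map_inv, mul_inv_eq_one, mul_inv_eq_iff_eq_mul] at h2
      exact h2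
    · rintro _ ⟨x, hx, rfl⟩
      obtain ⟨t, ht, k, hk, e⟩ := hRT x hx
      have hkR : k ∈ R := by
        have e2 : k = t⁻¹ * x := by rw [e]; group
        rw [e2]; exact mul_mem (inv_mem (hTR ht)) hx
      rw [e, map_mul]
      exact mul_mem_sup (mem_map_of_mem π ht) (mem_map_of_mem π ⟨hk, hkR⟩)
    · rw [eq_bot_iff]
      rintro _ ⟨⟨t, ht, rfl⟩, ⟨k, ⟨hk, -⟩, e⟩⟩
      rw [mem_bot, hπ]
      apply hTK t ht
      have h2 : k⁻¹ * t ∈ D := by rw [← hπ, map_mul, map_inv, e]; group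
      have e2 : t = k * (k⁻¹ * t) := by group
      rw [e2]; exact mul_mem hk (hDK h2)
    · rw [hcl, ← Subgroup.map_sup, eq_top_iff]
      intro y _
      obtain ⟨x, rfl⟩ := hsurj y
      have h2 : x ∈ closure C ⊔ T ⊔ D := hX ▸ mem_top x
      obtain ⟨y, hy, d, hd, rfl⟩ := mem_sup_of_normal_right.1 h2
      rw [map_mul, (hπ d).2 hd, mul_one]
      exact mem_map_of_mem π hy
    · rintro _ ⟨t, ht, rfl⟩ _ ⟨k, ⟨hk, -⟩, rfl⟩ h
      rw [hcl] at h ⊢
      rw [← map_mul] at h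
      have h2 := hmap h
      have h3 : t ∈ closure C ⊔ K := by
        have e2 : t = (t * k) * k⁻¹ := by group
        rw [e2]
        exact mul_mem ((sup_le_sup_left hDK _) h2) (mem_sup_right (inv_mem hk))
      have h4 := hc t ht h3
      obtain ⟨y, hy, d, hd, rfl⟩ := mem_sup_of_normal_right.1 h4
      rw [map_mul, (hπ d).2 hd, mul_one]
      exact mem_map_of_mem π hy
  intro x hx
  rw [← hπ]
  have h2 := mem_map_of_mem π hx
  rw [h1] at h2
  exact mem_bot.1 h2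

end transfer

section residue

variable {G : Type*} [Group G] [Finite G] {p : ℕ} [Fact p.Prime]

/-- (TS), for a subgroup `X` of `G` -/
theorem inf_le_of {X R T K D : Subgroup G} {C : Set G} (hR : IsSyl p R X) (hTR : T ≤ R) (hDK : D ≤ K) (hKX : K ≤ X)
    (hDn : X ≤ normalizer (D : Set G)) (hCX : C ⊆ X) (hC : ∀ c ∈ C, p.Coprime (orderOf c))
    (hCn : X ≤ normalizer (closure C : Set G))
    (hcen : ∀ k ∈ K, k ∈ R → ∀ x ∈ X, x * k * x⁻¹ * k⁻¹ ∈ D) (hRT : ∀ x ∈ R, ∃ t ∈ T, ∃ k ∈ K, x = t * k)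
    (hTK : ∀ t ∈ T, t ∈ K → t ∈ D) (hX : X ≤ closure C ⊔ T ⊔ D)
    (hc : ∀ t ∈ T, t ∈ closure C ⊔ K → t ∈ closure C ⊔ D) : K ⊓ R ≤ D := by
  classical
  have hDX := hDK.trans hKX
  have hTX := hTR.trans hR.le
  have hclX : closure C ≤ X := (closure_le X).2 hCX
  -- pull back
  let C' : Set X := (Subtype.val : X → G) ⁻¹' C
  have hcl : closure C' = (closure C).subgroupOf X := by
    apply map_injective X.subtype_injective
    rw [MonoidHom.map_closure, map_subgroupOf_eq_of_le hclX]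
    congr 1
    ext x
    constructor
    · rintro ⟨y, hy, rfl⟩; exact hy
    · intro hx; exact ⟨⟨x, hCX hx⟩, hx, rfl⟩
  have hsub : ∀ {H K : Subgroup G}, H ≤ X → K ≤ X → (H ⊔ K).subgroupOf X = H.subgroupOf X ⊔ K.subgroupOf X :=
    fun h1 h2 => (subgroupOf_sup h1 h2)
  haveI : (D.subgroupOf X).Normal := by
    constructor
    intro n hn g
    rw [mem_subgroupOf] at hn ⊢
    exact (mem_normalizer_iff.1 (hDn g.2) _).1 hn
  have h1 := core (X := X) (p := p) (R := R.subgroupOf X) (T := T.subgroupOf X) (K := K.subgroupOf X)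
    (D := D.subgroupOf X) (C := C') (by
      intro c hc'
      rw [← Subgroup.orderOf_coe]
      exact hC _ hc') (by
      rw [hcl]
      constructor
      intro n hn g
      rw [mem_subgroupOf] at hn ⊢
      exact (mem_normalizer_iff.1 (hCn g.2) _).1 hn) hR.isPGroup.comap_subtype hR.not_dvd
      (fun x hx => hTR hx) (fun x hx => hDK hx)
      (fun k hk hkR x => hcen k hk hkR x x.2) (by
      intro x hx
      obtain ⟨t, ht, k, hk, e⟩ := hRT x hx
      exact ⟨⟨t, hTX ht⟩, ht, ⟨k, hKX hk⟩, hk, Subtype.ext e⟩)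
      (fun t ht htK => hTK t ht htK) (by
      rw [hcl, ← hsub hclX hTX, ← hsub (sup_le hclX hTX) hDX, subgroupOf_eq_top]
      exact hX) (by
      intro t ht h
      rw [hcl, ← hsub hclX hKX] at h
      rw [hcl, ← hsub hclX hDX]
      exact hc t ht h)
  intro x hx
  exact h1 (show (⟨x, hKX hx.1⟩ : X) ∈ K.subgroupOf X ⊓ R.subgroupOf X from ⟨hx.1, hx.2⟩)

theorem le_normalizer_of {H D : Subgroup G} (h : ∀ x ∈ H, ∀ d ∈ D, x * d * x⁻¹ ∈ D) : H ≤ normalizer (D : Set G) := by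
  intro x hx
  rw [mem_normalizer_iff]
  intro d
  refine ⟨h x hx d, fun hd => ?_⟩
  have h1 := h x⁻¹ (inv_mem hx) _ hd
  have e : x⁻¹ * (x * d * x⁻¹) * x⁻¹⁻¹ = d := by group
  rwa [e] at h1

theorem conj_mem {D : Subgroup G} {x d : G} (hx : x ∈ normalizer (D : Set G)) (hd : d ∈ D) : x * d * x⁻¹ ∈ D :=
  (mem_normalizer_iff.1 hx d).1 hd

/-- the elements of `N(D)` which commute with `k` modulo `D` -/
def Cen (D : Subgroup G) (k : G) : Subgroup G where
  carrier := {x | x ∈ normalizer (D : Set G) ∧ x * k * x⁻¹ * k⁻¹ ∈ D}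
  one_mem' := ⟨one_mem _, by simp⟩
  mul_mem' := by
    rintro a b ⟨ha, ha'⟩ ⟨hb, hb'⟩
    refine ⟨mul_mem ha hb, ?_⟩
    have e : a * b * k * (a * b)⁻¹ * k⁻¹ = a * (b * k * b⁻¹ * k⁻¹) * a⁻¹ * (a * k * a⁻¹ * k⁻¹) := by group
    rw [e]
    exact mul_mem (conj_mem ha hb') ha'
  inv_mem' := by
    rintro a ⟨ha, ha'⟩
    refine ⟨inv_mem ha, ?_⟩
    have h1 := conj_mem (inv_mem ha) (inv_mem ha')
    have e : a⁻¹ * (a * k * a⁻¹ * k⁻¹)⁻¹ * a⁻¹⁻¹ = a⁻¹ * k * a⁻¹⁻¹ * k⁻¹ := by group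
    rwa [e] at h1

/-- a `p`-element of `B` lies in the normal Sylow subgroup -/
theorem mem_of_pow {T B : Subgroup G} (hT : IsSyl p T B) (hn : B ≤ normalizer (T : Set G)) {x : G} (hx : x ∈ B) {n : ℕ}
    (hxn : x ^ p ^ n = 1) : x ∈ T := by
  have h1 : IsPGroup p (zpowers x) := by
    rw [IsPGroup.iff_card]
    obtain ⟨k, -, hk⟩ := (Nat.dvd_prime_pow Fact.out).1 (orderOf_dvd_of_pow_eq_one hxn)
    exact ⟨k, by rw [Nat.card_zpowers, hk]⟩
  obtain ⟨y, hy, h2⟩ := hT.exists_conj_le ((zpowers_le).2 hx) h1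
  have h3 : y * x * y⁻¹ ∈ T := h2 ⟨x, mem_zpowers x, rfl⟩
  have h4 := conj_mem (inv_mem (hn hy)) h3
  have e : y⁻¹ * (y * x * y⁻¹) * y⁻¹⁻¹ = x := by group
  rwa [e] at h4

/-- **LEMMA TS**: `T` is a Sylow `p`-subgroup of the residue `⟨P j⟩`. -/
theorem isSyl_of_residue {J : Type*} {P : J → Subgroup G} {S T B K : Subgroup G} {C : Set G} (hBX : B ≤ ⨆ j, P j)
    (hS : IsSyl p S (S ⊔ ⨆ j, P j)) (hSX : S ≤ normalizer ((⨆ j, P j : Subgroup G) : Set G))
    (hTS : T ≤ S) (hTB : T ≤ B) (hBS : B ⊓ S ≤ T) (hBP : ∀ j, B ≤ P j)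
    (hK : K ≤ ⨆ j, P j) (hKn : (⨆ j, P j) ≤ normalizer (K : Set G)) (hKP : ∀ j, K ⊓ P j ≤ B)
    (hKS : ∀ k ∈ K, k ∈ S → ∀ j, ∀ x ∈ P j, k * x * k⁻¹ ∈ P j)
    (hTK : ∀ x ∈ S, x ∈ (⨆ j, P j) → ∃ t ∈ T, ∃ k ∈ K, x = t * k)
    (hCX : C ⊆ ((⨆ j, P j : Subgroup G) : Set G)) (hC : ∀ c ∈ C, p.Coprime (orderOf c))
    (hCn : (⨆ j, P j) ≤ normalizer (closure C : Set G))
    (hX : ∀ j, P j ≤ closure C ⊔ T ⊔ (K ⊓ B))
    (hc : ∀ t ∈ T, t ∈ closure C ⊔ K → t ∈ closure C ⊔ (K ⊓ B)) :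
    IsSyl p T (⨆ j, P j) ∧ S ⊓ (⨆ j, P j) = T ∧ K ⊓ S ≤ B := by
  set X : Subgroup G := ⨆ j, P j with hXdef
  have hPX : ∀ j, P j ≤ X := fun j => le_iSup P j
  have hR : IsSyl p (S ⊓ X) X := isSyl_inf_of_normalises hS hSX
  have hTX : T ≤ X := hTB.trans hBX
  have hPD : ∀ j, P j ≤ normalizer ((K ⊓ B : Subgroup G) : Set G) := by
    intro j
    apply le_normalizer_of
    intro x hx d hd
    have h1 : x * d * x⁻¹ ∈ K := conj_mem (hKn (hPX j hx)) hd.1
    exact ⟨h1, hKP j ⟨h1, (P j).mul_mem ((P j).mul_mem hx (hBP j hd.2)) ((P j).inv_mem hx)⟩⟩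
  have hDn : X ≤ normalizer ((K ⊓ B : Subgroup G) : Set G) := iSup_le hPD
  have hcen : ∀ k ∈ K, k ∈ S ⊓ X → ∀ x ∈ X, x * k * x⁻¹ * k⁻¹ ∈ K ⊓ B := by
    intro k hk hkR
    have h1 : X ≤ Cen (K ⊓ B) k := by
      refine iSup_le fun j x hx => ⟨hPD j hx, ?_⟩
      have h2 : x * k * x⁻¹ * k⁻¹ ∈ K := mul_mem (conj_mem (hKn (hPX j hx)) hk) (inv_mem hk)
      refine ⟨h2, hKP j ⟨h2, ?_⟩⟩
      have e : x * k * x⁻¹ * k⁻¹ = x * (k * x⁻¹ * k⁻¹) := by group
      rw [e]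
      exact mul_mem hx (hKS k hk hkR.1 j _ (inv_mem hx))
    exact fun x hx => (h1 hx).2
  have h1 : K ⊓ (S ⊓ X) ≤ K ⊓ B := by
    refine inf_le_of (X := X) (T := T) (C := C) hR (le_inf hTS hTX) inf_le_left hK hDn hCX hC hCn hcen ?_ ?_ ?_ hc
    · exact fun x hx => hTK x hx.1 hx.2
    · exact fun t ht htK => ⟨htK, hTB ht⟩
    · exact iSup_le hX
  have h2 : S ⊓ X ≤ T := by
    intro x hx
    obtain ⟨t, ht, k, hk, e⟩ := hTK x hx.1 hx.2
    have h3 : k ∈ K ⊓ (S ⊓ X) := by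
      refine ⟨hk, ?_⟩
      have e2 : k = t⁻¹ * x := by rw [e]; group
      rw [e2]
      exact (S ⊓ X).mul_mem ((S ⊓ X).inv_mem ⟨hTS ht, hTX ht⟩) hx
    apply hBS
    refine ⟨?_, hx.1⟩
    rw [e]
    exact mul_mem (hTB ht) (h1 h3).2
  have h3 : S ⊓ X = T := le_antisymm h2 (le_inf hTS hTX)
  refine ⟨h3 ▸ hR, h3, ?_⟩
  exact fun x hx => (h1 ⟨hx.1, hx.2, hK hx.1⟩).2

/-- `K ∩ S` fixes every node if `S` permutes the nodes and the `P j` are different modulo `K` -/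
theorem fixes_of_perm {J : Type*} {P : J → Subgroup G} {S K : Subgroup G}
    (hperm : ∀ s ∈ S, ∀ j, ∃ j', (P j).map (MulAut.conj s).toMonoidHom = P j')
    (hne : ∀ j j', P j' ≤ P j ⊔ K → j' = j) : ∀ k ∈ K, k ∈ S → ∀ j, ∀ x ∈ P j, k * x * k⁻¹ ∈ P j := by
  intro k hk hkS j x hx
  obtain ⟨j', h1⟩ := hperm k hkS j
  have h2 : P j' ≤ P j ⊔ K := by
    rw [← h1]
    rintro _ ⟨y, hy, rfl⟩
    exact mul_mem (mul_mem (mem_sup_right hk) (mem_sup_left hy)) (inv_mem (mem_sup_right hk))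
  rw [hne j j' h2] at h1
  rw [← h1]
  exact ⟨x, hx, rfl⟩

/-- the set of `p'`-elements of `X` generates a subgroup normalised by `X` -/
theorem le_normalizer_closure (X : Subgroup G) :
    X ≤ normalizer (closure {x : G | x ∈ X ∧ p.Coprime (orderOf x)} : Set G) := by
  apply le_normalizer_of
  intro x hx d hd
  have h1 : (closure {x : G | x ∈ X ∧ p.Coprime (orderOf x)}).map (MulAut.conj x).toMonoidHom ≤
      closure {x : G | x ∈ X ∧ p.Coprime (orderOf x)} := by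
    rw [MonoidHom.map_closure, closure_le]
    rintro _ ⟨y, ⟨hy, hyo⟩, rfl⟩
    apply Subgroup.subset_closure
    refine ⟨mul_mem (mul_mem hx hy) (inv_mem hx), ?_⟩
    have e : orderOf ((MulAut.conj x).toMonoidHom y) = orderOf y := (MulAut.conj x).orderOf_eq y
    rw [e]; exact hyo
  exact h1 ⟨d, hd, rfl⟩

/-- **LEMMA OK** (odd kernel). -/
theorem normalises_of_odd {X B T K : Subgroup G} (hT : IsSyl p T X) (hTB : T ≤ B) (hBX : B ≤ X)
    (hTn : B ≤ normalizer (T : Set G)) (hKX : K ≤ X) (hKn : X ≤ normalizer (K : Set G))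
    (hDn : X ≤ normalizer ((K ⊓ B : Subgroup G) : Set G)) {N : Subgroup G} (hNX : N ≤ X)
    (hNn : X ≤ normalizer (N : Set G)) (hN : ∀ n ∈ N, ∀ k ∈ K, n * k * n⁻¹ * k⁻¹ ∈ B) (hTN : T ≤ N ⊔ K) :
    K ≤ normalizer (T : Set G) := by
  classical
  set D : Subgroup G := K ⊓ B with hD
  have hTK : IsSyl p (T ⊓ K) K := isSyl_inf hT hKX hKn
  have hcop : ¬ p ∣ D.relIndex K := by
    intro h
    apply hTK.not_dvd
    have h1 := relIndex_mul_relIndex (T ⊓ K) D K (le_inf inf_le_right (inf_le_left.trans hTB)) inf_le_left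
    exact h.trans ⟨_, by rw [mul_comm]; exact h1.symm⟩
  have hpow : ∀ k ∈ K, k ^ D.relIndex K ∈ D := by
    intro k hk
    haveI : (D.subgroupOf K).Normal := by
      constructor
      intro n hn g
      rw [mem_subgroupOf] at hn ⊢
      exact conj_mem (hDn (hKX g.2)) hn
    have h := pow_index_mem (D.subgroupOf K) (⟨k, hk⟩ : K)
    rw [mem_subgroupOf] at h
    simpa [relIndex] using h
  -- `M` : the elements of `X` acting trivially on `K / D`
  let M : Subgroup G := X ⊓ ⨅ k : K, Cen D (k : G)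
  have hM : ∀ {g : G}, g ∈ M ↔ g ∈ X ∧ ∀ k ∈ K, g * k * g⁻¹ * k⁻¹ ∈ D := by
    intro g
    constructor
    · rintro ⟨h1, h2⟩
      exact ⟨h1, fun k hk => ((mem_iInf.1 h2) ⟨k, hk⟩).2⟩
    · rintro ⟨h1, h2⟩
      exact ⟨h1, mem_iInf.2 fun k => ⟨hDn h1, h2 k k.2⟩⟩
  have hDM : D ≤ M := by
    intro d hd
    refine hM.2 ⟨hKX hd.1, fun k hk => ?_⟩
    have e : d * k * d⁻¹ * k⁻¹ = d * (k * d⁻¹ * k⁻¹) := by group
    rw [e]
    exact mul_mem hd (conj_mem (hDn (hKX hk)) (inv_mem hd))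
  have hNM : N ≤ M := by
    intro n hn
    refine hM.2 ⟨hNX hn, fun k hk => ⟨?_, hN n hn k hk⟩⟩
    exact K.mul_mem (conj_mem (hKn (hNX hn)) hk) (K.inv_mem hk)
  have hMX : M ≤ X := inf_le_left
  have hMn : X ≤ normalizer (M : Set G) := by
    apply le_normalizer_of
    intro x hx g hg
    obtain ⟨h1, h2⟩ := hM.1 hg
    refine hM.2 ⟨mul_mem (mul_mem hx h1) (inv_mem hx), fun k hk => ?_⟩
    have h3 := conj_mem (hKn (inv_mem hx)) hk
    have h4 := conj_mem (hDn hx) (h2 _ h3)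
    have e : x * (g * (x⁻¹ * k * x⁻¹⁻¹) * g⁻¹ * (x⁻¹ * k * x⁻¹⁻¹)⁻¹) * x⁻¹ =
        x * g * x⁻¹ * k * (x * g * x⁻¹)⁻¹ * k⁻¹ := by group
    rwa [e] at h4
  -- `T ≤ M`
  have hTM : T ≤ M := by
    intro t ht
    have htX := hT.le ht
    haveI hMnor : (M.subgroupOf X).Normal := by
      constructor
      intro n hn g
      rw [mem_subgroupOf] at hn ⊢
      exact conj_mem (hMn g.2) hn
    obtain ⟨n, hn⟩ := hT.isPGroup ⟨t, ht⟩
    have hn' : t ^ p ^ n = 1 := congrArg Subtype.val hn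
    -- `t = m k`
    have h1 : (⟨t, htX⟩ : X) ∈ N.subgroupOf X ⊔ K.subgroupOf X := by
      rw [← subgroupOf_sup hNX hKX]; exact hTN ht
    haveI hNnor : (N.subgroupOf X).Normal := by
      constructor
      intro n hn g
      rw [mem_subgroupOf] at hn ⊢
      exact conj_mem (hNn g.2) hn
    obtain ⟨m, hm, k, hk, e⟩ := mem_sup_of_normal_left.1 h1
    have e' : (m : G) * k = t := congrArg Subtype.val e
    let π : X →* X ⧸ M.subgroupOf X := QuotientGroup.mk' _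
    have hπ : ∀ x : X, π x = 1 ↔ (x : G) ∈ M := fun x => by
      rw [← mem_subgroupOf, ← QuotientGroup.eq_one_iff]; rfl
    have h2 : π k = π ⟨t, htX⟩ := by
      rw [← e, map_mul, (hπ m).2 (hNM hm), one_mul]
    have h3 : orderOf (π k) ∣ p ^ n := by
      rw [h2]
      apply orderOf_dvd_of_pow_eq_one
      rw [← map_pow]
      have : (⟨t, htX⟩ : X) ^ p ^ n = 1 := Subtype.ext hn'
      rw [this, map_one]
    have h4 : orderOf (π k) ∣ D.relIndex K := by
      apply orderOf_dvd_of_pow_eq_one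
      rw [← map_pow, hπ]
      exact hDM (hpow _ hk)
    have h5 : Nat.Coprime (p ^ n) (D.relIndex K) := ((Fact.out : p.Prime).coprime_iff_not_dvd.2 hcop).pow_left n
    have h6 : π k = 1 := orderOf_eq_one_iff.1 (Nat.eq_one_of_dvd_coprimes h5 h3 h4)
    rw [h2, hπ] at h6
    exact h6
  have hTBs : IsSyl p T B := hT.mono hTB hBX
  apply le_normalizer_of
  intro k hk t ht
  obtain ⟨n, hn⟩ := hT.isPGroup ⟨t, ht⟩
  have hn' : t ^ p ^ n = 1 := congrArg Subtype.val hn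
  refine mem_of_pow hTBs hTn (n := n) ?_ ?_
  · have h1 := ((hM.1 (hTM ht)).2 k hk).2
    have e : k * t * k⁻¹ = (t * k * t⁻¹ * k⁻¹)⁻¹ * t := by group
    rw [e]
    exact mul_mem (inv_mem h1) (hTB ht)
  · rw [conj_pow, hn']; group

/-- **LEMMA ORB** (swapped nodes): `M = N_G(X_J)`, `N₀` = the elements of `N_G(T)` which fix all nodes. -/
theorem isSyl_of_stabiliser {S T M N₀ : Subgroup G} (hS : IsSyl p S ⊤) (hST : S ≤ normalizer (T : Set G))
    (hN₀ : N₀ ≤ M) (hN : ∀ n ∈ normalizer (T : Set G), ∃ s ∈ S, ∃ n₀ ∈ N₀, n = s * n₀)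
    (hch : M ⊓ normalizer ((S ⊓ M : Subgroup G) : Set G) ≤ normalizer (T : Set G)) : IsSyl p (S ⊓ M) M := by
  refine isSyl_of_normalizer_le (Y := M ⊓ normalizer (T : Set G)) inf_le_right ?_ (le_inf inf_le_left hch)
  have hSJ : S ⊓ M ≤ M ⊓ normalizer (T : Set G) := le_inf inf_le_right (inf_le_left.trans hST)
  have hSp : IsPGroup p (S ⊓ M : Subgroup G) := hS.isPGroup.to_le inf_le_left
  obtain ⟨R, hR, -⟩ := exists_isSyl_ge (p := p) hSJ hSp
  refine hR.of_card_le hSJ hSp ?_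
  obtain ⟨n, hn, h1⟩ := (hS.mono hST le_top).exists_conj_le (hR.le.trans inf_le_right) hR.isPGroup
  obtain ⟨s, hs, n₀, hn₀, rfl⟩ := hN n hn
  have h2 : R.map (MulAut.conj n₀).toMonoidHom ≤ S ⊓ M := by
    rintro _ ⟨r, hr, rfl⟩
    show n₀ * r * n₀⁻¹ ∈ S ⊓ M
    refine ⟨?_, M.mul_mem (M.mul_mem (hN₀ hn₀) (hR.le hr).1) (M.inv_mem (hN₀ hn₀))⟩
    have h3 : s * n₀ * r * (s * n₀)⁻¹ ∈ S := h1 ⟨r, hr, rfl⟩
    have e : n₀ * r * n₀⁻¹ = s⁻¹ * (s * n₀ * r * (s * n₀)⁻¹) * s := by group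
    rw [e]
    exact S.mul_mem (S.mul_mem (S.inv_mem hs) h3) hs
  have h3 := Subgroup.card_le_of_le h2
  rwa [card_map_of_injective (MulAut.conj n₀).injective] at h3

end residue

end Cfsg.Agent.ParSys.TBase
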