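import Cfsg.Agent.Tits.Opp

/-!
# A group acting Weyl-transitively on a thick spherical building has a BN-pair

`Δ : Bldg cs C` with `W` finite, `G` acts on `C` preserving `δ`, transitively on the pairs with given distance.
The subgroup `N` is the stabiliser of the apartment spanned by two opposite chambers `c`, `d`.
No torus, no assumption of regularity; used for groups over `F_2`.
-/

set_option autoImplicit false

namespace Cfsg.Agent.ParSys.WeylBN

open CoxeterSystem List Cfsg.Agent.Tits.Core Cfsg.Agent.Tits.Exchange Cfsg.Agent.Tits.Opp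

variable {I W : Type*} [Group W] {M : CoxeterMatrix I} {cs : CoxeterSystem M W} {C : Type*}

local prefix:100 "s" => cs.simple
local prefix:100 "π" => cs.wordProd
local prefix:100 "ℓ" => cs.length

/-! ### The apartment of two opposite chambers -/

section apt

variable (Δ : Bldg cs C) [Finite W] {c d : C} (hcd : Δ.Opp c d)

include hcd

theorem opp_inv : Δ.δ d c = w0 cs := by
  rw [Δ.symm, show Δ.δ c d = w0 cs from hcd]
  have h := (isLongest_w0 cs).mul_self
  exact inv_eq_of_mul_eq_one_right h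

theorem exists_ap (w : W) : ∃ x, Δ.δ c x = w ∧ Δ.δ d x = w0 cs * w := by
  obtain ⟨z, h1, h2⟩ := exists_mul Δ d c w
  exact ⟨z, h1, by rw [h2, opp_inv Δ hcd]⟩

omit hcd in
theorem len_w0 (w : W) : ℓ (w * (w⁻¹ * w0 cs)) = ℓ w + ℓ (w⁻¹ * w0 cs) := by
  rw [mul_inv_cancel_left]
  have h := length_mul_w0 (cs := cs) w⁻¹
  rw [cs.length_inv] at h
  omega

omit hcd in
theorem ap_unique {w : W} {x y : C} (hx : Δ.δ c x = w) (hx' : Δ.δ d x = w0 cs * w) (hy : Δ.δ c y = w)
    (hy' : Δ.δ d y = w0 cs * w) : x = y := by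
  have h0 := (isLongest_w0 cs).inv_eq
  refine eq_of_length Δ (len_w0 w) hx hy (z := d) ?_ ?_
  · rw [Δ.symm, hx', mul_inv_rev, h0]
  · rw [Δ.symm, hy', mul_inv_rev, h0]

/-- the chamber `w` of the apartment -/
noncomputable def ap (w : W) : C := (exists_ap Δ hcd w).choose

theorem δ_ap (w : W) : Δ.δ c (ap Δ hcd w) = w := (exists_ap Δ hcd w).choose_spec.1

theorem δ_ap' (w : W) : Δ.δ d (ap Δ hcd w) = w0 cs * w := (exists_ap Δ hcd w).choose_spec.2

theorem eq_ap {w : W} {x : C} (hx : Δ.δ c x = w) (hx' : Δ.δ d x = w0 cs * w) : x = ap Δ hcd w :=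
  ap_unique Δ hx hx' (δ_ap Δ hcd w) (δ_ap' Δ hcd w)

theorem ap_one : ap Δ hcd 1 = c :=
  (eq_ap Δ hcd (delta_self Δ c) (by rw [opp_inv Δ hcd, mul_one])).symm

theorem ap_w0 : ap Δ hcd (w0 cs) = d :=
  (eq_ap Δ hcd hcd (by rw [delta_self, (isLongest_w0 cs).mul_self])).symm

theorem ap_step_lt {w : W} {i : I} (h : ℓ w < ℓ (w * s i)) :
    Δ.δ (ap Δ hcd w) (ap Δ hcd (w * s i)) = s i := by
  obtain ⟨z, h1, h2⟩ := Δ.exists_step d (ap Δ hcd w) i
  have h3 : Δ.δ c z = w * s i := by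
    have := Δ.step_lt c (ap Δ hcd w) z i h1 (by rw [δ_ap]; exact h)
    rw [this, δ_ap]
  have h4 : Δ.δ d z = w0 cs * (w * s i) := by rw [h2, δ_ap', mul_assoc]
  rw [← eq_ap Δ hcd h3 h4]
  exact h1

theorem ap_step (w : W) (i : I) : Δ.δ (ap Δ hcd w) (ap Δ hcd (w * s i)) = s i := by
  rcases cs.length_mul_simple w i with h | h
  · exact ap_step_lt Δ hcd (by omega)
  · have h1 := ap_step_lt Δ hcd (w := w * s i) (i := i) (by
      rw [mul_assoc, simple_mul_simple_self, mul_one]; omega)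
    rw [mul_assoc, simple_mul_simple_self, mul_one] at h1
    exact symm_simple Δ h1

theorem δ_ap_ap (w v : W) : Δ.δ (ap Δ hcd w) (ap Δ hcd (w * v)) = v := by
  obtain ⟨ω, hω, rfl⟩ := cs.exists_isReduced v
  induction ω using List.reverseRecOn with
  | nil => simp [delta_self]
  | append_singleton ω i ih =>
    have hred : cs.IsReduced ω := by
      have := hω.take ω.length
      rwa [List.take_left'] at this
      rfl
    have h1 := ih hred
    have h2 := ap_step Δ hcd (w * π ω) i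
    have h3 := hω.eq
    rw [wordProd_append, wordProd_singleton, List.length_append, List.length_singleton] at h3
    rw [wordProd_append, wordProd_singleton, ← mul_assoc]
    rw [Δ.step_lt (ap Δ hcd w) (ap Δ hcd (w * π ω)) _ i h2 (by rw [h1, h3, hred.eq]; omega), h1]

theorem δ_ap_ap' (w v : W) : Δ.δ (ap Δ hcd w) (ap Δ hcd v) = w⁻¹ * v := by
  have := δ_ap_ap Δ hcd w (w⁻¹ * v)
  rwa [mul_inv_cancel_left] at this

theorem ap_injective {w v : W} (h : ap Δ hcd w = ap Δ hcd v) : w = v := by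
  rw [← δ_ap Δ hcd w, h, δ_ap]

end apt

/-! ### The group -/

section grp

variable (Δ : Bldg cs C) [Finite W] {c d : C} (hcd : Δ.Opp c d) {G : Type*} [Group G] [MulAction G C]

/-- The stabiliser of the apartment. -/
def NN : Subgroup G where
  carrier := {g | ∀ x, (∃ w, g • x = ap Δ hcd w) ↔ (∃ w, x = ap Δ hcd w)}
  one_mem' := fun x => by rw [one_smul]
  mul_mem' := by
    intro a b ha hb x
    rw [mul_smul, ha, hb]
  inv_mem' := by
    intro a ha x
    rw [← ha (a⁻¹ • x), smul_inv_smul]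

variable (iso : ∀ (g : G) x y, Δ.δ (g • x) (g • y) = Δ.δ x y)

include iso

theorem smul_ap {g : G} (hg : g ∈ NN Δ hcd (G := G)) (v : W) :
    g • ap Δ hcd v = ap Δ hcd (Δ.δ c (g • c) * v) := by
  obtain ⟨u, hu⟩ := (hg (ap Δ hcd v)).2 ⟨v, rfl⟩
  obtain ⟨w, hw⟩ := (hg c).2 ⟨1, (ap_one Δ hcd).symm⟩
  have h1 : Δ.δ (g • c) (g • ap Δ hcd v) = v := by rw [iso, δ_ap]
  rw [hu, hw, δ_ap_ap'] at h1
  rw [hu, hw, δ_ap, ← h1, mul_inv_cancel_left]

theorem wt_mul {g h : G} (hg : g ∈ NN Δ hcd (G := G)) (hh : h ∈ NN Δ hcd (G := G)) :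
    Δ.δ c ((g * h) • c) = Δ.δ c (g • c) * Δ.δ c (h • c) := by
  have h1 : h • c = ap Δ hcd (Δ.δ c (h • c)) := by
    have := smul_ap Δ hcd iso hh 1
    rwa [ap_one, mul_one] at this
  rw [mul_smul, h1, smul_ap Δ hcd iso hg, δ_ap, δ_ap]

omit [Finite W] in
theorem wt_inv {g : G} : Δ.δ c (g⁻¹ • c) = (Δ.δ c (g • c))⁻¹ := by
  rw [← Δ.symm, ← iso g⁻¹ (g • c) c, inv_smul_smul]

variable (trans : ∀ x y x' y', Δ.δ x y = Δ.δ x' y' → ∃ g : G, g • x = x' ∧ g • y = y')

include trans

theorem exists_nn (w : W) : ∃ g : G, g ∈ NN Δ hcd (G := G) ∧ Δ.δ c (g • c) = w := by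
  obtain ⟨g, h1, h2⟩ := trans c d (ap Δ hcd w) (ap Δ hcd (w * w0 cs)) (by
    rw [δ_ap_ap]; exact hcd)
  have h0 := (isLongest_w0 cs).inv_eq
  have key : ∀ v, g • ap Δ hcd v = ap Δ hcd (w * v) := by
    intro v
    refine eq_of_length Δ (x := ap Δ hcd w) (z := ap Δ hcd (w * w0 cs)) (len_w0 v) ?_ ?_ ?_ ?_
    · rw [← h1, iso, δ_ap]
    · rw [δ_ap_ap]
    · rw [← h2, iso, Δ.symm, δ_ap', mul_inv_rev, h0]
    · rw [δ_ap_ap']; group
  refine ⟨g, fun x => ⟨?_, ?_⟩, by rw [h1, δ_ap]⟩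
  · rintro ⟨u, hu⟩
    refine ⟨w⁻¹ * u, ?_⟩
    have := key (w⁻¹ * u)
    rw [mul_inv_cancel_left, ← hu] at this
    exact (smul_left_cancel g this).symm
  · rintro ⟨v, rfl⟩
    exact ⟨w * v, key v⟩

/-- representatives in `N` -/
noncomputable def nn (w : W) : G := (exists_nn Δ hcd iso trans w).choose

theorem nn_mem (w : W) : nn Δ hcd iso trans w ∈ NN Δ hcd (G := G) := (exists_nn Δ hcd iso trans w).choose_spec.1

theorem wt_nn (w : W) : Δ.δ c (nn Δ hcd iso trans w • c) = w := (exists_nn Δ hcd iso trans w).choose_spec.2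

omit [Finite W] iso in
theorem mem_double {x y : G} (h : Δ.δ c (x • c) = Δ.δ c (y • c)) :
    x ∈ DoubleCoset.doubleCoset y (MulAction.stabilizer G c : Set G) (MulAction.stabilizer G c) := by
  obtain ⟨b, h1, h2⟩ := trans c (y • c) c (x • c) h.symm
  rw [DoubleCoset.mem_doubleCoset]
  refine ⟨b, h1, (b * y)⁻¹ * x, ?_, by group⟩
  show ((b * y)⁻¹ * x) • c = c
  rw [mul_smul, ← h2, ← mul_smul b y, inv_smul_smul]

/-- **The BN-pair.** -/
noncomputable def bnPair (thick : Δ.Thick) : Cfsg.BNPair G where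
  B := MulAction.stabilizer G c
  N := NN Δ hcd
  S := Set.range fun i => nn Δ hcd iso trans (s i)
  sup_eq_top := by
    rw [eq_top_iff]
    intro g _
    have h := mem_double (G := G) Δ trans (x := g) (y := nn Δ hcd iso trans (Δ.δ c (g • c)))
      (by rw [wt_nn])
    rw [DoubleCoset.mem_doubleCoset] at h
    obtain ⟨b, hb, b', hb', he⟩ := h
    rw [he]
    exact mul_mem (mul_mem (Subgroup.mem_sup_left hb) (Subgroup.mem_sup_right (nn_mem _ _ _ _ _)))
      (Subgroup.mem_sup_left hb')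
  conj_mem := by
    rintro n hn t ⟨ht, ht'⟩
    have h1 : t • c = c := ht
    have h2 : t • (n⁻¹ • c) = n⁻¹ • c := by
      have h3 := smul_ap Δ hcd iso (inv_mem hn) 1
      rw [ap_one, mul_one] at h3
      rw [h3, smul_ap Δ hcd iso ht', h1, delta_self, one_mul]
    show (n * t * n⁻¹) • c = c
    rw [mul_smul, mul_smul, h2, smul_inv_smul]
  subset := by
    rintro _ ⟨i, rfl⟩
    exact nn_mem _ _ _ _ _
  sq_mem := by
    rintro _ ⟨i, rfl⟩
    have h := wt_mul Δ hcd iso (nn_mem Δ hcd iso trans (s i)) (nn_mem Δ hcd iso trans (s i))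
    rw [wt_nn, simple_mul_simple_self, Δ.eq_one] at h
    exact h.symm
  inj := by
    rintro _ ⟨i, rfl⟩ _ ⟨j, rfl⟩ h
    have h1 : nn Δ hcd iso trans (s j) • c = nn Δ hcd iso trans (s i) • c := by
      have h2 : ((nn Δ hcd iso trans (s i))⁻¹ * nn Δ hcd iso trans (s j)) • c = c := h
      rw [mul_smul, inv_smul_eq_iff] at h2
      exact h2
    have h2 : s j = s i := by
      rw [← wt_nn Δ hcd iso trans (s j), h1, wt_nn]
    show nn Δ hcd iso trans (s i) = nn Δ hcd iso trans (s j)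
    rw [h2]
  closure_sup := by
    apply le_antisymm
    · rw [sup_le_iff, Subgroup.closure_le]
      refine ⟨?_, inf_le_right⟩
      rintro _ ⟨i, rfl⟩
      exact nn_mem _ _ _ _ _
    · intro n hn
      obtain ⟨ω, hω⟩ := cs.wordProd_surjective (Δ.δ c (n • c))
      have key : ∀ ω : List I, ∃ x ∈ Subgroup.closure (Set.range fun i => nn Δ hcd iso trans (s i)),
          x ∈ NN Δ hcd (G := G) ∧ Δ.δ c (x • c) = π ω := by
        intro ω
        induction ω with
        | nil => exact ⟨1, one_mem _, one_mem _, by simp [delta_self]⟩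
        | cons i ω ih =>
          obtain ⟨x, h1, h2, h3⟩ := ih
          refine ⟨nn Δ hcd iso trans (s i) * x, mul_mem (Subgroup.subset_closure ⟨i, rfl⟩) h1,
            mul_mem (nn_mem _ _ _ _ _) h2, ?_⟩
          rw [wt_mul Δ hcd iso (nn_mem _ _ _ _ _) h2, wt_nn, h3, wordProd_cons]
      obtain ⟨x, h1, h2, h3⟩ := key ω
      have h4 : x⁻¹ * n ∈ NN Δ hcd (G := G) := mul_mem (inv_mem h2) hn
      have h5 : x⁻¹ * n ∈ MulAction.stabilizer G c := by
        have h6 := wt_mul Δ hcd iso (inv_mem h2) hn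
        rw [wt_inv Δ iso, h3, hω, inv_mul_cancel, Δ.eq_one] at h6
        exact h6.symm
      have h7 : n = x * (x⁻¹ * n) := by group
      rw [h7]
      exact mul_mem (Subgroup.mem_sup_left h1) (Subgroup.mem_sup_right ⟨h5, h4⟩)
  mul_mem_union := by
    rintro _ ⟨i, rfl⟩ n hn b hb
    set x := nn Δ hcd iso trans (s i) with hx
    have hb' : b • c = c := hb
    have h1 : Δ.δ c ((x * b)⁻¹ • c) = s i := by
      rw [wt_inv Δ iso, mul_smul, hb', hx, wt_nn, inv_simple]
    have h2 : Δ.δ c ((x * b * n) • c) = (Δ.δ (n • c) ((x * b)⁻¹ • c))⁻¹ := by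
      rw [← Δ.symm, ← iso (x * b) ((x * b)⁻¹ • c), smul_inv_smul, ← mul_smul]
    rcases Δ.step (n • c) c _ i h1 with h3 | h3
    · left
      apply mem_double Δ trans
      rw [h2, h3, mul_inv_rev, ← Δ.symm, inv_simple, wt_mul Δ hcd iso (nn_mem _ _ _ _ _) hn, wt_nn]
    · right
      apply mem_double Δ trans
      rw [h2, h3, ← Δ.symm]
  conj_ne := by
    rintro _ ⟨i, rfl⟩ h
    obtain ⟨y, z, hyz, hy, hz⟩ := thick c i
    set x := nn Δ hcd iso trans (s i) with hx
    have hxc : Δ.δ c (x • c) = s i := by rw [hx, wt_nn]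
    have hsq : x * x ∈ MulAction.stabilizer G c := by
      have h := wt_mul Δ hcd iso (nn_mem Δ hcd iso trans (s i)) (nn_mem Δ hcd iso trans (s i))
      rw [wt_nn, simple_mul_simple_self, Δ.eq_one] at h
      exact h.symm
    have key : ∀ b ∈ MulAction.stabilizer G c, b • (x • c) = x • c := by
      intro b hb
      have h1 : b ∈ (fun b : G => x * b * x) '' (MulAction.stabilizer G c : Set G) := by rw [h]; exact hb
      obtain ⟨b', hb', rfl⟩ := h1
      have hb'' : b' • c = c := hb'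
      have h2 : (x * x) • c = c := hsq
      show (x * b' * x) • x • c = x • c
      rw [mul_smul, mul_smul, ← mul_smul x x, h2, hb'']
    obtain ⟨b, h1, h2⟩ := trans c (x • c) c y (by rw [hxc, hy])
    obtain ⟨b', h3, h4⟩ := trans c (x • c) c z (by rw [hxc, hz])
    apply hyz
    rw [← h2, ← h4, key b h1, key b' h3]

theorem bnPair_B (thick : Δ.Thick) : (bnPair Δ hcd iso trans thick).B = MulAction.stabilizer G c := rfl

theorem nn_inj {v w : W} (h : nn Δ hcd iso trans v = nn Δ hcd iso trans w) : v = w := by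
  rw [← wt_nn Δ hcd iso trans v, h, wt_nn]

/-- The index set of the Coxeter system is the set of distinguished representatives. -/
noncomputable def eS (hinj : Function.Injective cs.simple) (thick : Δ.Thick) :
    I ≃ (bnPair Δ hcd iso trans thick).S :=
  Equiv.ofInjective (fun i => nn Δ hcd iso trans (s i)) fun _ _ h => hinj (nn_inj Δ hcd iso trans h)

theorem eS_apply (hinj : Function.Injective cs.simple) (thick : Δ.Thick) (i : I) :
    ((eS Δ hcd iso trans hinj thick i : (bnPair Δ hcd iso trans thick).S) : G) = nn Δ hcd iso trans (s i) := rfl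

theorem rank_eq (hinj : Function.Injective cs.simple) (thick : Δ.Thick) :
    (bnPair Δ hcd iso trans thick).rank = Nat.card I :=
  (Nat.card_congr (eS Δ hcd iso trans hinj thick)).symm

/-- two distinguished representatives commute modulo `B` iff the reflections commute -/
theorem comm_iff {v w : W} {thick : Δ.Thick} :
    nn Δ hcd iso trans v * nn Δ hcd iso trans w * (nn Δ hcd iso trans v)⁻¹ * (nn Δ hcd iso trans w)⁻¹ ∈
      (bnPair Δ hcd iso trans thick).B ↔ v * w = w * v := by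
  have h1 := nn_mem Δ hcd iso trans v
  have h2 := nn_mem Δ hcd iso trans w
  have h3 : Δ.δ c ((nn Δ hcd iso trans v * nn Δ hcd iso trans w * (nn Δ hcd iso trans v)⁻¹ *
      (nn Δ hcd iso trans w)⁻¹) • c) = v * w * v⁻¹ * w⁻¹ := by
    rw [wt_mul Δ hcd iso (mul_mem (mul_mem h1 h2) (inv_mem h1)) (inv_mem h2),
      wt_mul Δ hcd iso (mul_mem h1 h2) (inv_mem h1), wt_mul Δ hcd iso h1 h2, wt_inv Δ iso, wt_inv Δ iso,
      wt_nn, wt_nn]
  constructor
  · intro h
    have h4 : (nn Δ hcd iso trans v * nn Δ hcd iso trans w * (nn Δ hcd iso trans v)⁻¹ *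
      (nn Δ hcd iso trans w)⁻¹) • c = c := h
    rw [h4, delta_self] at h3
    have h5 : v * w = (v * w * v⁻¹ * w⁻¹) * (w * v) := by group
    rw [h5, ← h3, one_mul]
  · intro h
    have h5 : v * w * v⁻¹ * w⁻¹ = 1 := by rw [h]; group
    rw [h5, Δ.eq_one] at h3
    exact h3.symm

/-- Irreducibility of the BN-pair. -/
theorem irreducible (thick : Δ.Thick)
    (hirr : ∀ J : Set I, J.Nonempty → Jᶜ.Nonempty → ∃ i ∈ J, ∃ j ∈ Jᶜ, s i * s j ≠ s j * s i) :
    (bnPair Δ hcd iso trans thick).Irreducible := by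
  intro J hJ hne hne'
  obtain ⟨i, hi, j, hj, hij⟩ := hirr {i | nn Δ hcd iso trans (s i) ∈ J} (by
      obtain ⟨x, hx⟩ := hne
      obtain ⟨i, rfl⟩ := hJ hx
      exact ⟨i, hx⟩) (by
      obtain ⟨x, ⟨i, rfl⟩, hx⟩ := hne'
      exact ⟨i, hx⟩)
  exact ⟨_, hi, _, ⟨⟨j, rfl⟩, hj⟩, fun h => hij ((comm_iff Δ hcd iso trans).1 h)⟩

/-- **Weyl-transitive action on a thick spherical building: the BN-pair.** -/
theorem exists_bnPair (hinj : Function.Injective cs.simple) (thick : Δ.Thick) (c : C) :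
    ∃ P : Cfsg.BNPair G, P.B = MulAction.stabilizer G c ∧ P.rank = Nat.card I ∧
      ((∀ J : Set I, J.Nonempty → Jᶜ.Nonempty → ∃ i ∈ J, ∃ j ∈ Jᶜ, s i * s j ≠ s j * s i) → P.Irreducible) := by
  obtain ⟨d, hd⟩ := exists_opp Δ c
  exact ⟨bnPair Δ hd iso trans thick, rfl, rank_eq Δ hd iso trans hinj thick, irreducible Δ hd iso trans thick⟩

end grp

end Cfsg.Agent.ParSys.WeylBN
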